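import Mathlib
import Cfsg.Statements.S4358
-- import your own Cfsg.Agent.* helpers here

set_option autoImplicit false
open Cfsg
set_option linter.unusedSectionVars false

namespace Cfsg.Agent.S4358

variable {F : Type*} [Field F] [Fintype F] {p : ℕ} [hp : Fact p.Prime]

instance : NeZero p := ⟨hp.out.ne_zero⟩

/-- A monomial matrix with cyclic permutation part. -/
def mono (a : Fin p → F) (k : Fin p) : Matrix (Fin p) (Fin p) F :=
  Matrix.of fun i j => if j = i + k then a i else 0

theorem mono_mul (a b : Fin p → F) (k l : Fin p) :
    mono a k * mono b l = mono (fun i => a i * b (i + k)) (k + l) := by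
  ext i j
  rw [Matrix.mul_apply, Finset.sum_eq_single (i + k)]
  · simp [mono, add_assoc]
  · intro c _ hc; simp [mono, hc]
  · simp

theorem mono_one : mono (fun _ => (1 : F)) (0 : Fin p) = 1 := by
  ext i j
  simp [mono, Matrix.one_apply, eq_comm]

theorem mono_inj {a b : Fin p → F} {k l : Fin p} (ha : ∀ i, a i ≠ 0) (h : mono a k = mono b l) : a = b ∧ k = l := by
  have hkl : k = l := by
    have := congrFun (congrFun h 0) (0 + k)
    by_contra hne
    simp [mono, hne] at this
    exact ha 0 this
  subst hkl
  exact ⟨funext fun i => by simpa [mono] using congrFun (congrFun h i) (i + k), rfl⟩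

variable (F p) in
/-- Monomial matrices with cyclic permutation part and entries of order dividing `p`. -/
def monoGroup : Subgroup (GL (Fin p) F) where
  carrier := {g | ∃ a k, (∀ i, a i ^ p = 1) ∧ (g : Matrix (Fin p) (Fin p) F) = mono a k}
  one_mem' := ⟨fun _ => 1, 0, fun _ => one_pow p, by rw [Units.val_one, mono_one]⟩
  mul_mem' := by
    rintro g h ⟨a, k, ha, hg⟩ ⟨b, l, hb, hh⟩
    exact ⟨fun i => a i * b (i + k), k + l, fun i => by rw [mul_pow, ha, hb, one_mul], by rw [Units.val_mul, hg, hh, mono_mul]⟩
  inv_mem' := by
    rintro g ⟨a, k, ha, hg⟩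
    refine ⟨fun i => (a (i - k))⁻¹, -k, fun i => by rw [inv_pow, ha, inv_one], ?_⟩
    refine Units.inv_eq_of_mul_eq_one_right ?_
    rw [hg, mono_mul, add_neg_cancel, ← mono_one]
    congr 1
    funext i
    have : a i ≠ 0 := fun h => by
      have := ha i
      rw [h, zero_pow hp.out.ne_zero] at this
      exact zero_ne_one this
    simp [this]

theorem mem_monoGroup {g : GL (Fin p) F} :
    g ∈ monoGroup F p ↔ ∃ a k, (∀ i, a i ^ p = 1) ∧ (g : Matrix (Fin p) (Fin p) F) = mono a k := Iff.rfl

theorem ne_zero_of_pow {a : Fin p → F} (ha : ∀ i, a i ^ p = 1) (i : Fin p) : a i ≠ 0 := fun h => by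
  have := ha i
  rw [h, zero_pow hp.out.ne_zero] at this
  exact zero_ne_one this

/-- A monomial matrix as a unit. -/
def monoUnit (a : Fin p → F) (k : Fin p) (ha : ∀ i, a i ≠ 0) : GL (Fin p) F where
  val := mono a k
  inv := mono (fun i => (a (i - k))⁻¹) (-k)
  val_inv := by rw [mono_mul, add_neg_cancel, ← mono_one]; congr 1; funext i; simp [ha i]
  inv_val := by
    rw [mono_mul, neg_add_cancel, ← mono_one]; congr 1; funext i
    rw [sub_eq_add_neg]
    exact inv_mul_cancel₀ (ha _)

theorem card_monoGroup {ζ : F} (hζ : IsPrimitiveRoot ζ p) : Nat.card (monoGroup F p) = p ^ (p + 1) := by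
  classical
  have hroot : Nat.card {z : F // z ^ p = 1} = p := by
    have h1 := hζ.card_nthRootsFinset
    rw [Nat.card_eq_fintype_card, Fintype.card_subtype]
    refine Eq.trans (congrArg Finset.card ?_) h1
    ext z
    simp [Polynomial.mem_nthRootsFinset hp.out.pos]
  let f : (Fin p → {z : F // z ^ p = 1}) × Fin p → monoGroup F p := fun q =>
    ⟨monoUnit (fun i => q.1 i) q.2 (ne_zero_of_pow fun i => (q.1 i).2), _, _, fun i => (q.1 i).2, rfl⟩
  have hf : Function.Bijective f := by
    constructor
    · intro q r e
      obtain ⟨e1, e2⟩ := mono_inj (ne_zero_of_pow fun i => (q.1 i).2) (congrArg (fun g : monoGroup F p => ((g : GL (Fin p) F) : Matrix (Fin p) (Fin p) F)) e)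
      exact Prod.ext (funext fun i => Subtype.ext (congrFun e1 i)) e2
    · rintro ⟨g, a, k, ha, hg⟩
      exact ⟨(fun i => ⟨a i, ha i⟩, k), Subtype.ext (Units.ext hg.symm)⟩
  rw [← Nat.card_eq_of_bijective f hf, Nat.card_prod, Nat.card_fun, hroot, Nat.card_fin, pow_succ]

theorem factorization_card (hp2 : p ≠ 2) (h1 : p ∣ Fintype.card F - 1) (h2 : ¬ p ^ 2 ∣ Fintype.card F - 1) :
    (Nat.card (GL (Fin p) F)).factorization p = p + 1 := by
  classical
  set q := Fintype.card F with hq
  have hq1 : 1 < q := Fintype.one_lt_card
  have hqp : ¬ p ∣ q := fun h => by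
    have := Nat.dvd_sub h h1
    rw [Nat.sub_sub_self hq1.le, Nat.dvd_one] at this
    exact hp.out.ne_one this
  have hne : ∀ i : Fin p, q ^ p - q ^ (i : ℕ) ≠ 0 := fun i =>
    (Nat.sub_pos_of_lt (Nat.pow_lt_pow_right hq1 i.2)).ne'
  have hv : ∀ i : Fin p, (q ^ p - q ^ (i : ℕ)).factorization p = 1 + if i = 0 then 1 else 0 := by
    intro i
    have hm : p - (i : ℕ) ≠ 0 := by have := i.2; omega
    have e : q ^ p - q ^ (i : ℕ) = q ^ (i : ℕ) * (q ^ (p - (i : ℕ)) - 1 ^ (p - (i : ℕ))) := by
      rw [one_pow, Nat.mul_sub, mul_one, ← pow_add, Nat.add_sub_cancel' i.2.le]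
    have hv1 : padicValNat p (q - 1) = 1 := by
      have hnz : q - 1 ≠ 0 := by omega
      have ha : 1 ≤ padicValNat p (q - 1) := one_le_padicValNat_of_dvd hnz h1
      have hb : ¬ 2 ≤ padicValNat p (q - 1) := fun h => h2 ((pow_dvd_pow p h).trans pow_padicValNat_dvd)
      omega
    have e2 := padicValNat.pow_sub_pow (p := p) (hp.out.odd_of_ne_two hp2) (x := q) (y := 1) hq1 h1 hqp hm
    have hnz2 : q ^ (p - (i : ℕ)) - 1 ^ (p - (i : ℕ)) ≠ 0 := by
      rw [one_pow]; have := Nat.one_lt_pow hm hq1; omega
    rw [e, Nat.factorization_mul (pow_ne_zero _ (by omega)) hnz2, Finsupp.add_apply, Nat.factorization_pow,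
      Finsupp.smul_apply, Nat.factorization_eq_zero_of_not_dvd hqp, smul_zero, zero_add,
      Nat.factorization_def _ hp.out, e2, hv1]
    split_ifs with hi
    · subst hi; simp
    · rw [padicValNat.eq_zero_of_not_dvd fun h => ?_]
      have := Nat.le_of_dvd (Nat.pos_of_ne_zero hm) h
      have : (i : ℕ) ≠ 0 := fun h => hi (Fin.ext (by simpa using h))
      omega
  rw [Matrix.card_GL_field, ← hq, Nat.factorization_prod_apply fun i _ => hne i, Finset.sum_congr rfl fun i _ => hv i,
    Finset.sum_add_distrib, Finset.sum_const, Finset.card_univ, Fintype.card_fin, smul_eq_mul, mul_one,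
    Finset.sum_ite_eq' Finset.univ (0 : Fin p), if_pos (Finset.mem_univ _)]


/-- Let p be an odd prime and F a finite field with q elements such that p divides q - 1 but p² does not. Then GL(p, F) has a Sylow p-subgroup Q such that every element of p-power order lies in some Sylow p-subgroup other than Q (a redundant Sylow p-subgroup). -/
theorem result {F : Type*} [Field F] [Fintype F] (p : ℕ) [Fact p.Prime]
    (hp : p ≠ 2) (h1 : p ∣ Fintype.card F - 1) (h2 : ¬ p ^ 2 ∣ Fintype.card F - 1) :
    ∃ Q : Sylow p (Matrix.GeneralLinearGroup (Fin p) F), ∀ x : Matrix.GeneralLinearGroup (Fin p) F,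
      (∃ k : ℕ, orderOf x = p ^ k) → ∃ P : Sylow p (Matrix.GeneralLinearGroup (Fin p) F), P ≠ Q ∧ x ∈ P := by
  classical
  obtain ⟨ζu, hζu⟩ := exists_prime_orderOf_dvd_card' (G := Fˣ) p (by rwa [Nat.card_eq_fintype_card, Fintype.card_units])
  set ζ : F := (ζu : F)
  have hζ : IsPrimitiveRoot ζ p := IsPrimitiveRoot.coe_units_iff.2 (hζu ▸ IsPrimitiveRoot.orderOf ζu)
  have hcard := card_monoGroup hζ
  have hfac := factorization_card hp h1 h2
  let Q : Sylow p (GL (Fin p) F) := Sylow.ofCard (monoGroup F p) (by rw [hcard, hfac])
  have hQ : (Q : Subgroup (GL (Fin p) F)) = monoGroup F p := rfl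
  refine ⟨Q, fun x hx => ?_⟩
  have hpr : p.Prime := Fact.out
  have hp3 : 2 < p := lt_of_le_of_ne hpr.two_le (Ne.symm hp)
  let Two : GL (Fin p) F → Prop := fun x => ∃ P P' : Sylow p (GL (Fin p) F), P ≠ P' ∧ x ∈ P ∧ x ∈ P'
  have htrans : ∀ g y : GL (Fin p) F, Two y → Two (g * y * g⁻¹) := fun g y ⟨P, P', hne, hP, hP'⟩ =>
    ⟨g • P, g • P', fun e => hne (smul_left_cancel g e), Subgroup.smul_mem_pointwise_smul _ (MulAut.conj g) _ hP,
      Subgroup.smul_mem_pointwise_smul _ (MulAut.conj g) _ hP'⟩
  have htwo : ∀ x ∈ monoGroup F p, ∀ c : GL (Fin p) F, Commute c x → c • Q ≠ Q → Two x := fun x hx c hc hne => by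
    refine ⟨Q, c • Q, fun e => hne e.symm, hx, ?_⟩
    have h3 : c * x * c⁻¹ ∈ ((c • Q : Sylow p (GL (Fin p) F)) : Subgroup (GL (Fin p) F)) :=
      Subgroup.smul_mem_pointwise_smul _ (MulAut.conj c) _ hx
    rwa [hc.eq, mul_inv_cancel_right] at h3
  let one' : Fin p := ⟨1, hpr.one_lt⟩
  have hone : one' ≠ 0 := fun h => by simpa [one'] using congrArg Fin.val h
  -- every element of the monomial group, non-diagonal or with a repeated entry, has a moving centralising element
  have key : ∀ x ∈ monoGroup F p, ∀ (a : Fin p → F) (k : Fin p), (∀ i, a i ^ p = 1) →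
      (x : Matrix (Fin p) (Fin p) F) = mono a k → (k ≠ 0 ∨ ∃ i j, i ≠ j ∧ a i = a j) →
      ∃ c : GL (Fin p) F, Commute c x ∧ c • Q ≠ Q := by
    intro x _ a k ha hxa hor
    by_cases hk : k = 0
    · subst hk
      obtain ⟨i, j, hij, haij⟩ := hor.resolve_left (fun h => h rfl)
      have hEE : Matrix.single i j (1 : F) * Matrix.single i j (1 : F) = 0 :=
        Matrix.single_mul_single_of_ne (1 : F) i j i (Ne.symm hij) 1
      let c : GL (Fin p) F :=
        { val := 1 + Matrix.single i j (1 : F)
          inv := 1 - Matrix.single i j (1 : F)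
          val_inv := by simp [add_mul, mul_sub, hEE]
          inv_val := by simp [sub_mul, mul_add, hEE] }
      refine ⟨c, Units.ext ?_, fun h => ?_⟩
      · rw [Units.val_mul, Units.val_mul, hxa]
        ext r t
        show ((1 + Matrix.single i j (1 : F)) * mono a 0) r t = (mono a 0 * (1 + Matrix.single i j (1 : F))) r t
        rw [Matrix.mul_apply, Matrix.mul_apply, Finset.sum_eq_single t, Finset.sum_eq_single r]
        · by_cases hrt : r = t
          · subst hrt; simp [mono, mul_comm]
          · simp only [mono, Matrix.of_apply, add_zero, if_true, Matrix.add_apply, Matrix.one_apply_ne hrt,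
              zero_add, Matrix.single_apply]
            split_ifs with h5
            · rw [← h5.1, ← h5.2, haij]; ring
            · ring
        · intro b _ hb; simp [mono, hb]
        · simp
        · intro b _ hb; simp [mono, Ne.symm hb]
        · simp
      · let d : Fin p → F := fun t => if t = i then ζ else 1
        have hd : ∀ t, d t ^ p = 1 := fun t => by simp only [d]; split_ifs <;> simp [hζ.pow_eq_one]
        let g : GL (Fin p) F := monoUnit d 0 (ne_zero_of_pow hd)
        have hg : g ∈ Q := ⟨_, _, hd, rfl⟩
        have h3 : c * g * c⁻¹ ∈ ((c • Q : Sylow p (GL (Fin p) F)) : Subgroup (GL (Fin p) F)) :=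
          Subgroup.smul_mem_pointwise_smul _ (MulAut.conj c) _ hg
        rw [h] at h3
        obtain ⟨b, l, hb, he⟩ := h3
        have e : ((c * g * c⁻¹ : GL (Fin p) F) : Matrix (Fin p) (Fin p) F) * (c : Matrix (Fin p) (Fin p) F) =
            (c : Matrix (Fin p) (Fin p) F) * mono d 0 := by
          rw [← Units.val_mul, inv_mul_cancel_right, Units.val_mul]; rfl
        rw [he] at e
        have ent : ∀ r t, b r * ((if r + l = t then (1 : F) else 0) + (if r + l = i ∧ t = j then 1 else 0)) =
            ((if r = t then (1 : F) else 0) + (if r = i ∧ t = j then 1 else 0)) * d t := by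
          intro r t
          have h5 := congrFun (congrFun e r) t
          change (mono b l * (1 + Matrix.single i j (1 : F)) : Matrix (Fin p) (Fin p) F) r t =
            ((1 + Matrix.single i j (1 : F)) * mono d 0) r t at h5
          rw [Matrix.mul_apply, Matrix.mul_apply, Finset.sum_eq_single (r + l), Finset.sum_eq_single t] at h5
          · simpa [mono, Matrix.one_apply, Matrix.single_apply, eq_comm, and_comm] using h5
          · intro b _ hb; simp [mono, Ne.symm hb]
          · simp
          · intro b _ hb; simp [mono, hb]
          · simp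
        by_cases hl : l = 0
        · subst hl
          have e1 := ent i i
          have e2 := ent i j
          simp [d, hij, Ne.symm hij] at e1 e2
          exact hζ.ne_one hpr.one_lt (e1.symm.trans e2)
        · have e1 := ent j (j + l)
          have hne1 : j ≠ j + l := fun e => hl (add_eq_left.1 e.symm)
          have hne2 : ¬ (j + l = i ∧ j + l = j) := fun e => hne1 e.2.symm
          simp [hne1, Ne.symm hij, hl] at e1
          exact ne_zero_of_pow hb j e1
    · have hxa' : ∀ i j, (x : Matrix (Fin p) (Fin p) F) i j = if j = i + k then a i else 0 := fun i j => by rw [hxa]; rfl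
      have hpk : p • k = 0 := by simpa using card_nsmul_eq_zero (x := k)
      have hord : addOrderOf k = p := addOrderOf_eq_prime hpk hk
      have hmul : ∀ j : Fin p, ∃ n : ℕ, n < p ∧ n • k = j := by
        have hb : Function.Bijective (fun n : Fin p => (n : ℕ) • k) := by
          refine Finite.injective_iff_bijective.1 fun m n e => Fin.ext ?_
          have hm : (m : ℕ) < addOrderOf k := by rw [hord]; exact m.2
          have hn : (n : ℕ) < addOrderOf k := by rw [hord]; exact n.2
          exact nsmul_injOn_Iio_addOrderOf hm hn e
        intro j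
        obtain ⟨n, hn⟩ := hb.2 j
        exact ⟨n, n.2, hn⟩
      choose μ hμlt hμ using hmul
      set s := ∏ j, a j with hs
      have hsp : s ^ p = 1 := by rw [hs, ← Finset.prod_pow]; simp [ha]
      by_cases hs1 : s = 1
      · -- a diagonal conjugate of the permutation matrix
        let w : ℕ → F := fun n => ∏ t ∈ Finset.range n, (a (t • k))⁻¹
        have hwp : w p = 1 := by
          show ∏ t ∈ Finset.range p, (a (t • k))⁻¹ = 1
          rw [Finset.prod_inv_distrib, inv_eq_one]
          refine Eq.trans ?_ hs1
          refine Finset.prod_bij' (fun t _ => t • k) (fun j _ => μ j) (fun t _ => Finset.mem_univ _)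
            (fun j _ => Finset.mem_range.2 (hμlt j)) (fun t ht => ?_) (fun j _ => hμ j) (fun t _ => rfl)
          exact nsmul_injOn_Iio_addOrderOf (show μ (t • k) < addOrderOf k by rw [hord]; exact hμlt _)
            (show t < addOrderOf k by rw [hord]; exact Finset.mem_range.1 ht) (hμ _)
        let f : Fin p → F := fun j => w (μ j)
        have hf : ∀ i, f (i + k) = f i * (a i)⁻¹ := by
          intro i
          have e : w (μ i + 1) = f i * (a i)⁻¹ := by
            simp only [w, f, Finset.prod_range_succ, hμ i]
          rw [← e]
          show w (μ (i + k)) = _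
          have h5 : μ (i + k) = (μ i + 1) % p := by
            refine nsmul_injOn_Iio_addOrderOf (show μ (i + k) < addOrderOf k by rw [hord]; exact hμlt _)
              (show (μ i + 1) % p < addOrderOf k by rw [hord]; exact Nat.mod_lt _ hpr.pos) ?_
            show μ (i + k) • k = ((μ i + 1) % p) • k
            rw [hμ]
            rw [show (μ i + 1) % p = (μ i + 1) % addOrderOf k by rw [hord], mod_addOrderOf_nsmul, succ_nsmul, hμ]
          rw [h5]
          rcases Nat.lt_or_ge (μ i + 1) p with h6 | h6
          · rw [Nat.mod_eq_of_lt h6]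
          · have := hμlt i
            rw [show μ i + 1 = p by omega, Nat.mod_self, hwp]; simp [w]
        have hfne : ∀ i, f i ≠ 0 := fun i => Finset.prod_ne_zero_iff.2 fun t _ => inv_ne_zero (ne_zero_of_pow ha _)
        obtain ⟨u, hu0, hu1⟩ : ∃ u : F, u ≠ 0 ∧ 1 + (p : F) * u ≠ 0 := by
          by_cases h5 : 1 + (p : F) * ζ = 0
          · refine ⟨1, one_ne_zero, fun h6 => hζ.ne_one hpr.one_lt ?_⟩
            have h7 : (p : F) * ζ = (p : F) * 1 := by linear_combination h5 - h6
            refine mul_left_cancel₀ (fun h8 => ?_) h7
            rw [h8, zero_mul, add_zero] at h6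
            exact one_ne_zero h6
          · exact ⟨ζ, hζ.ne_zero hpr.ne_zero, h5⟩
        let J : Matrix (Fin p) (Fin p) F := Matrix.of fun i j => f i * (f j)⁻¹
        have hJ : J * J = (p : F) • J := by
          ext i j
          rw [Matrix.mul_apply, Matrix.smul_apply, smul_eq_mul, Finset.sum_congr rfl (g := fun _ => f i * (f j)⁻¹) fun t _ => ?_]
          · simp [J]
          · show f i * (f t)⁻¹ * (f t * (f j)⁻¹) = _
            rw [mul_assoc (f i), inv_mul_cancel_left₀ (hfne t)]
        set v := -(u * (1 + (p : F) * u)⁻¹)
        have hvv : u + v + u * v * (p : F) = 0 := by simp only [v]; linear_combination (-u) * (mul_inv_cancel₀ hu1)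
        let c : GL (Fin p) F :=
          { val := 1 + u • J
            inv := 1 + v • J
            val_inv := by
              rw [add_mul, mul_add, mul_add, one_mul, one_mul, mul_one, smul_mul_smul_comm, hJ, smul_smul, add_assoc,
                ← add_smul, ← add_smul, show v + (u + u * v * (p : F)) = 0 by linear_combination hvv, zero_smul, add_zero]
            inv_val := by
              rw [add_mul, mul_add, mul_add, one_mul, one_mul, mul_one, smul_mul_smul_comm, hJ, smul_smul, add_assoc,
                ← add_smul, ← add_smul, show u + (v + v * u * (p : F)) = 0 by linear_combination hvv, zero_smul, add_zero] }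
        refine ⟨c, Units.ext ?_, fun h => ?_⟩
        · have hcomm : J * mono a k = mono a k * J := by
            ext i j
            rw [Matrix.mul_apply, Matrix.mul_apply, Finset.sum_eq_single (j - k), Finset.sum_eq_single (i + k)]
            · simp only [J, mono, Matrix.of_apply, sub_add_cancel, if_true]
              have e1 := hf (j - k)
              rw [sub_add_cancel] at e1
              have a1 := ne_zero_of_pow ha (j - k)
              have a2 := ne_zero_of_pow ha i
              rw [hf i, e1, mul_inv, inv_inv]
              field_simp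
            · intro b _ hb; simp [mono, hb]
            · simp
            · intro b _ hb
              have : ¬ j = b + k := fun e => hb (by rw [e, add_sub_cancel_right])
              simp [mono, this]
            · simp
          rw [Units.val_mul, Units.val_mul, hxa]
          show (1 + u • J) * mono a k = mono a k * (1 + u • J)
          rw [add_mul, mul_add, one_mul, mul_one, smul_mul_assoc, mul_smul_comm, hcomm]
        · let d : Fin p → F := fun i => if i = 0 then ζ else 1
          have hd : ∀ i, d i ^ p = 1 := fun i => by simp only [d]; split_ifs <;> simp [hζ.pow_eq_one]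
          let g : GL (Fin p) F := monoUnit d 0 (ne_zero_of_pow hd)
          have hg : g ∈ Q := ⟨_, _, hd, rfl⟩
          have h3 : c * g * c⁻¹ ∈ ((c • Q : Sylow p (GL (Fin p) F)) : Subgroup (GL (Fin p) F)) :=
            Subgroup.smul_mem_pointwise_smul _ (MulAut.conj c) _ hg
          rw [h] at h3
          obtain ⟨b, l, hb, he⟩ := h3
          have e : ((c * g * c⁻¹ : GL (Fin p) F) : Matrix (Fin p) (Fin p) F) * (c : Matrix (Fin p) (Fin p) F) =
              (c : Matrix (Fin p) (Fin p) F) * mono d 0 := by
            rw [← Units.val_mul, inv_mul_cancel_right, Units.val_mul]; rfl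
          rw [he] at e
          have ent : ∀ i j, b i * ((if i + l = j then (1 : F) else 0) + u * (f (i + l) * (f j)⁻¹)) =
              ((if i = j then (1 : F) else 0) + u * (f i * (f j)⁻¹)) * d j := by
            intro i j
            have h5 := congrFun (congrFun e i) j
            change (mono b l * (1 + u • J) : Matrix (Fin p) (Fin p) F) i j = ((1 + u • J) * mono d 0) i j at h5
            rw [Matrix.mul_apply, Matrix.mul_apply, Finset.sum_eq_single (i + l), Finset.sum_eq_single j] at h5
            · simpa [mono, J, Matrix.one_apply] using h5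
            · intro b _ hb; simp [mono, Ne.symm hb]
            · simp
            · intro b _ hb; simp [mono, hb]
            · simp
          obtain ⟨i, hi, hil⟩ : ∃ i : Fin p, i ≠ 0 ∧ i + l ≠ 0 := by
            by_cases hl : l = 0
            · exact ⟨one', hone, by rw [hl, add_zero]; exact hone⟩
            · refine ⟨l, hl, fun e => ?_⟩
              have hl0 : l.val ≠ 0 := fun h => hl (Fin.ext (by simpa using h))
              have := l.2
              have hll : (l.val + l.val) % p = 0 := by simpa [Fin.val_add] using congrArg Fin.val e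
              obtain ⟨t, ht⟩ := hpr.odd_of_ne_two hp
              rcases Nat.dvd_of_mod_eq_zero hll with ⟨m, hm⟩
              rcases m with _ | _ | m
              · omega
              · omega
              · nlinarith
          have e0 := ent i 0
          simp only [hi, hil, if_false, zero_add, d, if_true] at e0
          set β := b i * f (i + l) * (f i)⁻¹ with hβ
          have hfi := hfne i
          have hf0 := hfne 0
          have hfl := hfne (i + l)
          have hβζ : β = ζ := by
            rw [hβ]; field_simp at e0 ⊢; linear_combination e0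
          by_cases hl : l = 0
          · -- a second column outside
            obtain ⟨j, hj0, hji⟩ : ∃ j : Fin p, j ≠ 0 ∧ j ≠ i := by
              by_contra hcon
              push Not at hcon
              have hle : (Finset.univ : Finset (Fin p)) ⊆ {0, i} := fun j _ => by
                by_cases hj : j = 0
                · simp [hj]
                · simp [hcon j hj]
              have h5 := Finset.card_le_card hle
              rw [Finset.card_univ, Fintype.card_fin] at h5
              have := h5.trans Finset.card_le_two
              omega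
            subst hl
            have e1 := ent i j
            simp only [add_zero, Ne.symm hji, if_false, zero_add, d, hj0, mul_one] at e1
            have hfj := hfne j
            rw [hβ, add_zero] at hβζ
            field_simp at e1 hβζ
            exact hζ.ne_one hpr.one_lt (by rw [← hβζ]; linear_combination e1)
          · have e1 := ent i i
            have e2 := ent i (i + l)
            have hil' : i + l ≠ i := fun e => hl (add_eq_left.1 e)
            simp only [hil', Ne.symm hil', if_false, if_true, zero_add, d, hi, hil, mul_one] at e1 e2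
            rw [mul_inv_cancel₀ hfl, mul_one] at e2
            rw [mul_inv_cancel₀ hfi, mul_one] at e1
            have k1 : ζ * u = 1 + u := by rw [← hβζ, hβ]; linear_combination e1
            have k2 : ζ * (1 + u) = u := by
              rw [← hβζ, hβ]; field_simp at e2 ⊢; linear_combination e2
            have k3 : ζ ^ 2 = 1 := mul_right_cancel₀ hu0 (by linear_combination ζ * k1 + k2)
            have := Nat.le_of_dvd two_pos (hζ.dvd_of_pow_eq_one 2 k3)
            omega
      have hker : ∀ v : Fin p → F, ((1 : Matrix (Fin p) (Fin p) F) + (x : Matrix (Fin p) (Fin p) F)).mulVec v = 0 → v = 0 := by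
        intro v hv
        have hrel : ∀ i, v i = -(a i * v (i + k)) := fun i => by
          have := congrFun hv i
          rw [Matrix.add_mulVec, Matrix.one_mulVec] at this
          simp [Matrix.mulVec, dotProduct, hxa'] at this
          linear_combination this
        have hiter : ∀ (n : ℕ) (i : Fin p), v i = (-1) ^ n * (∏ t ∈ Finset.range n, a (i + t • k)) * v (i + n • k) := by
          intro n
          induction n with
          | zero => simp
          | succ n ih =>
            intro i
            rw [ih i, hrel (i + n • k), Finset.prod_range_succ, succ_nsmul, ← add_assoc]; ring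
        funext i
        have hv' := hiter p i
        have hprod : ∏ t ∈ Finset.range p, a (i + t • k) = s := by
          refine Finset.prod_bij' (fun t _ => i + t • k) (fun j _ => μ (j - i)) (fun t _ => Finset.mem_univ _)
            (fun j _ => Finset.mem_range.2 (hμlt _)) (fun t ht => ?_) (fun j _ => by rw [hμ]; abel) (fun t _ => rfl)
          rw [add_sub_cancel_left]
          exact nsmul_injOn_Iio_addOrderOf (show μ (t • k) < addOrderOf k by rw [hord]; exact hμlt _)
            (show t < addOrderOf k by rw [hord]; exact Finset.mem_range.1 ht) (hμ _)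
        rw [hpk, add_zero, hprod, (hpr.odd_of_ne_two hp).neg_one_pow] at hv'
        by_contra hvi
        have hz1 : -s = 1 := mul_right_cancel₀ hvi (by linear_combination -hv')
        have h20 : (1 : F) = -1 := by
          nth_rewrite 1 [← hsp]
          rw [show s = -1 by linear_combination -hz1, (hpr.odd_of_ne_two hp).neg_one_pow]
        exact hs1 (by linear_combination -hz1 - h20)
      have hu : IsUnit ((1 : Matrix (Fin p) (Fin p) F) + (x : Matrix (Fin p) (Fin p) F)) := by
        rw [← Matrix.mulVec_injective_iff_isUnit]
        intro v w e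
        exact sub_eq_zero.1 (hker _ (by rw [Matrix.mulVec_sub, e, sub_self]))
      obtain ⟨c, hc⟩ := hu
      refine ⟨c, Units.ext ?_, fun h => ?_⟩
      · rw [Units.val_mul, Units.val_mul, hc]; simp [add_mul, mul_add]
      · let d : Fin p → F := fun i => if i = 0 then ζ else 1
        have hd : ∀ i, d i ^ p = 1 := fun i => by simp only [d]; split_ifs <;> simp [hζ.pow_eq_one]
        let g : GL (Fin p) F := monoUnit d 0 (ne_zero_of_pow hd)
        have hg : g ∈ Q := ⟨_, _, hd, rfl⟩
        have h3 : c * g * c⁻¹ ∈ ((c • Q : Sylow p (GL (Fin p) F)) : Subgroup (GL (Fin p) F)) :=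
          Subgroup.smul_mem_pointwise_smul _ (MulAut.conj c) _ hg
        rw [h] at h3
        obtain ⟨b, l, hb, he⟩ := h3
        have e : ((c * g * c⁻¹ : GL (Fin p) F) : Matrix (Fin p) (Fin p) F) * (c : Matrix (Fin p) (Fin p) F) =
            (c : Matrix (Fin p) (Fin p) F) * mono d 0 := by
          rw [← Units.val_mul, inv_mul_cancel_right, Units.val_mul]; rfl
        rw [he, hc] at e
        have ent : ∀ i j, b i * ((if i + l = j then (1 : F) else 0) + if j = i + l + k then a (i + l) else 0) =
            ((if i = j then (1 : F) else 0) + if j = i + k then a i else 0) * d j := by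
          intro i j
          have h5 := congrFun (congrFun e i) j
          rw [Matrix.mul_apply, Matrix.mul_apply, Finset.sum_eq_single (i + l), Finset.sum_eq_single j] at h5
          · simpa [mono, Matrix.one_apply, hxa'] using h5
          · intro b _ hb; simp [mono, Ne.symm hb]
          · simp
          · intro b _ hb; simp [mono, hb]
          · simp
        have hsp : ∀ i, b i ≠ 0 := ne_zero_of_pow hb
        have hl : l = 0 := by
          by_contra hl
          have e1 := ent 0 0
          have e2 := ent 0 k
          have a0 := ne_zero_of_pow ha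
          have hd0 := ne_zero_of_pow hd
          have hl1 : l + k = 0 := by
            by_contra hne
            simp [hk, Ne.symm hk, hl, Ne.symm hne] at e1
            exact hd0 0 e1.symm
          have hlk : l = k := by
            by_contra hne
            simp [hk, Ne.symm hk, hne, hl] at e2
            rcases e2 with e2 | e2 <;> first | exact hd0 k e2 | exact a0 0 e2
          rw [hlk] at hl1
          have hkk : ((k : ℕ) + (k : ℕ)) % p = 0 := by simpa [Fin.val_add] using congrArg Fin.val hl1
          have := k.2
          have hk0 : (k : ℕ) ≠ 0 := fun h => hk (Fin.ext (by simpa using h))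
          obtain ⟨t, ht⟩ := hpr.odd_of_ne_two hp
          rcases Nat.dvd_of_mod_eq_zero hkk with ⟨m, hm⟩
          rcases m with _ | _ | m
          · omega
          · omega
          · nlinarith
        subst hl
        have e1 := ent 0 0
        have e2 := ent 0 k
        simp [hk, Ne.symm hk] at e1 e2
        rw [e1] at e2
        have h0 := ne_zero_of_pow ha 0
        have : ζ = 1 := by
          simp only [d, if_true, hk, if_false] at e1 e2
          exact mul_left_cancel₀ h0 (by linear_combination e2)
        exact hζ.ne_one hpr.one_lt this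
  obtain ⟨j, hj⟩ := hx
  obtain ⟨P₁, hP₁⟩ := (IsPGroup.of_card (n := j) (by rw [Nat.card_zpowers, hj]) :
    IsPGroup p (Subgroup.zpowers x)).exists_le_sylow
  obtain ⟨g, hg⟩ := MulAction.exists_smul_eq (GL (Fin p) F) Q P₁
  have hxP : x ∈ ((g • Q : Sylow p (GL (Fin p) F)) : Subgroup (GL (Fin p) F)) := hg.symm ▸ hP₁ (Subgroup.mem_zpowers x)
  obtain ⟨y, hyQ, hxy⟩ : ∃ y ∈ monoGroup F p, g * y * g⁻¹ = x := hxP
  have hy : Two y := by
    obtain ⟨a, k, ha, hya⟩ := hyQ
    by_cases hor : k ≠ 0 ∨ ∃ i j, i ≠ j ∧ a i = a j
    · obtain ⟨c, hc, hne⟩ := key y ⟨a, k, ha, hya⟩ a k ha hya hor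
      exact htwo y ⟨a, k, ha, hya⟩ c hc hne
    · push Not at hor
      obtain ⟨rfl, hinj⟩ := hor
      -- a regular diagonal element is conjugate to a permutation matrix
      let W : Matrix (Fin p) (Fin p) F := Matrix.vandermonde a
      have hW : IsUnit W := (Matrix.isUnit_iff_isUnit_det W).2 (isUnit_iff_ne_zero.2
        (Matrix.det_vandermonde_ne_zero_iff.2 fun i j e => by_contra fun h => hinj i j h e))
      obtain ⟨Wu, hWu⟩ := hW
      let π' : GL (Fin p) F := monoUnit (fun _ => 1) (-one') (fun _ => one_ne_zero)
      have hπ : π' ∈ monoGroup F p := ⟨_, _, fun _ => one_pow p, rfl⟩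
      obtain ⟨c, hc, hne⟩ := key π' hπ _ _ (fun _ => one_pow p) rfl (Or.inl (neg_ne_zero.2 hone))
      have e : y = Wu * π' * Wu⁻¹ := by
        refine eq_mul_inv_of_mul_eq (Units.ext ?_)
        rw [Units.val_mul, Units.val_mul, hya, hWu]
        ext r t
        show (mono a 0 * W) r t = (W * mono (fun _ => (1 : F)) (-one')) r t
        rw [Matrix.mul_apply, Matrix.mul_apply, Finset.sum_eq_single r, Finset.sum_eq_single (t + one')]
        · simp only [mono, Matrix.of_apply, add_zero, if_true, W, Matrix.vandermonde_apply, add_neg_cancel_right, mul_one]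
          rw [← pow_succ']
          have hval : ((t + one' : Fin p) : ℕ) = (t.val + 1) % p := by simp [Fin.val_add, one']
          rw [hval]
          rcases Nat.lt_or_ge (t.val + 1) p with h6 | h6
          · rw [Nat.mod_eq_of_lt h6]
          · have := t.2
            rw [show t.val + 1 = p by omega, Nat.mod_self, pow_zero, ha]
        · intro b _ hb
          have : t ≠ b + -one' := fun e => hb (by rw [e, neg_add_cancel_right])
          simp [mono, this]
        · simp
        · intro b _ hb; simp [mono, hb]
        · simp
      rw [e]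
      exact htrans _ _ (htwo π' hπ c hc hne)
  obtain ⟨P, P', hne, hP, hP'⟩ := hxy ▸ htrans g y hy
  by_cases h : P = Q
  · exact ⟨P', fun e => hne (h.trans e.symm), hP'⟩
  · exact ⟨P, h, hP⟩

end Cfsg.Agent.S4358
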