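import Cfsg.Statements.S4364
import Cfsg.Agent.Perm.Kazarin
import Cfsg.Agent.Solv.FittingBasic

set_option autoImplicit false
set_option linter.style.haveILetI false
open Cfsg

namespace Cfsg.Agent.S4364

open CfsgLib.Perm.Kazarin CfsgLib.Solv

universe u

/-- With trivial `O_p`, conjugates of an element with a `p`-power class commute. -/
theorem commute_conj {G : Type u} [Group G] [Finite G] {p : ℕ} [hp : Fact p.Prime]
    (hO : Cfsg.pCore p G = ⊥) {x : G} {a : ℕ}
    (hx : (Subgroup.centralizer ({x} : Set G)).index = p ^ a) (g h : G) :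
    Commute (g * x * g⁻¹) (h * x * h⁻¹) := by
  set R := rad G
  obtain ⟨hRn, hRs⟩ := rad_spec (G := G)
  haveI := hRn
  haveI := hRs
  haveI := fittingSubgroup_normal R
  have hxR : x ∈ R := le_rad (isSolvable_normalClosure_of_class_pow hp.out hx)
    (Subgroup.subset_normalClosure rfl)
  -- every `O_q(R)` centralizes `x`
  have hq : ∀ q : Nat.Primes,
      (Cfsg.pCore (q : ℕ) R).map R.subtype ≤ Subgroup.centralizer ({x} : Set G) := by
    intro q
    haveI := Fact.mk q.2
    haveI := pCore_normal (q : ℕ) R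
    haveI : (Cfsg.pCore (q : ℕ) R).Characteristic := pCore_characteristic
    haveI := normal_map_subtype_of_characteristic (Cfsg.pCore (q : ℕ) R)
    by_cases hqp : (q : ℕ) = p
    · refine le_trans (le_trans (le_pCore ((pCore_isPGroup R (q : ℕ)).map R.subtype)) ?_) bot_le
      rw [hqp, hO]
    obtain ⟨T⟩ : Nonempty (Sylow q (Subgroup.centralizer ({x} : Set G))) := inferInstance
    set C := Subgroup.centralizer ({x} : Set G)
    have hT : Nat.card ((T : Subgroup C).map C.subtype) =
        (q : ℕ) ^ (Nat.card G).factorization q := by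
      rw [Subgroup.card_map_of_injective C.subtype_injective, T.card_eq_multiplicity,
        ← C.card_mul_index, Nat.factorization_mul Nat.card_pos.ne'
          Subgroup.index_ne_zero_of_finite, hx, Finsupp.add_apply, hp.out.factorization_pow,
        Finsupp.single_eq_of_ne hqp, add_zero]
    refine le_trans (le_trans (le_pCore ((pCore_isPGroup R (q : ℕ)).map R.subtype))
      (pCore_le_sylow (Sylow.ofCard _ hT))) ?_
    rw [Sylow.coe_ofCard]
    exact Subgroup.map_subtype_le _
  -- hence so does the Fitting subgroup of `R`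
  set F := Cfsg.fittingSubgroup R with hF
  haveI : F.Characteristic := Subgroup.characteristic_iff_map_le.2 fun e =>
    map_sSup_normal_le e.surjective fun N _ hN =>
      haveI := hN
      Group.nilpotent_of_surjective _ (e.toMonoidHom.subgroupMap_surjective N)
  haveI hFn := normal_map_subtype_of_characteristic F
  have hFC : F.map R.subtype ≤ Subgroup.centralizer ({x} : Set G) := by
    rw [hF, fittingSubgroup_eq_iSup_pCore, Subgroup.map_iSup]
    exact iSup_le hq
  have hxF : x ∈ F.map R.subtype := by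
    refine ⟨⟨x, hxR⟩, centralizer_fittingSubgroup_le (Subgroup.mem_centralizer_iff.2 fun y hy => ?_),
      rfl⟩
    exact Subtype.ext (Subgroup.mem_centralizer_singleton_iff.1 (hFC ⟨y, hy, rfl⟩))
  have h1 : g⁻¹ * (h * x * h⁻¹) * g ∈ F.map R.subtype := by
    have := hFn.conj_mem _ (hFn.conj_mem x hxF h) g⁻¹
    rwa [inv_inv] at this
  have h2 := Subgroup.mem_centralizer_singleton_iff.1 (hFC h1)
  show g * x * g⁻¹ * (h * x * h⁻¹) = h * x * h⁻¹ * (g * x * g⁻¹)
  calc g * x * g⁻¹ * (h * x * h⁻¹) = g * (x * (g⁻¹ * (h * x * h⁻¹) * g)) * g⁻¹ := by group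
    _ = g * (g⁻¹ * (h * x * h⁻¹) * g * x) * g⁻¹ := by rw [h2]
    _ = h * x * h⁻¹ * (g * x * g⁻¹) := by group

/-- Let G be a finite group, p a prime and x an element whose conjugacy class has p-power size. Then for any two conjugates y and z of x, the commutator y z y⁻¹ z⁻¹ lies in O_p(G), the largest normal p-subgroup of G. -/
theorem result {G : Type*} [Group G] [Finite G] (p : ℕ) [Fact p.Prime]
    (x : G) (hx : ∃ a : ℕ, (Subgroup.centralizer ({x} : Set G)).index = p ^ a) (g h : G) :
    (g * x * g⁻¹) * (h * x * h⁻¹) * (g * x * g⁻¹)⁻¹ * (h * x * h⁻¹)⁻¹ ∈ Cfsg.pCore p G := by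
  obtain ⟨a, ha⟩ := hx
  haveI := pCore_normal p G
  set f := QuotientGroup.mk' (Cfsg.pCore p G) with hf
  have hle : (Subgroup.centralizer ({x} : Set G)).map f ≤ Subgroup.centralizer ({f x} : Set _) := by
    rintro _ ⟨c, hc, rfl⟩
    rw [Subgroup.mem_centralizer_singleton_iff, ← map_mul, ← map_mul,
      Subgroup.mem_centralizer_singleton_iff.1 hc]
  obtain ⟨b, -, hb⟩ := (Nat.dvd_prime_pow (Fact.out : p.Prime)).1
    (ha ▸ (Subgroup.index_dvd_of_le hle).trans
      (Subgroup.index_map_dvd _ (f := f) (QuotientGroup.mk'_surjective _)))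
  have h1 := (commute_conj (pCore_quotient_self (G := G) (p := p)) hb (f g) (f h)).eq
  have h2 : f (g * x * g⁻¹ * (h * x * h⁻¹) * (g * x * g⁻¹)⁻¹ * (h * x * h⁻¹)⁻¹) = 1 := by
    simp only [map_mul, map_inv] at h1 ⊢
    rw [h1]; group
  exact (QuotientGroup.eq_one_iff _).1 h2

end Cfsg.Agent.S4364
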