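import Cfsg.Statements.S4365
import Cfsg.Agent.Perm.MinClass

set_option autoImplicit false
set_option linter.style.haveILetI false
open Cfsg

namespace Cfsg.Agent.S4365

/-- Let P be a finite p-group whose conjugacy class sizes are exactly 1 and pᵃ for some a ≥ 1. Then every element of P has its p-th power in the center of P (P/Z(P) has exponent p). -/
theorem result {P : Type*} [Group P] [Finite P] (p : ℕ) [Fact p.Prime]
    (hP : IsPGroup p P) (a : ℕ) (ha : 1 ≤ a)
    (hcs : {k : ℕ | ∃ x : P, (Subgroup.centralizer ({x} : Set P)).index = k} = {1, p ^ a}) (x : P) :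
    x ^ p ∈ Subgroup.center P := by
  have hdich : ∀ w : P, (Subgroup.centralizer ({w} : Set P)).index = 1 ∨
      (Subgroup.centralizer ({w} : Set P)).index = p ^ a := fun w => by
    have hw : (Subgroup.centralizer ({w} : Set P)).index ∈
        {k : ℕ | ∃ x : P, (Subgroup.centralizer ({x} : Set P)).index = k} := ⟨w, rfl⟩
    rw [hcs] at hw
    simpa using hw
  have hcen : ∀ z : P, (Subgroup.centralizer ({z} : Set P)).index = 1 → z ∈ Subgroup.center P := by
    intro z hz
    rw [Subgroup.index_eq_one] at hz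
    rw [Subgroup.mem_center_iff]
    exact fun y => Subgroup.mem_centralizer_singleton_iff.1 (hz ▸ Subgroup.mem_top y)
  have heq : ∀ y : P, y ^ p ∉ Subgroup.center P →
      Subgroup.centralizer ({y} : Set P) = Subgroup.centralizer {y ^ p} := by
    intro y hy
    have hle : Subgroup.centralizer ({y} : Set P) ≤ Subgroup.centralizer {y ^ p} := fun g hg => by
      rw [Subgroup.mem_centralizer_singleton_iff] at hg ⊢
      exact (Commute.pow_right hg p).eq
    have hyc : y ∉ Subgroup.center P := fun h => hy (pow_mem h p)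
    refine le_antisymm hle (Subgroup.relIndex_eq_one.1 ?_)
    have e1 := (hdich y).resolve_left (fun h => hyc (hcen _ h))
    have e2 := (hdich (y ^ p)).resolve_left (fun h => hy (hcen _ h))
    have e3 := Subgroup.relIndex_mul_index hle
    rw [e1, e2] at e3
    exact (Nat.mul_eq_right (pow_ne_zero _ (Fact.out : p.Prime).ne_zero)).1 e3
  have key : ∀ (y g c : P), c ∈ Subgroup.center P → y * g * y⁻¹ = c * g → ∀ n : ℕ,
      y * g ^ n * y⁻¹ = c ^ n * g ^ n ∧ g * y ^ n * g⁻¹ = c⁻¹ ^ n * y ^ n := by
    intro y g c hc hyg n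
    have hc1 : Commute c g := (Subgroup.mem_center_iff.1 hc g).symm
    have hc2 : Commute c⁻¹ y := (Subgroup.mem_center_iff.1 (inv_mem hc) y).symm
    have hgy : g * y * g⁻¹ = c⁻¹ * y := by
      rw [mul_inv_eq_iff_eq_mul, mul_assoc c⁻¹, eq_inv_mul_iff_mul_eq, ← mul_assoc, ← hyg,
        inv_mul_cancel_right]
    constructor
    · rw [← conj_pow, hyg, hc1.mul_pow]
    · rw [← conj_pow, hgy, hc2.mul_pow]
  have claim : ∀ y : P, (∀ g : P, y * g * y⁻¹ * g⁻¹ ∈ Subgroup.center P) →
      y ^ p ∈ Subgroup.center P := by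
    intro y hy
    by_contra hyp
    have hC := heq y hyp
    apply hyp
    apply pow_mem
    rw [Subgroup.mem_center_iff]
    intro g
    obtain ⟨n, hn⟩ := hP g
    suffices ∀ i, g ^ p ^ (n - i) ∈ Subgroup.centralizer ({y} : Set P) by
      have := this n
      rw [Nat.sub_self, pow_zero, pow_one] at this
      exact Subgroup.mem_centralizer_singleton_iff.1 this
    intro i
    induction i with
    | zero => rw [Nat.sub_zero, hn]; exact one_mem _
    | succ i ih =>
      rcases le_or_gt n i with hni | hni
      · rwa [show n - (i + 1) = n - i by omega]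
      set g' := g ^ p ^ (n - (i + 1)) with hg'
      have hpow : g ^ p ^ (n - i) = g' ^ p := by
        rw [hg', ← pow_mul, ← pow_succ]
        congr 2
        omega
      rw [hpow, Subgroup.mem_centralizer_singleton_iff] at ih
      obtain ⟨k1, k2⟩ := key y g' _ (hy g') (by rw [inv_mul_cancel_right]) p
      have hcp : (y * g' * y⁻¹ * g'⁻¹) ^ p = 1 := by
        rwa [← ih, mul_inv_cancel_right, eq_comm, mul_eq_right] at k1
      rw [inv_pow, hcp, inv_one, one_mul, mul_inv_eq_iff_eq_mul] at k2
      rw [hC, Subgroup.mem_centralizer_singleton_iff]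
      exact k2
  obtain ⟨A, hAn, hAc, hCA⟩ := CfsgLib.Perm.exists_self_centralizing_normal_abelian hP
  haveI := hAn
  have hmin : ∀ w : P, ∀ b ∈ A, b * w * b⁻¹ * w⁻¹ ∈ Subgroup.center P := by
    intro w b hb
    refine CfsgLib.Perm.commutator_mem_center_of_min_class A hAc w ((hdich w).imp id ?_) hb
    intro hw v hv
    rcases hdich v with hv' | hv' <;> omega
  have hAp : ∀ b ∈ A, b ^ p ∈ Subgroup.center P := fun b hb => claim b (fun g => hmin g b hb)
  by_contra hxp
  have hxA : x ^ p ∈ A := by
    rw [← hCA, Subgroup.mem_centralizer_iff]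
    intro b hb
    obtain ⟨k1, k2⟩ := key b x _ (hmin x b hb) (by rw [inv_mul_cancel_right]) p
    have h3 := Subgroup.mem_center_iff.1 (hAp b hb) x
    rw [h3, mul_inv_cancel_right, eq_comm, mul_eq_right, inv_pow, inv_eq_one] at k2
    rw [k2, one_mul, mul_inv_eq_iff_eq_mul] at k1
    exact k1
  apply hxp
  apply hAp
  rw [← hCA, Subgroup.mem_centralizer_iff]
  intro b hb
  have hb' : b ∈ Subgroup.centralizer ({x} : Set P) := by
    rw [heq x hxp, Subgroup.mem_centralizer_singleton_iff]
    haveI := hAc
    exact congrArg Subtype.val (mul_comm' (⟨b, hb⟩ : A) ⟨_, hxA⟩)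
  exact Subgroup.mem_centralizer_singleton_iff.1 hb'

end Cfsg.Agent.S4365
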