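import Cfsg.Statements.S4370

import Mathlib
import Cfsg.Agent.Solv.UniqueSub
import Cfsg.Agent.Solv.TransferTools

set_option autoImplicit false
set_option linter.style.haveILetI false
open Cfsg

namespace Cfsg.Agent.S4370

theorem zmod_two_mul_eq_zero {n : ℕ} [NeZero n] {j : ZMod (2 * n)} (h : j + j = 0) : j = 0 ∨ j = (n : ZMod (2 * n)) := by
  obtain ⟨v, hv, rfl⟩ : ∃ v : ℕ, v < 2 * n ∧ (v : ZMod (2 * n)) = j := ⟨j.val, ZMod.val_lt j, ZMod.natCast_zmod_val j⟩
  rw [← Nat.cast_add, ZMod.natCast_eq_zero_iff] at h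
  obtain ⟨c, hc⟩ := h
  have hc2 : c < 2 := by
    by_contra hge
    push Not at hge
    have : 2 * n * 2 ≤ 2 * n * c := Nat.mul_le_mul_left _ hge
    omega
  interval_cases c
  · left; rw [show v = 0 by omega, Nat.cast_zero]
  · right; rw [show v = n by omega]

open QuaternionGroup in
theorem quat_centralizer {n : ℕ} [NeZero n] (q : QuaternionGroup n) (hq : q ∉ Subgroup.center (QuaternionGroup n)) :
    ∃ r : QuaternionGroup n, ∀ y, y * q = q * y → y ∈ Subgroup.zpowers r := by
  have hnn : (n : ZMod (2 * n)) + n = 0 := by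
    rw [← Nat.cast_add, ZMod.natCast_eq_zero_iff]; exact ⟨1, by ring⟩
  cases q with
  | a i =>
    refine ⟨a 1, fun y hy => ?_⟩
    cases y with
    | a j => exact Subgroup.mem_zpowers_iff.mpr ⟨(j.val : ℤ), by rw [zpow_natCast, a_one_pow, ZMod.natCast_zmod_val]⟩
    | xa j =>
      exfalso
      simp only [a_mul_xa, xa_mul_a, xa.injEq] at hy
      refine hq (Subgroup.mem_center_iff.mpr fun w => ?_)
      cases w with
      | a t => simp only [a_mul_a, add_comm t i]
      | xa t =>
        simp only [a_mul_xa, xa_mul_a, xa.injEq]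
        linear_combination hy
  | xa i =>
    refine ⟨xa i, fun y hy => ?_⟩
    have h2 : (xa i : QuaternionGroup n) ^ 2 = a n := xa_sq i
    cases y with
    | a j =>
      simp only [a_mul_xa, xa_mul_a, xa.injEq] at hy
      rcases zmod_two_mul_eq_zero (n := n) (show j + j = 0 by linear_combination -hy) with h | h
      · rw [h, a_zero]; exact Subgroup.one_mem _
      · rw [h, ← h2]; exact Subgroup.pow_mem _ (Subgroup.mem_zpowers _) 2
    | xa j =>
      simp only [xa_mul_xa, a.injEq] at hy
      rcases zmod_two_mul_eq_zero (n := n) (show (j - i) + (j - i) = 0 by linear_combination -hy) with h | h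
      · rw [sub_eq_zero.mp h]; exact Subgroup.mem_zpowers _
      · have h3 : (xa j : QuaternionGroup n) = xa i ^ 2 * xa i := by
          rw [h2, a_mul_xa]
          congr 1
          linear_combination h + hnn
        rw [h3]
        exact Subgroup.mul_mem _ (Subgroup.pow_mem _ (Subgroup.mem_zpowers _) 2) (Subgroup.mem_zpowers _)

/-- Let G be a finite non-abelian nilpotent group. Then the centralizer of every non-central element of G is cyclic if and only if G is isomorphic to the direct product of a generalized quaternion group and a cyclic group of odd order. -/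
theorem result {G : Type*} [Group G] [Finite G] (hG : Group.IsNilpotent G)
    (hna : ¬ IsMulCommutative G) :
    (∀ x : G, x ∉ Subgroup.center G → IsCyclic (Subgroup.centralizer ({x} : Set G))) ↔
      ∃ (k m : ℕ), 1 ≤ k ∧ Odd m ∧ Nonempty (G ≃* QuaternionGroup (2 ^ k) × Multiplicative (ZMod m)) := by
  classical
  haveI := hG
  constructor
  · intro hcyc
    obtain ⟨x₀, hx₀⟩ : ∃ x : G, x ∉ Subgroup.center G := by
      by_contra hcon
      push Not at hcon
      exact hna ⟨⟨fun a b => (Subgroup.mem_center_iff.mp (hcon b) a)⟩⟩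
    have habel : ∀ A : Subgroup G, IsMulCommutative A → IsCyclic A := by
      intro A hA
      have key : ∃ x ∉ Subgroup.center G, A ≤ Subgroup.centralizer ({x} : Set G) := by
        by_cases hAZ : A ≤ Subgroup.center G
        · exact ⟨x₀, hx₀, fun a ha => Subgroup.mem_centralizer_singleton_iff.mpr
            (Subgroup.mem_center_iff.mp (hAZ ha) x₀).symm⟩
        · obtain ⟨x, hx, hxZ⟩ := SetLike.not_le_iff_exists.mp hAZ
          exact ⟨x, hxZ, fun a ha => Subgroup.mem_centralizer_singleton_iff.mpr
            (congrArg Subtype.val (hA.is_comm.comm ⟨a, ha⟩ ⟨x, hx⟩))⟩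
      obtain ⟨x, hx, hle⟩ := key
      haveI := hcyc x hx
      exact isCyclic_of_injective (Subgroup.inclusion hle) (Subgroup.inclusion_injective hle)
    have hsub : ∀ (p : ℕ) [Fact p.Prime] (P : Subgroup G), IsPGroup p P →
        IsCyclic P ∨ (p = 2 ∧ ∃ n : ℕ, Nonempty (P ≃* QuaternionGroup (2 ^ (n + 1)))) := by
      intro p _ P hP
      refine CfsgLib.Solv.pgroup_unique_sub hP (CfsgLib.Solv.unique_of_abelian_cyclic hP fun A hA => ?_)
      haveI := hA
      haveI : IsMulCommutative (A.map P.subtype) := ⟨⟨fun a b => by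
        obtain ⟨a', ha', hae⟩ := a.2
        obtain ⟨b', hb', hbe⟩ := b.2
        refine Subtype.ext ?_
        show (a : G) * b = b * a
        rw [← hae, ← hbe, ← map_mul, ← map_mul]
        exact congrArg _ (congrArg Subtype.val (hA.is_comm.comm ⟨a', ha'⟩ ⟨b', hb'⟩))⟩⟩
      haveI := habel (A.map P.subtype) inferInstance
      exact isCyclic_of_injective ((A.equivMapOfInjective P.subtype P.subtype_injective).toMonoidHom)
        (A.equivMapOfInjective P.subtype P.subtype_injective).injective
    haveI : Fact (Nat.Prime 2) := ⟨Nat.prime_two⟩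
    obtain ⟨S, K, hKn, hKS⟩ := CfsgLib.Solv.hnpc_of_isNilpotent (G := G) (p := 2)
    haveI := hKn
    haveI : IsZGroup K := ⟨fun p hp P => by
      haveI := Fact.mk hp
      rcases hsub p ((P : Subgroup K).map K.subtype) (P.2.map _) with h | ⟨h2, -⟩
      · haveI := h
        exact isCyclic_of_injective ((P : Subgroup K).equivMapOfInjective K.subtype K.subtype_injective).toMonoidHom
          ((P : Subgroup K).equivMapOfInjective K.subtype K.subtype_injective).injective
      · subst h2
        have hidx : ¬ 2 ∣ Nat.card K := by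
          rw [← hKS.index_eq_card]
          exact S.not_dvd_index
        have h1 : Nat.card (P : Subgroup K) = 1 := by
          obtain ⟨j, hj⟩ := IsPGroup.iff_card.mp P.2
          match j, hj with
          | 0, hj => simpa using hj
          | j + 1, hj => exact absurd ((dvd_pow_self 2 j.succ_ne_zero).trans (hj ▸ (P : Subgroup K).card_subgroup_dvd_card)) hidx
        haveI : Subsingleton (P : Subgroup K) := (Nat.card_eq_one_iff_unique.mp h1).1
        exact isCyclic_of_subsingleton⟩
    haveI : IsCyclic K := inferInstance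
    haveI hSn : (S : Subgroup G).Normal := inferInstance
    have hdis : Disjoint K (S : Subgroup G) := hKS.disjoint
    have hcomm : ∀ k ∈ K, ∀ s ∈ (S : Subgroup G), k * s = s * k := fun k hk s hs =>
      Subgroup.commute_of_normal_of_disjoint _ _ hKn hSn hdis k s hk hs
    let f : (↥(S : Subgroup G) × ↥K) →* G :=
      { toFun := fun z => (z.1 : G) * z.2
        map_one' := by simp
        map_mul' := fun z w => by
          show ((z.1 * w.1 : (S : Subgroup G)) : G) * ((z.2 * w.2 : K) : G) = _
          rw [Subgroup.coe_mul, Subgroup.coe_mul, mul_assoc, ← mul_assoc (w.1 : G), ← hcomm _ z.2.2 _ w.1.2]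
          group }
    have hf : Function.Bijective f := by
      have h := hKS.symm
      exact h
    have hSnc : ∃ n : ℕ, Nonempty ((S : Subgroup G) ≃* QuaternionGroup (2 ^ (n + 1))) := by
      rcases hsub 2 (S : Subgroup G) S.2 with h | ⟨-, h⟩
      · exfalso
        haveI := h
        apply hna
        refine ⟨⟨fun a b => ?_⟩⟩
        obtain ⟨z, rfl⟩ := hf.2 a
        obtain ⟨w, rfl⟩ := hf.2 b
        rw [← map_mul, ← map_mul]
        refine congrArg f (Prod.ext ?_ ?_)
        · exact (IsCyclic.isMulCommutative (α := (S : Subgroup G))).is_comm.comm _ _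
        · exact (IsCyclic.isMulCommutative (α := K)).is_comm.comm _ _
      · exact h
    obtain ⟨n, ⟨e⟩⟩ := hSnc
    refine ⟨n + 1, Nat.card K, Nat.le_add_left 1 n, ?_, ⟨((MulEquiv.ofBijective f hf).symm.trans
      (MulEquiv.prodCongr e (zmodCyclicMulEquiv inferInstance).symm))⟩⟩
    rw [← Nat.not_even_iff_odd, even_iff_two_dvd, ← hKS.index_eq_card]
    exact S.not_dvd_index
  · rintro ⟨k, m, hk, hm, ⟨e⟩⟩ x hx
    haveI : NeZero (2 ^ k) := ⟨pow_ne_zero _ two_ne_zero⟩
    haveI : NeZero m := ⟨fun h => by rw [h] at hm; exact Nat.not_odd_zero hm⟩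
    have hxc : e x ∉ Subgroup.center _ := fun h => hx (Subgroup.mem_center_iff.mpr fun y => e.injective (by
      rw [map_mul, map_mul]; exact Subgroup.mem_center_iff.mp h (e y)))
    have hq : (e x).1 ∉ Subgroup.center (QuaternionGroup (2 ^ k)) := fun h => hxc (Subgroup.mem_center_iff.mpr fun w =>
      Prod.ext (Subgroup.mem_center_iff.mp h w.1) (mul_comm _ _))
    obtain ⟨r, hr⟩ := quat_centralizer (e x).1 hq
    set g : Multiplicative (ZMod m) := Multiplicative.ofAdd 1
    have hg : orderOf g = m := by rw [orderOf_ofAdd_eq_addOrderOf, ZMod.addOrderOf_one]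
    have hgall : Subgroup.zpowers g = ⊤ := Subgroup.eq_top_of_card_eq _ (by
      rw [Nat.card_zpowers, hg, Nat.card_congr Multiplicative.toAdd, Nat.card_zmod])
    have hcop : (orderOf r).Coprime m := by
      have h1 : orderOf r ∣ Fintype.card (QuaternionGroup (2 ^ k)) := orderOf_dvd_card
      rw [QuaternionGroup.card, show 4 * 2 ^ k = 2 ^ (2 + k) by rw [pow_add]; rfl] at h1
      exact Nat.Coprime.coprime_dvd_left h1 (Nat.Coprime.pow_left _ (Nat.coprime_two_left.mpr hm))
    have hgen : ∀ a ∈ Subgroup.zpowers r, ∀ b : Multiplicative (ZMod m), (a, b) ∈ Subgroup.zpowers ((r, g) : QuaternionGroup (2 ^ k) × Multiplicative (ZMod m)) := by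
      have heq : Subgroup.zpowers ((r, g) : QuaternionGroup (2 ^ k) × Multiplicative (ZMod m)) = (Subgroup.zpowers r).prod ⊤ := by
        refine Subgroup.eq_of_le_of_card_ge (Subgroup.zpowers_le.mpr ⟨Subgroup.mem_zpowers r, Subgroup.mem_top g⟩) ?_
        rw [Nat.card_congr ((Subgroup.zpowers r).prodEquiv ⊤).toEquiv, Nat.card_prod, Nat.card_zpowers, Nat.card_zpowers,
          Subgroup.card_top, Nat.card_congr Multiplicative.toAdd, Nat.card_zmod, Prod.orderOf, hg, hcop.lcm_eq_mul]
      intro a ha b
      rw [heq]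
      exact ⟨ha, Subgroup.mem_top b⟩
    have hle : Subgroup.centralizer ({x} : Set G) ≤ Subgroup.zpowers (e.symm (r, g)) := by
      intro y hy
      have h1 := congrArg e (Subgroup.mem_centralizer_singleton_iff.mp hy)
      rw [map_mul, map_mul] at h1
      obtain ⟨i, hi⟩ := Subgroup.mem_zpowers_iff.mp (hgen (e y).1 (hr _ (congrArg Prod.fst h1)) (e y).2)
      refine Subgroup.mem_zpowers_iff.mpr ⟨i, ?_⟩
      rw [← map_zpow, hi, Prod.mk.eta, e.symm_apply_apply]
    exact isCyclic_of_injective (Subgroup.inclusion hle) (Subgroup.inclusion_injective hle)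

end Cfsg.Agent.S4370
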