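import Cfsg.Statements.S4376
import Cfsg.Agent.Perm.OrderType
import Cfsg.Agent.Lie.SLn

set_option autoImplicit false
set_option linter.style.haveILetI false
open Cfsg

namespace Cfsg.Agent.S4376

--- pre
open CfsgLib.Perm.OrderType

instance (k : Kind) (m : ℕ) : Decidable (k.Ok m) := by
  cases k <;> unfold Kind.Ok <;> infer_instance

/-- The product of the counting functions. -/
def total (l : List (Spec × ℕ)) (n : ℕ) : ℕ := (l.map fun x => x.1.count n ^ x.2).prod

/-- The specifications on the non-solvable side. -/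
def posSide : List (Spec × ℕ) := [
  (⟨6, [.field 7 1 2, .field 7 1 3, .field 7 1 6, .field 7 1 6]⟩, 6),
  (⟨12, [.field 7 1 6, .field 7 1 6, .field 7 1 6]⟩, 6),
  (⟨2, [.neg4, .field 7 1 2, .field 7 1 2]⟩, 12),
  (⟨12, [.field 3 1 2, .field 7 1 6]⟩, 18),
  (⟨21, [.field 2 2 3, .field 2 6 21]⟩, 6),
  (⟨6, [.field 3 1 2, .field 3 1 2, .field 2 2 3, .field 2 2 3]⟩, 12),
  (⟨3, [.field 7 1 3]⟩, 42),
  (⟨2, [.neg4, .field 7 1 2]⟩, 50),
  (⟨6, [.field 7 1 6]⟩, 18),
  (⟨6, [.field 7 1 6, .field 7 1 6]⟩, 6),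
  (⟨4, [.field 3 1 2, .field 7 1 2, .field 7 1 2]⟩, 6),
  (⟨4, [.field 3 1 2, .field 3 1 2, .field 7 1 2]⟩, 24),
  (⟨1, [.field 3 1 1]⟩, 12),
  (⟨2, [.field 3 1 2]⟩, 18),
  (⟨1, [.cyc4]⟩, 85),
  (⟨2, [.field 7 1 2]⟩, 15),
  (⟨1, [.field 2 1 1]⟩, 19),
  (⟨12, [.field 7 1 6, .field 7 1 2]⟩, 22)]

/-- The specifications on the solvable side. -/
def negSide : List (Spec × ℕ) := [
  (⟨6, [.field 7 1 6, .field 2 2 3]⟩, 12),
  (⟨6, [.field 7 1 6, .field 7 1 6, .field 7 1 6]⟩, 6),
  (⟨12, [.field 7 1 2, .field 7 1 3, .field 7 1 6, .field 7 1 6]⟩, 6),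
  (⟨6, [.field 3 1 2, .field 7 1 6]⟩, 18),
  (⟨21, [.field 2 2 3, .field 2 3 7, .field 2 3 7]⟩, 6),
  (⟨21, [.field 2 2 3, .field 2 2 3, .field 2 3 7]⟩, 6),
  (⟨12, [.field 7 1 6]⟩, 54),
  (⟨2, [.neg4]⟩, 50),
  (⟨4, [.field 3 1 2]⟩, 24),
  (⟨2, [.field 3 1 2, .swap]⟩, 6),
  (⟨2, [.field 7 1 2, .swap]⟩, 12),
  (⟨4, [.field 7 1 2]⟩, 41),
  (⟨12, [.field 7 1 6, .field 7 1 6]⟩, 6),
  (⟨12, [.field 7 2 12]⟩, 6),
  (⟨2, [.field 3 1 2, .field 3 1 2, .field 7 1 2]⟩, 12),
  (⟨6, [.field 7 1 2, .field 7 1 2, .field 7 1 3]⟩, 26),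
  (⟨1, [.field 7 1 1]⟩, 4),
  (⟨4, [.field 3 1 2, .field 3 1 2]⟩, 24),
  (⟨6, [.field 7 1 6, .field 7 1 2]⟩, 2)]

theorem exists_total : ∀ l : List (Spec × ℕ), (∀ x ∈ l, x.1.m ≠ 0 ∧ ∀ k ∈ x.1.kinds, k.Ok x.1.m) →
    ∃ (G : Type) (_ : Group G) (_ : Finite G), Group.IsSolvable G ∧ ∀ n, solCount G n = total l n := by
  intro l
  induction l with
  | nil =>
    intro _
    refine ⟨Unit, inferInstance, inferInstance, inferInstance, fun n => ?_⟩
    haveI : Unique {x : Unit // x ^ n = 1} :=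
      { default := ⟨1, one_pow n⟩, uniq := fun x => Subtype.ext (Subsingleton.elim _ _) }
    exact Nat.card_unique
  | cons x l ih =>
    intro h
    obtain ⟨G₁, _, _, hs₁, hc₁⟩ := x.1.exists_group (h x List.mem_cons_self).1 (h x List.mem_cons_self).2
    obtain ⟨G₂, _, _, hs₂, hc₂⟩ := ih fun y hy => h y (List.mem_cons_of_mem _ hy)
    haveI := hs₂
    haveI := isSolvable_pi (fun _ : Fin x.2 => G₁) fun _ => hs₁
    refine ⟨(Fin x.2 → G₁) × G₂, inferInstance, inferInstance, inferInstance, fun n => ?_⟩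
    rw [solCount_prod, solCount_pi, hc₂ n, Finset.prod_const, Finset.card_univ, Fintype.card_fin,
      hc₁ n]
    rfl

/-- A 3 × 3 matrix over the field of two elements as bits. -/
abbrev Bits := (Bool × Bool × Bool) × (Bool × Bool × Bool) × (Bool × Bool × Bool)

/-- The product of bit matrices. -/
def bmul (A B : Bits) : Bits :=
  let r := fun (a : Bool × Bool × Bool) =>
    ((xor (xor (a.1 && B.1.1) (a.2.1 && B.2.1.1)) (a.2.2 && B.2.2.1)),
     (xor (xor (a.1 && B.1.2.1) (a.2.1 && B.2.1.2.1)) (a.2.2 && B.2.2.2.1)),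
     (xor (xor (a.1 && B.1.2.2) (a.2.1 && B.2.1.2.2)) (a.2.2 && B.2.2.2.2)))
  (r A.1, r A.2.1, r A.2.2)

/-- The identity bit matrix. -/
def bone : Bits := ((true, false, false), (false, true, false), (false, false, true))

/-- Powers of a bit matrix. -/
def bpow (A : Bits) : ℕ → Bits
  | 0 => bone
  | n + 1 => bmul (bpow A n) A

/-- The bit-to-field map. -/
def bz (b : Bool) : ZMod 2 := if b then 1 else 0

/-- The matrix of a bit matrix. -/
def toM (A : Bits) : Matrix (Fin 3) (Fin 3) (ZMod 2) :=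
  !![bz A.1.1, bz A.1.2.1, bz A.1.2.2; bz A.2.1.1, bz A.2.1.2.1, bz A.2.1.2.2;
    bz A.2.2.1, bz A.2.2.2.1, bz A.2.2.2.2]

/-- The determinant of a bit matrix. -/
def bdet (A : Bits) : Bool :=
  xor (xor (A.1.1 && xor (A.2.1.2.1 && A.2.2.2.2) (A.2.1.2.2 && A.2.2.2.1))
    (A.1.2.1 && xor (A.2.1.1 && A.2.2.2.2) (A.2.1.2.2 && A.2.2.1)))
    (A.1.2.2 && xor (A.2.1.1 && A.2.2.2.1) (A.2.1.2.1 && A.2.2.1))

theorem bz_xor : ∀ a b : Bool, bz (xor a b) = bz a + bz b := by decide

theorem bz_and : ∀ a b : Bool, bz (a && b) = bz a * bz b := by decide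

theorem toM_mul (A B : Bits) : toM (bmul A B) = toM A * toM B := by
  ext i j
  fin_cases i <;> fin_cases j <;>
    simp [toM, bmul, Matrix.mul_apply, Fin.sum_univ_three, bz_xor, bz_and, add_assoc]

theorem toM_one : toM bone = 1 := by decide

theorem toM_pow (A : Bits) : ∀ n, toM (bpow A n) = toM A ^ n
  | 0 => by rw [pow_zero]; exact toM_one
  | n + 1 => by rw [bpow, toM_mul, toM_pow A n, pow_succ]

theorem toM_det (A : Bits) : (toM A).det = bz (bdet A) := by
  have h2 : ∀ a b : ZMod 2, a - b = a + b := by decide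
  simp [Matrix.det_fin_three, toM, bdet, bz_xor, bz_and, h2]
  ring

/-- The inverse coding. -/
def ofM (M : Matrix (Fin 3) (Fin 3) (ZMod 2)) : Bits :=
  let b := fun i j => decide (M i j = 1)
  ((b 0 0, b 0 1, b 0 2), (b 1 0, b 1 1, b 1 2), (b 2 0, b 2 1, b 2 2))

theorem toM_ofM (M : Matrix (Fin 3) (Fin 3) (ZMod 2)) : toM (ofM M) = M := by
  have h : ∀ a : ZMod 2, bz (decide (a = 1)) = a := by decide
  ext i j
  fin_cases i <;> fin_cases j <;> simp [toM, ofM, h]

theorem ofM_toM (A : Bits) : ofM (toM A) = A := by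
  have h : ∀ a : Bool, decide (bz a = 1) = a := by decide
  simp [ofM, toM, h]

/-- The group `SL(3, 2)`. -/
abbrev L32 := Matrix.SpecialLinearGroup (Fin 3) (ZMod 2)

/-- Bit coding of `SL(3, 2)`. -/
def code : L32 ≃ {A : Bits // bdet A = true} where
  toFun g := ⟨ofM g.1, by
    have h := toM_det (ofM g.1)
    rw [toM_ofM, g.2] at h
    revert h
    cases bdet (ofM g.1) <;> decide⟩
  invFun A := ⟨toM A.1, by rw [toM_det, A.2]; rfl⟩
  left_inv g := Subtype.ext (toM_ofM _)
  right_inv A := Subtype.ext (ofM_toM _)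

theorem pow_eq_one_iff' (g : L32) (n : ℕ) : g ^ n = 1 ↔ bpow (code g).1 n = bone := by
  have h : (g ^ n).1 = toM (bpow (code g).1 n) := by
    rw [toM_pow, Matrix.SpecialLinearGroup.coe_pow]
    exact congrArg (· ^ n) (toM_ofM g.1).symm
  constructor
  · intro hg
    have := congrArg ofM h
    rw [ofM_toM, hg, Matrix.SpecialLinearGroup.coe_one, ← toM_one, ofM_toM] at this
    exact this.symm
  · intro hb
    refine Subtype.ext ?_
    rw [h, hb, toM_one]
    rfl

theorem solCount_L32_eq (n : ℕ) :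
    solCount L32 n = (Finset.univ.filter fun A : Bits => bdet A = true ∧ bpow A n = bone).card := by
  rw [← Fintype.card_subtype, ← Nat.card_eq_fintype_card]
  refine (Nat.card_congr (code.subtypeEquiv (q := fun A => bpow A.1 n = bone)
    fun g => pow_eq_one_iff' g n)).trans ?_
  exact Nat.card_congr (Equiv.subtypeSubtypeEquivSubtypeInter (fun A : Bits => bdet A = true)
    (fun A => bpow A n = bone))

theorem L32_cases : ∀ A : Bits, bdet A = true →
    (bpow A 3 = bone ∨ bpow A 4 = bone ∨ bpow A 7 = bone) := by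
  have h : ∀ A : Bits, (!bdet A || bpow A 3 == bone || bpow A 4 == bone || bpow A 7 == bone) = true := by
    decide +kernel
  intro A hA
  simpa [hA, or_assoc] using h A

theorem orderOf_L32 (g : L32) :
    orderOf g = 1 ∨ orderOf g = 2 ∨ orderOf g = 3 ∨ orderOf g = 4 ∨ orderOf g = 7 := by
  rcases L32_cases _ (code g).2 with h | h | h <;>
    have h' := orderOf_dvd_of_pow_eq_one ((pow_eq_one_iff' g _).2 h)
  · rcases (Nat.dvd_prime Nat.prime_three).1 h' with h | h <;> simp [h]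
  · have h4 : orderOf g ∈ Nat.divisors 4 := Nat.mem_divisors.2 ⟨h', by norm_num⟩
    rw [show Nat.divisors 4 = {1, 2, 4} by decide] at h4
    simp only [Finset.mem_insert, Finset.mem_singleton] at h4
    tauto
  · rcases (Nat.dvd_prime (by norm_num : Nat.Prime 7)).1 h' with h | h <;> simp [h]

/-- The value of the counting function of `SL(3, 2)`. -/
def countL (n : ℕ) : ℕ :=
  1 + (if 2 ∣ n then 21 else 0) + (if 3 ∣ n then 56 else 0) + (if 4 ∣ n then 42 else 0) +
    (if 7 ∣ n then 48 else 0)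

theorem solCount_L32 (n : ℕ) : solCount L32 n = countL n := by
  classical
  -- reduce to the finitely many patterns of divisibility
  have hred : solCount L32 n = solCount L32 (Nat.gcd n 84) := by
    refine solCount_gcd (fun g => orderOf_dvd_iff_pow_eq_one.1 ?_) n
    rcases orderOf_L32 g with h | h | h | h | h <;> rw [h] <;> norm_num
  have hc : countL n = countL (Nat.gcd n 84) := by
    simp only [countL, Nat.dvd_gcd_iff]
    norm_num
  rw [hred, hc, solCount_L32_eq]
  have hmem : Nat.gcd n 84 ∈ ([1, 2, 3, 4, 6, 7, 12, 14, 21, 28, 42, 84] : List ℕ) := by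
    have key : ∀ d < 85, d ∣ 84 → d ∈ ([1, 2, 3, 4, 6, 7, 12, 14, 21, 28, 42, 84] : List ℕ) := by
      decide +kernel
    exact key _ (Nat.lt_succ_of_le (Nat.gcd_le_right _ (by norm_num))) (Nat.gcd_dvd_right _ _)
  revert hmem
  generalize Nat.gcd n 84 = d
  have key : ∀ d ∈ ([1, 2, 3, 4, 6, 7, 12, 14, 21, 28, 42, 84] : List ℕ),
      (Finset.univ.filter fun A : Bits => bdet A = true ∧ bpow A d = bone).card = countL d := by
    decide +kernel
  exact key d

theorem not_isSolvable_L32 : ¬ Group.IsSolvable L32 := by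
  intro h
  haveI := h
  haveI : Fact (Nat.Prime 2) := ⟨Nat.prime_two⟩
  haveI : Nontrivial L32 := by
    refine ⟨⟨code.symm ⟨((true, true, false), (false, true, false), (false, false, true)), rfl⟩, 1,
      fun he => ?_⟩⟩
    have := congrArg (fun g : L32 => g.1 0 1) he
    revert this
    decide
  have htop : commutator L32 = ⊤ := CfsgLib.Lie.SLn.commutator_eq_top (Or.inl (by simp))
  exact (Group.IsSolvable.commutator_lt_top_of_nontrivial L32).ne htop

theorem certificate : ∀ n ∈ ([1, 2, 3, 4, 6, 7, 8, 9, 12, 14, 18, 21, 24, 28, 36, 42, 56, 63, 72, 84,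
    126, 168, 252, 504] : List ℕ), total posSide n * countL n ^ 6 = total negSide n := by
  decide +kernel

theorem top_counts : total posSide 504 = total posSide 0 ∧ total negSide 504 = total negSide 0 ∧
    countL 504 = countL 0 := by
  decide +kernel

/-- There are finite groups G and H having the same number of elements of each order (the same order type) with G solvable and H not solvable. -/
theorem result :
    ∃ (G : Type) (_ : Group G) (_ : Finite G) (H : Type) (_ : Group H) (_ : Finite H),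
      Group.IsSolvable G ∧ ¬ Group.IsSolvable H ∧ ∀ n : ℕ, Nat.card {g : G // orderOf g = n} = Nat.card {h : H // orderOf h = n} := by
  obtain ⟨Hs, _, _, hs, hcs⟩ := exists_total negSide (by decide +kernel)
  obtain ⟨Hp, _, _, -, hcp⟩ := exists_total posSide (by decide +kernel)
  refine ⟨Hs, inferInstance, inferInstance, Hp × (Fin 6 → L32), inferInstance, inferInstance, hs,
    fun h => ?_, ?_⟩
  · haveI := h
    apply not_isSolvable_L32
    exact Group.isSolvable_of_surjective (f := (Pi.evalMonoidHom (fun _ : Fin 6 => L32) 0).comp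
      (MonoidHom.snd Hp (Fin 6 → L32))) fun x => ⟨(1, fun _ => x), rfl⟩
  have hG : ∀ n, solCount (Hp × (Fin 6 → L32)) n = total posSide n * countL n ^ 6 := fun n => by
    rw [solCount_prod, solCount_pi, hcp, Finset.prod_const, Finset.card_univ, Fintype.card_fin,
      solCount_L32]
  have hcard : ∀ {K : Type} [Monoid K], solCount K 0 = Nat.card K := fun {K} _ =>
    Nat.card_congr (Equiv.subtypeUnivEquiv fun x => pow_zero x)
  obtain ⟨t1, t2, t3⟩ := top_counts
  have e1 : ∀ x : Hs, x ^ 504 = 1 := pow_eq_one_of_solCount_eq_card (by rw [← hcard, hcs, hcs, t2])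
  have e2 : ∀ x : Hp × (Fin 6 → L32), x ^ 504 = 1 :=
    pow_eq_one_of_solCount_eq_card (by rw [← hcard, hG, hG, t1, t3])
  refine card_orderOf_eq fun n _ => ?_
  rw [solCount_gcd e1, solCount_gcd e2, hG, hcs]
  refine (certificate _ ?_).symm
  have key : ∀ d < 505, d ∣ 504 → d ∈ ([1, 2, 3, 4, 6, 7, 8, 9, 12, 14, 18, 21, 24, 28, 36, 42, 56, 63,
      72, 84, 126, 168, 252, 504] : List ℕ) := by
    decide +kernel
  exact key _ (Nat.lt_succ_of_le (Nat.gcd_le_right _ (by norm_num))) (Nat.gcd_dvd_right _ _)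

end Cfsg.Agent.S4376
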