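import Cfsg.Statements.S4377


set_option autoImplicit false
set_option linter.style.haveILetI false
open Cfsg

namespace Cfsg.Agent.S4377

/-- Two finite groups have the same number of elements of each order if and only if, for every n, they have the same number of elements g with gⁿ = 1. -/
theorem result {G H : Type*} [Group G] [Finite G] [Group H] [Finite H] :
    (∀ n : ℕ, Nat.card {g : G // orderOf g = n} = Nat.card {h : H // orderOf h = n}) ↔
      ∀ n : ℕ, Nat.card {g : G // g ^ n = 1} = Nat.card {h : H // h ^ n = 1} := by
  classical
  haveI := Fintype.ofFinite G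
  haveI := Fintype.ofFinite H
  have key : ∀ (K : Type _) [Group K] [Fintype K] (n : ℕ), n ≠ 0 →
      ∑ m ∈ n.divisors, Nat.card {g : K // orderOf g = m} = Nat.card {g : K // g ^ n = 1} := by
    intro K _ _ n hn
    simpa only [Nat.card_eq_fintype_card, Fintype.card_subtype] using
      sum_card_orderOf_eq_card_pow_eq_one (G := K) hn
  have keyH : ∀ n : ℕ, n ≠ 0 →
      ∑ m ∈ n.divisors, Nat.card {g : H // orderOf g = m} = Nat.card {g : H // g ^ n = 1} := by
    intro n hn
    simpa only [Nat.card_eq_fintype_card, Fintype.card_subtype] using
      sum_card_orderOf_eq_card_pow_eq_one (G := H) hn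
  constructor
  · intro h n
    rcases eq_or_ne n 0 with rfl | hn
    · simp only [pow_zero]
      have h1 : Nat.card G = Nat.card H := by
        have e1 : Nat.card {g : G // g ^ (Nat.card G * Nat.card H) = 1} = Nat.card G :=
          Nat.card_congr (Equiv.subtypeUnivEquiv fun g => by
            rw [pow_mul, pow_card_eq_one', one_pow])
        have e2 : Nat.card {g : H // g ^ (Nat.card G * Nat.card H) = 1} = Nat.card H :=
          Nat.card_congr (Equiv.subtypeUnivEquiv fun g => by
            rw [mul_comm, pow_mul, pow_card_eq_one', one_pow])
        have hne : Nat.card G * Nat.card H ≠ 0 := Nat.mul_ne_zero Nat.card_pos.ne' Nat.card_pos.ne'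
        refine e1.symm.trans (Eq.trans ?_ e2)
        rw [← key G _ hne, ← keyH _ hne]
        exact Finset.sum_congr rfl fun m _ => h m
      rw [Nat.card_congr (Equiv.subtypeUnivEquiv fun _ => trivial),
        Nat.card_congr (Equiv.subtypeUnivEquiv fun _ => trivial), h1]
    · rw [← key G n hn, ← keyH n hn]
      exact Finset.sum_congr rfl fun m _ => h m
  · intro h n
    induction n using Nat.strong_induction_on with
    | _ n ih =>
      rcases eq_or_ne n 0 with rfl | hn
      · haveI : IsEmpty {g : G // orderOf g = 0} := ⟨fun g => (orderOf_pos g.1).ne' g.2⟩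
        haveI : IsEmpty {g : H // orderOf g = 0} := ⟨fun g => (orderOf_pos g.1).ne' g.2⟩
        rw [Nat.card_of_isEmpty, Nat.card_of_isEmpty]
      · have e1 := key G n hn
        have e2 := keyH n hn
        rw [← Nat.insert_self_properDivisors hn, Finset.sum_insert Nat.self_notMem_properDivisors] at e1 e2
        have e3 : ∑ m ∈ n.properDivisors, Nat.card {g : G // orderOf g = m} =
            ∑ m ∈ n.properDivisors, Nat.card {g : H // orderOf g = m} :=
          Finset.sum_congr rfl fun m hm => ih m (Nat.mem_properDivisors.1 hm).2
        have := h n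
        omega

end Cfsg.Agent.S4377
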