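import Mathlib
-- Template for statement S4378 (row 4378; see /opt/grader/pristine/manifest.json for weights).
-- Copy to Cfsg/Agent/S4378.lean and replace the sorry. The statement below is byte-identical to the frozen
-- statement Cfsg.CfsgFrozen.S4378 (Cfsg/Statements/S4378.lean; the theorem Cfsg.fg11_solvable_group_with_maximal_subgroups_two_nilpotent_or_prime_index_two_length);
-- the grader kernel-checks Cfsg.Agent.S4378.result against that frozen type. Keep the theorem IN THIS FILE
-- (a `result` declared elsewhere and merely imported here is not credited); helpers may live anywhere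
-- under Cfsg/Agent/.
import Cfsg.Statements.S4378
import Cfsg.Agent.Solv.Schur
import Cfsg.Agent.Solv.MinimalNormal
import Cfsg.Agent.Solv.Basic


set_option autoImplicit false
set_option maxHeartbeats 800000
open Cfsg
open scoped Pointwise

namespace Cfsg.Agent.S4378

/-- The chain in a primitive group. -/
theorem prim {Q : Type*} [Group Q] [Finite Q] [Group.IsSolvable Q] {M : Subgroup Q}
    (hM : IsCoatom M) (hcore : M.normalCore = ⊥)
    (h : (∃ K : Subgroup Q, K ≤ M ∧ (∀ m ∈ M, ∀ x ∈ K, m * x * m⁻¹ ∈ K) ∧ Odd (Nat.card K) ∧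
      ∃ k : ℕ, K.relIndex M = 2 ^ k) ∨ M.index.Prime) :
    ∃ A B C : Subgroup Q, A.Normal ∧ B.Normal ∧ C.Normal ∧ A ≤ B ∧ B ≤ C ∧ Odd (Nat.card A) ∧
      (∃ k : ℕ, A.relIndex B = 2 ^ k) ∧ Odd (B.relIndex C) ∧ ∃ k : ℕ, C.index = 2 ^ k := by
  haveI : Nontrivial Q := by
    by_contra hn
    rw [not_nontrivial_iff_subsingleton] at hn
    exact hM.1 (Subsingleton.elim _ _)
  obtain ⟨N, p, hp, hN, hNab, -, hNp⟩ := CfsgLib.Solv.exists_minimal_normal_pGroup (G := Q)
  haveI := hN.1
  haveI := Fact.mk hp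
  have hNM : ¬ N ≤ M := fun hle => hN.2.1 (le_bot_iff.1 (hcore ▸ Subgroup.normal_le_normalCore.2 hle))
  have hsup : N ⊔ M = ⊤ := hM.2 _ (lt_of_le_of_ne le_sup_right fun h =>
    hNM (h ▸ le_sup_left))
  have hinf : ∀ X : Subgroup Q, X ≤ M → (∀ m ∈ M, ∀ x ∈ X, m * x * m⁻¹ ∈ X) →
      (∀ n ∈ N, ∀ x ∈ X, n * x = x * n) → X = ⊥ := by
    intro X hXM hm hn
    have hnorm : Subgroup.normalizer (X : Set Q) = ⊤ := by
      rw [eq_top_iff, ← hsup, sup_le_iff]
      constructor
      · intro n hn'
        rw [Subgroup.mem_normalizer_iff]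
        refine fun x => ⟨fun hx => by rw [hn n hn' x hx, mul_inv_cancel_right]; exact hx, fun hx => ?_⟩
        have h2 := hn n hn' _ hx
        have : n * x * n⁻¹ = x := by
          have h3 : n * (n * x * n⁻¹) * n⁻¹ = n * x * n⁻¹ := by rw [h2, mul_inv_cancel_right]
          have h4 := congrArg (fun y => n⁻¹ * y * n) h3
          simpa [mul_assoc] using h4
        rwa [← this]
      · intro m hm'
        rw [Subgroup.mem_normalizer_iff]
        refine fun x => ⟨fun hx => hm m hm' x hx, fun hx => ?_⟩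
        have := hm m⁻¹ (M.inv_mem hm') _ hx
        simpa [mul_assoc] using this
    haveI := Subgroup.normalizer_eq_top_iff.1 hnorm
    exact le_bot_iff.1 (hcore ▸ Subgroup.normal_le_normalCore.2 hXM)
  have hcap : N ⊓ M = ⊥ := hinf _ inf_le_right
    (fun m hm x hx => ⟨‹N.Normal›.conj_mem x hx.1 m, M.mul_mem (M.mul_mem hm hx.2) (M.inv_mem hm)⟩)
    (fun n hn x hx => congrArg Subtype.val (mul_comm' (⟨n, hn⟩ : N) ⟨x, hx.1⟩))
  have hc : Subgroup.IsComplement' N M := by
    refine Subgroup.isComplement'_of_disjoint_and_mul_eq_univ (disjoint_iff.2 hcap) ?_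
    rw [← Subgroup.normal_mul, hsup, Subgroup.coe_top]
  -- reduce to the case of a normal complement inside the maximal subgroup
  obtain ⟨K, hKM, hKn, hKodd, k, hKi⟩ : ∃ K : Subgroup Q, K ≤ M ∧
      (∀ m ∈ M, ∀ x ∈ K, m * x * m⁻¹ ∈ K) ∧ Odd (Nat.card K) ∧ ∃ k : ℕ, K.relIndex M = 2 ^ k := by
    refine h.elim id fun hpr => ?_
    rw [hc.index_eq_card] at hpr
    haveI : IsCyclic N := @isCyclic_of_prime_card _ _ (Nat.card N) ⟨hpr⟩ rfl
    let f : M →* MulAut N := (MulAut.conjNormal (H := N)).comp M.subtype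
    have hf : Function.Injective f := by
      rw [← MonoidHom.ker_eq_bot_iff, ← Subgroup.map_eq_bot_iff_of_injective _ M.subtype_injective]
      refine hinf (Subgroup.map M.subtype f.ker) (Subgroup.map_subtype_le _) ?_ ?_
      · rintro m hm _ ⟨x, hx, rfl⟩
        exact ⟨(⟨m, hm⟩ : M) * x * (⟨m, hm⟩ : M)⁻¹, (MonoidHom.normal_ker f).conj_mem x hx _, rfl⟩
      · rintro n hn _ ⟨x, hx, rfl⟩
        have h1 := congrArg Subtype.val (MulEquiv.ext_iff.1 (MonoidHom.mem_ker.1 hx) ⟨n, hn⟩)
        change (x : Q) * n * (x : Q)⁻¹ = n at h1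
        exact (mul_inv_eq_iff_eq_mul.1 h1).symm
    have hAut : ∀ a b : MulAut N, a * b = b * a := fun a b =>
      (IsCyclic.mulAutMulEquiv N).injective (by rw [map_mul, map_mul, mul_comm])
    have hcomm : ∀ a b : M, a * b = b * a := fun a b => hf (by rw [map_mul, map_mul, hAut])
    haveI := Fact.mk Nat.prime_two
    obtain ⟨S⟩ : Nonempty (Sylow 2 M) := inferInstance
    haveI hSn : (S : Subgroup M).Normal := ⟨fun s hs g => by rw [hcomm g s, mul_inv_cancel_right]; exact hs⟩
    obtain ⟨K, hK⟩ := Subgroup.exists_right_complement'_of_coprime (N := (S : Subgroup M))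
      S.card_coprime_index
    refine ⟨K.map M.subtype, Subgroup.map_subtype_le _, ?_, ?_, ?_⟩
    · rintro m hm _ ⟨x, hx, rfl⟩
      refine ⟨x, hx, ?_⟩
      have := congrArg Subtype.val (hcomm ⟨m, hm⟩ x)
      simp only [Subgroup.coe_mul] at this
      show (x : Q) = m * (x : Q) * m⁻¹
      rw [this, mul_inv_cancel_right]
    · rw [Subgroup.card_subtype, ← hK.symm.index_eq_card, ← Nat.not_even_iff_odd, even_iff_two_dvd]
      exact S.not_dvd_index
    · obtain ⟨k, hk⟩ := IsPGroup.iff_card.1 S.isPGroup'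
      refine ⟨k, ?_⟩
      rw [Subgroup.relIndex, Subgroup.subgroupOf, Subgroup.comap_map_eq_self_of_injective M.subtype_injective,
        hK.index_eq_card, hk]
  let C := N ⊔ K
  have hCn : C.Normal := by
    refine Subgroup.normalizer_eq_top_iff.1 (eq_top_iff.2 (hsup ▸ sup_le ?_ ?_))
    · exact le_sup_left.trans Subgroup.le_normalizer
    · intro m hm
      refine Subgroup.mem_normalizer_iff.2 fun x => ?_
      have hle : ∀ m ∈ M, ∀ x ∈ C, m * x * m⁻¹ ∈ C := by
        intro m hm x hx
        rw [← SetLike.mem_coe, Subgroup.normal_mul] at hx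
        obtain ⟨a, ha, b, hb, rfl⟩ := Set.mem_mul.1 hx
        rw [show m * (a * b) * m⁻¹ = (m * a * m⁻¹) * (m * b * m⁻¹) by group]
        exact C.mul_mem (Subgroup.mem_sup_left (‹N.Normal›.conj_mem a ha m))
          (Subgroup.mem_sup_right (hKn m hm b hb))
      refine ⟨hle m hm x, fun hx => ?_⟩
      have := hle m⁻¹ (M.inv_mem hm) _ hx
      simpa [mul_assoc] using this
  have hCM : C ⊓ M = K := by
    refine le_antisymm ?_ (le_inf le_sup_right hKM)
    rintro x ⟨hx, hxM⟩
    have hx : x ∈ ((N ⊔ K : Subgroup Q) : Set Q) := hx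
    rw [Subgroup.normal_mul] at hx
    obtain ⟨a, ha, b, hb, rfl⟩ := Set.mem_mul.1 hx
    have h1 : a ∈ M := by simpa using M.mul_mem hxM (M.inv_mem (hKM hb))
    have h2 : a ∈ N ⊓ M := ⟨ha, h1⟩
    rw [hcap, Subgroup.mem_bot] at h2
    rwa [h2, one_mul]
  have hCcard : Nat.card C = Nat.card N * Nat.card K := by
    have hb : N ⊓ K = ⊥ := le_bot_iff.1 (hcap ▸ inf_le_inf_left N hKM)
    have := CfsgLib.Solv.card_sup_mul_card_inf K N
    rw [inf_comm, hb, Subgroup.card_bot, mul_one, sup_comm, mul_comm (Nat.card K)] at this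
    exact this
  have hCi : C.index = 2 ^ k := by
    have h1 : C.index * Nat.card C = Nat.card Q := C.index_mul_card
    have h2 : Nat.card N * Nat.card M = Nat.card Q := hc.card_mul
    have h3 : K.relIndex M * Nat.card K = Nat.card M := by
      rw [mul_comm, ← Subgroup.relIndex_bot_left, ← Subgroup.relIndex_bot_left]
      exact Subgroup.relIndex_mul_relIndex _ _ _ bot_le hKM
    rw [← h2, hCcard, ← h3, hKi] at h1
    have := Nat.card_pos (α := N)
    have := Nat.card_pos (α := K)
    exact Nat.eq_of_mul_eq_mul_right (by positivity : 0 < Nat.card N * Nat.card K)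
      (h1.trans (by ring))
  obtain ⟨a, ha⟩ := IsPGroup.iff_card.1 hNp
  by_cases hp2 : p = 2
  · refine ⟨⊥, N, C, inferInstance, ‹N.Normal›, hCn, bot_le, le_sup_left, by simp, ⟨a, ?_⟩, ?_,
      k, hCi⟩
    · rw [Subgroup.relIndex_bot_left, ha, hp2]
    · have h1 := Subgroup.relIndex_mul_relIndex ⊥ N C bot_le le_sup_left
      rw [Subgroup.relIndex_bot_left, Subgroup.relIndex_bot_left, hCcard] at h1
      rwa [Nat.eq_of_mul_eq_mul_left Nat.card_pos h1]
  · refine ⟨C, C, C, hCn, hCn, hCn, le_rfl, le_rfl, ?_, ⟨0, Subgroup.relIndex_self C⟩,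
      by simp, k, hCi⟩
    rw [hCcard]
    exact (ha ▸ (hp.odd_of_ne_two hp2).pow).mul hKodd

theorem relIndex_dvd_of_le_right' {G : Type*} [Group G] (Y : Subgroup G) [Y.Normal] {S B : Subgroup G}
    (h : S ≤ B) : Y.relIndex S ∣ Y.relIndex B := by
  have h1 : ∀ T : Subgroup G, Y.relIndex T = Nat.card (T.map (QuotientGroup.mk' Y)) := fun T => by
    rw [← Subgroup.relIndex_ker, QuotientGroup.ker_mk']
  rw [h1, h1]
  exact Subgroup.card_dvd_of_le (Subgroup.map_mono h)

/-- A property of indices closed under products and divisors passes to intersections. -/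
theorem relIndex_iInf {G : Type*} [Group G] {P : ℕ → Prop} (h1 : P 1)
    (hmul : ∀ a b, P a → P b → P (a * b)) (hdvd : ∀ a b, a ∣ b → P b → P a)
    {ι : Type*} [Fintype ι] (X : ι → Subgroup G) (hX : ∀ i, (X i).Normal) (B : Subgroup G)
    (h : ∀ i, P ((X i).relIndex B)) : P ((⨅ i, X i).relIndex B) := by
  classical
  have key : ∀ s : Finset ι, P ((⨅ i ∈ s, X i).relIndex B) := by
    intro s
    induction s using Finset.induction_on with
    | empty =>
      rw [show (⨅ i ∈ (∅ : Finset ι), X i) = ⊤ from top_le_iff.1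
        (le_iInf₂ fun i hi => absurd hi (Finset.notMem_empty i)), Subgroup.relIndex_top_left]
      exact h1
    | insert a s has ih =>
      rw [Finset.iInf_insert]
      haveI := hX a
      have h3 := Subgroup.relIndex_mul_relIndex (X a ⊓ (⨅ i ∈ s, X i) ⊓ B) ((⨅ i ∈ s, X i) ⊓ B) B
        (inf_le_inf_right B inf_le_right) inf_le_right
      rw [Subgroup.inf_relIndex_right, Subgroup.inf_relIndex_right, inf_assoc,
        Subgroup.inf_relIndex_right] at h3
      rw [← h3]
      exact hmul _ _ (hdvd _ _ (relIndex_dvd_of_le_right' (X a) inf_le_right) (h a)) ih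
  simpa using key Finset.univ

theorem two_pow_mul (a b : ℕ) : (∃ k, a = 2 ^ k) → (∃ k, b = 2 ^ k) → ∃ k, a * b = 2 ^ k := by
  rintro ⟨i, rfl⟩ ⟨j, rfl⟩
  exact ⟨i + j, (pow_add 2 i j).symm⟩

theorem two_pow_dvd (a b : ℕ) (h : a ∣ b) : (∃ k, b = 2 ^ k) → ∃ k, a = 2 ^ k := by
  rintro ⟨j, rfl⟩
  obtain ⟨i, -, hi⟩ := (Nat.dvd_prime_pow Nat.prime_two).1 h
  exact ⟨i, hi⟩

theorem odd_dvd (a b : ℕ) (h : a ∣ b) (hb : Odd b) : Odd a := hb.of_dvd_nat h


/-- Let G be a finite solvable group in which every maximal subgroup either has a normal 2-complement or has prime index. Then G has a chain of normal subgroups 1 ≤ A ≤ B ≤ C ≤ G in which A and C/B have odd order and B/A and G/C are 2-groups (so the 2-length of G is at most 2). -/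
theorem result {G : Type*} [Group G] [Finite G]
    (hG : Group.IsSolvable G)
    (hmax : ∀ M : Subgroup G, IsCoatom M → (∃ K : Subgroup ↥M, K.Normal ∧ ¬ 2 ∣ Nat.card K ∧ ∃ k : ℕ, K.index = 2 ^ k) ∨ (M.index).Prime) :
    ∃ A B C : Subgroup G, A.Normal ∧ B.Normal ∧ C.Normal ∧ A ≤ B ∧ B ≤ C ∧ Odd (Nat.card A) ∧
      (∃ k : ℕ, A.relIndex B = 2 ^ k) ∧ Odd (B.relIndex C) ∧ ∃ k : ℕ, C.index = 2 ^ k := by
  classical
  let ι := {M : Subgroup G // IsCoatom M}
  haveI := Fintype.ofFinite ι
  have hloc : ∀ M : ι, ∃ A B C : Subgroup G, A.Normal ∧ B.Normal ∧ C.Normal ∧ A ≤ B ∧ B ≤ C ∧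
      M.1.normalCore ≤ A ∧ Odd (M.1.normalCore.relIndex A) ∧ (∃ k : ℕ, A.relIndex B = 2 ^ k) ∧
      Odd (B.relIndex C) ∧ ∃ k : ℕ, C.index = 2 ^ k := by
    rintro ⟨M, hM⟩
    let π := QuotientGroup.mk' M.normalCore
    have hπ : Function.Surjective π := QuotientGroup.mk'_surjective _
    have hker : π.ker = M.normalCore := QuotientGroup.ker_mk' _
    have hMc : (M.map π).comap π = M := by
      rw [Subgroup.comap_map_eq, hker, sup_eq_left.2 M.normalCore_le]
    have hM' : IsCoatom (M.map π) := by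
      refine ⟨fun h => hM.1 ?_, fun X hX => ?_⟩
      · rw [← hMc, h, Subgroup.comap_top]
      · have h2 : M < X.comap π := by
          have := (Subgroup.comap_lt_comap_of_surjective hπ).2 hX
          rwa [hMc] at this
        rw [← Subgroup.map_comap_eq_self_of_surjective hπ X, hM.2 _ h2,
          Subgroup.map_top_of_surjective _ hπ]
    have hcore : (M.map π).normalCore = ⊥ := by
      haveI := (Subgroup.normalCore_normal (M.map π)).comap π
      have h2 : (M.map π).normalCore.comap π ≤ M.normalCore := Subgroup.normal_le_normalCore.2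
        ((Subgroup.comap_mono (Subgroup.normalCore_le _)).trans hMc.le)
      rw [eq_bot_iff, ← Subgroup.map_comap_eq_self_of_surjective hπ (M.map π).normalCore]
      refine (Subgroup.map_mono h2).trans ?_
      rw [Subgroup.map_le_iff_le_comap, MonoidHom.comap_bot, hker]
    haveI : Group.IsSolvable G := hG
    obtain ⟨A, B, C, hA, hB, hC, hAB, hBC, hAodd, hAB2, hBCodd, hCi⟩ :=
      prim hM' hcore <| by
        rcases hmax M hM with ⟨K, hKn, hK2, k, hk⟩ | hpr
        · left
          refine ⟨(K.map M.subtype).map π, Subgroup.map_mono (Subgroup.map_subtype_le K), ?_, ?_, ?_⟩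
          · rintro _ ⟨m, hm, rfl⟩ _ ⟨_, ⟨x, hx, rfl⟩, rfl⟩
            exact ⟨_, ⟨⟨m, hm⟩ * x * ⟨m, hm⟩⁻¹, hKn.conj_mem x hx _, rfl⟩, by simp⟩
          · refine odd_dvd _ _ ((Subgroup.card_map_dvd _ _).trans (Subgroup.card_map_dvd _ _)) ?_
            rwa [← Nat.not_even_iff_odd, even_iff_two_dvd]
          · refine two_pow_dvd _ _ ?_ ⟨k, hk⟩
            have h1 : (K.map M.subtype).relIndex M = K.index := by
              rw [Subgroup.relIndex, Subgroup.subgroupOf,
                Subgroup.comap_map_eq_self_of_injective M.subtype_injective]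
            rw [← h1, Subgroup.relIndex_map_map, hker, sup_eq_left.2 M.normalCore_le]
            exact Subgroup.relIndex_dvd_of_le_left M le_sup_left
        · right
          have h1 := M.index_map π
          rw [hker, sup_eq_left.2 M.normalCore_le, MonoidHom.range_eq_top.2 hπ,
            Subgroup.index_top, mul_one] at h1
          rw [h1]; exact hpr
    refine ⟨A.comap π, B.comap π, C.comap π, hA.comap π, hB.comap π, hC.comap π,
      Subgroup.comap_mono hAB, Subgroup.comap_mono hBC, hker.symm.le.trans (Subgroup.ker_le_comap π A), ?_, ?_,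
      ?_, ?_⟩
    · show Odd (M.normalCore.relIndex (A.comap π))
      rw [show M.normalCore.relIndex (A.comap π) = π.ker.relIndex (A.comap π) by rw [hker],
        Subgroup.relIndex_ker, Subgroup.map_comap_eq_self_of_surjective hπ]
      exact hAodd
    · rwa [Subgroup.relIndex_comap, Subgroup.map_comap_eq_self_of_surjective hπ]
    · rwa [Subgroup.relIndex_comap, Subgroup.map_comap_eq_self_of_surjective hπ]
    · rwa [Subgroup.index_comap_of_surjective _ hπ]
  choose A B C hA hB hC hAB hBC hDA hAodd hAB2 hBCodd hC2 using hloc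
  let D : Subgroup G := ⨅ M : ι, M.1.normalCore
  let A0 : Subgroup G := ⨅ M, A M
  let B0 : Subgroup G := ⨅ M, B M
  let C0 : Subgroup G := ⨅ M, C M
  haveI hDn : D.Normal := Subgroup.normal_iInf_normal fun M => Subgroup.normalCore_normal _
  haveI hA0n : A0.Normal := Subgroup.normal_iInf_normal hA
  haveI hB0n : B0.Normal := Subgroup.normal_iInf_normal hB
  haveI hC0n : C0.Normal := Subgroup.normal_iInf_normal hC
  have hDΦ : D ≤ frattini G := le_iInf₂ fun M hM =>
    (iInf_le (fun M : ι => M.1.normalCore) ⟨M, hM⟩).trans (Subgroup.normalCore_le M)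
  have hDA0 : D ≤ A0 := iInf_mono hDA
  have hodd : Odd (D.relIndex A0) := relIndex_iInf odd_one (fun _ _ => Odd.mul) odd_dvd _
    (fun M => Subgroup.normalCore_normal _) _ fun M =>
      odd_dvd _ _ (relIndex_dvd_of_le_right' _ (iInf_le A M)) (hAodd M)
  have h2 : ∃ k, A0.relIndex B0 = 2 ^ k :=
    relIndex_iInf (P := fun n => ∃ k, n = 2 ^ k) ⟨0, rfl⟩ two_pow_mul two_pow_dvd _ hA _ fun M => by
      haveI := hA M
      exact two_pow_dvd _ _ (relIndex_dvd_of_le_right' _ (iInf_le B M)) (hAB2 M)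
  have h3 : Odd (B0.relIndex C0) := relIndex_iInf odd_one (fun _ _ => Odd.mul) odd_dvd _ hB _ fun M => by
      haveI := hB M
      exact odd_dvd _ _ (relIndex_dvd_of_le_right' _ (iInf_le C M)) (hBCodd M)
  have h4 : ∃ k, C0.index = 2 ^ k := by
    rw [← Subgroup.relIndex_top_right]
    exact relIndex_iInf (P := fun n => ∃ k, n = 2 ^ k) ⟨0, rfl⟩ two_pow_mul two_pow_dvd _ hC _
      fun M => by rw [Subgroup.relIndex_top_right]; exact hC2 M
  -- split off the Sylow two-subgroup of `D`
  haveI := Fact.mk Nat.prime_two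
  haveI : Group.IsNilpotent (frattini G) := frattini_nilpotent
  haveI : Group.IsNilpotent (D.subgroupOf (frattini G)) := Subgroup.isNilpotent _
  haveI : Group.IsNilpotent D :=
    Group.nilpotent_of_mulEquiv (Subgroup.subgroupOfEquivOfLe hDΦ)
  obtain ⟨S⟩ : Nonempty (Sylow 2 D) := inferInstance
  haveI hSn : (S : Subgroup D).Normal :=
    ((Group.isNilpotent_of_finite_tfae (G := D)).out 0 3 rfl rfl).1 (inferInstance : Group.IsNilpotent D) 2 inferInstance S
  haveI : (S : Subgroup D).Characteristic := S.characteristic_of_normal hSn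
  let D2 : Subgroup G := (S : Subgroup D).map D.subtype
  haveI hD2n : D2.Normal := inferInstance
  have hD2A : D2 ≤ A0 := (Subgroup.map_subtype_le _).trans hDA0
  let R : Subgroup A0 := D2.subgroupOf A0
  have hRcard : Nat.card R = Nat.card (S : Subgroup D) := by
    rw [Nat.card_congr (Subgroup.subgroupOfEquivOfLe hD2A).toEquiv, Subgroup.card_subtype]
  obtain ⟨a, ha⟩ := IsPGroup.iff_card.1 S.isPGroup'
  have hRi : Odd R.index := by
    have h1 : D2.relIndex D * D.relIndex A0 = D2.relIndex A0 :=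
      Subgroup.relIndex_mul_relIndex D2 D A0 (Subgroup.map_subtype_le _) hDA0
    show Odd (D2.relIndex A0)
    rw [← h1]
    refine Odd.mul ?_ hodd
    rw [Subgroup.relIndex, Subgroup.subgroupOf, Subgroup.comap_map_eq_self_of_injective D.subtype_injective,
      ← Nat.not_even_iff_odd, even_iff_two_dvd]
    exact S.not_dvd_index
  have hcop : (Nat.card R).Coprime R.index := by
    rw [hRcard, ha]; exact (Nat.coprime_two_left.2 hRi).pow_left a
  obtain ⟨H, hH⟩ := Subgroup.exists_right_complement'_of_coprime hcop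
  let A1 : Subgroup G := H.map A0.subtype
  have hHc : Nat.card H = R.index := hH.symm.index_eq_card.symm
  have hA1A : A1 ≤ A0 := Subgroup.map_subtype_le _
  have hA1n : A1.Normal := by
    rw [← Subgroup.normalizer_eq_top_iff]
    apply frattini_nongenerating
    refine eq_top_iff.2 fun g _ => ?_
    let φ : MulAut A0 := MulAut.conjNormal g
    obtain ⟨x, hx⟩ := CfsgLib.Solv.schur_zassenhaus_conj R H (H.map φ.toMonoidHom) hcop
      (Or.inl inferInstance) hHc
      (by rw [← hHc]; exact (Nat.card_congr (H.equivMapOfInjective _ φ.injective).toEquiv).symm)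
    have hxm : A0 ≤ frattini G ⊔ Subgroup.normalizer (A1 : Set G) := by
      intro y hy
      have h1 : (⟨y, hy⟩ : A0) ∈ R ⊔ H := by rw [hH.sup_eq_top]; trivial
      have h5 : (R ⊔ H).map A0.subtype ≤ frattini G ⊔ Subgroup.normalizer (A1 : Set G) := by
        rw [Subgroup.map_sup, Subgroup.subgroupOf_map_subtype]
        exact sup_le_sup ((inf_le_left.trans (Subgroup.map_subtype_le _)).trans hDΦ)
          Subgroup.le_normalizer
      exact h5 ⟨⟨y, hy⟩, h1, rfl⟩
    rw [sup_comm]
    have hn : (x : G)⁻¹ * g ∈ Subgroup.normalizer (A1 : Set G) := by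
      have hmap : A1.map (MulAut.conj ((x : G)⁻¹ * g)).toMonoidHom ≤ A1 := by
        rintro _ ⟨_, ⟨h', hh', rfl⟩, rfl⟩
        have h1 : φ h' ∈ MulAut.conj x • H := by rw [hx]; exact ⟨h', hh', rfl⟩
        rw [Subgroup.mem_pointwise_smul_iff_inv_smul_mem] at h1
        refine ⟨_, h1, ?_⟩
        simp [MulAut.smul_def, φ, mul_assoc]
      have heq := Subgroup.eq_of_le_of_card_ge hmap
        (Nat.card_congr (A1.equivMapOfInjective _ (MulAut.conj ((x : G)⁻¹ * g)).injective).toEquiv).le
      rw [Subgroup.mem_normalizer_iff]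
      intro y
      conv_rhs => rw [← heq]
      exact (Subgroup.mem_map_iff_mem (MulAut.conj ((x : G)⁻¹ * g)).injective).symm
    rw [show g = (x : G) * ((x : G)⁻¹ * g) by group]
    first
      | exact mul_mem (hxm x.2) (Subgroup.mem_sup_right hn)
      | exact mul_mem ((le_of_eq (sup_comm (frattini G) (Subgroup.normalizer (A1 : Set G)))) (hxm x.2)) (Subgroup.mem_sup_left hn)
  refine ⟨A1, B0, C0, hA1n, hB0n, hC0n, hA1A.trans (iInf_mono hAB), iInf_mono hBC, ?_, ?_, h3, h4⟩
  · rw [Subgroup.card_subtype, hHc]; exact hRi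
  · obtain ⟨k, hk⟩ := h2
    refine ⟨a + k, ?_⟩
    rw [← Subgroup.relIndex_mul_relIndex A1 A0 B0 hA1A (iInf_mono hAB), hk, pow_add]
    congr 1
    rw [Subgroup.relIndex, Subgroup.subgroupOf, Subgroup.comap_map_eq_self_of_injective A0.subtype_injective,
      hH.index_eq_card, hRcard, ha]

end Cfsg.Agent.S4378
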