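import Mathlib
-- Template for statement S4379 (row 4379; see /opt/grader/pristine/manifest.json for weights).
-- Copy to Cfsg/Agent/S4379.lean and replace the sorry. The statement below is byte-identical to the frozen
-- statement Cfsg.CfsgFrozen.S4379 (Cfsg/Statements/S4379.lean; the theorem Cfsg.fg11_p_solvable_group_with_maximal_subgroups_p_nilpotent_or_prime_index_p_length);
-- the grader kernel-checks Cfsg.Agent.S4379.result against that frozen type. Keep the theorem IN THIS FILE
-- (a `result` declared elsewhere and merely imported here is not credited); helpers may live anywhere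
-- under Cfsg/Agent/.
import Cfsg.Statements.S4379
import Cfsg.Agent.S4378
import Cfsg.Agent.Solv.Schur
import Cfsg.Agent.Solv.MinimalNormal


set_option autoImplicit false
set_option maxHeartbeats 800000
open Cfsg
open scoped Pointwise commutatorElement

namespace Cfsg.Agent.S4379

open Cfsg.Agent.S4378 (relIndex_iInf relIndex_dvd_of_le_right')

variable {p : ℕ}

theorem pow_mul' (a b : ℕ) : (∃ k, a = p ^ k) → (∃ k, b = p ^ k) → ∃ k, a * b = p ^ k := by
  rintro ⟨i, rfl⟩ ⟨j, rfl⟩
  exact ⟨i + j, (pow_add p i j).symm⟩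

theorem pow_dvd' [hp : Fact p.Prime] (a b : ℕ) (h : a ∣ b) : (∃ k, b = p ^ k) → ∃ k, a = p ^ k := by
  rintro ⟨j, rfl⟩
  obtain ⟨i, -, hi⟩ := (Nat.dvd_prime_pow hp.out).1 h
  exact ⟨i, hi⟩

theorem ndvd_mul [hp : Fact p.Prime] (a b : ℕ) (ha : ¬ p ∣ a) (hb : ¬ p ∣ b) : ¬ p ∣ a * b :=
  fun h => (hp.out.dvd_mul.1 h).elim ha hb

theorem ndvd_dvd (a b : ℕ) (h : a ∣ b) (hb : ¬ p ∣ b) : ¬ p ∣ a := fun h' => hb (h'.trans h)

/-- A maximal subgroup of prime index with trivial core: the quotient by a normal subgroup not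
contained in it is abelian. -/
theorem commutator_le_of_prime_index {Q : Type*} [Group Q] [Finite Q] {M N : Subgroup Q} [N.Normal]
    (hM : IsCoatom M) (hcore : M.normalCore = ⊥) (hr : M.index.Prime) (hsup : N ⊔ M = ⊤) :
    commutator Q ≤ N := by
  set r := M.index with hrdef
  haveI := Fact.mk hr
  have hfac : Nat.card Q ∣ r.factorial := by
    have hinj : Function.Injective (MulAction.toPermHom Q (Q ⧸ M)) := by
      rw [← MonoidHom.ker_eq_bot_iff, ← M.normalCore_eq_ker, hcore]
    have := Subgroup.card_dvd_of_injective _ hinj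
    rwa [Nat.card_perm] at this
  have hr1 : r ∣ Nat.card N := by
    have h1 : M.relIndex N = r := by
      have e1 : N.relIndex M = N.index := by
        rw [← Subgroup.relIndex_top_right N, ← hsup, sup_comm, Subgroup.relIndex_sup_right]
      have e2 := Subgroup.relIndex_mul_index (inf_le_left : N ⊓ M ≤ N)
      have e3 := Subgroup.relIndex_mul_index (inf_le_right : N ⊓ M ≤ M)
      rw [Subgroup.inf_relIndex_left] at e2
      rw [Subgroup.inf_relIndex_right, e1, ← e2, mul_comm] at e3
      exact (Nat.eq_of_mul_eq_mul_right (Nat.pos_of_ne_zero N.index_ne_zero_of_finite) e3).symm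
    exact h1 ▸ Subgroup.relIndex_dvd_card M N
  have hMr : ¬ r ∣ Nat.card M := fun h => by
    have h2 : r * r ∣ Nat.card Q := by
      rw [← M.card_mul_index, ← hrdef]; exact mul_dvd_mul_right h r
    have h3 := h2.trans hfac
    rw [← Nat.mul_factorial_pred hr.pos.ne'] at h3
    have h4 := (hr.dvd_factorial).1 (Nat.dvd_of_mul_dvd_mul_left hr.pos h3)
    have := hr.two_le
    omega
  obtain ⟨x, hx⟩ := exists_prime_orderOf_dvd_card' (G := N) r hr1
  set R : Subgroup Q := Subgroup.zpowers (x : Q) with hRdef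
  have hRc : Nat.card R = r := by rw [Nat.card_zpowers, Subgroup.orderOf_coe, hx]
  have hRN : R ≤ N := Subgroup.zpowers_le.2 x.2
  have hRM : Subgroup.IsComplement' R M := by
    refine Subgroup.isComplement'_of_coprime (by rw [hRc, hrdef, mul_comm, M.card_mul_index]) ?_
    rw [hRc]; exact hr.coprime_iff_not_dvd.2 hMr
  -- the centraliser of `R` is `R`
  have hC : Subgroup.centralizer (R : Set Q) ≤ R := by
    intro c hc
    obtain ⟨⟨⟨ρ, hρ⟩, ⟨m, hm⟩⟩, hcm, -⟩ := hRM.existsUnique c
    change ρ * m = c at hcm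
    have hmc : m ∈ Subgroup.centralizer (R : Set Q) := by
      have hρc : ρ ∈ Subgroup.centralizer (R : Set Q) := Subgroup.le_centralizer R hρ
      have : m = ρ⁻¹ * c := by rw [← hcm]; group
      exact this ▸ mul_mem (inv_mem hρc) hc
    have hm1 : m ∈ M.normalCore := by
      intro g
      obtain ⟨⟨⟨σ, hσ⟩, ⟨n, hn⟩⟩, hgn, -⟩ := hRM.existsUnique g⁻¹
      change σ * n = g⁻¹ at hgn
      have h1 : σ * m = m * σ := Subgroup.mem_centralizer_iff.1 hmc σ hσ
      have hg : g = n⁻¹ * σ⁻¹ := by rw [← inv_inv g, ← hgn, mul_inv_rev]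
      rw [hg, show n⁻¹ * σ⁻¹ * m * (n⁻¹ * σ⁻¹)⁻¹ = n⁻¹ * (σ⁻¹ * (m * σ)) * n by group, ← h1,
        inv_mul_cancel_left]
      exact M.mul_mem (M.mul_mem (M.inv_mem hn) hm) hn
    rw [hcore, Subgroup.mem_bot] at hm1
    rw [← hcm, hm1, mul_one]; exact hρ
  haveI : IsCyclic R := @isCyclic_of_prime_card _ _ r ⟨hr⟩ hRc
  have hAut : ∀ a b : MulAut R, a * b = b * a := fun a b =>
    (IsCyclic.mulAutMulEquiv R).injective (by rw [map_mul, map_mul, mul_comm])
  let NR := Subgroup.normalizer (R : Set Q)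
  have hker : ⁅NR, NR⁆ ≤ Subgroup.centralizer (R : Set Q) := by
    rw [Subgroup.commutator_le]
    intro a ha b hb
    have h1 : R.normalizerMonoidHom ⁅(⟨a, ha⟩ : NR), ⟨b, hb⟩⁆ = 1 := by
      rw [map_commutatorElement, commutatorElement_def, hAut (R.normalizerMonoidHom ⟨a, ha⟩)]
      group
    have h2 := MonoidHom.mem_ker.2 h1
    rw [Subgroup.normalizerMonoidHom_ker] at h2
    exact h2
  -- Frattini argument
  obtain ⟨S, hS⟩ : ∃ S : Sylow r N, (S : Subgroup N).map N.subtype = R := by
    let R' : Subgroup N := Subgroup.zpowers x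
    have hR' : IsPGroup r R' := IsPGroup.of_card (n := 1) (by rw [Nat.card_zpowers, hx, pow_one])
    obtain ⟨S, hS⟩ := hR'.exists_le_sylow
    refine ⟨S, ?_⟩
    have hSc : Nat.card (S : Subgroup N) ∣ r := by
      obtain ⟨k, hk⟩ := IsPGroup.iff_card.1 S.isPGroup'
      have h5 : r ^ k ∣ r.factorial := hk ▸
        ((Subgroup.card_subgroup_dvd_card (S : Subgroup N)).trans
          ((Subgroup.card_subgroup_dvd_card N).trans hfac))
      rw [hk]
      by_contra hlt
      have h6 : r * r ∣ r.factorial := by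
        rcases k with _ | _ | k
        · exact absurd (by simp) hlt
        · exact absurd (by simp) hlt
        · exact (dvd_of_eq (sq r).symm).trans ((pow_dvd_pow r (by omega : 2 ≤ k + 1 + 1)).trans h5)
      rw [← Nat.mul_factorial_pred hr.pos.ne'] at h6
      have h4 := (hr.dvd_factorial).1 (Nat.dvd_of_mul_dvd_mul_left hr.pos h6)
      have := hr.two_le
      omega
    have hRS : R' = (S : Subgroup N) := Subgroup.eq_of_le_of_card_ge hS
      ((Nat.le_of_dvd hr.pos hSc).trans (by rw [Nat.card_zpowers, hx]))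
    rw [← hRS, MonoidHom.map_zpowers]
    rfl
  have hfr : NR ⊔ N = ⊤ := by
    have := Sylow.normalizer_sup_eq_top S
    rwa [hS] at this
  have hmap : (⊤ : Subgroup Q).map (QuotientGroup.mk' N) ≤ NR.map (QuotientGroup.mk' N) := by
    rw [← hfr, Subgroup.map_sup, (N.map_eq_bot_iff).2 (QuotientGroup.ker_mk' N).ge, sup_bot_eq]
  rw [← QuotientGroup.ker_mk' N, ← Subgroup.map_eq_bot_iff, commutator_def, Subgroup.map_commutator,
    eq_bot_iff]
  refine (Subgroup.commutator_mono hmap hmap).trans ?_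
  rw [← Subgroup.map_commutator, Subgroup.map_le_iff_le_comap, MonoidHom.comap_bot, QuotientGroup.ker_mk']
  exact (hker.trans hC).trans hRN

/-- The chain in a primitive group. -/
theorem prim [hp : Fact p.Prime] {Q : Type*} [Group Q] [Finite Q] {M : Subgroup Q}
    (hM : IsCoatom M) (hcore : M.normalCore = ⊥) {N : Subgroup Q} (hN : CfsgLib.Solv.IsMinimalNormal N)
    (hNp : IsPGroup p N ∨ ¬ p ∣ Nat.card N)
    (h : (∃ K : Subgroup Q, K ≤ M ∧ (∀ m ∈ M, ∀ x ∈ K, m * x * m⁻¹ ∈ K) ∧ ¬ p ∣ Nat.card K ∧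
      ∃ k : ℕ, K.relIndex M = p ^ k) ∨ M.index.Prime) :
    ∃ A B C D : Subgroup Q, A.Normal ∧ B.Normal ∧ C.Normal ∧ D.Normal ∧ A ≤ B ∧ B ≤ C ∧ C ≤ D ∧
      ¬ p ∣ Nat.card A ∧ (∃ k : ℕ, A.relIndex B = p ^ k) ∧ ¬ p ∣ B.relIndex C ∧
      (∃ k : ℕ, C.relIndex D = p ^ k) ∧ ¬ p ∣ D.index := by
  haveI := hN.1
  have hNM : ¬ N ≤ M := fun hle => hN.2.1 (le_bot_iff.1 (hcore ▸ Subgroup.normal_le_normalCore.2 hle))
  have hsup : N ⊔ M = ⊤ := hM.2 _ (lt_of_le_of_ne le_sup_right fun h =>
    hNM (h ▸ le_sup_left))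
  have hp1 : ¬ p ∣ 1 := hp.out.not_dvd_one
  obtain ⟨C, hCn, hNC, hC1, k, hC2⟩ : ∃ C : Subgroup Q, C.Normal ∧ N ≤ C ∧ ¬ p ∣ N.relIndex C ∧
      ∃ k : ℕ, C.index = p ^ k := by
    rcases h with ⟨K, hKM, hKn, hK, k, hk⟩ | hr
    · have hCn : (N ⊔ K).Normal := by
        have hle : ∀ m ∈ M, ∀ x ∈ N ⊔ K, m * x * m⁻¹ ∈ N ⊔ K := by
          intro m hm x hx
          rw [← SetLike.mem_coe, Subgroup.normal_mul] at hx
          obtain ⟨a, ha, b, hb, rfl⟩ := Set.mem_mul.1 hx
          rw [show m * (a * b) * m⁻¹ = (m * a * m⁻¹) * (m * b * m⁻¹) by group]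
          exact mul_mem (Subgroup.mem_sup_left (‹N.Normal›.conj_mem a ha m))
            (Subgroup.mem_sup_right (hKn m hm b hb))
        refine Subgroup.normalizer_eq_top_iff.1 (eq_top_iff.2 (hsup ▸ sup_le ?_ ?_))
        · exact le_sup_left.trans Subgroup.le_normalizer
        · intro m hm
          refine Subgroup.mem_normalizer_iff.2 fun x => ⟨hle m hm x, fun hx => ?_⟩
          have := hle m⁻¹ (M.inv_mem hm) _ hx
          simpa [mul_assoc] using this
      refine ⟨N ⊔ K, hCn, le_sup_left, ?_, ?_⟩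
      · have h1 : N.relIndex (N ⊔ K) = N.relIndex K := by
          rw [sup_comm, Subgroup.relIndex_sup_right]
        rw [h1]
        exact ndvd_dvd _ _ (Subgroup.relIndex_dvd_card N K) hK
      · haveI := hCn
        have h1 : (N ⊔ K).relIndex M = (N ⊔ K).index := by
          rw [← Subgroup.relIndex_top_right, ← top_le_iff.1 (hsup ▸ sup_le_sup_right le_sup_left M :
            (⊤ : Subgroup Q) ≤ (N ⊔ K) ⊔ M), sup_comm (N ⊔ K) M, Subgroup.relIndex_sup_right]
        rw [← h1]
        exact pow_dvd' _ _ (Subgroup.relIndex_dvd_of_le_left M le_sup_right) ⟨k, hk⟩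
    · have hab := commutator_le_of_prime_index hM hcore hr hsup
      have hcomm : ∀ a b : Q ⧸ N, a * b = b * a := by
        intro a b
        refine QuotientGroup.induction_on a fun x => QuotientGroup.induction_on b fun y => ?_
        rw [← QuotientGroup.mk_mul, ← QuotientGroup.mk_mul, QuotientGroup.eq]
        have h1 : ⁅y⁻¹, x⁻¹⁆ ∈ N := hab (Subgroup.commutator_mem_commutator (Subgroup.mem_top _) (Subgroup.mem_top _))
        simpa [commutatorElement_def, mul_assoc] using h1
      obtain ⟨S⟩ : Nonempty (Sylow p (Q ⧸ N)) := inferInstance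
      haveI : (S : Subgroup (Q ⧸ N)).Normal :=
        ⟨fun s hs g => by rw [hcomm g s, mul_inv_cancel_right]; exact hs⟩
      obtain ⟨K, hK⟩ := Subgroup.exists_right_complement'_of_coprime (N := (S : Subgroup (Q ⧸ N)))
        S.card_coprime_index
      haveI hKn : K.Normal := ⟨fun s hs g => by rw [hcomm g s, mul_inv_cancel_right]; exact hs⟩
      have hs := QuotientGroup.mk'_surjective N
      refine ⟨K.comap (QuotientGroup.mk' N), hKn.comap _,
        (QuotientGroup.ker_mk' N).ge.trans (Subgroup.ker_le_comap _ K), ?_, ?_⟩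
      · rw [show N.relIndex (K.comap (QuotientGroup.mk' N)) =
          (QuotientGroup.mk' N).ker.relIndex (K.comap (QuotientGroup.mk' N)) by rw [QuotientGroup.ker_mk'],
          Subgroup.relIndex_ker, Subgroup.map_comap_eq_self_of_surjective hs, ← hK.symm.index_eq_card]
        exact S.not_dvd_index
      · rw [Subgroup.index_comap_of_surjective _ hs, hK.index_eq_card]
        exact IsPGroup.iff_card.1 S.isPGroup'
  rcases hNp with hNp | hNp
  · refine ⟨⊥, N, C, ⊤, inferInstance, ‹N.Normal›, hCn, inferInstance, bot_le, hNC, le_top,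
      by rw [Subgroup.card_bot]; exact hp1, ?_, hC1, ⟨k, by rw [Subgroup.relIndex_top_right, hC2]⟩,
      by rw [Subgroup.index_top]; exact hp1⟩
    rw [Subgroup.relIndex_bot_left]
    exact IsPGroup.iff_card.1 hNp
  · refine ⟨C, ⊤, ⊤, ⊤, hCn, inferInstance, inferInstance, inferInstance, le_top, le_rfl, le_rfl, ?_,
      ⟨k, by rw [Subgroup.relIndex_top_right, hC2]⟩, by rw [Subgroup.relIndex_self]; exact hp1,
      ⟨0, Subgroup.relIndex_self _⟩, by rw [Subgroup.index_top]; exact hp1⟩
    have h1 := Subgroup.relIndex_mul_relIndex ⊥ N C bot_le hNC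
    rw [Subgroup.relIndex_bot_left, Subgroup.relIndex_bot_left] at h1
    rw [← h1]
    exact ndvd_mul _ _ hNp hC1


/-- Let p be an odd prime and G a finite p-solvable group in which every maximal subgroup either has a normal p-complement or has prime index. Then G has a chain of normal subgroups 1 ≤ A ≤ B ≤ C ≤ D ≤ G in which A, C/B and G/D have order prime to p and B/A and D/C are p-groups (so the p-length of G is at most 2). -/
theorem result {G : Type*} [Group G] [Finite G]
    (p : ℕ) [Fact p.Prime] (hp : p ≠ 2) (hG : Cfsg.IsPSolvable p G)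
    (hmax : ∀ M : Subgroup G, IsCoatom M → (∃ K : Subgroup ↥M, K.Normal ∧ ¬ p ∣ Nat.card K ∧ ∃ k : ℕ, K.index = p ^ k) ∨ (M.index).Prime) :
    ∃ A B C D : Subgroup G, A.Normal ∧ B.Normal ∧ C.Normal ∧ D.Normal ∧ A ≤ B ∧ B ≤ C ∧ C ≤ D ∧ ¬ p ∣ Nat.card A ∧
      (∃ k : ℕ, A.relIndex B = p ^ k) ∧ ¬ p ∣ B.relIndex C ∧ (∃ k : ℕ, C.relIndex D = p ^ k) ∧ ¬ p ∣ D.index := by
  classical
  let ι := {M : Subgroup G // IsCoatom M}
  haveI := Fintype.ofFinite ι
  have hloc : ∀ M : ι, ∃ A B C D : Subgroup G, A.Normal ∧ B.Normal ∧ C.Normal ∧ D.Normal ∧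
      A ≤ B ∧ B ≤ C ∧ C ≤ D ∧ M.1.normalCore ≤ A ∧ ¬ p ∣ M.1.normalCore.relIndex A ∧
      (∃ k : ℕ, A.relIndex B = p ^ k) ∧ ¬ p ∣ B.relIndex C ∧ (∃ k : ℕ, C.relIndex D = p ^ k) ∧ ¬ p ∣ D.index := by
    rintro ⟨M, hM⟩
    let π := QuotientGroup.mk' M.normalCore
    have hπ : Function.Surjective π := QuotientGroup.mk'_surjective _
    have hker : π.ker = M.normalCore := QuotientGroup.ker_mk' _
    have hMc : (M.map π).comap π = M := by
      rw [Subgroup.comap_map_eq, hker, sup_eq_left.2 M.normalCore_le]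
    have hM' : IsCoatom (M.map π) := by
      refine ⟨fun h => hM.1 ?_, fun X hX => ?_⟩
      · rw [← hMc, h, Subgroup.comap_top]
      · have h2 : M < X.comap π := by
          have := (Subgroup.comap_lt_comap_of_surjective hπ).2 hX
          rwa [hMc] at this
        rw [← Subgroup.map_comap_eq_self_of_surjective hπ X, hM.2 _ h2,
          Subgroup.map_top_of_surjective _ hπ]
    have hcore : (M.map π).normalCore = ⊥ := by
      haveI := (Subgroup.normalCore_normal (M.map π)).comap π
      have h2 : (M.map π).normalCore.comap π ≤ M.normalCore := Subgroup.normal_le_normalCore.2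
        ((Subgroup.comap_mono (Subgroup.normalCore_le _)).trans hMc.le)
      rw [eq_bot_iff, ← Subgroup.map_comap_eq_self_of_surjective hπ (M.map π).normalCore]
      refine (Subgroup.map_mono h2).trans ?_
      rw [Subgroup.map_le_iff_le_comap, MonoidHom.comap_bot, hker]
    haveI : Nontrivial (G ⧸ M.normalCore) := by
      by_contra hn
      rw [not_nontrivial_iff_subsingleton] at hn
      exact hM'.1 (Subsingleton.elim _ _)
    obtain ⟨N, hN⟩ := CfsgLib.Solv.exists_isMinimalNormal (G := G ⧸ M.normalCore)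
    have hNp : IsPGroup p N ∨ ¬ p ∣ Nat.card N := by
      obtain ⟨n, H, h0, hlast, hmono, hHn, hfac⟩ := hG
      have key : ∀ i : Fin (n + 1), N ≤ (H i).map π → IsPGroup p N ∨ ¬ p ∣ Nat.card N := by
        intro i
        induction i using Fin.induction with
        | zero =>
          intro h
          rw [h0, Subgroup.map_bot, le_bot_iff] at h
          exact absurd h hN.2.1
        | succ j ih =>
          intro h
          haveI := (hHn j.castSucc).map π hπ
          rcases hN.eq_or_inf_eq_bot ((H j.castSucc).map π) with h1 | h1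
          · exact ih h1
          have h2 : Nat.card N ∣ ((H j.castSucc).map π).relIndex ((H j.succ).map π) := by
            refine dvd_trans (dvd_of_eq ?_) (relIndex_dvd_of_le_right' _ h)
            rw [← Subgroup.inf_relIndex_right, inf_comm, h1, Subgroup.relIndex_bot_left]
          have h3 : ((H j.castSucc).map π).relIndex ((H j.succ).map π) ∣
              (H j.castSucc).relIndex (H j.succ) := by
            haveI := hHn j.castSucc
            haveI : π.ker.Normal := MonoidHom.normal_ker π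
            rw [Subgroup.relIndex_map_map]
            haveI : (H j.castSucc ⊔ π.ker).Normal := Subgroup.sup_normal _ _
            have hle : H j.castSucc ≤ H j.succ := hmono (Fin.castSucc_le_succ j)
            rw [show H j.succ ⊔ π.ker = H j.succ ⊔ (H j.castSucc ⊔ π.ker) by
              rw [← sup_assoc, sup_eq_left.2 hle], Subgroup.relIndex_sup_right]
            exact Subgroup.relIndex_dvd_of_le_left _ le_sup_left
          rcases hfac j with ⟨m, hm⟩ | hm
          · obtain ⟨i, -, hi⟩ := (Nat.dvd_prime_pow (Fact.out : p.Prime)).1 ((h2.trans h3).trans (dvd_of_eq hm))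
            exact Or.inl (IsPGroup.of_card hi)
          · exact Or.inr fun hd => (Nat.Prime.coprime_iff_not_dvd Fact.out).1 hm.symm ((hd.trans h2).trans h3)
      exact key (Fin.last n) (by rw [hlast, Subgroup.map_top_of_surjective _ hπ]; exact le_top)
    obtain ⟨A, B, C, D, hA, hB, hC, hD, hAB, hBC, hCD, hAodd, hAB2, hBCodd, hCD2, hDi⟩ :=
      prim hM' hcore hN hNp <| by
        rcases hmax M hM with ⟨K, hKn, hK2, k, hk⟩ | hpr
        · left
          refine ⟨(K.map M.subtype).map π, Subgroup.map_mono (Subgroup.map_subtype_le K), ?_, ?_, ?_⟩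
          · rintro _ ⟨m, hm, rfl⟩ _ ⟨_, ⟨x, hx, rfl⟩, rfl⟩
            exact ⟨_, ⟨⟨m, hm⟩ * x * ⟨m, hm⟩⁻¹, hKn.conj_mem x hx _, rfl⟩, by simp⟩
          · exact ndvd_dvd _ _ ((Subgroup.card_map_dvd _ _).trans (Subgroup.card_map_dvd _ _)) hK2
          · refine pow_dvd' _ _ ?_ ⟨k, hk⟩
            have h1 : (K.map M.subtype).relIndex M = K.index := by
              rw [Subgroup.relIndex, Subgroup.subgroupOf,
                Subgroup.comap_map_eq_self_of_injective M.subtype_injective]
            rw [← h1, Subgroup.relIndex_map_map, hker, sup_eq_left.2 M.normalCore_le]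
            exact Subgroup.relIndex_dvd_of_le_left M le_sup_left
        · right
          have h1 := M.index_map π
          rw [hker, sup_eq_left.2 M.normalCore_le, MonoidHom.range_eq_top.2 hπ,
            Subgroup.index_top, mul_one] at h1
          rw [h1]; exact hpr
    refine ⟨A.comap π, B.comap π, C.comap π, D.comap π, hA.comap π, hB.comap π, hC.comap π,
      hD.comap π, Subgroup.comap_mono hAB, Subgroup.comap_mono hBC, Subgroup.comap_mono hCD,
      hker.symm.le.trans (Subgroup.ker_le_comap π A), ?_, ?_, ?_, ?_, ?_⟩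
    · show ¬ p ∣ M.normalCore.relIndex (A.comap π)
      rw [show M.normalCore.relIndex (A.comap π) = π.ker.relIndex (A.comap π) by rw [hker],
        Subgroup.relIndex_ker, Subgroup.map_comap_eq_self_of_surjective hπ]
      exact hAodd
    · rwa [Subgroup.relIndex_comap, Subgroup.map_comap_eq_self_of_surjective hπ]
    · rwa [Subgroup.relIndex_comap, Subgroup.map_comap_eq_self_of_surjective hπ]
    · rwa [Subgroup.relIndex_comap, Subgroup.map_comap_eq_self_of_surjective hπ]
    · rwa [Subgroup.index_comap_of_surjective _ hπ]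
  choose A B C D hA hB hC hD hAB hBC hCD hDA hAodd hAB2 hBCodd hCD2 hD2 using hloc
  let Φ0 : Subgroup G := ⨅ M : ι, M.1.normalCore
  let A0 : Subgroup G := ⨅ M, A M
  let B0 : Subgroup G := ⨅ M, B M
  let C0 : Subgroup G := ⨅ M, C M
  let D0 : Subgroup G := ⨅ M, D M
  haveI hΦn : Φ0.Normal := Subgroup.normal_iInf_normal fun M => Subgroup.normalCore_normal _
  haveI hA0n : A0.Normal := Subgroup.normal_iInf_normal hA
  haveI hB0n : B0.Normal := Subgroup.normal_iInf_normal hB
  haveI hC0n : C0.Normal := Subgroup.normal_iInf_normal hC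
  haveI hD0n : D0.Normal := Subgroup.normal_iInf_normal hD
  have hDΦ : Φ0 ≤ frattini G := le_iInf₂ fun M hM =>
    (iInf_le (fun M : ι => M.1.normalCore) ⟨M, hM⟩).trans (Subgroup.normalCore_le M)
  have hDA0 : Φ0 ≤ A0 := iInf_mono hDA
  have hp1 : ¬ p ∣ 1 := (Fact.out : p.Prime).not_dvd_one
  have hodd : ¬ p ∣ Φ0.relIndex A0 := relIndex_iInf (P := fun n => ¬ p ∣ n) hp1 ndvd_mul ndvd_dvd _
    (fun M => Subgroup.normalCore_normal _) _ fun M =>
      ndvd_dvd _ _ (relIndex_dvd_of_le_right' _ (iInf_le A M)) (hAodd M)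
  have h2 : ∃ k, A0.relIndex B0 = p ^ k :=
    relIndex_iInf (P := fun n => ∃ k, n = p ^ k) ⟨0, (pow_zero p).symm⟩ pow_mul' pow_dvd' _ hA _ fun M => by
      haveI := hA M
      exact pow_dvd' _ _ (relIndex_dvd_of_le_right' _ (iInf_le B M)) (hAB2 M)
  have h3 : ¬ p ∣ B0.relIndex C0 := relIndex_iInf (P := fun n => ¬ p ∣ n) hp1 ndvd_mul ndvd_dvd _ hB _ fun M => by
      haveI := hB M
      exact ndvd_dvd _ _ (relIndex_dvd_of_le_right' _ (iInf_le C M)) (hBCodd M)
  have h4 : ∃ k, C0.relIndex D0 = p ^ k :=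
    relIndex_iInf (P := fun n => ∃ k, n = p ^ k) ⟨0, (pow_zero p).symm⟩ pow_mul' pow_dvd' _ hC _ fun M => by
      haveI := hC M
      exact pow_dvd' _ _ (relIndex_dvd_of_le_right' _ (iInf_le D M)) (hCD2 M)
  have h5 : ¬ p ∣ D0.index := by
    rw [← Subgroup.relIndex_top_right]
    exact relIndex_iInf (P := fun n => ¬ p ∣ n) hp1 ndvd_mul ndvd_dvd _ hD _
      fun M => by rw [Subgroup.relIndex_top_right]; exact hD2 M
  haveI : Group.IsNilpotent (frattini G) := frattini_nilpotent
  haveI : Group.IsNilpotent (Φ0.subgroupOf (frattini G)) := Subgroup.isNilpotent _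
  haveI : Group.IsNilpotent Φ0 :=
    Group.nilpotent_of_mulEquiv (Subgroup.subgroupOfEquivOfLe hDΦ)
  obtain ⟨S⟩ : Nonempty (Sylow p Φ0) := inferInstance
  haveI hSn : (S : Subgroup Φ0).Normal :=
    ((Group.isNilpotent_of_finite_tfae (G := Φ0)).out 0 3 rfl rfl).1 (inferInstance : Group.IsNilpotent Φ0) p inferInstance S
  haveI : (S : Subgroup Φ0).Characteristic := S.characteristic_of_normal hSn
  let D2 : Subgroup G := (S : Subgroup Φ0).map Φ0.subtype
  haveI hD2n : D2.Normal := inferInstance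
  have hD2A : D2 ≤ A0 := (Subgroup.map_subtype_le _).trans hDA0
  let R : Subgroup A0 := D2.subgroupOf A0
  have hRcard : Nat.card R = Nat.card (S : Subgroup Φ0) := by
    rw [Nat.card_congr (Subgroup.subgroupOfEquivOfLe hD2A).toEquiv, Subgroup.card_subtype]
  obtain ⟨a, ha⟩ := IsPGroup.iff_card.1 S.isPGroup'
  have hRi : ¬ p ∣ R.index := by
    have h1 : D2.relIndex Φ0 * Φ0.relIndex A0 = D2.relIndex A0 :=
      Subgroup.relIndex_mul_relIndex D2 Φ0 A0 (Subgroup.map_subtype_le _) hDA0
    show ¬ p ∣ D2.relIndex A0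
    rw [← h1]
    refine ndvd_mul _ _ ?_ hodd
    rw [Subgroup.relIndex, Subgroup.subgroupOf, Subgroup.comap_map_eq_self_of_injective Φ0.subtype_injective]
    exact S.not_dvd_index
  have hcop : (Nat.card R).Coprime R.index := by
    rw [hRcard, ha]; exact ((Nat.Prime.coprime_iff_not_dvd Fact.out).2 hRi).pow_left a
  obtain ⟨H, hH⟩ := Subgroup.exists_right_complement'_of_coprime hcop
  let A1 : Subgroup G := H.map A0.subtype
  have hHc : Nat.card H = R.index := hH.symm.index_eq_card.symm
  have hA1A : A1 ≤ A0 := Subgroup.map_subtype_le _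
  have hA1n : A1.Normal := by
    rw [← Subgroup.normalizer_eq_top_iff]
    apply frattini_nongenerating
    refine eq_top_iff.2 fun g _ => ?_
    let φ : MulAut A0 := MulAut.conjNormal g
    obtain ⟨x, hx⟩ := CfsgLib.Solv.schur_zassenhaus_conj R H (H.map φ.toMonoidHom) hcop
      (Or.inl (haveI : Group.IsNilpotent R := (IsPGroup.of_card (p := p) (hRcard.trans ha)).isNilpotent; inferInstance)) hHc
      (by rw [← hHc]; exact (Nat.card_congr (H.equivMapOfInjective _ φ.injective).toEquiv).symm)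
    have hxm : A0 ≤ frattini G ⊔ Subgroup.normalizer (A1 : Set G) := by
      intro y hy
      have h1 : (⟨y, hy⟩ : A0) ∈ R ⊔ H := by rw [hH.sup_eq_top]; trivial
      have h5 : (R ⊔ H).map A0.subtype ≤ frattini G ⊔ Subgroup.normalizer (A1 : Set G) := by
        rw [Subgroup.map_sup, Subgroup.subgroupOf_map_subtype]
        exact sup_le_sup ((inf_le_left.trans (Subgroup.map_subtype_le _)).trans hDΦ)
          Subgroup.le_normalizer
      exact h5 ⟨⟨y, hy⟩, h1, rfl⟩
    rw [sup_comm]
    have hn : (x : G)⁻¹ * g ∈ Subgroup.normalizer (A1 : Set G) := by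
      have hmap : A1.map (MulAut.conj ((x : G)⁻¹ * g)).toMonoidHom ≤ A1 := by
        rintro _ ⟨_, ⟨h', hh', rfl⟩, rfl⟩
        have h1 : φ h' ∈ MulAut.conj x • H := by rw [hx]; exact ⟨h', hh', rfl⟩
        rw [Subgroup.mem_pointwise_smul_iff_inv_smul_mem] at h1
        refine ⟨_, h1, ?_⟩
        simp [MulAut.smul_def, φ, mul_assoc]
      have heq := Subgroup.eq_of_le_of_card_ge hmap
        (Nat.card_congr (A1.equivMapOfInjective _ (MulAut.conj ((x : G)⁻¹ * g)).injective).toEquiv).le
      rw [Subgroup.mem_normalizer_iff]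
      intro y
      conv_rhs => rw [← heq]
      exact (Subgroup.mem_map_iff_mem (MulAut.conj ((x : G)⁻¹ * g)).injective).symm
    rw [show g = (x : G) * ((x : G)⁻¹ * g) by group]
    first
      | exact mul_mem (hxm x.2) (Subgroup.mem_sup_right hn)
      | exact mul_mem ((le_of_eq (sup_comm (frattini G) (Subgroup.normalizer (A1 : Set G)))) (hxm x.2)) (Subgroup.mem_sup_left hn)
  refine ⟨A1, B0, C0, D0, hA1n, hB0n, hC0n, hD0n, hA1A.trans (iInf_mono hAB), iInf_mono hBC, iInf_mono hCD, ?_, ?_, h3, h4, h5⟩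
  · rw [Subgroup.card_subtype, hHc]; exact hRi
  · obtain ⟨k, hk⟩ := h2
    refine ⟨a + k, ?_⟩
    rw [← Subgroup.relIndex_mul_relIndex A1 A0 B0 hA1A (iInf_mono hAB), hk, pow_add]
    congr 1
    rw [Subgroup.relIndex, Subgroup.subgroupOf, Subgroup.comap_map_eq_self_of_injective A0.subtype_injective,
      hH.index_eq_card, hRcard, ha]

end Cfsg.Agent.S4379
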