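import Cfsg.Statements.S4381

import Mathlib
import Cfsg.Agent.Solv.CoprimeSylow
import Cfsg.Agent.Solv.FittingBasic
import Cfsg.Agent.Solv.Maschke

set_option autoImplicit false
set_option linter.style.haveILetI false
open Pointwise
open Cfsg

namespace Cfsg.Agent.S4381
open scoped Pointwise commutatorElement

/-- Let the finite group A act by automorphisms on the finite group G with the orders of A and G coprime, and assume that A or G is solvable. Call a proper A-invariant subgroup of G maximal A-invariant when no A-invariant subgroup lies strictly between it and G. Then all maximal A-invariant subgroups of G are conjugate under elements of the fixed-point subgroup C_G(A) if and only if G is a p-group for some prime p and A leaves invariant no subgroup strictly between the Frattini subgroup of G and G. In that case, if G is nontrivial, the Frattini subgroup is the only maximal A-invariant subgroup (a trivial G has none). -/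
theorem result {A G : Type*} [Group A] [Finite A]
    [Group G] [Finite G] [MulDistribMulAction A G] (hcop : (Nat.card A).Coprime (Nat.card G)) (hsol : Group.IsSolvable A ∨ Group.IsSolvable G) :
    ((∀ M N : Subgroup G, (M ≠ ⊤ ∧ (∀ a : A, ∀ x ∈ M, a • x ∈ M) ∧ ∀ L : Subgroup G, M < L → (∀ a : A, ∀ x ∈ L, a • x ∈ L) → L = ⊤) → (N ≠ ⊤ ∧ (∀ a : A, ∀ x ∈ N, a • x ∈ N) ∧ ∀ L : Subgroup G, N < L → (∀ a : A, ∀ x ∈ L, a • x ∈ L) → L = ⊤) →
        ∃ c : G, (∀ a : A, a • c = c) ∧ N = MulAut.conj c • M) ↔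
      ((∃ p : ℕ, p.Prime ∧ IsPGroup p G) ∧ ∀ L : Subgroup G, frattini G < L → (∀ a : A, ∀ x ∈ L, a • x ∈ L) → L = ⊤)) ∧
    (((∃ p : ℕ, p.Prime ∧ IsPGroup p G) ∧ ∀ L : Subgroup G, frattini G < L → (∀ a : A, ∀ x ∈ L, a • x ∈ L) → L = ⊤) →
      ∀ M : Subgroup G, (M ≠ ⊤ ∧ (∀ a : A, ∀ x ∈ M, a • x ∈ M) ∧ ∀ L : Subgroup G, M < L → (∀ a : A, ∀ x ∈ L, a • x ∈ L) → L = ⊤) ↔ (M = frattini G ∧ M ≠ ⊤)) := by
  classical
  let Inv : Subgroup G → Prop := fun M => ∀ a : A, ∀ x ∈ M, a • x ∈ M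
  let Max : Subgroup G → Prop := fun M => M ≠ ⊤ ∧ Inv M ∧ ∀ L : Subgroup G, M < L → Inv L → L = ⊤
  have hΦinv : Inv (frattini G) := by
    intro a x hx
    have h := Subgroup.characteristic_iff_map_eq.mp (frattini_characteristic (G := G)) (MulDistribMulAction.toMulAut A G a)
    exact h.le ⟨x, hx, rfl⟩
  have hexMax : ∀ M : Subgroup G, M ≠ ⊤ → Inv M → ∃ L, M ≤ L ∧ Max L := by
    intro M hM hMi
    obtain ⟨L, hL⟩ := (Set.toFinite {L : Subgroup G | M ≤ L ∧ L ≠ ⊤ ∧ Inv L}).exists_maximal ⟨M, le_rfl, hM, hMi⟩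
    refine ⟨L, hL.1.1, hL.1.2.1, hL.1.2.2, fun K hLK hKi => ?_⟩
    by_contra hK
    exact hLK.not_ge (hL.2 ⟨hL.1.1.trans hLK.le, hK, hKi⟩ hLK.le)
  have hif : ((∃ p : ℕ, p.Prime ∧ IsPGroup p G) ∧ ∀ L : Subgroup G, frattini G < L → Inv L → L = ⊤) →
      ∀ M : Subgroup G, Max M ↔ (M = frattini G ∧ M ≠ ⊤) := by
    rintro ⟨-, hirr⟩ M
    refine ⟨fun hM => ⟨?_, hM.1⟩, ?_⟩
    · by_cases hΦM : frattini G ≤ M
      · rcases hΦM.lt_or_eq with h | h
        · exact absurd (hirr M h hM.2.1) hM.1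
        · exact h.symm
      exfalso
      have hsi : Inv (M ⊔ frattini G) := by
        intro a x hx
        have h1 : (M ⊔ frattini G).map (MulDistribMulAction.toMulAut A G a).toMonoidHom ≤ M ⊔ frattini G := by
          rw [Subgroup.map_sup]
          refine sup_le ?_ ?_
          · rintro _ ⟨y, hy, rfl⟩; exact Subgroup.mem_sup_left (hM.2.1 a y hy)
          · rintro _ ⟨y, hy, rfl⟩; exact Subgroup.mem_sup_right (hΦinv a y hy)
        exact h1 ⟨x, hx, rfl⟩
      exact hM.1 (frattini_nongenerating (hM.2.2 _ (lt_of_le_of_ne le_sup_left fun e => hΦM (e ▸ le_sup_right)) hsi))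
    · rintro ⟨rfl, hne⟩
      exact ⟨hne, hΦinv, hirr⟩
  refine ⟨⟨fun hconj => ?_, fun h M N hM hN => ?_⟩, hif⟩
  swap
  · refine ⟨1, fun a => smul_one a, ?_⟩
    rw [map_one, one_smul, ((hif h M).mp hM).1, ((hif h N).mp hN).1]
  -- all maximal invariant subgroups are conjugate
  rcases subsingleton_or_nontrivial G with hsub | hnt
  · exact ⟨⟨2, Nat.prime_two, fun x => ⟨0, Subsingleton.elim _ _⟩⟩, fun L _ _ => Subsingleton.elim _ _⟩
  set φ : A →* MulAut G := MulDistribMulAction.toMulAut A G with hφ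
  have hact : ∀ (a : A) (x : G), (SemidirectProduct.inr a * SemidirectProduct.inl x * (SemidirectProduct.inr a)⁻¹ : G ⋊[φ] A) =
      SemidirectProduct.inl (a • x) := fun a x => by
    rw [← map_inv, ← SemidirectProduct.inl_aut]; rfl
  haveI : Finite (G ⋊[φ] A) := Finite.of_equiv _ SemidirectProduct.equivProd.symm
  set iG := (SemidirectProduct.inl : G →* G ⋊[φ] A)
  set iA := (SemidirectProduct.inr : A →* G ⋊[φ] A)
  have hiG : Function.Injective iG := SemidirectProduct.inl_injective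
  haveI hGn : iG.range.Normal := by
    rw [show iG.range = (SemidirectProduct.rightHom : G ⋊[φ] A →* A).ker from SemidirectProduct.range_inl_eq_ker_rightHom]
    infer_instance
  have hcA : Nat.card iA.range = Nat.card A :=
    (Nat.card_congr (MonoidHom.ofInjective SemidirectProduct.inr_injective).toEquiv).symm
  have hcG : Nat.card iG.range = Nat.card G := (Nat.card_congr (MonoidHom.ofInjective hiG).toEquiv).symm
  have hnorm : iA.range ≤ Subgroup.normalizer (iG.range : Set (G ⋊[φ] A)) := by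
    rw [Subgroup.normalizer_eq_top_iff.mpr hGn]; exact le_top
  have hinvN : ∀ M : Subgroup G, Inv M → iA.range ≤ Subgroup.normalizer ((M.map iG : Subgroup (G ⋊[φ] A)) : Set (G ⋊[φ] A)) := by
    rintro M hM _ ⟨a, rfl⟩
    refine Subgroup.mem_normalizer_fintype ?_
    rintro _ ⟨x, hx, rfl⟩
    exact ⟨a • x, hM a x hx, (hact a x).symm⟩
  have hconjcard : ∀ M N : Subgroup G, Max M → Max N → Nat.card M = Nat.card N := by
    intro M N hM hN
    obtain ⟨c, -, rfl⟩ := hconj M N hM hN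
    exact (CfsgLib.Solv.card_conj_smul c M).symm
  -- a `p`-group
  have hpg : ∃ p : ℕ, p.Prime ∧ IsPGroup p G := by
    by_contra hno
    push Not at hno
    obtain ⟨M, -, hM⟩ := hexMax ⊥ bot_ne_top (fun a x hx => by
      rw [Subgroup.mem_bot.mp hx, smul_one]; exact Subgroup.one_mem _)
    refine hM.1 (Subgroup.eq_top_of_card_eq M (Nat.dvd_antisymm M.card_subgroup_dvd_card ?_))
    rw [Nat.dvd_iff_prime_pow_dvd_dvd]
    intro q k hq hk
    rcases Nat.eq_zero_or_pos k with rfl | hk0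
    · simp
    haveI := Fact.mk hq
    obtain ⟨P, hP⟩ := CfsgLib.Solv.exists_invariant_sylow (p := q) hnorm (by rw [hcA, hcG]; exact hcop) (by
      rcases hsol with h | h
      · haveI := h
        exact Or.inl (Group.isSolvable_of_surjective (f := iA.rangeRestrict) iA.rangeRestrict_surjective)
      · haveI := h
        exact Or.inr (Group.isSolvable_of_surjective (f := iG.rangeRestrict) iG.rangeRestrict_surjective))
    set P₀ : Subgroup G := ((P : Subgroup iG.range).map iG.range.subtype).comap iG with hP₀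
    have hP₀m : P₀.map iG = (P : Subgroup iG.range).map iG.range.subtype :=
      Subgroup.map_comap_eq_self (Subgroup.map_subtype_le _)
    have hP₀i : Inv P₀ := by
      intro a x hx
      rw [hP₀, Subgroup.mem_comap, ← hact]
      exact (Subgroup.mem_normalizer_iff.mp (hP ⟨a, rfl⟩) _).mp hx
    have hP₀c : Nat.card P₀ = Nat.card (P : Subgroup iG.range) := by
      rw [Nat.card_congr (P₀.equivMapOfInjective iG hiG).toEquiv, hP₀m,
        ← Nat.card_congr ((P : Subgroup iG.range).equivMapOfInjective _ (Subgroup.subtype_injective _)).toEquiv]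
    have hP₀p : IsPGroup q P₀ := by
      obtain ⟨j, hj⟩ := IsPGroup.iff_card.mp P.2
      exact IsPGroup.of_card (hP₀c.trans hj)
    have hne : P₀ ≠ ⊤ := fun e => hno q hq fun g => by
      obtain ⟨i, hi⟩ := hP₀p ⟨g, e ▸ Subgroup.mem_top g⟩
      exact ⟨i, by simpa using congrArg Subtype.val hi⟩
    obtain ⟨N, hPN, hN⟩ := hexMax P₀ hne hP₀i
    rw [hconjcard M N hM hN]
    refine dvd_trans ?_ (Subgroup.card_dvd_of_le hPN)
    rw [hP₀c]
    exact P.pow_dvd_card_of_pow_dvd_card (hcG.symm ▸ hk)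
  refine ⟨hpg, ?_⟩
  obtain ⟨p, hp, hG⟩ := hpg
  haveI := Fact.mk hp
  haveI := hG.isNilpotent
  intro L hΦL hLi
  by_contra hL
  -- the maximal invariant subgroup is unique
  obtain ⟨M, hLM, hM⟩ := hexMax L hL hLi
  have hΦM : frattini G ≤ M := hΦL.le.trans hLM
  haveI hMn : M.Normal := ⟨fun m hm g => by
    rw [show g * m * g⁻¹ = ⁅g, m⁆ * m by rw [commutatorElement_def]; group]
    exact M.mul_mem (hΦM (CfsgLib.Solv.commutator_le_frattini hG
      (Subgroup.commutator_mem_commutator (Subgroup.mem_top g) (Subgroup.mem_top m)))) hm⟩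
  have huniq : ∀ N, Max N → N = M := by
    intro N hN
    obtain ⟨c, -, rfl⟩ := hconj M N hM hN
    refine Subgroup.eq_of_le_of_card_ge ?_ (CfsgLib.Solv.card_conj_smul c M).ge
    intro y hy
    rw [Subgroup.mem_pointwise_smul_iff_inv_smul_mem] at hy
    have := hMn.conj_mem _ hy c
    simpa [MulAut.smul_def, mul_assoc] using this
  -- Maschke modulo the Frattini subgroup
  set F := (frattini G).map iG with hF
  haveI hFn : F.Normal := by
    refine Subgroup.normalizer_eq_top_iff.mp (eq_top_iff.mpr fun y _ => ?_)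
    rw [← SemidirectProduct.inl_left_mul_inr_right y]
    refine Subgroup.mul_mem _ ?_ (hinvN _ hΦinv ⟨_, rfl⟩)
    refine Subgroup.mem_normalizer_fintype ?_
    rintro _ ⟨x, hx, rfl⟩
    exact ⟨y.left * x * y.left⁻¹, (inferInstance : (frattini G).Normal).conj_mem x hx _, by
      rw [map_mul, map_mul, map_inv]⟩
  set π := QuotientGroup.mk' F with hπ
  set V := iG.range.map π with hV
  set A' := iA.range.map π with hA'
  set U := (M.map iG).map π with hU
  have hker : ∀ x : G, π (iG x) = 1 ↔ x ∈ frattini G := fun x => by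
    rw [hπ, QuotientGroup.mk'_apply, QuotientGroup.eq_one_iff, hF, Subgroup.mem_map_iff_mem hiG]
  have hVexp : ∀ v ∈ V, v ^ p = 1 := by
    rintro _ ⟨_, ⟨x, rfl⟩, rfl⟩
    rw [← map_pow, ← map_pow, hker]
    exact CfsgLib.Solv.pow_mem_frattini hG x
  have hVab : IsMulCommutative V := ⟨⟨fun a b => by
    obtain ⟨_, ⟨x, rfl⟩, hae⟩ := a.2
    obtain ⟨_, ⟨y, rfl⟩, hbe⟩ := b.2
    refine Subtype.ext ?_
    show (a : (G ⋊[φ] A) ⧸ F) * b = b * a
    rw [← hae, ← hbe, ← commutatorElement_eq_one_iff_mul_comm, ← map_commutatorElement, ← map_commutatorElement, hker]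
    exact CfsgLib.Solv.commutator_le_frattini hG (Subgroup.commutator_mem_commutator (Subgroup.mem_top x) (Subgroup.mem_top y))⟩⟩
  have hUV : U ≤ V := Subgroup.map_mono (Subgroup.map_le_range iG M)
  obtain ⟨W, hW⟩ := (Set.toFinite {W : Subgroup ((G ⋊[φ] A) ⧸ F) | W ≤ V ∧ U ⊓ W = ⊥}).exists_maximal ⟨⊥, bot_le, inf_bot_eq U⟩
  obtain ⟨hWV, hUW⟩ := hW.1
  have hUWV : U ⊔ W = V := by
    refine le_antisymm (sup_le hUV hWV) fun v hv => ?_
    by_contra hvn
    have hlt : W < W ⊔ Subgroup.zpowers v := lt_of_le_of_ne le_sup_left fun e =>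
      hvn (Subgroup.mem_sup_right (e ▸ Subgroup.mem_sup_right (Subgroup.mem_zpowers v)))
    refine hlt.not_ge (hW.2 ⟨sup_le hWV (Subgroup.zpowers_le.mpr hv), ?_⟩ hlt.le)
    rw [Subgroup.eq_bot_iff_forall]
    rintro z ⟨hzU, hz⟩
    have hn : Subgroup.zpowers v ≤ Subgroup.normalizer (W : Set ((G ⋊[φ] A) ⧸ F)) := by
      refine Subgroup.zpowers_le.mpr (Subgroup.centralizer_le_normalizer _ ?_)
      rw [Subgroup.mem_centralizer_iff]
      exact fun w hw => congrArg Subtype.val (hVab.is_comm.comm ⟨w, hWV hw⟩ ⟨v, hv⟩)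
    replace hz : z ∈ ((W ⊔ Subgroup.zpowers v : Subgroup ((G ⋊[φ] A) ⧸ F)) : Set ((G ⋊[φ] A) ⧸ F)) := hz
    rw [Subgroup.coe_mul_of_right_le_normalizer_left W _ hn] at hz
    obtain ⟨w, hw, t, ht, rfl⟩ := hz
    obtain ⟨i, rfl⟩ := Subgroup.mem_zpowers_iff.mp ht
    by_cases hpi : (p : ℤ) ∣ i
    · obtain ⟨j, rfl⟩ := hpi
      have h1 : v ^ ((p : ℤ) * j) = 1 := by rw [zpow_mul, zpow_natCast, hVexp v hv, one_zpow]
      simp only [h1, mul_one] at hzU ⊢
      exact Subgroup.mem_bot.mp (hUW ▸ ⟨hzU, hw⟩)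
    · exfalso
      apply hvn
      have h1 : v ^ i ∈ U ⊔ W := by
        have := (U ⊔ W).mul_mem ((U ⊔ W).inv_mem (Subgroup.mem_sup_right hw)) (Subgroup.mem_sup_left hzU)
        simpa using this
      obtain ⟨s, t, hst⟩ : ∃ s t : ℤ, s * i + t * (p : ℤ) = 1 := by
        have hco : IsCoprime i (p : ℤ) :=
          ((Nat.prime_iff_prime_int.mp hp).coprime_iff_not_dvd.mpr hpi).symm
        exact hco
      have : v = (v ^ i) ^ s := by
        conv_lhs => rw [← zpow_one v, ← hst, zpow_add, zpow_mul', zpow_mul' v t, zpow_natCast, hVexp v hv, one_zpow, mul_one]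
      rw [this]
      exact Subgroup.zpow_mem _ h1 s
  obtain ⟨W', hW'V, hAW', hUW', hUW'V⟩ := CfsgLib.Solv.exists_invariant_complement V A' U hVab
    ((Subgroup.map_mono hnorm).trans (Subgroup.le_normalizer_map π))
    (Nat.Coprime.coprime_dvd_left (Subgroup.card_map_dvd _ _) (Nat.Coprime.coprime_dvd_right (Subgroup.card_map_dvd _ _)
      (by rw [hcA, hcG]; exact hcop)))
    hUV ((Subgroup.map_mono (hinvN M hM.2.1)).trans (Subgroup.le_normalizer_map π)) W hWV hUW hUWV
  set L' := (W'.comap π).comap iG with hL'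
  have hL'i : Inv L' := by
    intro a x hx
    rw [hL', Subgroup.mem_comap, Subgroup.mem_comap, ← hact, map_mul, map_mul, map_inv]
    exact (Subgroup.mem_normalizer_iff.mp (hAW' ⟨_, ⟨a, rfl⟩, rfl⟩) _).mp hx
  have hL'ne : L' ≠ ⊤ := by
    intro e
    -- then `U` is trivial
    have hLU : ∀ x ∈ M, π (iG x) ∈ U ⊓ W' := fun x hx =>
      ⟨⟨_, ⟨x, hx, rfl⟩, rfl⟩, (e ▸ Subgroup.mem_top x : x ∈ L')⟩
    refine hΦL.not_ge fun x hx => ?_
    have := hLU x (hLM hx)
    rw [hUW', Subgroup.mem_bot, hker] at this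
    exact this
  obtain ⟨N, hLN, hN⟩ := hexMax L' hL'ne hL'i
  rw [huniq N hN] at hLN
  apply hM.1
  rw [eq_top_iff]
  intro x _
  have hxV : π (iG x) ∈ V := ⟨_, ⟨x, rfl⟩, rfl⟩
  haveI hUn : (U.subgroupOf V).Normal := ⟨fun w hw v => by
    rw [show v * w * v⁻¹ = w by rw [hVab.is_comm.comm v w, mul_inv_cancel_right]]; exact hw⟩
  rw [← hUW'V] at hxV
  have hn : W' ≤ Subgroup.normalizer (U : Set ((G ⋊[φ] A) ⧸ F)) := fun w hw => by
    refine Subgroup.centralizer_le_normalizer _ ?_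
    rw [Subgroup.mem_centralizer_iff]
    exact fun u hu => congrArg Subtype.val (hVab.is_comm.comm ⟨u, hUV hu⟩ ⟨w, hW'V hw⟩)
  rw [← SetLike.mem_coe, Subgroup.coe_mul_of_right_le_normalizer_left U W' hn] at hxV
  obtain ⟨u, ⟨_, ⟨m, hm, rfl⟩, rfl⟩, w, hw, huw⟩ := hxV
  simp only at huw
  have hmem : m⁻¹ * x ∈ L' := by
    rw [hL', Subgroup.mem_comap, Subgroup.mem_comap, map_mul, map_mul, map_inv, map_inv, ← huw, inv_mul_cancel_left]
    exact hw
  simpa using M.mul_mem hm (hLN hmem)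

end Cfsg.Agent.S4381
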