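import Cfsg.Statements.S4387

import Cfsg.Agent.Perm.Basic

set_option autoImplicit false
set_option linter.style.haveILetI false
open Pointwise
open Cfsg

namespace Cfsg.Agent.S4387

/-- Let G be a non-trivial finite group in which any two maximal subgroups are conjugate. Then G is cyclic of prime-power order. -/
theorem result {G : Type*} [Group G] [Finite G] [Nontrivial G]
    (h : ∀ M N : Subgroup G, IsCoatom M → IsCoatom N → ∃ g : G, N = MulAut.conj g • M) :
    IsCyclic G ∧ IsPrimePow (Nat.card G) := by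
  classical
  have hcyc : IsCyclic G := by
    by_contra hnc
    obtain ⟨M, hM, -⟩ := (eq_top_or_exists_le_coatom (⊥ : Subgroup G)).resolve_left bot_ne_top
    obtain ⟨x, hx⟩ := CfsgLib.Perm.exists_forall_not_mem_conj hM.1
    have hz : Subgroup.zpowers x ≠ ⊤ := fun e => hnc ⟨⟨x, fun y => Subgroup.mem_zpowers_iff.1 (e ▸ Subgroup.mem_top y)⟩⟩
    obtain ⟨N, hN, hxN⟩ := (eq_top_or_exists_le_coatom (Subgroup.zpowers x)).resolve_left hz
    obtain ⟨g, rfl⟩ := h M N hM hN
    have := hxN (Subgroup.mem_zpowers x)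
    rw [Subgroup.mem_pointwise_smul_iff_inv_smul_mem] at this
    exact hx g (by simpa [MulAut.smul_def] using this)
  refine ⟨hcyc, ?_⟩
  letI := IsCyclic.commGroup (α := G)
  have huniq : ∀ M N : Subgroup G, IsCoatom M → IsCoatom N → N = M := by
    intro M N hM hN
    obtain ⟨g, rfl⟩ := h M N hM hN
    exact Subgroup.Normal.conjAct inferInstance (ConjAct.toConjAct g)
  have hex : ∀ p : ℕ, p.Prime → p ∣ Nat.card G → ∃ M : Subgroup G, IsCoatom M ∧ p ∣ M.index := by
    intro p hp hd
    haveI := Fact.mk hp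
    obtain ⟨y, hy⟩ := exists_prime_orderOf_dvd_card' p hd
    let f : G →* G := powMonoidHom p
    have hne : f.range ≠ ⊤ := by
      intro e
      have hinj : Function.Injective f := by
        rw [Finite.injective_iff_surjective]
        exact MonoidHom.range_eq_top.1 e
      have h1 : f y = f 1 := by simp [f, ← hy, pow_orderOf_eq_one]
      have h2 := hinj h1
      rw [h2, orderOf_one] at hy
      exact hp.one_lt.ne hy
    obtain ⟨M, hM, hle⟩ := (eq_top_or_exists_le_coatom f.range).resolve_left hne
    refine ⟨M, hM, ?_⟩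
    haveI : Nontrivial (G ⧸ M) := QuotientGroup.nontrivial_iff.2 hM.1
    have hexp : IsPGroup p (G ⧸ M) := by
      intro q
      obtain ⟨z, rfl⟩ := QuotientGroup.mk_surjective q
      refine ⟨1, ?_⟩
      rw [← QuotientGroup.mk_pow, QuotientGroup.eq_one_iff, pow_one]
      exact hle ⟨z, rfl⟩
    obtain ⟨k, e⟩ := IsPGroup.iff_card.1 hexp
    rw [Subgroup.index, e]
    refine dvd_pow_self p ?_
    rintro rfl
    rw [pow_zero] at e
    exact Finite.one_lt_card.ne' e
  have hone : ∀ p q : ℕ, p.Prime → q.Prime → p ∣ Nat.card G → q ∣ Nat.card G → p = q := by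
    intro p q hp hq hpd hqd
    obtain ⟨M, hM, hMp⟩ := hex p hp hpd
    obtain ⟨N, hN, hNq⟩ := hex q hq hqd
    have hi : M.index.Prime := by
      haveI : IsSimpleGroup (G ⧸ M) := by
        haveI : Nontrivial (G ⧸ M) := QuotientGroup.nontrivial_iff.2 hM.1
        refine ⟨fun K _ => ?_⟩
        rcases hM.le_iff.1 (show M ≤ K.comap (QuotientGroup.mk' M) from fun z hz => by
          simp [Subgroup.mem_comap, (QuotientGroup.eq_one_iff z).2 hz, one_mem]) with e | e
        · right
          rw [← Subgroup.map_comap_eq_self_of_surjective (QuotientGroup.mk'_surjective M) K, e,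
            Subgroup.map_top_of_surjective _ (QuotientGroup.mk'_surjective M)]
        · left
          rw [← Subgroup.map_comap_eq_self_of_surjective (QuotientGroup.mk'_surjective M) K, e,
            QuotientGroup.map_mk'_self]
      exact IsSimpleGroup.prime_card
    rw [huniq M N hM hN] at hNq
    exact ((Nat.prime_dvd_prime_iff_eq hp hi).1 hMp).trans ((Nat.prime_dvd_prime_iff_eq hq hi).1 hNq).symm
  have h1 : 1 < Nat.card G := Finite.one_lt_card
  obtain ⟨p, hp, hpd⟩ := Nat.exists_prime_and_dvd h1.ne'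
  refine isPrimePow_iff_unique_prime_dvd.2 ⟨p, ⟨hp, hpd⟩, fun q hq => hone q p hq.1 hp hq.2 hpd⟩

end Cfsg.Agent.S4387
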