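import Cfsg.Statements.S4399

import Cfsg.Agent.Solv.MaximalClass
import Cfsg.Agent.Fus.MetacyclicTwoGroup
import Cfsg.Agent.Inv.QuasiDihedral

set_option autoImplicit false
set_option linter.style.haveILetI false
open Cfsg

namespace Cfsg.Agent.S4399

/-- Let S be a finite 2-group whose commutator quotient S/[S,S] is a Klein four-group (order 4 and exponent 2). Then S itself has order 4, or S is dihedral of order at least 8, semidihedral of order at least 16 (order 2^(k+4) with an element a of order 2^(k+3) and an involution b with b a b⁻¹ = a^(2^(k+2)−1)), or generalized quaternion of order at least 8. -/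
theorem result {S : Type*} [Group S] [Finite S] (h2 : IsPGroup 2 S) (hab : Nat.card (Abelianization S) = 4)
    (hexp : ∀ x : Abelianization S, x ^ 2 = 1) :
    Nat.card S = 4 ∨
    ((∃ k : ℕ, Nonempty (S ≃* DihedralGroup (2 ^ (k + 2)))) ∨
      (∃ k : ℕ, Nat.card S = 2 ^ (k + 4) ∧ ∃ a b : S, orderOf a = 2 ^ (k + 3) ∧ orderOf b = 2 ∧ b * a * b⁻¹ = a ^ (2 ^ (k + 2) - 1)) ∨
      (∃ k : ℕ, Nonempty (S ≃* QuaternionGroup (2 ^ (k + 1))))) := by
  classical
  haveI : Fact (Nat.Prime 2) := ⟨Nat.prime_two⟩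
  obtain ⟨n, hn⟩ := IsPGroup.iff_card.1 h2
  have hd := Subgroup.card_eq_card_quotient_mul_card_subgroup (commutator S)
  rw [show Nat.card (S ⧸ commutator S) = 4 from hab, hn] at hd
  have hn2 : 2 ≤ n := by
    by_contra hlt
    have h1 := Nat.pow_le_pow_right (two_pos : 0 < 2) (show n ≤ 1 by omega)
    have h3 : 0 < Nat.card (commutator S) := Nat.card_pos
    omega
  rcases Nat.eq_or_lt_of_le hn2 with rfl | hn3
  · left; rw [hn]; norm_num
  right
  have hd' : Nat.card (commutator S) = 2 ^ (n - 2) := by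
    have h4 : 2 ^ n = 4 * 2 ^ (n - 2) := by
      rw [show (4 : ℕ) = 2 ^ 2 from rfl, ← pow_add]; congr 1; omega
    omega
  obtain ⟨a, b, e, f, ha, hb, hi, hab', hb2, he⟩ := CfsgLib.Solv.MaxClass.shape (by omega) hn hd'
  have hnormal : (Subgroup.zpowers a).Normal := Subgroup.normal_of_index_eq_two hi
  have hcyc : IsCyclic (S ⧸ Subgroup.zpowers a) := isCyclic_of_prime_card (p := 2) hi
  obtain ⟨j, rfl⟩ : ∃ j, n = j + 3 := ⟨n - 3, by omega⟩
  have h4 : 4 ∣ orderOf a := by
    rw [ha, show (4 : ℕ) = 2 ^ 2 from rfl]; exact pow_dvd_pow 2 (by omega)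
  have ht : Odd (1 - e * 2 ^ j : ℤ) := by
    rcases he with rfl | hn4
    · simp
    · obtain ⟨i, rfl⟩ : ∃ i, j = i + 1 := ⟨j - 1, by omega⟩
      exact ⟨-(e * 2 ^ i), by ring⟩
  have hcardS : Nat.card S = 2 ^ (j + 3) := hn
  rcases CfsgLib.Fus.MetaTwo.shape_of_pattern h2 hnormal hcyc h4 hab' ht
      (by rw [show j + 3 - 2 = j + 1 by omega]; ring) (by rw [← sq, hb2]; exact Subgroup.zpow_mem_zpowers a _) with
    ⟨k, ⟨E⟩⟩ | ⟨k, ⟨E⟩⟩ | hqd
  · left
    have hk : k = 2 ^ (j + 2) := by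
      have h := Nat.card_congr E.toEquiv
      rw [DihedralGroup.nat_card, hcardS, pow_succ] at h
      omega
    exact ⟨j, ⟨hk ▸ E⟩⟩
  · right; right
    have hk : k = 2 ^ (j + 1) := by
      haveI : NeZero k := ⟨fun h0 => by
        subst h0
        have h := (Nat.card_congr E.toEquiv).symm
        rw [hcardS] at h
        haveI : Finite (QuaternionGroup 0) := Finite.of_equiv S E.toEquiv
        haveI : Finite (ZMod 0) := Finite.of_injective (fun i : ZMod (2 * 0) => QuaternionGroup.a (n := 0) i) fun _ _ hh => QuaternionGroup.a.inj hh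
        exact not_finite (ZMod 0)⟩
      have h := Nat.card_congr E.toEquiv
      rw [Nat.card_eq_fintype_card (α := QuaternionGroup k), QuaternionGroup.card, hcardS, show j + 3 = j + 1 + 2 by omega, pow_add] at h
      omega
    exact ⟨j, ⟨hk ▸ E⟩⟩
  · right; left
    obtain ⟨d, ⟨D⟩⟩ := CfsgLib.Inv.QDData.of_qd hqd
    refine ⟨d, D.card_eq, D.x, D.y, D.order_x, D.order_y, ?_⟩
    rw [D.rel, ← zpow_natCast, Nat.cast_sub Nat.one_le_two_pow]
    push_cast
    rfl

end Cfsg.Agent.S4399
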