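import Cfsg.Statements.S4398

import Cfsg.Agent.Perm.SectionalTwo
import Cfsg.Agent.S4399

set_option autoImplicit false
set_option linter.style.haveILetI false
open Cfsg

namespace Cfsg.Agent.S4398

/-- Let S be a finite 2-group of sectional 2-rank at most 2 that contains a subgroup isomorphic to the dihedral group of order 8 or to the quaternion group of order 8. Then S is dihedral of order at least 8, semidihedral of order at least 16 (order 2^(k+4) with an element a of order 2^(k+3) and an involution b with b a b⁻¹ = a^(2^(k+2)−1)), or generalized quaternion of order at least 8. -/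
theorem result {S : Type*} [Group S] [Finite S] (h2 : IsPGroup 2 S) (hr : Cfsg.SectionalPRankLE 2 2 S)
    (hsub : ∃ H : Subgroup S, Nonempty (↥H ≃* DihedralGroup 4) ∨ Nonempty (↥H ≃* QuaternionGroup 2)) :
    ((∃ k : ℕ, Nonempty (S ≃* DihedralGroup (2 ^ (k + 2)))) ∨
      (∃ k : ℕ, Nat.card S = 2 ^ (k + 4) ∧ ∃ a b : S, orderOf a = 2 ^ (k + 3) ∧ orderOf b = 2 ∧ b * a * b⁻¹ = a ^ (2 ^ (k + 2) - 1)) ∨
      (∃ k : ℕ, Nonempty (S ≃* QuaternionGroup (2 ^ (k + 1))))) := by
  classical
  haveI : Fact (Nat.Prime 2) := ⟨Nat.prime_two⟩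
  obtain ⟨H, hH⟩ := hsub
  obtain ⟨hH8, hna⟩ : Nat.card H = 2 ^ 3 ∧ ¬ IsMulCommutative H := by
    rcases hH with ⟨⟨e⟩⟩ | ⟨⟨e⟩⟩
    · refine ⟨?_, fun h => ?_⟩
      · rw [Nat.card_congr e.toEquiv, DihedralGroup.nat_card]; norm_num
      · have := congrArg e (h.1.1 (e.symm (DihedralGroup.r 1)) (e.symm (DihedralGroup.sr 0)))
        simp only [map_mul, MulEquiv.apply_symm_apply] at this
        revert this; decide
    · refine ⟨?_, fun h => ?_⟩
      · rw [Nat.card_congr e.toEquiv, Nat.card_eq_fintype_card, QuaternionGroup.card]; norm_num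
      · have := congrArg e (h.1.1 (e.symm (QuaternionGroup.a 1)) (e.symm (QuaternionGroup.xa 0)))
        simp only [map_mul, MulEquiv.apply_symm_apply] at this
        revert this; decide
  obtain ⟨n, hn⟩ := IsPGroup.iff_card.1 h2
  obtain ⟨hn3, hd⟩ := CfsgLib.Perm.SecTwo.card_commutator n S hr hn H hH8 hna
  have hab : Nat.card (Abelianization S) = 4 := by
    have h := Subgroup.card_eq_card_quotient_mul_card_subgroup (commutator S)
    rw [hn, hd, show 2 ^ n = 4 * 2 ^ (n - 2) by
      rw [show (4 : ℕ) = 2 ^ 2 from rfl, ← pow_add]; congr 1; omega] at h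
    exact (Nat.eq_of_mul_eq_mul_right (pow_pos two_pos _) h).symm
  have hexp : ∀ x : Abelianization S, x ^ 2 = 1 := fun x => by
    obtain ⟨i, hi, ho⟩ := (Nat.dvd_prime_pow Nat.prime_two).1
      (show orderOf x ∣ 2 ^ 2 from (show Nat.card (Abelianization S) = 2 ^ 2 from hab) ▸ orderOf_dvd_natCard x)
    have hi2 : i ≤ 1 := by
      by_contra h
      haveI : IsCyclic (S ⧸ commutator S) :=
        isCyclic_of_orderOf_eq_card (α := Abelianization S) x (by rw [hab, ho, show i = 2 by omega]; norm_num)
      haveI := CfsgLib.Solv.MaxClass.isCyclic_of_quotient h2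
      haveI := isCyclic_of_injective H.subtype H.subtype_injective
      letI := IsCyclic.commGroup (α := H)
      exact hna ⟨⟨fun a b => mul_comm a b⟩⟩
    rw [← orderOf_dvd_iff_pow_eq_one, ho]
    exact (pow_dvd_pow 2 hi2).trans (by norm_num)
  rcases Cfsg.Agent.S4399.result h2 hab hexp with h4 | h
  · have h := Subgroup.card_subgroup_dvd_card H
    rw [hH8, h4] at h
    norm_num at h
  · exact h

end Cfsg.Agent.S4398
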