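import Cfsg.Statements.S4405

import Cfsg.Agent.Spor.Fischer.ExtraPairing
import Cfsg.Agent.Solv.Basic
import Cfsg.Agent.Perm.Basic
import Cfsg.Agent.Solv.FittingBasic

set_option autoImplicit false
set_option linter.style.haveILetI false
open Cfsg

namespace Cfsg.Agent.S4405

/-- Let G be a finite group of order 320 = 64·5 whose largest normal 2-subgroup H = O₂(G) equals the Fitting subgroup F(G) and is extraspecial of order 32 containing no elementary abelian subgroup of order 8 (so H is the central product of a quaternion group and a dihedral group of order 8). If T is an involution of G outside H whose centralizer in H contains an elementary abelian subgroup of order 4, then C_H(T) itself is elementary abelian of order 4. -/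
theorem result {G : Type*} [Group G] [Finite G]
    (hG : Nat.card G = 320) (hHF : Cfsg.pCore 2 G = Cfsg.fittingSubgroup G)
    (hex : Cfsg.IsExtraspecial 2 ↥(Cfsg.pCore 2 G)) (h32 : Nat.card ↥(Cfsg.pCore 2 G) = 32)
    (hminus : ∀ A : Subgroup G, A ≤ Cfsg.pCore 2 G → Cfsg.IsElementaryAbelian 2 A → Nat.card ↥A ≤ 4)
    (T : G) (hT : orderOf T = 2) (hTH : T ∉ Cfsg.pCore 2 G)
    (V : Subgroup G) (hV : V ≤ Cfsg.pCore 2 G ⊓ Subgroup.centralizer ({T} : Set G)) (hV4 : Nat.card ↥V = 4) (hVe : Cfsg.IsElementaryAbelian 2 V) :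
    Nat.card ↥(Cfsg.pCore 2 G ⊓ Subgroup.centralizer ({T} : Set G)) = 4 ∧
      Cfsg.IsElementaryAbelian 2 (Cfsg.pCore 2 G ⊓ Subgroup.centralizer ({T} : Set G)) := by
  classical
  haveI : Fact (Nat.Prime 2) := ⟨Nat.prime_two⟩
  haveI : Fact (Nat.Prime 5) := ⟨by norm_num⟩
  haveI hHn : (Cfsg.pCore 2 G).Normal := Cfsg.pCore_normal 2 G
  set H := Cfsg.pCore 2 G with hHdef
  set Z := Subgroup.center H
  have hindex : H.index = 10 := by
    have h := H.card_mul_index
    rw [h32, hG] at h
    omega
  -- elements of order five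
  have hg5 : ∀ g : G, orderOf g = 5 → g ∉ H := fun g hg hgH => by
    have h := Subgroup.orderOf_coe (⟨g, hgH⟩ : H)
    have h5 := orderOf_dvd_natCard (⟨g, hgH⟩ : H)
    rw [← h, h32] at h5
    rw [show ((⟨g, hgH⟩ : H) : G) = g from rfl, hg] at h5
    norm_num at h5
  -- the kernel of the action on `H` is inside `H`
  set C := Subgroup.centralizer (H : Set G)
  haveI hCn : C.Normal := inferInstance
  have hCH : C ≤ H := by
    by_contra hne
    by_cases h5 : 5 ∣ Nat.card C
    · obtain ⟨⟨g, hgC⟩, hgo⟩ := exists_prime_orderOf_dvd_card' 5 h5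
      rw [← Subgroup.orderOf_coe] at hgo
      change orderOf g = 5 at hgo
      set N := H ⊔ Subgroup.zpowers g
      have hNi : N.index = 2 := by
        have h1 : H.relIndex N ∣ 10 := hindex ▸ ⟨N.index, (Subgroup.relIndex_mul_index le_sup_left).symm⟩
        have h2 := Subgroup.relIndex_mul_index (H := H) (K := N) le_sup_left
        rw [hindex] at h2
        have h3 : 5 ∣ Nat.card N := hgo ▸ (Subgroup.orderOf_dvd_natCard N
          (Subgroup.mem_sup_right (Subgroup.mem_zpowers g)))
        have h4 : Nat.card N = 32 * H.relIndex N := by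
          rw [← Subgroup.relIndex_bot_left, ← Subgroup.relIndex_mul_relIndex ⊥ H N bot_le le_sup_left,
            Subgroup.relIndex_bot_left, h32]
        rw [h4] at h3
        have h5' : 5 ∣ H.relIndex N := (Nat.Coprime.dvd_mul_left (by norm_num)).1 h3
        have hle : H.relIndex N ≤ 5 := by
          have hsub : Nat.card N ≤ 32 * 5 := by
            have h7 : (H.relIndex N) ∣ Nat.card (Subgroup.zpowers g) := by
              rw [show H.relIndex N = H.relIndex (Subgroup.zpowers g) by
                show H.relIndex (H ⊔ Subgroup.zpowers g) = _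
                rw [sup_comm, Subgroup.relIndex_sup_right]]
              exact Subgroup.relIndex_dvd_card H _
            rw [Nat.card_zpowers, hgo] at h7
            rw [h4]
            exact Nat.mul_le_mul_left _ (Nat.le_of_dvd (by norm_num) h7)
          omega
        have : H.relIndex N = 5 := by
          obtain ⟨k, hk⟩ := h5'
          have : 0 < H.relIndex N := Nat.pos_of_ne_zero fun h0 => by simp [h0] at h2
          omega
        rw [this] at h2
        omega
      haveI : N.Normal := Subgroup.normal_of_index_eq_two hNi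
      set M := C ⊓ N
      haveI : IsMulCommutative M := ⟨⟨fun a b => Subtype.ext (by
        have hdec : ∀ x ∈ M, ∃ h ∈ H, ∃ i : ℤ, x = h * g ^ i ∧ ∀ y ∈ H, Commute y h := by
          intro x hx
          obtain ⟨h, hh, _, ⟨i, rfl⟩, rfl⟩ := Subgroup.mem_sup_of_normal_left.1 hx.2
          refine ⟨h, hh, i, rfl, fun y hy => ?_⟩
          have h1 : h ∈ C := by
            have := C.mul_mem hx.1 (C.inv_mem (C.zpow_mem hgC i))
            rwa [mul_inv_cancel_right] at this
          exact Subgroup.mem_centralizer_iff.1 h1 y hy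
        obtain ⟨h, hh, i, ha, hac⟩ := hdec a a.2
        obtain ⟨k, hk, j, hb, hbc⟩ := hdec b b.2
        show (a : G) * b = b * a
        rw [ha, hb]
        have c1 : Commute h (g ^ j) :=
          (show Commute h g from (Subgroup.mem_centralizer_iff.1 hgC h hh)).zpow_right j
        have c2 : Commute (g ^ i) k :=
          ((show Commute k g from (Subgroup.mem_centralizer_iff.1 hgC k hk)).zpow_right i).symm
        exact (((hbc h hh).mul_right c1).mul_left (c2.mul_right (Commute.zpow_zpow (Commute.refl g) i j))).eq)⟩⟩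
      have hMF : M ≤ Cfsg.fittingSubgroup G := by
        haveI : Group.IsNilpotent M := by open scoped IsMulCommutative in infer_instance
        exact CfsgLib.Solv.le_fittingSubgroup inferInstance
      rw [← hHF] at hMF
      exact hg5 g hgo (hMF ⟨hgC, Subgroup.mem_sup_right (Subgroup.mem_zpowers g)⟩)
    · refine hne (CfsgLib.Solv.le_pCore ?_)
      have hdvd : Nat.card C ∣ 2 ^ 6 * 5 := by
        have := Subgroup.card_subgroup_dvd_card C
        rwa [hG] at this
      obtain ⟨k, -, hk⟩ := (Nat.dvd_prime_pow Nat.prime_two).1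
        ((Nat.Coprime.dvd_mul_right ((Nat.Prime.coprime_iff_not_dvd (by norm_num)).2 h5).symm).1 hdvd)
      exact IsPGroup.of_card hk
  -- action on `H ⧸ Z`
  let lift : MulAut H → MulAut (H ⧸ Z) := fun e => QuotientGroup.congr Z Z e (by
    ext y
    constructor
    · rintro ⟨x, hx, rfl⟩
      exact Subgroup.mem_center_iff.2 fun k => by
        obtain ⟨k', rfl⟩ := e.surjective k
        show e k' * e x = e x * e k'
        rw [← map_mul, ← map_mul, Subgroup.mem_center_iff.1 hx k']
    · intro hy
      refine ⟨e.symm y, Subgroup.mem_center_iff.2 fun k => e.injective ?_, e.apply_symm_apply y⟩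
      rw [map_mul, map_mul, e.apply_symm_apply]
      exact Subgroup.mem_center_iff.1 hy (e k))
  let act : G →* MulAut (H ⧸ Z) := MonoidHom.mk' (fun g => lift (MulAut.conjNormal g)) fun g g' =>
    MulEquiv.ext fun q => QuotientGroup.induction_on q fun x => by
      simp [lift, MulAut.mul_apply]
  let π := QuotientGroup.mk' Z
  have hact : ∀ (g : G) (x : H), act g (π x) = π (MulAut.conjNormal g x) := fun g x => rfl
  have hQ : Nat.card (H ⧸ Z) = 16 := by
    have h := Subgroup.card_eq_card_quotient_mul_card_subgroup Z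
    rw [h32, hex.2] at h
    omega
  -- trivial action forces membership in `H`
  have hker : ∀ g : G, (∀ q, act g q = q) → g ∈ H := by
    intro g hg
    obtain ⟨k, hk⟩ := CfsgLib.Fischer.Extra.inner_of_central hex (MulAut.conjNormal g) fun x => by
      have h1 : π (MulAut.conjNormal g x) = π x := by rw [← hact]; exact hg _
      refine (QuotientGroup.eq_one_iff _).1 ?_
      show π (MulAut.conjNormal g x * x⁻¹) = 1
      rw [map_mul, map_inv, h1, mul_inv_cancel]
    have h2 : (k : G)⁻¹ * g ∈ C := Subgroup.mem_centralizer_iff.2 fun x hx => by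
      have h3 : g * x * g⁻¹ = k * x * (k : G)⁻¹ := by
        simpa using congrArg Subtype.val (hk ⟨x, hx⟩)
      calc x * ((k : G)⁻¹ * g) = (k : G)⁻¹ * (k * x * (k : G)⁻¹) * g := by group
        _ = (k : G)⁻¹ * (g * x * g⁻¹) * g := by rw [h3]
        _ = _ := by group
    simpa using H.mul_mem k.2 (hCH h2)
  have hfpf : ∀ g : G, g ∉ H → g ^ 5 ∈ H → ∀ q, act g q = q → q = 1 := by
    intro g hg hg5' q hq
    by_contra hq1
    let F : Subgroup (H ⧸ Z) := (act g).toMonoidHom.eqLocus (MonoidHom.id _)
    have hF : ∀ r, r ∈ F ↔ act g r = r := fun r => Iff.rfl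
    -- `act g` has order five
    have hord : (act g) ^ 5 = 1 := by
      rw [← map_pow]
      refine MulEquiv.ext fun r => QuotientGroup.induction_on r fun x => ?_
      show π (MulAut.conjNormal (g ^ 5) x) = π x
      have e : MulAut.conjNormal (g ^ 5) x = (⟨g ^ 5, hg5'⟩ : H) * x * (⟨g ^ 5, hg5'⟩ : H)⁻¹ :=
        Subtype.ext (MulAut.conjNormal_apply _ _)
      rw [e, map_mul, map_mul, map_inv]
      have hcomm : ∀ a b : H, π a * π b = π b * π a := fun a b => by
        rw [← commutatorElement_eq_one_iff_mul_comm, ← map_commutatorElement]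
        exact (QuotientGroup.eq_one_iff _).2 (CfsgLib.Fischer.Extra.comm_mem hex a b)
      rw [hcomm, mul_inv_cancel_right]
    have hp : IsPGroup 5 (Subgroup.zpowers (act g)) := by
      obtain ⟨i, -, hi⟩ := (Nat.dvd_prime_pow (by norm_num : Nat.Prime 5)).1
        (show orderOf (act g) ∣ 5 ^ 1 by rw [pow_one]; exact orderOf_dvd_of_pow_eq_one hord)
      exact IsPGroup.of_card (n := i) (by rw [Nat.card_zpowers, hi])
    have hmod := hp.card_modEq_card_fixedPoints (H ⧸ Z)
    have hfix : MulAction.fixedPoints (Subgroup.zpowers (act g)) (H ⧸ Z) = (F : Set (H ⧸ Z)) := by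
      ext r
      constructor
      · exact fun h => h ⟨act g, Subgroup.mem_zpowers _⟩
      · rintro (h : act g r = r) ⟨_, i, rfl⟩
        show ((act g) ^ i) r = r
        exact (Subgroup.zpow_mem (MulAction.stabilizer (MulAut (H ⧸ Z)) r) (x := act g) h i)
    rw [hfix, hQ] at hmod
    obtain ⟨i, hi, hiF⟩ := (Nat.dvd_prime_pow Nat.prime_two).1
      (show Nat.card F ∣ 2 ^ 4 from by
        have := Subgroup.card_subgroup_dvd_card F
        rwa [hQ] at this)
    have hF1 : 1 < Nat.card F := by
      rw [Finite.one_lt_card_iff_nontrivial, Subgroup.nontrivial_iff_ne_bot]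
      exact fun e => hq1 (Subgroup.mem_bot.1 (e ▸ (hF q).2 hq))
    rw [show Nat.card ↑(F : Set (H ⧸ Z)) = Nat.card F from rfl, hiF] at hmod
    rw [hiF] at hF1
    have hi4 : i = 4 := by
      interval_cases i <;> first | rfl | exact absurd hmod (by decide) | omega
    have htop : F = ⊤ := Subgroup.eq_top_of_card_eq F (by rw [hiF, hi4, hQ]; norm_num)
    exact hg (hker g fun r => (hF r).1 (htop ▸ Subgroup.mem_top r))
  -- an element of order five
  obtain ⟨g, hgo⟩ := exists_prime_orderOf_dvd_card' (G := G) 5 (by rw [hG]; norm_num)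
  have hgH := hg5 g hgo
  let τ := act T
  let F₁ : Subgroup (H ⧸ Z) := τ.toMonoidHom.eqLocus (MonoidHom.id _)
  have hF₁ : ∀ q, q ∈ F₁ ↔ τ q = q := fun q => Iff.rfl
  have hTT : T * T = 1 := by rw [← sq, ← hT]; exact pow_orderOf_eq_one T
  have hTinv : T⁻¹ = T := inv_eq_of_mul_eq_one_left hTT
  have hττ : ∀ q, τ (τ q) = q := fun q => by
    show (act T * act T) q = q
    rw [← map_mul, hTT, map_one]
    rfl
  -- `C(T)` meets its translate trivially
  set c := g * T * g⁻¹ * T
  have hc5 : c ^ 5 ∈ H := by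
    have h10 : Nat.card (G ⧸ H) = 10 := hindex
    obtain ⟨S⟩ : Nonempty (Sylow 5 (G ⧸ H)) := inferInstance
    have hS : Nat.card S = 5 := by
      rw [S.card_eq_multiplicity, h10]
      rw [show (10 : ℕ) = 2 * 5 from rfl, Nat.factorization_mul two_ne_zero (by norm_num)]
      simp [Nat.Prime.factorization, Nat.prime_two, Finsupp.single_apply, (by norm_num : Nat.Prime 5)]
    have hSi : (S : Subgroup (G ⧸ H)).index = 2 := by
      have h := (S : Subgroup (G ⧸ H)).card_mul_index
      rw [show Nat.card ↥(S : Subgroup (G ⧸ H)) = 5 from hS, h10] at h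
      omega
    haveI := Subgroup.normal_of_index_eq_two hSi
    have hcS : QuotientGroup.mk' H c ∈ (S : Subgroup (G ⧸ H)) := by
      have h : c = g * T * g⁻¹ * T⁻¹ := by rw [hTinv]
      rw [h, map_mul, map_mul, map_mul, map_inv, map_inv]
      have hI := fun a b : G ⧸ H => Subgroup.mul_mem_iff_of_index_two hSi (a := a) (b := b)
      simp only [hI, Subgroup.inv_mem_iff]
      tauto
    refine (QuotientGroup.eq_one_iff _).1 ?_
    show QuotientGroup.mk' H (c ^ 5) = 1
    rw [map_pow]
    have h2 := congrArg Subtype.val (pow_card_eq_one' (x := (⟨_, hcS⟩ : (S : Subgroup (G ⧸ H)))))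
    rw [show Nat.card ↥(S : Subgroup (G ⧸ H)) = 5 from hS] at h2
    simpa using h2
  have hcH : c ∉ H := by
    intro hcH
    -- `g` normalises the fixed points of `T`
    have hinv : ∀ q ∈ F₁, act g q ∈ F₁ := by
      intro q hq
      rw [hF₁] at hq ⊢
      have h1 : act c (act g q) = act g q := QuotientGroup.induction_on (act g q) fun x => by
        show π (MulAut.conjNormal c x) = π x
        have e : MulAut.conjNormal c x = (⟨c, hcH⟩ : H) * x * (⟨c, hcH⟩ : H)⁻¹ := Subtype.ext (by simp)
        have hcomm : ∀ a b : H, π a * π b = π b * π a := fun a b => by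
          rw [← commutatorElement_eq_one_iff_mul_comm, ← map_commutatorElement]
          exact (QuotientGroup.eq_one_iff _).2 (CfsgLib.Fischer.Extra.comm_mem hex a b)
        rw [e, map_mul, map_mul, map_inv, hcomm, mul_inv_cancel_right]
      have e2 : c * (T * g) = g * T := by
        show g * T * g⁻¹ * T * (T * g) = g * T
        rw [mul_assoc _ T, ← mul_assoc T, hTT, one_mul, inv_mul_cancel_right]
      have h2 : act c (act T (act g q)) = act g q := by
        show (act c * (act T * act g)) q = act g q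
        rw [← map_mul, ← map_mul, e2, map_mul]
        show act g (τ q) = _
        rw [hq]
      exact (act c).injective (h2.trans h1.symm)
    -- so they are everything or nothing
    have hp : IsPGroup 2 (Subgroup.zpowers τ) := by
      have h2 : τ ^ 2 = 1 := by rw [← map_pow, sq, hTT, map_one]
      obtain ⟨i, -, hi⟩ := (Nat.dvd_prime_pow Nat.prime_two).1
        (show orderOf τ ∣ 2 ^ 1 by rw [pow_one]; exact orderOf_dvd_of_pow_eq_one h2)
      exact IsPGroup.of_card (n := i) (by rw [Nat.card_zpowers, hi])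
    obtain ⟨q, hq, hq1⟩ := hp.exists_fixed_point_of_prime_dvd_card_of_fixed_point (H ⧸ Z)
      (a := 1) (by rw [hQ]; norm_num) (fun s => map_one (s : MulAut (H ⧸ Z)))
    have hqF : q ∈ F₁ := hq ⟨τ, Subgroup.mem_zpowers _⟩
    let actF : ∀ s : G, s ∈ Subgroup.zpowers g → ∀ r ∈ F₁, act s r ∈ F₁ := by
      intro s hs
      obtain ⟨n, rfl⟩ := (mem_powers_iff_mem_zpowers (x := g)).2 hs
      induction n with
      | zero => intro r hr; simpa using hr
      | succ n ih =>
        intro r hr
        show act (g ^ (n + 1)) r ∈ F₁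
        rw [pow_succ', map_mul]
        exact hinv _ (ih (Subgroup.npow_mem_zpowers g n) r hr)
    letI : MulAction (Subgroup.zpowers g) F₁ :=
      { smul := fun s r => ⟨act s r, actF s s.2 r r.2⟩
        one_smul := fun r => Subtype.ext (by show act ((1 : Subgroup.zpowers g) : G) r = r; simp)
        mul_smul := fun s s' r => Subtype.ext (by
          show act ((s * s' : Subgroup.zpowers g) : G) r = act s (act s' r)
          rw [Subgroup.coe_mul, map_mul]; rfl) }
    have hgp : IsPGroup 5 (Subgroup.zpowers g) :=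
      IsPGroup.of_card (n := 1) (by rw [Nat.card_zpowers, hgo, pow_one])
    have hmod := hgp.card_modEq_card_fixedPoints F₁
    have hfix : Nat.card (MulAction.fixedPoints (Subgroup.zpowers g) F₁) = 1 := by
      rw [Nat.card_eq_one_iff_unique]
      refine ⟨⟨fun a b => ?_⟩, ⟨⟨1, fun s => Subtype.ext (map_one (act (s : G)))⟩⟩⟩
      have hz : ∀ r : MulAction.fixedPoints (Subgroup.zpowers g) F₁, ((r : F₁) : H ⧸ Z) = 1 := fun r =>
        hfpf g hgH (by rw [← hgo, pow_orderOf_eq_one]; exact H.one_mem) _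
          (congrArg Subtype.val (r.2 ⟨g, Subgroup.mem_zpowers g⟩))
      exact Subtype.ext (Subtype.ext ((hz a).trans (hz b).symm))
    rw [hfix] at hmod
    obtain ⟨i, hi, hiF⟩ := (Nat.dvd_prime_pow Nat.prime_two).1
      (show Nat.card F₁ ∣ 2 ^ 4 from by
        have := Subgroup.card_subgroup_dvd_card F₁
        rwa [hQ] at this)
    have hF1 : 1 < Nat.card F₁ := by
      rw [Finite.one_lt_card_iff_nontrivial, Subgroup.nontrivial_iff_ne_bot]
      exact fun e => hq1 (Subgroup.mem_bot.1 (e ▸ hqF)).symm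
    rw [hiF] at hmod hF1
    have hi4 : i = 4 := by
      interval_cases i <;> first | rfl | exact absurd hmod (by decide) | omega
    have htop : F₁ = ⊤ := Subgroup.eq_top_of_card_eq F₁ (by rw [hiF, hi4, hQ]; norm_num)
    exact hTH (hker T fun r => (hF₁ r).1 (htop ▸ Subgroup.mem_top r))
  have hdisj : ∀ q ∈ F₁, act g q ∈ F₁ → q = 1 := by
    intro q hq hq'
    rw [hF₁] at hq hq'
    refine (act g).injective ?_
    rw [map_one]
    refine hfpf c hcH hc5 (act g q) ?_
    show act (g * T * g⁻¹ * T) (act g q) = act g q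
    rw [map_mul]
    show act (g * T * g⁻¹) (τ (act g q)) = act g q
    rw [hq']
    show (act (g * T * g⁻¹) * act g) q = act g q
    rw [← map_mul, inv_mul_cancel_right, map_mul]
    show act g (τ q) = _
    rw [hq]
  have hQcomm : ∀ a b : H ⧸ Z, a * b = b * a := fun a b => by
    obtain ⟨a, rfl⟩ := QuotientGroup.mk'_surjective Z a
    obtain ⟨b, rfl⟩ := QuotientGroup.mk'_surjective Z b
    rw [← commutatorElement_eq_one_iff_mul_comm, ← map_commutatorElement]
    exact (QuotientGroup.eq_one_iff _).2 (CfsgLib.Fischer.Extra.comm_mem hex a b)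
  have hF4 : Nat.card F₁ ≤ 4 := by
    have h := Nat.card_le_card_of_injective (fun p : F₁ × F₁ => (p.1 : H ⧸ Z) * act g p.2) (by
      rintro ⟨a, b⟩ ⟨a', b'⟩ h
      simp only at h
      have e : (a' : H ⧸ Z)⁻¹ * a = act g ((b' : H ⧸ Z) * (b : H ⧸ Z)⁻¹) := by
        rw [map_mul, map_inv, inv_mul_eq_iff_eq_mul, ← mul_assoc, ← h, mul_inv_cancel_right]
      have h1 := hdisj _ (F₁.mul_mem b'.2 (F₁.inv_mem b.2)) (e ▸ F₁.mul_mem (F₁.inv_mem a'.2) a.2)
      rw [mul_inv_eq_one] at h1
      have h3 : b' = b := Subtype.ext h1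
      subst h3
      exact Prod.ext (Subtype.ext (mul_right_cancel h)) rfl)
    rw [Nat.card_prod, hQ] at h
    by_contra hlt
    have := Nat.mul_le_mul (show 5 ≤ Nat.card F₁ by omega) (show 5 ≤ Nat.card F₁ by omega)
    omega
  -- the commutator map onto the fixed points
  let δ : (H ⧸ Z) →* (H ⧸ Z) := MonoidHom.mk' (fun q => q⁻¹ * τ q) fun a b => by
    show (a * b)⁻¹ * τ (a * b) = a⁻¹ * τ a * (b⁻¹ * τ b)
    rw [map_mul, mul_inv_rev, mul_assoc, mul_assoc, ← mul_assoc a⁻¹ (τ a) (τ b), hQcomm b⁻¹,
      mul_assoc (a⁻¹ * τ a), hQcomm (τ b), mul_assoc a⁻¹]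
  have hδk : δ.ker = F₁ := by
    ext q
    rw [MonoidHom.mem_ker, hF₁]
    show q⁻¹ * τ q = 1 ↔ _
    rw [inv_mul_eq_one]
    exact eq_comm
  have hQsq : ∀ q : H ⧸ Z, q * q = 1 := fun q => by
    obtain ⟨x, rfl⟩ := QuotientGroup.mk'_surjective Z q
    rw [← map_mul, ← sq]
    refine (QuotientGroup.eq_one_iff _).2 ?_
    have h := CfsgLib.Solv.pow_mem_frattini hex.1.1 x
    rwa [hex.1.2.1] at h
  have hδr : δ.range ≤ F₁ := by
    rintro _ ⟨q, rfl⟩
    rw [hF₁]
    show τ (q⁻¹ * τ q) = q⁻¹ * τ q
    have hinv : ∀ r : H ⧸ Z, r⁻¹ = r := fun r => inv_eq_of_mul_eq_one_left (hQsq r)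
    rw [map_mul, map_inv, hττ, hinv, hinv, hQcomm]
  have h16 : Nat.card F₁ * Nat.card δ.range = 16 := by
    rw [← hδk, ← Nat.card_congr (QuotientGroup.quotientKerEquivRange δ).toEquiv, ← Subgroup.index_eq_card,
      Subgroup.card_mul_index, hQ]
  have hrange : δ.range = F₁ := by
    refine Subgroup.eq_of_le_of_card_ge hδr ?_
    by_contra hlt
    have := Nat.mul_le_mul hF4 (show Nat.card δ.range ≤ 3 by omega)
    omega
  -- conclusion
  set W := H ⊓ Subgroup.centralizer ({T} : Set G) with hWdef
  set W' := W.subgroupOf H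
  have hW' : ∀ x : H, x ∈ W' ↔ (x : G) * T = T * x := fun x => by
    show (x : G) ∈ H ⊓ Subgroup.centralizer ({T} : Set G) ↔ _
    rw [Subgroup.mem_inf, Subgroup.mem_centralizer_singleton_iff]
    exact ⟨fun h => h.2, fun h => ⟨x.2, h⟩⟩
  have hfixmem : ∀ x : H, x ∈ W' → π x ∈ F₁ := fun x hx => by
    rw [hF₁]
    show π (MulAut.conjNormal T x) = π x
    congr 1
    refine Subtype.ext ?_
    rw [MulAut.conjNormal_apply, ← (hW' x).1 hx, mul_inv_cancel_right]
  have hWle : W' ≤ F₁.comap π := hfixmem
  have hcardpre : Nat.card (F₁.comap π) ≤ 8 := by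
    have h : Nat.card (F₁.comap π) = Nat.card F₁ * 2 := by
      let f := π.subgroupComap F₁
      have hf : Function.Surjective f :=
        MonoidHom.subgroupComap_surjective_of_surjective _ _ (QuotientGroup.mk'_surjective Z)
      rw [Subgroup.card_eq_card_quotient_mul_card_subgroup f.ker,
        Nat.card_congr (QuotientGroup.quotientKerEquivOfSurjective f hf).toEquiv]
      congr 1
      rw [← hex.2]
      refine Nat.card_congr ⟨fun x => ⟨((x : F₁.comap π) : H), ?_⟩, fun z => ⟨⟨(z : H), ?_⟩, ?_⟩,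
        fun x => rfl, fun z => rfl⟩
      · exact (QuotientGroup.eq_one_iff _).1 (congrArg Subtype.val (MonoidHom.mem_ker.1 x.2))
      · show π (z : H) ∈ F₁
        rw [show π (z : H) = 1 from (QuotientGroup.eq_one_iff _).2 z.2]
        exact F₁.one_mem
      · exact MonoidHom.mem_ker.2 (Subtype.ext ((QuotientGroup.eq_one_iff _).2 z.2))
    omega
  have hWH : W ≤ H := inf_le_left
  have hWc : Nat.card W' = Nat.card W := Nat.card_congr (Subgroup.subgroupOfEquivOfLe hWH).toEquiv
  have hVW := Subgroup.card_dvd_of_le hV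
  rw [hV4] at hVW
  have hWdiv : Nat.card W ∣ 32 := h32 ▸ Subgroup.card_dvd_of_le hWH
  have hWle8 : Nat.card W ≤ 8 := hWc ▸ (Subgroup.card_le_of_le hWle).trans hcardpre
  have hW48 : Nat.card W = 4 ∨ Nat.card W = 8 := by
    obtain ⟨i, -, hi⟩ := (Nat.dvd_prime_pow Nat.prime_two).1 (show Nat.card W ∣ 2 ^ 5 from hWdiv)
    rw [hi] at hVW hWle8 ⊢
    have h1 := Nat.le_of_dvd (pow_pos two_pos i) hVW
    rcases (show i ≤ 1 ∨ i = 2 ∨ i = 3 ∨ 4 ≤ i by omega) with h | h | h | h
    · have := Nat.pow_le_pow_right (two_pos : 0 < 2) h; omega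
    · exact Or.inl (by rw [h]; norm_num)
    · exact Or.inr (by rw [h]; norm_num)
    · have := Nat.pow_le_pow_right (two_pos : 0 < 2) h; omega
  rcases hW48 with h4 | h8
  · refine ⟨h4, ?_⟩
    rw [← Subgroup.eq_of_le_of_card_ge hV (by omega)]
    exact hVe
  · exfalso
    have hWeq : W' = F₁.comap π := Subgroup.eq_of_le_of_card_ge hWle (by rw [hWc, h8]; exact hcardpre)
    have hZW : ∀ z ∈ Z, z ∈ W' := fun z hz => hWeq ▸ (show π z ∈ F₁ by
      rw [show π z = 1 from (QuotientGroup.eq_one_iff _).2 hz]; exact F₁.one_mem)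
    have hsq : ∀ x ∈ W', x * x = 1 := by
      intro x hx
      have hxF : π x ∈ δ.range := hrange.symm ▸ hfixmem x hx
      obtain ⟨q, hq⟩ := hxF
      obtain ⟨q, rfl⟩ := QuotientGroup.mk'_surjective Z q
      set cq : H := q⁻¹ * MulAut.conjNormal T q with hcq
      have hπc : π cq = π x := by rw [← hq, map_mul, map_inv]; rfl
      have hz : cq⁻¹ * x ∈ Z := QuotientGroup.eq.1 hπc
      have hcW : cq ∈ W' := by
        have := W'.mul_mem hx (W'.inv_mem (hZW _ hz))
        simpa using this
      have hc2 : cq * cq = 1 := Subtype.ext (by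
        have h1 := (hW' cq).1 hcW
        have e : (cq : G) = (q : G)⁻¹ * (T * q * T⁻¹) := by simp [hcq]
        have e2 : T * (cq : G) * T⁻¹ = (cq : G)⁻¹ := by
          rw [e, hTinv]
          calc T * ((q : G)⁻¹ * (T * q * T)) * T = T * (q : G)⁻¹ * T * q * (T * T) := by group
            _ = T * (q : G)⁻¹ * T * q := by rw [hTT, mul_one]
            _ = T⁻¹ * (q : G)⁻¹ * T⁻¹ * q := by rw [hTinv]
            _ = (((q : G)⁻¹ * (T * q * T)))⁻¹ := by group
        rw [← h1, mul_inv_cancel_right] at e2
        show (cq : G) * cq = 1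
        nth_rewrite 2 [e2]
        rw [mul_inv_cancel])
      have hz2 := CfsgLib.Fischer.Extra.center_sq hex ⟨_, hz⟩
      have hx' : x = cq * (cq⁻¹ * x) := by group
      rw [hx', (show Commute (cq⁻¹ * x) cq from (Subgroup.mem_center_iff.1 hz cq).symm).mul_mul_mul_comm,
        hc2, one_mul]
      exact congrArg Subtype.val hz2
    have hcomm : ∀ x ∈ W', ∀ y ∈ W', x * y = y * x := by
      intro x hx y hy
      have hinv : ∀ r ∈ W', r⁻¹ = r := fun r hr => inv_eq_of_mul_eq_one_left (hsq r hr)
      rw [← hinv _ (W'.mul_mem hx hy), mul_inv_rev, hinv x hx, hinv y hy]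
    have hWe : Cfsg.IsElementaryAbelian 2 W := by
      refine ⟨⟨⟨fun a b => Subtype.ext ?_⟩⟩, fun a ha => ?_⟩
      · show (a : G) * b = b * a
        exact congrArg Subtype.val (hcomm ⟨a, hWH a.2⟩ a.2 ⟨b, hWH b.2⟩ b.2)
      · rw [sq]; exact congrArg Subtype.val (hsq ⟨a, hWH ha⟩ ha)
    have := hminus W hWH hWe
    omega

end Cfsg.Agent.S4405
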