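import Mathlib
-- Template for statement S4406 (row 4406; see /opt/grader/pristine/manifest.json for weights).
-- Copy to Cfsg/Agent/S4406.lean and replace the sorry. The statement below is byte-identical to the frozen
-- statement Cfsg.CfsgFrozen.S4406 (Cfsg/Statements/S4406.lean; the theorem Cfsg.fg19_alternating_four_squared_four_subgroups_of_sylow_two);
-- the grader kernel-checks Cfsg.Agent.S4406.result against that frozen type. Keep the theorem IN THIS FILE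
-- (a `result` declared elsewhere and merely imported here is not credited); helpers may live anywhere
-- under Cfsg/Agent/.
import Cfsg.Statements.S4406


set_option autoImplicit false
open Cfsg

namespace Cfsg.Agent.S4406

set_option maxRecDepth 10000
set_option maxHeartbeats 1000000

abbrev A4 := ↥(alternatingGroup (Fin 4))

theorem no_fix : ∀ a u : A4, a ^ 3 = 1 → a ≠ 1 → u ^ 2 = 1 → u ≠ 1 → a * u * a⁻¹ ≠ u := by decide

theorem three_inv : ∀ a u : A4, a ^ 3 = 1 → a ≠ 1 → u ^ 2 = 1 → u ≠ 1 → ∀ v : A4, v ^ 2 = 1 →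
    v = 1 ∨ v = u ∨ v = a * u * a⁻¹ ∨ v = a * a * u * a⁻¹ * a⁻¹ := by decide

theorem sq_one_of_pow_four : ∀ a : A4, a ^ 4 = 1 → a ^ 2 = 1 := by decide

theorem three_of_nine : ∀ a : A4, a ^ 9 = 1 → a ^ 3 = 1 := by decide

theorem exists_inv : ∃ t : A4, t ^ 2 = 1 ∧ t ≠ 1 := by decide

theorem card_sq : (Finset.univ.filter fun u : A4 => u ^ 2 = 1).card = 4 := by decide


/-- In the direct product P = A₄ × A₄, let X be the Sylow 2-subgroup, X₁ and X₂ its intersections with the two direct factors, Q a Sylow 3-subgroup and Q₁, Q₂ its intersections with the two factors. Then every subgroup B of X of order 4 either meets X₁ or X₂ nontrivially, or is normalized by one of the two subgroups of Q of order 3 other than Q₁ and Q₂. -/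
theorem result
    (X : Sylow 2 (↥(alternatingGroup (Fin 4)) × ↥(alternatingGroup (Fin 4))))
    (Q : Sylow 3 (↥(alternatingGroup (Fin 4)) × ↥(alternatingGroup (Fin 4))))
    (B : Subgroup (↥(alternatingGroup (Fin 4)) × ↥(alternatingGroup (Fin 4)))) (hBX : B ≤ (X : Subgroup _)) (hB4 : Nat.card ↥B = 4) :
    B ⊓ ((X : Subgroup _) ⊓ Subgroup.prod ⊤ ⊥) ≠ ⊥ ∨ B ⊓ ((X : Subgroup _) ⊓ Subgroup.prod ⊥ ⊤) ≠ ⊥ ∨
      ∃ R : Subgroup (↥(alternatingGroup (Fin 4)) × ↥(alternatingGroup (Fin 4))), R ≤ (Q : Subgroup _) ∧ Nat.card ↥R = 3 ∧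
        R ≠ (Q : Subgroup _) ⊓ Subgroup.prod ⊤ ⊥ ∧ R ≠ (Q : Subgroup _) ⊓ Subgroup.prod ⊥ ⊤ ∧ R ≤ Subgroup.normalizer (B : Set _) := by
  classical
  have hB1 : B ⊓ ((X : Subgroup _) ⊓ Subgroup.prod ⊤ ⊥) = B ⊓ Subgroup.prod ⊤ ⊥ := by
    rw [← inf_assoc, inf_eq_left.2 hBX]
  have hB2 : B ⊓ ((X : Subgroup _) ⊓ Subgroup.prod ⊥ ⊤) = B ⊓ Subgroup.prod ⊥ ⊤ := by
    rw [← inf_assoc, inf_eq_left.2 hBX]
  rw [hB1, hB2]
  by_contra hcon
  push Not at hcon
  obtain ⟨hb1, hb2, hR⟩ := hcon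
  have i2 : ∀ w ∈ B, w.2 = 1 → w = 1 := fun w hw h => (Subgroup.eq_bot_iff_forall _).1 hb1 w
    ⟨hw, Subgroup.mem_prod.2 ⟨trivial, h⟩⟩
  have i1 : ∀ w ∈ B, w.1 = 1 → w = 1 := fun w hw h => (Subgroup.eq_bot_iff_forall _).1 hb2 w
    ⟨hw, Subgroup.mem_prod.2 ⟨h, trivial⟩⟩
  have j1 : ∀ v ∈ B, ∀ w ∈ B, v.1 = w.1 → v = w := fun v hv w hw h =>
    inv_mul_eq_one.1 (i1 _ (B.mul_mem (B.inv_mem hv) hw) (by simp [h]))
  have j2 : ∀ v ∈ B, ∀ w ∈ B, v.2 = w.2 → v = w := fun v hv w hw h =>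
    inv_mul_eq_one.1 (i2 _ (B.mul_mem (B.inv_mem hv) hw) (by simp [h]))
  have hsq : ∀ w ∈ B, w.1 ^ 2 = 1 ∧ w.2 ^ 2 = 1 := fun w hw => by
    have h1 : w ^ 4 = 1 := by
      have := pow_card_eq_one' (x := (⟨w, hw⟩ : ↥B))
      rw [hB4] at this
      simpa using congrArg Subtype.val this
    exact ⟨sq_one_of_pow_four _ (congrArg Prod.fst h1), sq_one_of_pow_four _ (congrArg Prod.snd h1)⟩
  have surj : ∀ u : A4, u ^ 2 = 1 → ∃ w ∈ B, w.1 = u := by
    intro u hu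
    let S := Finset.univ.filter fun w : A4 × A4 => w ∈ B
    have hS : S.card = 4 := by
      rw [← hB4, Nat.card_eq_fintype_card, Fintype.card_subtype]
    have himg : S.image Prod.fst = Finset.univ.filter fun u : A4 => u ^ 2 = 1 := by
      refine Finset.eq_of_subset_of_card_le ?_ ?_
      · intro v hv
        obtain ⟨w, hw, rfl⟩ := Finset.mem_image.1 hv
        simp [(hsq w (by simpa [S] using hw)).1]
      · rw [card_sq, Finset.card_image_of_injOn, hS]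
        intro v hv w hw h
        exact j1 v (by simpa [S] using hv) w (by simpa [S] using hw) h
    have : u ∈ S.image Prod.fst := by rw [himg]; simp [hu]
    simpa [S] using this
  -- the Sylow 3-subgroup is the product of its two intersections
  have hQ : Nat.card ↥(Q : Subgroup (A4 × A4)) = 9 := by
    rw [Q.card_eq_multiplicity]
    have h144 : Nat.card (A4 × A4) = 2 ^ 4 * 3 ^ 2 := by
      rw [Nat.card_prod, nat_card_alternatingGroup, Nat.card_fin]; decide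
    rw [h144, Nat.factorization_mul (by norm_num) (by norm_num)]
    rw [Nat.prime_two.factorization_pow, Nat.prime_three.factorization_pow]
    simp [Finsupp.single_apply]
  have hpow : ∀ q ∈ (Q : Subgroup (A4 × A4)), q.1 ^ 3 = 1 ∧ q.2 ^ 3 = 1 := fun q hq => by
    have h1 : q ^ 9 = 1 := by
      have := pow_card_eq_one' (x := (⟨q, hq⟩ : ↥(Q : Subgroup (A4 × A4))))
      rw [hQ] at this
      simpa using congrArg Subtype.val this
    exact ⟨three_of_nine _ (congrArg Prod.fst h1), three_of_nine _ (congrArg Prod.snd h1)⟩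
  let P1 := (Q : Subgroup (A4 × A4)).map (MonoidHom.fst A4 A4)
  let P2 := (Q : Subgroup (A4 × A4)).map (MonoidHom.snd A4 A4)
  have hle : (Q : Subgroup (A4 × A4)) ≤ P1.prod P2 :=
    fun q hq => Subgroup.mem_prod.2 ⟨⟨q, hq, rfl⟩, ⟨q, hq, rfl⟩⟩
  have hpr : ∀ {f : A4 × A4 →* A4}, IsPGroup 3 ↥((Q : Subgroup (A4 × A4)).map f) :=
    fun {f} => Q.isPGroup'.map f
  have hle3 : ∀ {P : Subgroup A4}, IsPGroup 3 ↥P → Nat.card ↥P ∣ 3 := by
    intro P hP
    obtain ⟨k, hk⟩ := IsPGroup.iff_card.1 hP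
    have h12 : Nat.card ↥P ∣ 2 ^ 2 * 3 := by
      have := Subgroup.card_subgroup_dvd_card P
      rwa [nat_card_alternatingGroup, Nat.card_fin] at this
    rw [hk] at h12 ⊢
    exact (Nat.Coprime.pow _ _ (by norm_num : Nat.Coprime 3 2)).dvd_of_dvd_mul_left h12
  have hc : Nat.card ↥(P1.prod P2) = Nat.card ↥P1 * Nat.card ↥P2 := by
    rw [← Nat.card_prod]; exact Nat.card_congr (Subgroup.prodEquiv P1 P2).toEquiv
  have h9 : 9 ∣ Nat.card ↥P1 * Nat.card ↥P2 := by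
    rw [← hc, ← hQ]; exact Subgroup.card_dvd_of_le hle
  have e3 : Nat.card ↥P1 = 3 ∧ Nat.card ↥P2 = 3 := by
    rcases (Nat.dvd_prime Nat.prime_three).1 (hle3 (hpr (f := MonoidHom.fst A4 A4))) with h | h <;>
      rcases (Nat.dvd_prime Nat.prime_three).1 (hle3 (hpr (f := MonoidHom.snd A4 A4))) with h' | h' <;>
      simp [P1, P2] at h h' h9 ⊢ <;> simp [h, h'] at h9 ⊢
  have heq : (Q : Subgroup (A4 × A4)) = P1.prod P2 :=
    Subgroup.eq_of_le_of_card_ge hle (by rw [hc, hQ, e3.1, e3.2])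
  have ex : ∀ P : Subgroup A4, Nat.card ↥P = 3 → ∃ a ∈ P, a ≠ 1 := fun P hP =>
    P.bot_or_exists_ne_one.resolve_left (fun h => by rw [h, Subgroup.card_bot] at hP; omega)
  obtain ⟨a, haP, ha1⟩ := ex P1 e3.1
  obtain ⟨b, hbP, hb1'⟩ := ex P2 e3.2
  have hab : (a, b) ∈ (Q : Subgroup (A4 × A4)) := heq ▸ Subgroup.mem_prod.2 ⟨haP, hbP⟩
  have ha3 : a ^ 3 = 1 := (hpow _ hab).1
  have hb3 : b ^ 3 = 1 := (hpow _ hab).2
  obtain ⟨t, ht2, ht1⟩ := exists_inv
  obtain ⟨x, hx, hx1⟩ := surj t ht2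
  have ha2 : (a * t * a⁻¹) ^ 2 = 1 := by rw [conj_pow, ht2]; group
  obtain ⟨y, hy, hy1⟩ := surj _ ha2
  have ha2' : (a * a * t * a⁻¹ * a⁻¹) ^ 2 = 1 := by
    rw [show a * a * t * a⁻¹ * a⁻¹ = (a * a) * t * (a * a)⁻¹ by group, conj_pow, ht2]; group
  obtain ⟨z, hz, hz1⟩ := surj _ ha2'
  have hu1 : x.2 ≠ 1 := fun h => ht1 (by rw [← hx1, i2 x hx h]; rfl)
  have hy' : y.2 ≠ 1 := fun h => by
    have h2 : a * t * a⁻¹ = 1 := by rw [← hy1, i2 y hy h]; rfl
    exact ht1 (conj_eq_one_iff.1 h2)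
  have hz' : z.2 ≠ 1 := fun h => by
    have h2 : (a * a) * t * (a * a)⁻¹ = 1 := by
      rw [mul_inv_rev, ← mul_assoc, ← hz1, i2 z hz h]; rfl
    exact ht1 (conj_eq_one_iff.1 h2)
  have nfa := no_fix a t ha3 ha1 ht2 ht1
  have ha' : a * a ≠ 1 := fun h => ha1 (by
    calc a = a * (a * a) := by rw [h, mul_one]
      _ = a ^ 3 := by rw [pow_succ', sq]
      _ = 1 := ha3)
  have ha3' : (a * a) ^ 3 = 1 := by rw [← sq, ← pow_mul, mul_comm, pow_mul, ha3, one_pow]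
  have nfa2 := no_fix (a * a) t ha3' ha' ht2 ht1
  rw [mul_inv_rev, ← mul_assoc] at nfa2
  have hxy : x.2 ≠ y.2 := fun h => nfa (by rw [← hy1, ← j2 x hx y hy h, hx1])
  have hxz : x.2 ≠ z.2 := fun h => nfa2 (by rw [← hz1, ← j2 x hx z hz h, hx1])
  have hyz : y.2 ≠ z.2 := fun h => by
    have := congrArg Prod.fst (j2 y hy z hz h)
    rw [hy1, hz1] at this
    refine nfa (mul_left_cancel (a := a) ?_)
    calc a * (a * t * a⁻¹) = a * a * t * a⁻¹ * a⁻¹ * a := by group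
      _ = a * t * a⁻¹ * a := by rw [this]
      _ = a * t := by group
  obtain ⟨c, hcmem, hc3, hc1, hcy⟩ : ∃ c : A4, (a, c) ∈ (Q : Subgroup (A4 × A4)) ∧ c ^ 3 = 1 ∧
      c ≠ 1 ∧ c * x.2 * c⁻¹ = y.2 := by
    rcases three_inv b x.2 hb3 hb1' (hsq x hx).2 hu1 y.2 (hsq y hy).2 with h | h | h | h
    · exact absurd h hy'
    · exact absurd h.symm hxy
    · exact ⟨b, hab, hb3, hb1', h.symm⟩
    · refine ⟨b * b, ?_, ?_, fun hbb => hb1' ?_, ?_⟩
      · rw [heq]; exact Subgroup.mem_prod.2 ⟨haP, mul_mem hbP hbP⟩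
      · rw [← sq, ← pow_mul, mul_comm, pow_mul, hb3, one_pow]
      · calc b = b * (b * b) := by rw [hbb, mul_one]
          _ = b ^ 3 := by rw [pow_succ', sq]
          _ = 1 := hb3
      · rw [h]; group
  have hzc : z.2 = c * c * x.2 * c⁻¹ * c⁻¹ := by
    rcases three_inv c x.2 hc3 hc1 (hsq x hx).2 hu1 z.2 (hsq z hz).2 with h | h | h | h
    · exact absurd h hz'
    · exact absurd h.symm hxz
    · exact absurd (hcy ▸ h).symm hyz
    · exact h
  let g : A4 × A4 := (a, c)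
  have hg3 : g ^ 3 = 1 := Prod.ext ha3 hc3
  have gx : g * x * g⁻¹ = y := Prod.ext (by simp [g, hx1, hy1]) (by simpa [g] using hcy)
  have gy : g * y * g⁻¹ = z := by
    rw [← gx]
    refine Prod.ext ?_ ?_
    · simp [g, hx1, hz1, mul_assoc]
    · rw [hzc]; simp [g, mul_assoc]
  have gz : g * z * g⁻¹ = x := by
    calc g * z * g⁻¹ = g ^ 3 * x * (g ^ 3)⁻¹ := by
          rw [← gy, ← gx, pow_succ, sq]; group
      _ = x := by rw [hg3]; group
  have hmaps : ∀ w ∈ B, g * w * g⁻¹ ∈ B := by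
    intro w hw
    rcases three_inv a t ha3 ha1 ht2 ht1 w.1 (hsq w hw).1 with h | h | h | h
    · rw [i1 w hw h]; simp
    · rw [j1 w hw x hx (h.trans hx1.symm), gx]; exact hy
    · rw [j1 w hw y hy (h.trans hy1.symm), gy]; exact hz
    · rw [j1 w hw z hz (h.trans hz1.symm), gz]; exact hx
  have hgne : g ≠ 1 := fun h => ha1 (congrArg Prod.fst h)
  refine hR (Subgroup.zpowers g) ((Subgroup.zpowers_le).2 hcmem) ?_ ?_ ?_ ((Subgroup.zpowers_le).2 ?_)
  · rw [Nat.card_zpowers]; exact orderOf_eq_prime hg3 hgne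
  · intro h
    exact hc1 (Subgroup.mem_bot.1 (Subgroup.mem_prod.1
      (h ▸ Subgroup.mem_zpowers g : g ∈ (Q : Subgroup (A4 × A4)) ⊓ _).2).2)
  · intro h
    exact ha1 (Subgroup.mem_bot.1 (Subgroup.mem_prod.1
      (h ▸ Subgroup.mem_zpowers g : g ∈ (Q : Subgroup (A4 × A4)) ⊓ _).2).1)
  · rw [Subgroup.mem_normalizer_iff]
    refine fun w => ⟨fun hw => hmaps w hw, fun hw => ?_⟩
    have := hmaps _ (hmaps _ hw)
    convert this using 1
    calc w = g ^ 3 * w * (g ^ 3)⁻¹ := by rw [hg3]; group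
      _ = _ := by rw [pow_succ, sq]; group

end Cfsg.Agent.S4406
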