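import Mathlib
import Cfsg.Statements.S4407
-- import your own Cfsg.Agent.* helpers here

set_option autoImplicit false
open Cfsg

namespace Cfsg.Agent.S4407

/-- Conjugation. -/
def cj {S : Type*} [Group S] (g a : S) : S := g * a * g⁻¹

set_option maxHeartbeats 2000000 in
/-- Let S be a finite group with a normal elementary abelian subgroup A of order 9 that is self-centralizing (C_S(A) = A), and a dihedral subgroup X of order 8 with S = AX. Let M be a finite-dimensional module for S over the field with two elements that is faithful and irreducible. Then M has 16 elements, and X contains exactly one subgroup B of order 4 and exponent 2 whose fixed points on M form a subspace with exactly 2 elements (equivalently, M is free of rank one over the group algebra of B). -/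
theorem result {S : Type*} [Group S] [Finite S]
    (A : Subgroup S) [A.Normal] (hA : Cfsg.IsElementaryAbelian 3 A) (hA9 : Nat.card ↥A = 9)
    (hAC : Subgroup.centralizer (A : Set S) = A) (X : Subgroup S) (hX : Nonempty (↥X ≃* DihedralGroup 4)) (hAX : A ⊔ X = ⊤)
    {M : Type*} [AddCommGroup M] [Module (ZMod 2) M] [Finite M] (ρ : Representation (ZMod 2) S M)
    (hfaith : Function.Injective ρ)
    (hirr : ∀ N : Submodule (ZMod 2) M, (∀ s : S, ∀ m ∈ N, ρ s m ∈ N) → N = ⊥ ∨ N = ⊤) (hM : Nontrivial M) :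
    Nat.card M = 16 ∧
      ∃! B : Subgroup S, B ≤ X ∧ Nat.card ↥B = 4 ∧ (∀ b ∈ B, b ^ 2 = 1) ∧
        Nat.card {m : M // ∀ b ∈ B, ρ b m = m} = 2 := by
  classical
  obtain ⟨hAab, hA3⟩ := hA
  obtain ⟨e⟩ := hX
  have hAc : ∀ a ∈ A, ∀ b ∈ A, a * b = b * a := fun a ha b hb =>
    congrArg Subtype.val (hAab.is_comm.comm ⟨a, ha⟩ ⟨b, hb⟩)
  have hXA : ∀ g : S, g ∈ X → g ∈ A → g = 1 := by
    intro g hgX hgA
    have h1 : orderOf (⟨g, hgX⟩ : X) ∣ Nat.card X := orderOf_dvd_natCard _
    rw [Subgroup.orderOf_mk, Nat.card_congr e.toEquiv, DihedralGroup.nat_card] at h1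
    have h2 := orderOf_dvd_of_pow_eq_one (hA3 g hgA)
    exact orderOf_eq_one_iff.1 (Nat.dvd_one.1 ((Nat.dvd_gcd h1 h2).trans (by norm_num)))
  let el : DihedralGroup 4 → S := fun d => (e.symm d : X)
  have el_mul : ∀ a b, el (a * b) = el a * el b := fun a b => by simp [el]
  have el_one : el 1 = 1 := by simp [el]
  have el_mem : ∀ d, el d ∈ X := fun d => (e.symm d).2
  have el_surj : ∀ x ∈ X, ∃ d, el d = x := fun x hx => ⟨e ⟨x, hx⟩, by simp [el]⟩
  have el_inj : Function.Injective el := Subtype.val_injective.comp e.symm.injective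
  have el_inv : ∀ d, el d⁻¹ = (el d)⁻¹ := fun d => eq_inv_of_mul_eq_one_left (by rw [← el_mul, inv_mul_cancel, el_one])
  -- conjugation on the normal subgroup
  have cj_mul : ∀ g h a : S, cj (g * h) a = cj g (cj h a) := fun g h a => by simp [cj, mul_assoc]
  have cj_hom : ∀ g a b : S, cj g (a * b) = cj g a * cj g b := fun g a b => by simp [cj, mul_assoc]
  have cj_inv : ∀ g a : S, cj g a⁻¹ = (cj g a)⁻¹ := fun g a => by simp [cj, mul_assoc]
  have cj_mem : ∀ g : S, ∀ a ∈ A, cj g a ∈ A := fun g a ha => (inferInstance : A.Normal).conj_mem a ha g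
  have hfaithX : ∀ d, (∀ a ∈ A, cj (el d) a = a) → d = 1 := by
    intro d hd
    refine el_inj ?_
    rw [el_one]
    refine hXA _ (el_mem d) ?_
    rw [← hAC, Subgroup.mem_centralizer_iff]
    intro a ha
    exact (mul_inv_eq_iff_eq_mul.1 (hd a ha)).symm
  have hcube : ∀ a ∈ A, a⁻¹ = a * a := fun a ha =>
    inv_eq_of_mul_eq_one_right (by rw [← mul_assoc, ← pow_three']; exact hA3 a ha)
  have hself : ∀ a ∈ A, a = a⁻¹ → a = 1 := fun a ha h => by
    have h1 := hcube a ha
    rw [← h] at h1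
    exact mul_eq_left.1 h1.symm
  have hline : ∀ a ∈ A, a ≠ 1 → ∀ x ∈ Subgroup.zpowers a, x = 1 ∨ x = a ∨ x = a⁻¹ := by
    intro a ha _ x hx
    obtain ⟨i, rfl⟩ := Subgroup.mem_zpowers_iff.1 hx
    have h3 : a ^ (3 : ℤ) = 1 := by rw [show (3 : ℤ) = ((3 : ℕ) : ℤ) from rfl, zpow_natCast]; exact hA3 a ha
    rw [← Int.mul_ediv_add_emod i 3, zpow_add, zpow_mul, h3, one_zpow, one_mul]
    have h2 : i % 3 = 0 ∨ i % 3 = 1 ∨ i % 3 = 2 := by omega
    rcases h2 with e | e | e <;> rw [e]
    · exact Or.inl (zpow_zero a)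
    · exact Or.inr (Or.inl (zpow_one a))
    · exact Or.inr (Or.inr (by rw [hcube a ha, zpow_two]))
  have hspan : ∀ a ∈ A, ∀ b ∈ A, a ≠ 1 → b ∉ Subgroup.zpowers a → ∀ x ∈ A,
      ∃ u ∈ Subgroup.zpowers a, ∃ v ∈ Subgroup.zpowers b, x = u * v := by
    intro a ha b hb ha1 hba x hx
    have hb1 : b ≠ 1 := fun h => hba (h ▸ one_mem _)
    let f : Subgroup.zpowers a × Subgroup.zpowers b → A := fun q => ⟨q.1 * q.2,
      A.mul_mem (Subgroup.zpowers_le.2 ha q.1.2) (Subgroup.zpowers_le.2 hb q.2.2)⟩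
    have hinj : Function.Injective f := by
      rintro ⟨⟨u, hu⟩, ⟨v, hv⟩⟩ ⟨⟨u', hu'⟩, ⟨v', hv'⟩⟩ h
      have h' : u * v = u' * v' := congrArg Subtype.val h
      have h1 : u'⁻¹ * u = v' * v⁻¹ := by
        calc u'⁻¹ * u = u'⁻¹ * (u * v) * v⁻¹ := by group
          _ = _ := by rw [h']; group
      have h2 : v' * v⁻¹ ∈ Subgroup.zpowers b := mul_mem hv' (inv_mem hv)
      have h3 : u'⁻¹ * u ∈ Subgroup.zpowers a := mul_mem (inv_mem hu') hu
      rcases hline b hb hb1 _ h2 with e | e | e
      · rw [e] at h1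
        exact Prod.ext (Subtype.ext (inv_mul_eq_one.1 h1).symm) (Subtype.ext (mul_inv_eq_one.1 e).symm)
      · exact absurd (by rw [← e, ← h1]; exact h3) hba
      · exact absurd (by have := inv_mem h3; rwa [h1, e, inv_inv] at this) hba
    have hoa : orderOf a = 3 := orderOf_eq_prime (hA3 a ha) ha1
    have hob : orderOf b = 3 := orderOf_eq_prime (hA3 b hb) hb1
    haveI : Finite A := Nat.finite_of_card_ne_zero (by rw [hA9]; norm_num)
    haveI : Finite (Subgroup.zpowers a) := Nat.finite_of_card_ne_zero (by rw [Nat.card_zpowers, hoa]; norm_num)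
    haveI : Finite (Subgroup.zpowers b) := Nat.finite_of_card_ne_zero (by rw [Nat.card_zpowers, hob]; norm_num)
    have hb := (Nat.bijective_iff_injective_and_card f).2 ⟨hinj, by rw [Nat.card_prod, Nat.card_zpowers, Nat.card_zpowers, hoa, hob, hA9]⟩
    obtain ⟨⟨⟨u, hu⟩, ⟨v, hv⟩⟩, h⟩ := hb.2 ⟨x, hx⟩
    exact ⟨u, hu, v, hv, (congrArg Subtype.val h).symm⟩
  set r := el (DihedralGroup.r 1)
  set z := el (DihedralGroup.r 2)
  have hrr : r * r = z := by rw [← el_mul]; rfl
  have hzz : z * z = 1 := by rw [← el_mul, ← el_one]; rfl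
  -- the central involution inverts
  have hz_inv : ∀ a ∈ A, cj z a = a⁻¹ := by
    have hfix : ∀ f ∈ A, cj z f = f → f = 1 := by
      intro f hf hzf
      by_contra hf1
      obtain ⟨b, hb, hzb⟩ : ∃ b ∈ A, cj z b ≠ b := by
        by_contra hcon
        push Not at hcon
        exact absurd (hfaithX _ hcon) (by decide)
      set b' := b⁻¹ * cj z b
      have hb' : b' ∈ A := A.mul_mem (A.inv_mem hb) (cj_mem z b hb)
      have hzb' : cj z b' = b'⁻¹ := by
        simp only [b', cj_hom, cj_inv, ← cj_mul, hzz]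
        simp [cj]
      have hb'1 : b' ≠ 1 := fun h => hzb (inv_mul_eq_one.1 h).symm
      have hnot : b' ∉ Subgroup.zpowers f := fun h => hb'1 (hself b' hb' (by
        rw [← hzb']
        rcases hline f hf hf1 _ h with e | e | e <;> rw [e]
        · simp [cj]
        · exact hzf.symm
        · rw [cj_inv, hzf]))
      have hone : ∀ x ∈ A, cj z x = x⁻¹ → x ∈ Subgroup.zpowers b' := by
        intro x hx hzx
        obtain ⟨u, hu, v, hv, huv⟩ := hspan f hf b' hb' hf1 hnot x hx
        have hzu : cj z u = u := by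
          rcases hline f hf hf1 u hu with e | e | e <;> rw [e]
          · simp [cj]
          · exact hzf
          · rw [cj_inv, hzf]
        have hzv : cj z v = v⁻¹ := by
          rcases hline b' hb' hb'1 v hv with e | e | e <;> rw [e]
          · simp [cj]
          · exact hzb'
          · rw [cj_inv, hzb']
        have huA := Subgroup.zpowers_le.2 hf hu
        have hvA := Subgroup.zpowers_le.2 hb' hv
        rw [huv, cj_hom, hzu, hzv, mul_inv_rev, hAc v⁻¹ (A.inv_mem hvA) u⁻¹ (A.inv_mem huA)] at hzx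
        have hu1 : u = 1 := hself u huA (mul_right_cancel hzx)
        rw [huv, hu1, one_mul]; exact hv
      have h1 := hone (cj r b') (cj_mem r b' hb') (by
        rw [← cj_mul, show z * r = r * z by rw [← hrr, mul_assoc], cj_mul, hzb', cj_inv])
      have h2 : cj r (cj r b') = b' := by
        rcases hline b' hb' hb'1 _ h1 with e | e | e
        · exact absurd e (fun e => hb'1 (by simpa [cj, mul_assoc] using congrArg (cj r⁻¹) e))
        · rw [e, e]
        · rw [e, cj_inv, e, inv_inv]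
      rw [← cj_mul, hrr, hzb'] at h2
      exact hb'1 (hself b' hb' h2.symm)
    intro a ha
    have h1 : a * cj z a ∈ A := A.mul_mem ha (cj_mem z a ha)
    have h2 := hfix _ h1 (by
      rw [cj_hom, ← cj_mul, hzz, hAc a ha (cj z a) (cj_mem z a ha)]; simp [cj])
    exact eq_inv_of_mul_eq_one_right h2
  -- operators
  let T : S → M → M := fun g m => ρ g m
  have T_mul : ∀ g h m, T (g * h) m = T g (T h m) := fun g h m => by simp [T]
  have T_one : ∀ m, T 1 m = m := fun m => by simp [T]
  have h2M : ∀ m : M, m + m = 0 := fun m => by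
    have h := two_smul (ZMod 2) m
    rw [show (2 : ZMod 2) = 0 from rfl, zero_smul] at h
    exact h.symm
  have hA0 : ∀ m : M, (∀ a ∈ A, T a m = m) → m = 0 := by
    intro m hm
    let N : Submodule (ZMod 2) M :=
      { carrier := {m | ∀ a ∈ A, T a m = m}
        add_mem' := fun {x y} hx hy a ha => by simp only [T, map_add]; rw [show ρ a x = x from hx a ha, show ρ a y = y from hy a ha]
        zero_mem' := fun a _ => by simp [T]
        smul_mem' := fun c x hx a ha => by simp only [T, map_smul]; rw [show ρ a x = x from hx a ha] }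
    rcases hirr N (fun g x hx a ha => by
      have := hx (cj g⁻¹ a) (cj_mem _ a ha)
      show T a (T g x) = T g x
      nth_rewrite 2 [← this]
      rw [← T_mul, ← T_mul]; congr 1; simp [cj, mul_assoc]) with h | h
    · have : m ∈ N := hm
      rwa [h, Submodule.mem_bot] at this
    · exfalso
      obtain ⟨a, ha, ha1⟩ : ∃ a ∈ A, a ≠ 1 := (Subgroup.bot_or_exists_ne_one A).resolve_left (fun h => by simp [h] at hA9)
      refine ha1 (hfaith (LinearMap.ext fun x => ?_))
      have : x ∈ N := h ▸ Submodule.mem_top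
      simpa [T] using this a ha
  -- involutions of X outside the centre
  let s₀ := el (DihedralGroup.sr 0)
  have hs0 : ∃ a ∈ A, a ≠ 1 ∧ cj s₀ a = a := by
    by_contra hcon
    push Not at hcon
    have hs00 : s₀ * s₀ = 1 := by rw [← el_mul, ← el_one]; rfl
    refine absurd (hfaithX (DihedralGroup.sr 0 * DihedralGroup.r 2) fun a ha => ?_) (by decide)
    have h1 : a * cj s₀ a ∈ A := A.mul_mem ha (cj_mem _ a ha)
    have h2 : a * cj s₀ a = 1 := by_contra fun h => hcon _ h1 h (by
      rw [cj_hom, ← cj_mul, hs00, hAc a ha (cj s₀ a) (cj_mem _ a ha)]; simp [cj])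
    rw [el_mul, cj_mul, hz_inv a ha, cj_inv]
    exact inv_eq_of_mul_eq_one_left h2
  obtain ⟨c1, hc1, hc11, hsc1⟩ := hs0
  set c2 := cj r c1
  have hc2 : c2 ∈ A := cj_mem r c1 hc1
  have hsr : s₀ * r = r * (s₀ * z) := by simp only [s₀, r, z, ← el_mul]; rfl
  have hsc2 : cj s₀ c2 = c2⁻¹ := by
    rw [← cj_mul, hsr, cj_mul, cj_mul, hz_inv c1 hc1, cj_inv, hsc1, cj_inv]
  have hrc2 : cj r c2 = c1⁻¹ := by rw [← cj_mul, hrr, hz_inv c1 hc1]
  have hc21 : c2 ≠ 1 := fun h => hc11 (inv_eq_one.1 (by rw [← hrc2, h]; simp [cj]))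
  have hnotin : c2 ∉ Subgroup.zpowers c1 := fun h => hc21 (hself c2 hc2 (by
    rw [← hsc2]
    rcases hline c1 hc1 hc11 _ h with e | e | e <;> rw [e]
    · simp [cj]
    · exact hsc1.symm
    · rw [cj_inv, hsc1]))
  -- a line with fixed points
  have hexk : ∃ a ∈ A, a ≠ 1 ∧ ∃ t : DihedralGroup 4, (∃ i, t = DihedralGroup.sr i) ∧ cj (el t) a = a ∧
      ∃ v : M, v ≠ 0 ∧ T a v = v := by
    obtain ⟨w, hw⟩ := exists_ne (0 : M)
    let p : S → M := fun a => w + T a w + T (a * a) w
    have hp : ∀ a ∈ A, T a (p a) = p a := by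
      intro a ha
      have h3 : a * (a * a) = 1 := by rw [← pow_three]; exact hA3 a ha
      simp only [p, T, map_add]
      show T a w + T a (T a w) + T a (T (a * a) w) = w + T a w + T (a * a) w
      rw [← T_mul, ← T_mul, h3, T_one]; abel
    by_cases h1 : p c1 ≠ 0
    · exact ⟨c1, hc1, hc11, _, ⟨0, rfl⟩, hsc1, _, h1, hp c1 hc1⟩
    by_cases h2 : p c2 ≠ 0
    · refine ⟨c2, hc2, hc21, DihedralGroup.sr 0 * DihedralGroup.r 2, ⟨2, rfl⟩, ?_, _, h2, hp c2 hc2⟩
      rw [el_mul, cj_mul, hz_inv c2 hc2, cj_inv, hsc2, inv_inv]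
    have hc12 : c1 * c2 ∈ A := A.mul_mem hc1 hc2
    have hc12' : c1 * c2⁻¹ ∈ A := A.mul_mem hc1 (A.inv_mem hc2)
    by_cases h3 : p (c1 * c2) ≠ 0
    · refine ⟨_, hc12, fun h => hnotin (eq_inv_of_mul_eq_one_right h ▸ inv_mem (Subgroup.mem_zpowers c1)),
        DihedralGroup.sr 0 * DihedralGroup.r 1 * DihedralGroup.r 2, ⟨3, rfl⟩, ?_, _, h3, hp _ hc12⟩
      rw [el_mul, cj_mul, hz_inv _ hc12, el_mul, cj_mul, cj_inv, cj_hom, hrc2, mul_inv_rev, inv_inv, cj_hom, cj_inv,
        hsc1, hsc2, inv_inv]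
    by_cases h4 : p (c1 * c2⁻¹) ≠ 0
    · refine ⟨_, hc12', fun h => hnotin ((mul_inv_eq_one.1 h) ▸ Subgroup.mem_zpowers c1),
        DihedralGroup.sr 0 * DihedralGroup.r 1, ⟨1, rfl⟩, ?_, _, h4, hp _ hc12'⟩
      rw [el_mul, cj_mul, cj_hom, cj_inv, hrc2, inv_inv, cj_hom, hsc1, show cj r c1 = c2 from rfl, hsc2]
      exact hAc _ (A.inv_mem hc2) _ hc1
    push Not at h1 h2 h3 h4
    exfalso
    have hsum : p c1 + p c2 + p (c1 * c2) + p (c1 * c2⁻¹) = w + (w + T c1 w + T (c1 * c1) w + T c2 w + T (c2 * c2) w +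
        T (c1 * c2) w + T (c1 * c1 * (c2 * c2)) w + T (c1 * (c2 * c2)) w + T (c1 * c1 * c2) w) := by
      have e1 : c1 * c2 * (c1 * c2) = c1 * c1 * (c2 * c2) := by
        rw [mul_assoc c1 c2, ← mul_assoc c2, hAc c2 hc2 c1 hc1]; group
      have e2 : c1 * c2⁻¹ * (c1 * c2⁻¹) = c1 * c1 * c2 := by
        have e3 : c2⁻¹ * c2⁻¹ = c2 := by rw [← mul_inv_rev, ← hcube c2 hc2, inv_inv]
        rw [mul_assoc c1 c2⁻¹, ← mul_assoc c2⁻¹, hAc c2⁻¹ (A.inv_mem hc2) c1 hc1, mul_assoc c1 c2⁻¹ c2⁻¹, e3, mul_assoc]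
      simp only [p, e1, e2, ← hcube c2 hc2]
      have := h2M w
      calc _ = (w + w) + (w + (w + T c1 w + T (c1 * c1) w + T c2 w + T c2⁻¹ w +
            T (c1 * c2) w + T (c1 * c1 * c2⁻¹) w + T (c1 * c2⁻¹) w + T (c1 * c1 * c2) w) + 0) := by
            rw [show (0 : M) = 0 from rfl]; abel
        _ = _ := by rw [this]; abel
    rw [h1, h2, h3, h4, add_zero, add_zero, add_zero] at hsum
    set sw := w + T c1 w + T (c1 * c1) w + T c2 w + T (c2 * c2) w +
        T (c1 * c2) w + T (c1 * c1 * (c2 * c2)) w + T (c1 * (c2 * c2)) w + T (c1 * c1 * c2) w with hsw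
    have k1 : c1 * (c1 * c1) = 1 := by rw [← pow_three]; exact hA3 c1 hc1
    have k2 : c2 * (c2 * c2) = 1 := by rw [← pow_three]; exact hA3 c2 hc2
    have f1 : T c1 sw = sw := by
      simp only [hsw, T, map_add]
      show T c1 w + T c1 (T c1 w) + T c1 (T (c1 * c1) w) + T c1 (T c2 w) + T c1 (T (c2 * c2) w) + T c1 (T (c1 * c2) w) +
        T c1 (T (c1 * c1 * (c2 * c2)) w) + T c1 (T (c1 * (c2 * c2)) w) + T c1 (T (c1 * c1 * c2) w) = _
      simp only [← T_mul]
      rw [show c1 * (c1 * c2) = c1 * c1 * c2 by group, show c1 * (c1 * (c2 * c2)) = c1 * c1 * (c2 * c2) by group,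
        show c1 * (c1 * c1 * (c2 * c2)) = (c1 * (c1 * c1)) * (c2 * c2) by group,
        show c1 * (c1 * c1 * c2) = (c1 * (c1 * c1)) * c2 by group, k1, one_mul, one_mul, T_one]
      show _ = w + T c1 w + T (c1 * c1) w + T c2 w + T (c2 * c2) w + T (c1 * c2) w + T (c1 * c1 * (c2 * c2)) w +
        T (c1 * (c2 * c2)) w + T (c1 * c1 * c2) w
      abel
    have f2 : T c2 sw = sw := by
      simp only [hsw, T, map_add]
      show T c2 w + T c2 (T c1 w) + T c2 (T (c1 * c1) w) + T c2 (T c2 w) + T c2 (T (c2 * c2) w) + T c2 (T (c1 * c2) w) +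
        T c2 (T (c1 * c1 * (c2 * c2)) w) + T c2 (T (c1 * (c2 * c2)) w) + T c2 (T (c1 * c1 * c2) w) = _
      simp only [← T_mul]
      have d := hAc c2 hc2
      rw [d c1 hc1, d _ (A.mul_mem hc1 hc1), d (c1 * c2) (A.mul_mem hc1 hc2),
        d (c1 * c1 * (c2 * c2)) (A.mul_mem (A.mul_mem hc1 hc1) (A.mul_mem hc2 hc2)),
        d (c1 * (c2 * c2)) (A.mul_mem hc1 (A.mul_mem hc2 hc2)), d (c1 * c1 * c2) (A.mul_mem (A.mul_mem hc1 hc1) hc2),
        show c1 * c2 * c2 = c1 * (c2 * c2) by group, show c1 * c1 * (c2 * c2) * c2 = c1 * c1 * (c2 * (c2 * c2)) by group,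
        show c1 * (c2 * c2) * c2 = c1 * (c2 * (c2 * c2)) by group, show c1 * c1 * c2 * c2 = c1 * c1 * (c2 * c2) by group,
        k2, mul_one, mul_one, T_one]
      show _ = w + T c1 w + T (c1 * c1) w + T c2 w + T (c2 * c2) w + T (c1 * c2) w + T (c1 * c1 * (c2 * c2)) w +
        T (c1 * (c2 * c2)) w + T (c1 * c1 * c2) w
      abel
    have hfixA : ∀ a ∈ A, T a sw = sw := by
      intro a ha
      obtain ⟨u, hu, v, hv, rfl⟩ := hspan c1 hc1 c2 hc2 hc11 hnotin a ha
      have inv_fix : ∀ g : S, T g sw = sw → T g⁻¹ sw = sw := fun g hg => by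
        nth_rewrite 1 [← hg]; rw [← T_mul, inv_mul_cancel, T_one]
      have hu' : T u sw = sw := by
        rcases hline c1 hc1 hc11 u hu with e | e | e <;> rw [e]
        · exact T_one _
        · exact f1
        · exact inv_fix _ f1
      have hv' : T v sw = sw := by
        rcases hline c2 hc2 hc21 v hv with e | e | e <;> rw [e]
        · exact T_one _
        · exact f2
        · exact inv_fix _ f2
      rw [T_mul, hv', hu']
    rw [hA0 sw hfixA, add_zero] at hsum
    exact hw hsum.symm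
  obtain ⟨a, ha, ha1, t, ⟨i, rfl⟩, hta, v0, hv0, hav0⟩ := hexk
  set s := el (DihedralGroup.sr i)
  set b := cj r a
  have hb : b ∈ A := cj_mem r a ha
  have hsrg : s * r = r * (s * z) := by
    simp only [s, r, z, ← el_mul]; congr 1; clear * - i; revert i; decide
  have hsb : cj s b = b⁻¹ := by rw [← cj_mul, hsrg, cj_mul, cj_mul, hz_inv a ha, cj_inv, hta, cj_inv]
  have hrb : cj r b = a⁻¹ := by rw [← cj_mul, hrr, hz_inv a ha]
  have hb1 : b ≠ 1 := fun h => ha1 (inv_eq_one.1 (by rw [← hrb, h]; simp [cj]))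
  have hba : b ∉ Subgroup.zpowers a := fun h => hb1 (hself b hb (by
    rw [← hsb]
    rcases hline a ha ha1 _ h with e | e | e <;> rw [e]
    · simp [cj]
    · exact hta.symm
    · rw [cj_inv, hta]))
  -- the fixed space of `a`
  have hshift : ∀ g c m, T c (T g m) = T g (T (cj g⁻¹ c) m) := fun g c m => by
    rw [← T_mul, ← T_mul]; congr 1; simp [cj, mul_assoc]
  have inv_fix : ∀ g m, T g m = m → T g⁻¹ m = m := fun g m hg => by
    nth_rewrite 1 [← hg]; rw [← T_mul, inv_mul_cancel, T_one]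
  have hgen : ∀ g : S, ∃ c ∈ A, ∃ d, g = c * el d := by
    intro g
    have : g ∈ (A ⊔ X : Subgroup S) := hAX ▸ Subgroup.mem_top g
    rw [Subgroup.mem_sup_of_normal_left] at this
    obtain ⟨c, hc, x, hx, e'⟩ := this
    obtain ⟨d, rfl⟩ := el_surj x hx
    exact ⟨c, hc, d, e'.symm⟩
  have hsinv : s⁻¹ = s := inv_eq_of_mul_eq_one_right (by rw [← el_mul, ← el_one]; congr 1; clear * - i; revert i; decide)
  have hzinv : z⁻¹ = z := inv_eq_of_mul_eq_one_right hzz
  have hzs : z * s = s * z := by simp only [s, z, ← el_mul]; congr 1; clear * - i; revert i; decide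
  -- generic invariance: a piece of `C(a)` stable under `A`, `s`, `z` spans with its translate
  have hspanM : ∀ N : Submodule (ZMod 2) M, N ≠ ⊥ → (∀ m ∈ N, T a m = m) → (∀ m ∈ N, T b m ∈ N) →
      (∀ m ∈ N, T s m ∈ N) → (∀ m ∈ N, T z m ∈ N) → ∀ m, ∃ n1 ∈ N, ∃ n2 ∈ N, m = n1 + T r n2 := by
    intro N hN hNa hNb hNs hNz
    let W : Submodule (ZMod 2) M := N ⊔ N.map (ρ r)
    have hWmem : ∀ m, m ∈ W ↔ ∃ n1 ∈ N, ∃ n2 ∈ N, m = n1 + T r n2 := by
      intro m
      rw [Submodule.mem_sup]
      constructor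
      · rintro ⟨x, hx, _, ⟨y, hy, rfl⟩, rfl⟩; exact ⟨x, hx, y, hy, rfl⟩
      · rintro ⟨x, hx, y, hy, rfl⟩; exact ⟨x, hx, _, ⟨y, hy, rfl⟩, rfl⟩
    have hNA : ∀ c ∈ A, ∀ m ∈ N, T c m ∈ N := by
      intro c hc m hm
      obtain ⟨u, hu, v, hv, rfl⟩ := hspan a ha b hb ha1 hba c hc
      rw [T_mul]
      have h1 : T v m ∈ N := by
        rcases hline b hb hb1 v hv with e | e | e <;> rw [e]
        · rwa [T_one]
        · exact hNb m hm
        · rw [hcube b hb, T_mul]; exact hNb _ (hNb m hm)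
      rcases hline a ha ha1 u hu with e | e | e <;> rw [e]
      · rwa [T_one]
      · rwa [hNa _ h1]
      · rwa [inv_fix _ _ (hNa _ h1)]
    have hWr : ∀ m ∈ W, T r m ∈ W := by
      intro m hm
      obtain ⟨n1, h1, n2, h2, rfl⟩ := (hWmem m).1 hm
      refine (hWmem _).2 ⟨T z n2, hNz _ h2, n1, h1, ?_⟩
      simp only [T, map_add]
      show T r n1 + T r (T r n2) = T z n2 + T r n1
      rw [← T_mul, hrr, add_comm]
    have hWs : ∀ m ∈ W, T s m ∈ W := by
      intro m hm
      obtain ⟨n1, h1, n2, h2, rfl⟩ := (hWmem m).1 hm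
      refine (hWmem _).2 ⟨T s n1, hNs _ h1, T (s * z) n2, by rw [T_mul]; exact hNs _ (hNz _ h2), ?_⟩
      simp only [T, map_add]
      show T s n1 + T s (T r n2) = T s n1 + T r (T (s * z) n2)
      rw [← T_mul, hsrg, T_mul]
    have hWX : ∀ d, ∀ m ∈ W, T (el d) m ∈ W := by
      have hd : ∀ d : DihedralGroup 4, d = 1 ∨ d = .r 1 ∨ d = .r 1 * .r 1 ∨ d = .r 1 * .r 1 * .r 1 ∨
          d = .sr i ∨ d = .sr i * .r 1 ∨ d = .sr i * .r 1 * .r 1 ∨ d = .sr i * .r 1 * .r 1 * .r 1 := by
        clear * - i; revert i; decide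
      intro d m hm
      rcases hd d with e | e | e | e | e | e | e | e <;> subst e <;> (try simp only [el_mul, T_mul])
      · rwa [el_one, T_one]
      · exact hWr _ hm
      · exact hWr _ (hWr _ hm)
      · exact hWr _ (hWr _ (hWr _ hm))
      · exact hWs _ hm
      · exact hWs _ (hWr _ hm)
      · exact hWs _ (hWr _ (hWr _ hm))
      · exact hWs _ (hWr _ (hWr _ (hWr _ hm)))
    rcases hirr W (fun g m hm => by
      obtain ⟨c, hc, d, rfl⟩ := hgen g
      show T (c * el d) m ∈ W
      rw [T_mul]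
      obtain ⟨n1, h1, n2, h2, e'⟩ := (hWmem _).1 (hWX d m hm)
      rw [e']
      refine (hWmem _).2 ⟨T c n1, hNA c hc _ h1, T (cj r⁻¹ c) n2, hNA _ (cj_mem _ c hc) _ h2, ?_⟩
      simp only [T, map_add]
      show T c n1 + T c (T r n2) = T c n1 + T r (T (cj r⁻¹ c) n2)
      rw [hshift]) with h | h
    · exact absurd (le_bot_iff.1 (h ▸ le_sup_left)) hN
    · exact fun m => (hWmem m).1 (h ▸ Submodule.mem_top)
  have haa : ∀ m : M, T a m = m → T a (T b m) = T b m := fun m hm => by
    rw [← T_mul, hAc a ha b hb, T_mul, hm]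
  have has : ∀ m : M, T a m = m → T a (T s m) = T s m := fun m hm => by
    rw [hshift, hsinv, hta, hm]
  have haz : ∀ m : M, T a m = m → T a (T z m) = T z m := fun m hm => by
    rw [hshift, hzinv, hz_inv a ha, inv_fix a m hm]
  have hdisj : ∀ m, T a m = m → T b m = m → m = 0 := fun m h1 h2 => hA0 m fun c hc => by
    obtain ⟨u, hu, v, hv, rfl⟩ := hspan a ha b hb ha1 hba c hc
    have hu' : T u m = m := by
      rcases hline a ha ha1 u hu with e | e | e <;> rw [e]
      · exact T_one _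
      · exact h1
      · exact inv_fix _ _ h1
    have hv' : T v m = m := by
      rcases hline b hb hb1 v hv with e | e | e <;> rw [e]
      · exact T_one _
      · exact h2
      · exact inv_fix _ _ h2
    rw [T_mul, hv', hu']
  have hb_r : ∀ m, T a m = m → T b (T r m) = T r m := fun m hm => by
    rw [hshift]; simp only [b, ← cj_mul, inv_mul_cancel]; simp [cj, hm]
  -- `s z` acts trivially on the fixed space
  have invol_fix : ∀ g : S, g * g = 1 → ∀ m : M, m ≠ 0 → ∃ n, n ≠ 0 ∧ T g n = n ∧ (n = m + T g m ∨ n = m) := by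
    intro g hg m hm
    by_cases h : m + T g m = 0
    · exact ⟨m, hm, by rw [eq_neg_of_add_eq_zero_right h]; exact (eq_neg_of_add_eq_zero_left (h2M m)).symm, Or.inr rfl⟩
    · refine ⟨_, h, ?_, Or.inl rfl⟩
      simp only [T, map_add]
      show T g m + T g (T g m) = m + T g m
      rw [← T_mul, hg, T_one, add_comm]
  have hsz : s * z * (s * z) = 1 := by simp only [s, z, ← el_mul, ← el_one]; congr 1; clear * - i; revert i; decide
  have hcsz : ∀ m, T (s * z) (T b m) = T b (T (s * z) m) := fun m => by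
    rw [← T_mul, ← T_mul]; congr 1
    have e1 : cj (s * z) b = b := by rw [cj_mul, hz_inv b hb, cj_inv, hsb, inv_inv]
    exact mul_inv_eq_iff_eq_mul.1 e1
  have hszfix : ∀ m, T a m = m → T (s * z) m = m := by
    let N : Submodule (ZMod 2) M :=
      { carrier := {m | T a m = m ∧ T (s * z) m = m}
        add_mem' := fun {x y} hx hy => ⟨by simp only [T, map_add]; rw [show ρ a x = x from hx.1, show ρ a y = y from hy.1],
          by simp only [T, map_add]; rw [show ρ (s * z) x = x from hx.2, show ρ (s * z) y = y from hy.2]⟩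
        zero_mem' := ⟨by simp [T], by simp [T]⟩
        smul_mem' := fun c x hx => ⟨by simp only [T, map_smul]; rw [show ρ a x = x from hx.1],
          by simp only [T, map_smul]; rw [show ρ (s * z) x = x from hx.2]⟩ }
    have hN : N ≠ ⊥ := by
      obtain ⟨n, hn0, hn, hor⟩ := invol_fix (s * z) hsz v0 hv0
      intro h
      have : n ∈ N := ⟨by
        rcases hor with e | e <;> rw [e]
        · simp only [T, map_add]
          show T a v0 + T a (T (s * z) v0) = v0 + T (s * z) v0
          rw [hav0, T_mul, has _ (haz _ hav0)]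
        · exact hav0, hn⟩
      rw [h, Submodule.mem_bot] at this
      exact hn0 this
    have hall := hspanM N hN (fun m hm => hm.1) (fun m hm => ⟨haa m hm.1, by rw [hcsz, hm.2]⟩)
      (fun m hm => ⟨has m hm.1, by rw [← T_mul, show s * z * s = s * (s * z) by rw [mul_assoc, hzs], T_mul, hm.2]⟩)
      (fun m hm => ⟨haz m hm.1, by rw [← T_mul, show s * z * z = z * (s * z) by rw [← mul_assoc z, hzs], T_mul, hm.2]⟩)
    intro m hm
    obtain ⟨n1, h1, n2, h2, e'⟩ := hall m
    have h0 : T r n2 = 0 := by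
      refine hdisj _ ?_ (hb_r n2 h2.1)
      have h3 : T a (n1 + T r n2) = n1 + T r n2 := by rw [← e']; exact hm
      simp only [T, map_add] at h3
      rw [show ρ a n1 = n1 from h1.1] at h3
      exact add_left_cancel h3
    rw [e', h0, add_zero]; exact h1.2
  -- a minimal piece
  obtain ⟨v, hv, hzv, hor⟩ := invol_fix z hzz v0 hv0
  have hav : T a v = v := by
    rcases hor with e | e <;> rw [e]
    · simp only [T, map_add]
      show T a v0 + T a (T z v0) = v0 + T z v0
      rw [hav0, haz _ hav0]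
    · exact hav0
  have hsv : T s v = v := by
    have := hszfix v hav
    rwa [T_mul, hzv] at this
  have hb3 : b * (b * b) = 1 := by rw [← pow_three]; exact hA3 b hb
  have hsum0 : v + T b v + T b (T b v) = 0 := by
    refine hdisj _ ?_ ?_
    · simp only [T, map_add]
      show T a v + T a (T b v) + T a (T b (T b v)) = v + T b v + T b (T b v)
      rw [hav, haa v hav, haa _ (haa v hav)]
    · simp only [T, map_add]
      show T b v + T b (T b v) + T b (T b (T b v)) = v + T b v + T b (T b v)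
      rw [← T_mul, ← T_mul, hb3, T_one]; abel
  have hbb : T b (T b v) = v + T b v := by
    have h1 := h2M (T b (T b v))
    calc T b (T b v) = (v + T b v + T b (T b v)) + T b (T b v) := by rw [hsum0, zero_add]
      _ = v + T b v + (T b (T b v) + T b (T b v)) := by abel
      _ = _ := by rw [h1, add_zero]
  have hbv0 : T b v ≠ 0 := fun h => hv (by
    rw [h, show T b (0 : M) = 0 by simp [T], add_zero, add_zero] at hsum0; exact hsum0)
  have hbvv : T b v ≠ v := fun h => hv (hdisj v hav h)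
  let pts : Fin 4 → M := ![0, v, T b v, v + T b v]
  let N : Submodule (ZMod 2) M :=
    { carrier := Set.range pts
      add_mem' := by
        rintro _ _ ⟨x, rfl⟩ ⟨y, rfl⟩
        have e1 := h2M v
        have e2 := h2M (T b v)
        have e3 : v + (v + T b v) = T b v := by rw [← add_assoc, e1, zero_add]
        have e4 : T b v + (v + T b v) = v := by rw [add_comm v, ← add_assoc, e2, zero_add]
        have e5 : v + T b v + v = T b v := by rw [add_comm, e3]
        have e6 : v + T b v + T b v = v := by rw [add_assoc, e2, add_zero]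
        have e7 : v + T b v + (v + T b v) = 0 := h2M _
        have e8 : T b v + v = v + T b v := add_comm _ _
        fin_cases x <;> fin_cases y
        all_goals first
          | (refine ⟨0, ?_⟩; simp [pts, e1, e2, e7]; done)
          | (refine ⟨1, ?_⟩; simp [pts, e4, e6]; done)
          | (refine ⟨2, ?_⟩; simp [pts, e3, e5]; done)
          | (refine ⟨3, ?_⟩; simp [pts, e8]; done)
      zero_mem' := ⟨0, rfl⟩
      smul_mem' := by
        rintro c _ ⟨x, rfl⟩
        rcases (by revert c; decide : ∀ c : ZMod 2, c = 0 ∨ c = 1) c with e | e <;> rw [e]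
        · exact ⟨0, by simp [pts]⟩
        · exact ⟨x, by simp⟩ }
  have hzb : T z (T b v) = T b (T b v) := by
    rw [← T_mul, show z * b = (b * b) * z by rw [← hcube b hb, ← hz_inv b hb]; simp [cj, mul_assoc],
      T_mul, hzv, T_mul]
  have hsb' : T s (T b v) = T b (T b v) := by
    rw [← T_mul, show s * b = (b * b) * s by rw [← hcube b hb, ← hsb]; simp [cj, mul_assoc], T_mul, hsv, T_mul]
  have hNa : ∀ m ∈ N, T a m = m := by
    rintro _ ⟨x, rfl⟩
    fin_cases x
    · simp [pts, T]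
    · exact hav
    · exact haa v hav
    · show T a (v + T b v) = v + T b v
      rw [← hbb]; exact haa _ (haa v hav)
  have hNinv : ∀ g : S, (∀ x : Fin 4, ∃ y, T g (pts x) = pts y) → ∀ m ∈ N, T g m ∈ N := by
    rintro g hg _ ⟨x, rfl⟩
    obtain ⟨y, hy⟩ := hg x
    exact ⟨y, hy.symm⟩
  have hall := hspanM N (fun h => hv (by
    have : v ∈ N := ⟨1, rfl⟩
    rwa [h, Submodule.mem_bot] at this)) hNa
    (hNinv b fun x => by
      fin_cases x
      · exact ⟨0, by simp [pts, T]⟩
      · exact ⟨2, rfl⟩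
      · exact ⟨3, hbb⟩
      · exact ⟨1, by show T b (v + T b v) = v; rw [← hbb, ← T_mul, ← T_mul, mul_assoc, hb3, T_one]⟩)
    (hNinv s fun x => by
      fin_cases x
      · exact ⟨0, by simp [pts, T]⟩
      · exact ⟨1, hsv⟩
      · exact ⟨3, by show T s (T b v) = v + T b v; rw [hsb', hbb]⟩
      · exact ⟨2, by
          show T s (v + T b v) = T b v
          simp only [T, map_add]
          show T s v + T s (T b v) = T b v
          rw [hsv, hsb', hbb, ← add_assoc, h2M, zero_add]⟩)
    (hNinv z fun x => by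
      fin_cases x
      · exact ⟨0, by simp [pts, T]⟩
      · exact ⟨1, hzv⟩
      · exact ⟨3, by show T z (T b v) = v + T b v; rw [hzb, hbb]⟩
      · exact ⟨2, by
          show T z (v + T b v) = T b v
          simp only [T, map_add]
          show T z v + T z (T b v) = T b v
          rw [hzv, hzb, hbb, ← add_assoc, h2M, zero_add]⟩)
  have hpts : Function.Injective pts := by
    have a1 : v + T b v ≠ 0 := fun h => hbvv (by
      calc T b v = (v + v) + T b v := by rw [h2M, zero_add]
        _ = v + (v + T b v) := by abel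
        _ = v := by rw [h, add_zero])
    have a2 : v + T b v ≠ v := fun h => hbv0 (add_eq_left.1 h)
    have a3 : v + T b v ≠ T b v := fun h => hv (add_eq_right.1 h)
    intro x y h
    fin_cases x <;> fin_cases y <;> simp [pts, hv, hbv0, hbvv, a1, a2, a3, Ne.symm hv, Ne.symm hbv0, Ne.symm hbvv, Ne.symm a1, Ne.symm a2, Ne.symm a3] at h ⊢
  let coord : Fin 4 × Fin 4 → M := fun q => pts q.1 + T r (pts q.2)
  have hr_inj : ∀ m, T r m = 0 → m = 0 := fun m h => by
    have := congrArg (T r⁻¹) h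
    rwa [← T_mul, inv_mul_cancel, T_one, show T r⁻¹ (0 : M) = 0 by simp [T]] at this
  have hsplit : ∀ n1 ∈ N, ∀ n2 ∈ N, ∀ n1' ∈ N, ∀ n2' ∈ N, n1 + T r n2 = n1' + T r n2' → n1 = n1' ∧ n2 = n2' := by
    intro n1 h1 n2 h2 n1' h1' n2' h2' h
    have h3 : n1 - n1' = T r (n2' - n2) := by
      simp only [T, map_sub]
      show n1 - n1' = T r n2' - T r n2
      calc n1 - n1' = (n1 + T r n2) - n1' - T r n2 := by abel
        _ = _ := by rw [h]; abel
    have h4 : T r (n2' - n2) = 0 := hdisj _ (by rw [← h3]; exact hNa _ (N.sub_mem h1 h1')) (hb_r _ (hNa _ (N.sub_mem h2' h2)))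
    exact ⟨sub_eq_zero.1 (h3.trans h4), (sub_eq_zero.1 (hr_inj _ h4)).symm⟩
  have hcoord : Function.Bijective coord := by
    refine ⟨?_, fun m => ?_⟩
    · rintro ⟨x, y⟩ ⟨x', y'⟩ h
      obtain ⟨e1, e2⟩ := hsplit _ ⟨x, rfl⟩ _ ⟨y, rfl⟩ _ ⟨x', rfl⟩ _ ⟨y', rfl⟩ h
      exact Prod.ext (hpts e1) (hpts e2)
    · obtain ⟨_, ⟨x, rfl⟩, _, ⟨y, rfl⟩, e'⟩ := hall m
      exact ⟨(x, y), e'.symm⟩
  refine ⟨by rw [← Nat.card_eq_of_bijective coord hcoord]; simp, ?_⟩
  -- fixed points of the two four-subgroups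
  have hzfix : ∀ x y : Fin 4, T z (coord (x, y)) = coord (x, y) → (x = 0 ∨ x = 1) ∧ (y = 0 ∨ y = 1) := by
    have hz4 : ∀ x : Fin 4, T z (pts x) = pts x → x = 0 ∨ x = 1 := by
      intro x hx
      fin_cases x
      · exact Or.inl rfl
      · exact Or.inr rfl
      · exfalso
        have h : T z (T b v) = T b v := hx
        rw [hzb, hbb] at h
        exact hv (add_eq_right.1 h)
      · exfalso
        have h : T z (v + T b v) = v + T b v := hx
        simp only [T, map_add] at h
        rw [show ρ z v = v from hzv] at h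
        have h' : T z (T b v) = T b v := add_left_cancel h
        rw [hzb, hbb] at h'
        exact hv (add_eq_right.1 h')
    intro x y h
    have hNz : ∀ w : Fin 4, T z (pts w) ∈ N := by
      intro w
      fin_cases w
      · exact ⟨0, by simp [pts, T]⟩
      · exact ⟨1, hzv.symm⟩
      · exact ⟨3, (by show v + T b v = T z (T b v); rw [hzb, hbb])⟩
      · exact ⟨2, (by
          show T b v = T z (v + T b v)
          simp only [T, map_add]
          show T b v = T z v + T z (T b v)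
          rw [hzv, hzb, hbb, ← add_assoc, h2M, zero_add])⟩
    have hrz : z * r = r * z := by rw [← hrr, mul_assoc]
    have h' : T z (pts x) + T r (T z (pts y)) = pts x + T r (pts y) := by
      rw [← T_mul, ← hrz, T_mul]
      simpa [coord, T, map_add] using h
    obtain ⟨e1, e2⟩ := hsplit _ (hNz x) _ (hNz y) _ ⟨x, rfl⟩ _ ⟨y, rfl⟩ h'
    exact ⟨hz4 x e1, hz4 y e2⟩
  have hfix01 : ∀ x : Fin 4, x = 0 ∨ x = 1 → T z (pts x) = pts x ∧ T s (pts x) = pts x := by
    rintro x (rfl | rfl)
    · exact ⟨by simp [pts, T], by simp [pts, T]⟩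
    · exact ⟨hzv, hsv⟩
  -- the four-subgroup not preserving the summands
  set s' := el (DihedralGroup.sr i * DihedralGroup.r 1) with hs'
  have hs'sr : s' = s * r := el_mul _ _
  let B : Subgroup S :=
    { carrier := el '' {d | d = 1 ∨ d = .r 2 ∨ d = .sr i * .r 1 ∨ d = .sr i * .r 1 * .r 2}
      one_mem' := ⟨1, Or.inl rfl, el_one⟩
      mul_mem' := by
        rintro _ _ ⟨d, hd, rfl⟩ ⟨d', hd', rfl⟩
        refine ⟨d * d', ?_, el_mul _ _⟩
        show d * d' = 1 ∨ _
        rcases hd with e | e | e | e <;> rcases hd' with e' | e' | e' | e' <;> subst e <;> subst e' <;>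
          (clear * - i; revert i; decide)
      inv_mem' := by
        rintro _ ⟨d, hd, rfl⟩
        refine ⟨d⁻¹, ?_, el_inv d⟩
        show d⁻¹ = 1 ∨ _
        rcases hd with e | e | e | e <;> subst e <;> (clear * - i; revert i; decide) }
  have hBel : ∀ d, el d ∈ B ↔ (d = 1 ∨ d = .r 2 ∨ d = .sr i * .r 1 ∨ d = .sr i * .r 1 * .r 2) := fun d =>
    ⟨fun ⟨d', hd', e'⟩ => el_inj e' ▸ hd', fun h => ⟨d, h, rfl⟩⟩
  have hrz : z * r = r * z := by rw [← hrr, mul_assoc]
  have hs'fix : ∀ x y : Fin 4, (x = 0 ∨ x = 1) → (y = 0 ∨ y = 1) →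
      T s' (coord (x, y)) = pts y + T r (pts x) := by
    intro x y hx hy
    rw [hs'sr, T_mul]
    simp only [coord, T, map_add]
    show T s (T r (pts x)) + T s (T r (T r (pts y))) = pts y + T r (pts x)
    rw [← T_mul r r, hrr, (hfix01 y hy).1, (hfix01 y hy).2, ← T_mul, hsrg, T_mul, T_mul, (hfix01 x hx).1, (hfix01 x hx).2,
      add_comm]
  have hzfix' : ∀ x y : Fin 4, (x = 0 ∨ x = 1) → (y = 0 ∨ y = 1) → T z (coord (x, y)) = coord (x, y) := by
    intro x y hx hy
    simp only [coord, T, map_add]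
    show T z (pts x) + T z (T r (pts y)) = pts x + T r (pts y)
    rw [(hfix01 x hx).1, ← T_mul, hrz, T_mul, (hfix01 y hy).1]
  have hBfix : Nat.card {m : M // ∀ g ∈ B, ρ g m = m} = 2 := by
    have key : ∀ m : M, (∀ g ∈ B, T g m = m) ↔ m = coord (0, 0) ∨ m = coord (1, 1) := by
      intro m
      constructor
      · intro hm
        obtain ⟨⟨x, y⟩, rfl⟩ := hcoord.2 m
        obtain ⟨hx, hy⟩ := hzfix x y (hm z ((hBel _).2 (Or.inr (Or.inl rfl))))
        have h1 := hm s' ((hBel _).2 (Or.inr (Or.inr (Or.inl rfl))))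
        rw [hs'fix x y hx hy] at h1
        obtain ⟨e1, -⟩ := hsplit _ ⟨y, rfl⟩ _ ⟨x, rfl⟩ _ ⟨x, rfl⟩ _ ⟨y, rfl⟩ h1
        have := hpts e1
        rcases hx with e | e <;> rw [this, e] <;> simp
      · intro h
        obtain ⟨x, hx, rfl⟩ : ∃ x : Fin 4, (x = 0 ∨ x = 1) ∧ m = coord (x, x) := by
          rcases h with h | h
          · exact ⟨0, Or.inl rfl, h⟩
          · exact ⟨1, Or.inr rfl, h⟩
        rintro _ ⟨d, hd, rfl⟩
        rcases hd with e | e | e | e <;> subst e
        · rw [el_one, T_one]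
        · exact hzfix' x x hx hx
        · exact hs'fix x x hx hx
        · rw [el_mul, T_mul]
          show T s' (T z (coord (x, x))) = _
          rw [hzfix' x x hx hx, hs'fix x x hx hx]
    have hne : coord (0, 0) ≠ coord (1, 1) := fun h => by simpa using hcoord.1 h
    have : {m : M | ∀ g ∈ B, ρ g m = m} = {coord (0, 0), coord (1, 1)} := Set.ext fun m => key m
    show Nat.card ↥{m : M | ∀ g ∈ B, ρ g m = m} = 2
    rw [this, Nat.card_coe_set_eq, Set.ncard_pair hne]
  have hB4 : Nat.card B = 4 := by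
    show Nat.card ↥(el '' {d | d = 1 ∨ d = .r 2 ∨ d = .sr i * .r 1 ∨ d = .sr i * .r 1 * .r 2}) = 4
    rw [Nat.card_image_of_injective el_inj, Nat.card_eq_fintype_card]
    clear * - i; revert i; decide
  refine ⟨B, ⟨?_, hB4, ?_, hBfix⟩, ?_⟩
  · rintro _ ⟨d, _, rfl⟩; exact el_mem d
  · rintro _ ⟨d, hd, rfl⟩
    rw [pow_two, ← el_mul, ← el_one]
    congr 1
    rcases hd with e | e | e | e <;> subst e <;> (clear * - i; revert i; decide)
  · rintro B' ⟨hB'X, hB'4, hB'2, hB'fix⟩
    haveI hfB : Finite B := Nat.finite_of_card_ne_zero (by rw [hB4]; norm_num)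
    haveI hfB' : Finite B' := Nat.finite_of_card_ne_zero (by rw [hB'4]; norm_num)
    by_cases hsB : s ∈ B' ∨ s * z ∈ B'
    · exfalso
      -- the other four-subgroup fixes four points
      have hB'el : ∀ g ∈ B', g = 1 ∨ g = z ∨ g = s ∨ g = s * z := by
        intro g hg
        obtain ⟨d, rfl⟩ := el_surj g (hB'X hg)
        obtain ⟨d', hd'B, hd'⟩ : ∃ d', el d' ∈ B' ∧ (d' = .sr i ∨ d' = .sr i * .r 2) := by
          rcases hsB with h | h
          · exact ⟨_, h, Or.inl rfl⟩
          · exact ⟨.sr i * .r 2, by rw [el_mul]; exact h, Or.inr rfl⟩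
        have e1 : d * d = 1 := el_inj (by rw [el_mul, ← pow_two, hB'2 _ hg, el_one])
        have e2 : d * d' * (d * d') = 1 := el_inj (by rw [el_mul, el_mul, ← pow_two, hB'2 _ (mul_mem hg hd'B), el_one])
        have hd : d = 1 ∨ d = .r 2 ∨ d = .sr i ∨ d = .sr i * .r 2 := by
          rcases hd' with e | e <;> subst e <;> (clear hfB hfB'; clear * - d i e1 e2; revert d i; decide)
        rcases hd with e | e | e | e <;> subst e
        · exact Or.inl el_one
        · exact Or.inr (Or.inl rfl)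
        · exact Or.inr (Or.inr (Or.inl rfl))
        · exact Or.inr (Or.inr (Or.inr (el_mul _ _)))
      have hsub : ∀ x y : Fin 4, (x = 0 ∨ x = 1) → (y = 0 ∨ y = 1) → ∀ g ∈ B', T g (coord (x, y)) = coord (x, y) := by
        intro x y hx hy g hg
        have hs1 : T s (coord (x, y)) = coord (x, y) := by
          simp only [coord, T, map_add]
          show T s (pts x) + T s (T r (pts y)) = pts x + T r (pts y)
          rw [(hfix01 x hx).2, ← T_mul, hsrg, T_mul, T_mul, (hfix01 y hy).1, (hfix01 y hy).2]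
        rcases hB'el g hg with e | e | e | e <;> rw [e]
        · exact T_one _
        · exact hzfix' x y hx hy
        · exact hs1
        · rw [T_mul, hzfix' x y hx hy, hs1]
      let f : Fin 2 × Fin 2 → {m : M // ∀ g ∈ B', ρ g m = m} := fun q =>
        ⟨coord (Fin.castLE (by norm_num) q.1, Fin.castLE (by norm_num) q.2), hsub _ _
          (by rcases q with ⟨x, y⟩; fin_cases x <;> simp) (by rcases q with ⟨x, y⟩; fin_cases y <;> simp)⟩
      have hf : Function.Injective f := fun q q' h => by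
        have := hcoord.1 (congrArg Subtype.val h)
        exact Prod.ext (Fin.ext (congrArg (fun q : Fin 4 × Fin 4 => (q.1 : ℕ)) this))
          (Fin.ext (congrArg (fun q : Fin 4 × Fin 4 => (q.2 : ℕ)) this))
      have := Nat.card_le_card_of_injective f hf
      rw [hB'fix] at this
      simp at this
    · push Not at hsB
      refine Subgroup.eq_of_le_of_card_ge (fun g hg => ?_) (by rw [hB4, hB'4])
      obtain ⟨d, rfl⟩ := el_surj g (hB'X hg)
      have e1 : d * d = 1 := el_inj (by rw [el_mul, ← pow_two, hB'2 _ hg, el_one])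
      have n1 : d ≠ .sr i := fun e => hsB.1 (by show el (.sr i) ∈ B'; rw [← e]; exact hg)
      have n2 : d ≠ .sr i * .r 2 := fun e => hsB.2 (by show el (.sr i) * el (.r 2) ∈ B'; rw [← el_mul, ← e]; exact hg)
      exact (hBel d).2 (by clear hfB hfB'; clear * - d i e1 n1 n2; revert d i; decide)

end Cfsg.Agent.S4407
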