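import Cfsg.Statements.S4408

import Mathlib
import Cfsg.Agent.Solv.Generation
import Cfsg.Agent.Solv.CoprimeAction
import Cfsg.Agent.Solv.FittingBasic

set_option autoImplicit false
set_option linter.style.haveILetI false
open Cfsg

namespace Cfsg.Agent.S4408

theorem card_sup' {S : Type*} [Group S] [Finite S] {X M : Subgroup S}
    (hXM : X ≤ Subgroup.normalizer (M : Set S)) (hbot : M ⊓ X = ⊥) :
    Nat.card (X ⊔ M : Subgroup S) = Nat.card X * Nat.card M := by
  set L := Subgroup.normalizer (M : Set S) with hL
  have hML : M ≤ L := Subgroup.le_normalizer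
  haveI : (M.subgroupOf L).Normal := Subgroup.normal_in_normalizer
  have h1 := CfsgLib.Solv.card_sup_mul_card_inf (X.subgroupOf L) (M.subgroupOf L)
  have h2 : X.subgroupOf L ⊓ M.subgroupOf L = ⊥ := by
    rw [Subgroup.eq_bot_iff_forall]
    rintro w ⟨hw1, hw2⟩
    have : (w : S) ∈ M ⊓ X := ⟨hw2, hw1⟩
    rw [hbot, Subgroup.mem_bot] at this
    exact Subtype.ext this
  rwa [h2, Subgroup.card_bot, mul_one, ← Subgroup.subgroupOf_sup hXM hML,
    Nat.card_congr (Subgroup.subgroupOfEquivOfLe (sup_le hXM hML)).toEquiv,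
    Nat.card_congr (Subgroup.subgroupOfEquivOfLe hXM).toEquiv,
    Nat.card_congr (Subgroup.subgroupOfEquivOfLe hML).toEquiv] at h1

theorem lines {S : Type*} [Group S] [Finite S] (I : Subgroup S) [IsMulCommutative I]
    (hexp : ∀ u ∈ I, u * u = 1) :
    ∀ (k : ℕ) (J F : Subgroup S), J ≤ I → Nat.card J = 2 ^ k → Odd (Nat.card F) →
      Group.IsNilpotent F → I ≤ Subgroup.normalizer (F : Set S) →
      J ⊓ Subgroup.centralizer (F : Set S) = ⊥ →
      ∃ f : Fin k → Subgroup S, (∀ i, (Nat.card ↥(f i)).Prime) ∧ (∀ i, f i ≤ F) ∧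
        (∀ i, I ≤ Subgroup.normalizer ((f i) : Set S)) ∧
        (∀ i j, i ≠ j → ∀ a ∈ f i, ∀ b ∈ f j, a * b = b * a) ∧
        Nat.card ↥(⨆ i, f i) = ∏ i, Nat.card ↥(f i) ∧
        J ⊓ Subgroup.centralizer ((⨆ i, f i : Subgroup S) : Set S) = ⊥ ∧
        ∀ x ∈ ⨆ i, f i, (∀ u ∈ J, u * x = x * u) → x = 1 := by
  classical
  intro k
  induction k with
  | zero =>
    intro J F _ hJ _ _ _ _
    have hJ1 : J = ⊥ := Subgroup.card_eq_one.mp (by simpa using hJ)
    refine ⟨fun i => i.elim0, fun i => i.elim0, fun i => i.elim0, fun i => i.elim0,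
      fun i => i.elim0, ?_, by rw [hJ1, bot_inf_eq], ?_⟩
    · simp [iSup_of_empty]
    · intro x hx _
      simpa [iSup_of_empty] using hx
  | succ k ih =>
    intro J F hJI hJ hodd hnil hnorm hfaith
    have hIc : ∀ u ∈ I, ∀ v ∈ I, u * v = v * u := fun u hu v hv =>
      CfsgLib.Solv.commute_of_isMulCommutative hu hv
    have hinvI : ∀ u ∈ I, u⁻¹ = u := fun u hu => inv_eq_of_mul_eq_one_right (hexp u hu)
    have hconjF : ∀ u ∈ I, ∀ x ∈ F, u * x * u⁻¹ ∈ F := fun u hu x hx =>
      (Subgroup.mem_normalizer_iff.mp (hnorm hu) x).mp hx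
    have hIp : IsPGroup 2 I := fun u => ⟨1, Subtype.ext (by
      rw [pow_one, pow_two]; exact hexp u u.2)⟩
    obtain ⟨B, hBI, ⟨a', ha', hBa⟩, hnot⟩ : ∃ B : Subgroup S, B ≤ I ∧
        (∃ a ∈ I, B ⊔ Subgroup.zpowers a = I) ∧
        ¬ F ⊓ Subgroup.centralizer (B : Set S) ≤ Subgroup.centralizer (J : Set S) := by
      by_contra hcon
      push Not at hcon
      have hcop : (Nat.card I).Coprime (Nat.card F) := by
        obtain ⟨e, he⟩ := IsPGroup.iff_card.mp hIp
        rw [he]
        exact Nat.Coprime.pow_left _ (Nat.coprime_two_left.mpr hodd)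
      have hle := CfsgLib.Solv.le_of_cocyclic_centralizers hnorm hcop hcon
      have hJ1 : J = ⊥ := by
        rw [eq_bot_iff, ← hfaith]
        exact le_inf le_rfl (Subgroup.le_centralizer_iff.mp hle)
      rw [hJ1, Subgroup.card_bot] at hJ
      have := Nat.one_lt_two_pow (n := k + 1) (by omega)
      omega
    obtain ⟨x, hx, hxJ⟩ := SetLike.not_le_iff_exists.mp hnot
    rw [Subgroup.mem_centralizer_iff] at hxJ
    push Not at hxJ
    obtain ⟨a, haJ, hax⟩ := hxJ
    have haI := hJI haJ
    have hxB : ∀ b ∈ B, b * x = x * b := Subgroup.mem_centralizer_iff.mp hx.2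
    set y := x⁻¹ * (a * x * a⁻¹) with hy
    have hyF : y ∈ F := F.mul_mem (F.inv_mem hx.1) (hconjF a haI x hx.1)
    have hyB : ∀ b ∈ B, b * y = y * b := by
      intro b hb
      have h1 : Commute b x := hxB b hb
      have h2 : Commute b a := hIc b (hBI hb) a haI
      exact (h1.inv_right.mul_right ((h2.mul_right h1).mul_right h2.inv_right)).eq
    have hy1 : y ≠ 1 := by
      intro h
      rw [hy, inv_mul_eq_one, eq_mul_inv_iff_mul_eq] at h
      exact hax h.symm
    have hinv : a * y * a⁻¹ = y⁻¹ := by
      have haa : a⁻¹ = a := hinvI a haI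
      have haa2 : ∀ w : S, a * (a * w) = w := fun w => by rw [← mul_assoc, hexp a haI, one_mul]
      rw [hy, haa, mul_inv_rev, mul_inv_rev, mul_inv_rev, haa, inv_inv]
      simp only [mul_assoc, hexp a haI, mul_one, haa2]
    obtain ⟨q, hq, hqd⟩ := Nat.exists_prime_and_dvd (n := orderOf y) (by rwa [Ne, orderOf_eq_one_iff])
    haveI : Fact q.Prime := ⟨hq⟩
    set z := y ^ (orderOf y / q) with hz
    have hzo : orderOf z = q := by
      rw [hz, orderOf_pow_orderOf_div (orderOf_pos y).ne' hqd]
    have hzF : z ∈ F := F.pow_mem hyF _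
    have hzinv : a * z * a⁻¹ = z⁻¹ := by
      rw [hz, ← conj_pow, hinv, inv_pow]
    have hzB : ∀ b ∈ B, Commute b z := fun b hb => Commute.pow_right (hyB b hb) _
    have hzq : Nat.card (Subgroup.zpowers z) = q := by rw [Nat.card_zpowers, hzo]
    have hqodd : q ≠ 2 := fun h2 => by
      have h3 : 2 ∣ Nat.card F := h2 ▸ hzo ▸ Subgroup.orderOf_dvd_natCard _ hzF
      exact (Nat.not_even_iff_odd.mpr hodd) (even_iff_two_dvd.mpr h3)
    have hzne : ∀ w ∈ Subgroup.zpowers z, a * w = w * a → w = 1 := by
      intro w hw hwa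
      obtain ⟨i, rfl⟩ := Subgroup.mem_zpowers_iff.mp hw
      have h1 : a * z ^ i * a⁻¹ = (z ^ i)⁻¹ := by rw [← conj_zpow, hzinv, inv_zpow]
      rw [hwa, mul_inv_cancel_right] at h1
      have h2 : (z ^ i) ^ 2 = 1 := by
        rw [pow_two]; nth_rw 2 [h1]; exact mul_inv_cancel _
      have h3 : orderOf (z ^ i) ∣ Nat.gcd 2 q := Nat.dvd_gcd (orderOf_dvd_of_pow_eq_one h2)
        (hzq ▸ Subgroup.orderOf_dvd_natCard _ hw)
      rw [(Nat.coprime_primes Nat.prime_two hq).mpr (Ne.symm hqodd), Nat.dvd_one,
        orderOf_eq_one_iff] at h3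
      exact h3
    -- every element of I centralises or inverts z
    have hsplit : ∀ u ∈ I, Commute u z ∨ Commute (u * a) z := by
      let T : Subgroup S :=
        { carrier := {u | u ∈ I ∧ (Commute u z ∨ Commute (u * a) z)}
          one_mem' := ⟨I.one_mem, Or.inl (Commute.one_left z)⟩
          mul_mem' := by
            rintro u v ⟨hu, hu'⟩ ⟨hv, hv'⟩
            refine ⟨I.mul_mem hu hv, ?_⟩
            rcases hu' with h1 | h1 <;> rcases hv' with h2 | h2
            · exact Or.inl (h1.mul_left h2)
            · exact Or.inr (by rw [mul_assoc]; exact h1.mul_left h2)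
            · refine Or.inr ?_
              rw [show u * v * a = u * a * v by rw [mul_assoc, hIc v hv a haI, ← mul_assoc]]
              exact h1.mul_left h2
            · refine Or.inl ?_
              rw [show u * v = (u * a) * (v * a) by
                rw [hIc v hv a haI, ← mul_assoc, mul_assoc u a a, hexp a haI, mul_one]]
              exact h1.mul_left h2
          inv_mem' := by
            rintro u ⟨hu, hu'⟩
            rw [Set.mem_setOf_eq, hinvI u hu]
            exact ⟨hu, hu'⟩ }
      intro u hu
      have hle : I ≤ T := by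
        conv_lhs => rw [← hBa]
        refine sup_le (fun b hb => ⟨hBI hb, Or.inl (hzB b hb)⟩) (Subgroup.zpowers_le.mpr ⟨ha', ?_⟩)
        have haBa : a ∈ B ⊔ Subgroup.zpowers a' := hBa.symm ▸ haI
        have hn : Subgroup.zpowers a' ≤ Subgroup.normalizer (B : Set S) := by
          refine Subgroup.zpowers_le.mpr (Subgroup.centralizer_le_normalizer _ ?_)
          rw [Subgroup.mem_centralizer_iff]
          exact fun b hb => hIc b (hBI hb) a' ha'
        rw [← SetLike.mem_coe, Subgroup.coe_mul_of_right_le_normalizer_left B (Subgroup.zpowers a') hn] at haBa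
        obtain ⟨b, hb, w, hw, hbw⟩ := haBa
        obtain ⟨i, rfl⟩ := Subgroup.mem_zpowers_iff.mp hw
        rcases Int.even_or_odd i with ⟨j, rfl⟩ | ⟨j, rfl⟩
        · exfalso
          have h1 : a' ^ (j + j) = 1 := by
            rw [← two_mul, zpow_mul]; norm_num [pow_two, hexp a' ha']
          have hab : a = b := by rw [← hbw]; simp [h1]
          have h2 : a * z * a⁻¹ = z := by
            rw [hab, (hzB b hb).eq, mul_inv_cancel_right]
          have h3 := hzne z (Subgroup.mem_zpowers z) (by
            have h4 := congrArg (· * a) h2; simpa using h4)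
          rw [h3, orderOf_one] at hzo
          exact hq.one_lt.ne hzo
        · refine Or.inr ?_
          have h1 : a' ^ (2 * j + 1) = a' := by
            rw [zpow_add, zpow_mul]; norm_num [pow_two, hexp a' ha']
          have hab : b * a' = a := by rw [← hbw]; simp [h1]
          have h5 : a' * a = b := by
            rw [← hab, hIc b (hBI hb) a' ha', ← mul_assoc, hexp a' ha', one_mul]
          rw [h5]
          exact hzB b hb
      exact (hle hu).2
    have hnormz : I ≤ Subgroup.normalizer (Subgroup.zpowers z : Set S) := by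
      intro u hu
      refine Subgroup.mem_normalizer_fintype fun w hw => ?_
      obtain ⟨i, rfl⟩ := Subgroup.mem_zpowers_iff.mp hw
      have key : u * z * u⁻¹ = z ∨ u * z * u⁻¹ = z⁻¹ := by
        rcases hsplit u hu with h | h
        · left; rw [h.eq, mul_inv_cancel_right]
        · right
          have h1 : (u * a) * z * (u * a)⁻¹ = z := by rw [h.eq, mul_inv_cancel_right]
          rw [← hzinv]
          have h2 : u = a * (u * a) := by rw [← mul_assoc, hIc a haI u hu, mul_assoc, hexp a haI, mul_one]
          conv_lhs => rw [h2, mul_inv_rev]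
          conv_rhs => rw [← h1]
          group
      rw [SetLike.mem_coe, ← conj_zpow]
      rcases key with h | h <;> rw [h]
      · exact Subgroup.zpow_mem _ (Subgroup.mem_zpowers z) i
      · exact Subgroup.zpow_mem _ (Subgroup.inv_mem _ (Subgroup.mem_zpowers z)) i
    set J₁ := J ⊓ Subgroup.centralizer ({z} : Set S) with hJ₁
    set F' := F ⊓ Subgroup.centralizer ({z} : Set S) with hF'
    have hJcard : Nat.card J₁ = 2 ^ k := by
      have haJ1 : J₁ ⊓ Subgroup.zpowers a = ⊥ := by
        rw [Subgroup.eq_bot_iff_forall]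
        rintro w ⟨hw1, hw2⟩
        have hcases : w = 1 ∨ w = a := by
          obtain ⟨i, rfl⟩ := Subgroup.mem_zpowers_iff.mp hw2
          rcases Int.even_or_odd i with ⟨j, rfl⟩ | ⟨j, rfl⟩
          · left; rw [← two_mul, zpow_mul]; norm_num [pow_two, hexp a haI]
          · right; rw [zpow_add, zpow_mul]; norm_num [pow_two, hexp a haI]
        rcases hcases with h | h
        · exact h
        · exfalso
          subst h
          have h1 := hzne z (Subgroup.mem_zpowers z) (Subgroup.mem_centralizer_singleton_iff.mp hw1.2)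
          rw [h1, orderOf_one] at hzo
          exact hq.one_lt.ne hzo
      have hsup : J₁ ⊔ Subgroup.zpowers a = J := by
        refine le_antisymm (sup_le inf_le_left (Subgroup.zpowers_le.mpr haJ)) fun u hu => ?_
        rcases hsplit u (hJI hu) with h | h
        · exact Subgroup.mem_sup_left ⟨hu, Subgroup.mem_centralizer_singleton_iff.mpr h.eq⟩
        · have h1 : u * a ∈ J₁ :=
            ⟨J.mul_mem hu haJ, Subgroup.mem_centralizer_singleton_iff.mpr h.eq⟩
          have h2 : u = (u * a) * a := by rw [mul_assoc, hexp a haI, mul_one]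
          rw [h2]
          exact Subgroup.mul_mem _ (Subgroup.mem_sup_left h1)
            (Subgroup.mem_sup_right (Subgroup.mem_zpowers a))
      have hn : Subgroup.zpowers a ≤ Subgroup.normalizer (J₁ : Set S) := by
        refine Subgroup.zpowers_le.mpr (Subgroup.centralizer_le_normalizer _ ?_)
        rw [Subgroup.mem_centralizer_iff]
        exact fun v hv => hIc v (hJI hv.1) a haI
      have h1 := card_sup' hn haJ1
      rw [sup_comm, hsup, hJ, Nat.card_zpowers, mul_comm] at h1
      have hoa : orderOf a = 2 := orderOf_eq_prime (by rw [pow_two]; exact hexp a haI)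
        (fun h => hax (by rw [h]; simp))
      rw [hoa, pow_succ] at h1
      exact (Nat.eq_of_mul_eq_mul_right two_pos h1).symm
    have hF'norm : I ≤ Subgroup.normalizer (F' : Set S) := by
      intro u hu
      refine Subgroup.mem_normalizer_fintype fun w hw => ?_
      refine Subgroup.mem_inf.mpr ⟨hconjF u hu w hw.1, ?_⟩
      rw [Subgroup.mem_centralizer_iff]
      rintro v rfl
      have hzu : u⁻¹ * z * u ∈ Subgroup.zpowers z :=
        (Subgroup.mem_normalizer_iff''.mp (hnormz hu) z).mp (Subgroup.mem_zpowers z)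
      obtain ⟨i, hi⟩ := Subgroup.mem_zpowers_iff.mp hzu
      have hwz : Commute w z := Subgroup.mem_centralizer_singleton_iff.mp hw.2
      have h1 : Commute w (u⁻¹ * z * u) := hi ▸ hwz.zpow_right i
      calc z * (u * w * u⁻¹) = u * ((u⁻¹ * z * u) * w) * u⁻¹ := by group
        _ = u * (w * (u⁻¹ * z * u)) * u⁻¹ := by rw [h1.eq]
        _ = u * w * u⁻¹ * z := by group
    haveI := hnil
    have hfaith' : J₁ ⊓ Subgroup.centralizer (F' : Set S) = ⊥ := by
      rw [eq_bot_iff, ← hfaith]
      refine fun u hu => ⟨hu.1.1, ?_⟩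
      obtain ⟨hu1, hu2⟩ := hu
      have hall : ∀ r : ℕ, r.Prime → ∀ U : Sylow r F, ∀ w : F, w ∈ (U : Subgroup F) → u * (w : S) = w * u := by
        intro r hr U
        haveI : Fact r.Prime := ⟨hr⟩
        haveI hUn : (U : Subgroup F).Normal :=
          Sylow.normal_of_normalizerCondition Group.normalizerCondition_of_isNilpotent U
        haveI : (U : Subgroup F).Characteristic := Sylow.characteristic_of_normal U hUn
        set U' := (U : Subgroup F).map F.subtype with hU'
        have hzU : Subgroup.zpowers z ≤ Subgroup.normalizer (U' : Set S) := by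
          refine Subgroup.zpowers_le.mpr (Subgroup.mem_normalizer_fintype ?_)
          rintro _ ⟨w, hw, rfl⟩
          exact ⟨⟨z, hzF⟩ * w * ⟨z, hzF⟩⁻¹, hUn.conj_mem w hw _, rfl⟩
        have huU : u ∈ Subgroup.normalizer (U' : Set S) := by
          have huF : u ∈ Subgroup.normalizer (F : Set S) := hnorm (hJI hu1.1)
          refine Subgroup.mem_normalizer_fintype ?_
          rintro _ ⟨w, hw, rfl⟩
          have hc := Subgroup.characteristic_iff_map_eq.mp (inferInstance : (U : Subgroup F).Characteristic)
            (F.normalizerMonoidHom ⟨u, huF⟩)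
          exact ⟨F.normalizerMonoidHom ⟨u, huF⟩ w, hc.le (Subgroup.mem_map_of_mem _ hw), rfl⟩
        by_cases hrq : r = q
        · subst hrq
          have hU'p : IsPGroup r U' := U.isPGroup'.map _
          have hz' : IsPGroup r (Subgroup.zpowers z) :=
            IsPGroup.of_card (n := 1) (by rw [hzq, pow_one])
          have hucop : (Nat.card (Subgroup.zpowers u)).Coprime r := by
            rw [Nat.card_zpowers]
            have h1 : orderOf u ∣ 2 := orderOf_dvd_of_pow_eq_one (by rw [pow_two]; exact hexp u (hJI hu1.1))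
            exact Nat.Coprime.coprime_dvd_left h1 ((Nat.coprime_primes Nat.prime_two hr).mpr (Ne.symm hqodd))
          have hzu : Commute u z := Subgroup.mem_centralizer_singleton_iff.mp hu1.2
          have hPQ : Subgroup.zpowers z ≤ Subgroup.centralizer (Subgroup.zpowers u : Set S) := by
            refine Subgroup.zpowers_le.mpr (Subgroup.mem_centralizer_iff.mpr fun v hv => ?_)
            obtain ⟨i, rfl⟩ := Subgroup.mem_zpowers_iff.mp hv
            exact (hzu.zpow_left i).eq
          have h := CfsgLib.Solv.thompson_pq hz' hucop hPQ U' hU'p hzU (Subgroup.zpowers_le.mpr huU) (by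
            intro w hw
            rw [Subgroup.mem_centralizer_iff]
            intro v hv
            obtain ⟨i, rfl⟩ := Subgroup.mem_zpowers_iff.mp hv
            have hwF : w ∈ F' := Subgroup.mem_inf.mpr ⟨Subgroup.map_subtype_le _ hw.1, by
              rw [Subgroup.mem_centralizer_singleton_iff]
              exact (Subgroup.mem_centralizer_iff.mp hw.2 z (Subgroup.mem_zpowers z)).symm⟩
            exact ((show Commute u w from (Subgroup.mem_centralizer_iff.mp hu2 w hwF).symm).zpow_left i).eq)
          intro w hw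
          exact (Subgroup.mem_centralizer_iff.mp (h (Subgroup.mem_zpowers u)) _ ⟨w, hw, rfl⟩).symm
        · intro w hw
          have hwF : (w : S) ∈ F' := Subgroup.mem_inf.mpr ⟨w.2, by
            rw [Subgroup.mem_centralizer_singleton_iff]
            obtain ⟨Z, hZ⟩ := (IsPGroup.of_card (n := 1) (by
              rw [Nat.card_congr (Subgroup.subgroupOfEquivOfLe (Subgroup.zpowers_le.mpr hzF)).toEquiv,
                hzq, pow_one]) : IsPGroup q ((Subgroup.zpowers z).subgroupOf F)).exists_le_sylow
            haveI : (Z : Subgroup F).Normal :=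
              Sylow.normal_of_normalizerCondition Group.normalizerCondition_of_isNilpotent Z
            have hdis : Disjoint (U : Subgroup F) (Z : Subgroup F) :=
              IsPGroup.disjoint_of_ne r q hrq _ _ U.isPGroup' Z.isPGroup'
            have := Subgroup.commute_of_normal_of_disjoint _ _ hUn inferInstance hdis w ⟨z, hzF⟩ hw
              (hZ (Subgroup.mem_zpowers z : (⟨z, hzF⟩ : F) ∈ (Subgroup.zpowers z).subgroupOf F))
            exact congrArg Subtype.val this⟩
          exact (Subgroup.mem_centralizer_iff.mp hu2 _ hwF).symm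
      have htop : (Subgroup.centralizer ({u} : Set S)).subgroupOf F = ⊤ := by
        rw [← Subgroup.index_eq_one]
        by_contra hne
        obtain ⟨r, hr, hrd⟩ := Nat.exists_prime_and_dvd hne
        haveI : Fact r.Prime := ⟨hr⟩
        let U : Sylow r F := default
        refine U.not_dvd_index (hrd.trans (Subgroup.index_dvd_of_le fun w hw => ?_))
        rw [Subgroup.mem_subgroupOf, Subgroup.mem_centralizer_singleton_iff]
        exact (hall r hr U w hw).symm
      refine Subgroup.mem_centralizer_iff.mpr fun w hw => ?_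
      have := (htop.symm ▸ Subgroup.mem_top (⟨w, hw⟩ : F) :
        (⟨w, hw⟩ : F) ∈ (Subgroup.centralizer ({u} : Set S)).subgroupOf F)
      exact Subgroup.mem_centralizer_singleton_iff.mp (Subgroup.mem_subgroupOf.mp this)
    have hnil' : Group.IsNilpotent F' :=
      (Group.isNilpotent_congr (Subgroup.subgroupOfEquivOfLe (inf_le_left : F' ≤ F))).mp inferInstance
    obtain ⟨g, hg1, hg2, hg3, hg4, hg5, hg6, hg7⟩ := ih J₁ F' (inf_le_left.trans hJI) hJcard
      (hodd.of_dvd_nat (Subgroup.card_dvd_of_le inf_le_left)) hnil' hF'norm hfaith'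
    refine ⟨Fin.cons (Subgroup.zpowers z) g, ?_, ?_, ?_, ?_, ?_⟩
    · intro i
      refine Fin.cases ?_ ?_ i
      · simpa [hzo] using hq
      · simpa using hg1
    · intro i
      refine Fin.cases ?_ ?_ i
      · simpa using hzF
      · intro i; simpa using (hg2 i).trans inf_le_left
    · intro i
      refine Fin.cases ?_ ?_ i
      · simpa using hnormz
      · intro i; simpa using hg3 i
    · have hcz : ∀ i, ∀ w ∈ Subgroup.zpowers z, ∀ v ∈ g i, w * v = v * w := by
        intro i w hw v hv
        obtain ⟨e, rfl⟩ := Subgroup.mem_zpowers_iff.mp hw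
        exact (((show Commute v z from Subgroup.mem_centralizer_singleton_iff.mp (hg2 i hv).2)).symm.zpow_left e).eq
      intro i j hij
      induction i using Fin.cases with
      | zero =>
        induction j using Fin.cases with
        | zero => exact absurd rfl hij
        | succ j => simpa using hcz j
      | succ i =>
        induction j using Fin.cases with
        | zero => simp only [Fin.cons_succ, Fin.cons_zero]; exact fun v hv w hw => (hcz i w hw v hv).symm
        | succ j =>
          simp only [Fin.cons_succ]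
          exact hg4 i j (fun h => hij (by rw [h]))
    have hsupeq : (⨆ i, (Fin.cons (Subgroup.zpowers z) g : Fin (k + 1) → Subgroup S) i)
        = Subgroup.zpowers z ⊔ ⨆ i, g i := by
      refine le_antisymm (iSup_le fun i => ?_) (sup_le ?_ (iSup_le fun i => ?_))
      · refine Fin.cases ?_ ?_ i
        · simp
        · intro i; simpa using le_sup_of_le_right (le_iSup g i)
      · exact le_iSup_of_le 0 (by simp)
      · exact le_iSup_of_le i.succ (by simp)
    rw [hsupeq]
    have hSle : (⨆ i, g i) ≤ Subgroup.centralizer ({z} : Set S) :=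
      iSup_le fun i => (hg2 i).trans inf_le_right
    have hzn : Subgroup.zpowers z ≤ Subgroup.normalizer ((⨆ i, g i : Subgroup S) : Set S) := by
      refine Subgroup.zpowers_le.mpr (Subgroup.centralizer_le_normalizer _ ?_)
      rw [Subgroup.mem_centralizer_iff]
      exact fun v hv => Subgroup.mem_centralizer_singleton_iff.mp (hSle hv)
    have hdisj : (⨆ i, g i) ⊓ Subgroup.zpowers z = ⊥ := by
      rw [Subgroup.eq_bot_iff_forall]
      rintro w ⟨hw1, hw2⟩
      refine hg7 w hw1 fun u hu => ?_
      obtain ⟨e, rfl⟩ := Subgroup.mem_zpowers_iff.mp hw2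
      exact (Commute.zpow_right (Subgroup.mem_centralizer_singleton_iff.mp hu.2) e).eq
    refine ⟨?_, ?_, ?_⟩
    · have h1 := card_sup' hzn hdisj
      rw [hg5] at h1
      rw [h1, Fin.prod_univ_succ]
      simp
    · rw [eq_bot_iff, ← hg6]
      intro u hu
      have h1 := Subgroup.mem_centralizer_iff.mp hu.2
      refine ⟨⟨hu.1, Subgroup.mem_centralizer_singleton_iff.mpr
        (h1 z (Subgroup.mem_sup_left (Subgroup.mem_zpowers z))).symm⟩, ?_⟩
      exact Subgroup.mem_centralizer_iff.mpr fun v hv => h1 v (Subgroup.mem_sup_right hv)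
    · intro w hw hfix
      rw [sup_comm, ← SetLike.mem_coe, Subgroup.coe_mul_of_right_le_normalizer_left _ _ hzn] at hw
      obtain ⟨v, hv, t, ht, rfl⟩ := hw
      have htc : ∀ u ∈ J₁, Commute u t := fun u hu => by
        obtain ⟨e, rfl⟩ := Subgroup.mem_zpowers_iff.mp ht
        exact Commute.zpow_right (Subgroup.mem_centralizer_singleton_iff.mp hu.2) e
      have hv1 : v = 1 := hg7 v hv fun u hu => by
        have h1 : Commute u (v * t) := hfix u hu.1
        have h2 := h1.mul_right (htc u hu).inv_right
        simpa using h2.eq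
      subst hv1
      simp only [one_mul] at hfix ⊢
      exact hzne t ht (hfix a haJ)

/-- Let S be a finite solvable group whose Fitting subgroup F(S) has odd order, and let I be an elementary abelian 2-subgroup of S of order 2ⁿ with n ≥ 1. Then F(S) contains subgroups A₁, …, Aₙ of prime order, each normalized by I, pairwise commuting and generating a subgroup A of order |A₁|⋯|Aₙ| (their internal direct product), such that no non-identity element of I centralizes A. -/
theorem result {S : Type*} [Group S] [Finite S]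
    [Group.IsSolvable S] (hF : Odd (Nat.card ↥(Cfsg.fittingSubgroup S)))
    (I : Subgroup S) (hI : Cfsg.IsElementaryAbelian 2 I) (n : ℕ) (hn : 1 ≤ n) (hIn : Nat.card ↥I = 2 ^ n) :
    ∃ f : Fin n → Subgroup S, (∀ i, (Nat.card ↥(f i)).Prime) ∧ (∀ i, f i ≤ Cfsg.fittingSubgroup S) ∧
      (∀ i, I ≤ Subgroup.normalizer ((f i) : Set S)) ∧ (∀ i j, i ≠ j → ∀ a ∈ f i, ∀ b ∈ f j, a * b = b * a) ∧
      Nat.card ↥(⨆ i, f i) = ∏ i, Nat.card ↥(f i) ∧ I ⊓ Subgroup.centralizer ((⨆ i, f i : Subgroup S) : Set S) = ⊥ := by
  classical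
  haveI := hI.1
  have hexp : ∀ u ∈ I, u * u = 1 := fun u hu => by rw [← pow_two]; exact hI.2 u hu
  haveI : (Cfsg.fittingSubgroup S).Normal := CfsgLib.Solv.fittingSubgroup_normal S
  have hfaith : I ⊓ Subgroup.centralizer ((Cfsg.fittingSubgroup S : Subgroup S) : Set S) = ⊥ := by
    rw [Subgroup.eq_bot_iff_forall]
    intro u hu
    have huF := CfsgLib.Solv.centralizer_fittingSubgroup_le hu.2
    have h1 : orderOf u ∣ Nat.gcd 2 (Nat.card (Cfsg.fittingSubgroup S)) :=
      Nat.dvd_gcd (orderOf_dvd_of_pow_eq_one (by rw [pow_two]; exact hexp u hu.1))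
        (Subgroup.orderOf_dvd_natCard _ huF)
    rw [(Nat.coprime_two_left.mpr hF : Nat.gcd 2 _ = 1), Nat.dvd_one, orderOf_eq_one_iff] at h1
    exact h1
  obtain ⟨f, h1, h2, h3, h4, h5, h6, -⟩ := lines I hexp n I (Cfsg.fittingSubgroup S) le_rfl hIn hF
    (CfsgLib.Solv.fittingSubgroup_isNilpotent (G := S))
    (fun u _ => by rw [Subgroup.normalizer_eq_top_iff.mpr inferInstance]; exact Subgroup.mem_top u) hfaith
  exact ⟨f, h1, h2, h3, h4, h5, h6⟩

end Cfsg.Agent.S4408
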