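import Mathlib
-- Template for statement S4410 (row 4410; see /opt/grader/pristine/manifest.json for weights).
-- Copy to Cfsg/Agent/S4410.lean and replace the sorry. The statement below is byte-identical to the frozen
-- statement Cfsg.CfsgFrozen.S4410 (Cfsg/Statements/S4410.lean; the theorem Cfsg.fg19_order_four_element_cubic_on_module_over_two_in_solvable_two_reduced_group_two_large_blocks);
-- the grader kernel-checks Cfsg.Agent.S4410.result against that frozen type. Keep the theorem IN THIS FILE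
-- (a `result` declared elsewhere and merely imported here is not credited); helpers may live anywhere
-- under Cfsg/Agent/.
import Cfsg.Statements.S4410
import Cfsg.Agent.Solv.FittingBasic
-- import your own Cfsg.Agent.* helpers here

set_option autoImplicit false
open Cfsg
set_option linter.style.haveILetI false
set_option linter.unusedSectionVars false

namespace Cfsg.Agent.S4410

variable {V : Type*} [AddCommGroup V] [Module (ZMod 2) V] [Finite V]

theorem two_eq (v : V) : v + v = 0 := by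
  have h := two_smul (ZMod 2) v
  rw [show (2 : ZMod 2) = 0 from rfl, zero_smul] at h
  exact h.symm

/-- An element of odd order that is trivial on a subspace and on its quotient is trivial. -/
theorem eq_one_of_stab {f : V ≃ₗ[ZMod 2] V} {n : ℕ} (hn : Odd n) (hf : f ^ n = 1) (W : Submodule (ZMod 2) V)
    (h1 : ∀ v, f v + v ∈ W) (h2 : ∀ w ∈ W, f w = w) : f = 1 := by
  have hsq : f ^ 2 = 1 := by
    refine LinearEquiv.ext fun v => ?_
    show f (f v) = v
    have h := h2 _ (h1 v)
    rw [map_add] at h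
    exact add_right_cancel (h.trans (add_comm (f v) v))
  obtain ⟨k, rfl⟩ := hn
  rwa [pow_succ, pow_mul, hsq, one_pow, one_mul] at hf

/-- The linear maps of a subspace with at most eight elements. -/
theorem card_aut_dvd (W : Submodule (ZMod 2) V) (hW : Nat.card W ≤ 8) :
    Nat.card (W ≃ₗ[ZMod 2] W) ∣ 168 ∧ (Nat.card W ≤ 4 → Nat.card (W ≃ₗ[ZMod 2] W) ∣ 6) := by
  classical
  haveI := Fintype.ofFinite W
  set n := Module.finrank (ZMod 2) W with hn
  have hcard : Nat.card W = 2 ^ n := by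
    rw [Module.natCard_eq_pow_finrank (K := ZMod 2), Nat.card_eq_fintype_card, ZMod.card]
  have h1 : Nat.card (W ≃ₗ[ZMod 2] W) = ∏ i : Fin n, (2 ^ n - 2 ^ (i : ℕ)) := by
    rw [← Nat.card_congr (LinearMap.GeneralLinearGroup.generalLinearEquiv (ZMod 2) W).toEquiv,
      ← Nat.card_congr (Units.mapEquiv
        (LinearMap.toMatrixAlgEquiv (Module.finBasis (ZMod 2) W)).toMulEquiv).symm.toEquiv]
    have h := Matrix.card_GL_field (𝔽 := ZMod 2) n
    rw [ZMod.card] at h
    exact h
  have hn3 : n ≤ 3 := by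
    rw [hcard] at hW
    exact (Nat.pow_le_pow_iff_right (by norm_num)).1 (hW.trans (by norm_num : (8 : ℕ) ≤ 2 ^ 3))
  constructor
  · rw [h1]; clear_value n; interval_cases n <;> simp [Fin.prod_univ_succ]
  · intro h4
    rw [hcard] at h4
    have hn2 : n ≤ 2 := (Nat.pow_le_pow_iff_right (by norm_num)).1 (h4.trans (by norm_num : (4 : ℕ) ≤ 2 ^ 2))
    rw [h1]; clear_value n; interval_cases n <;> simp [Fin.prod_univ_succ]


set_option maxHeartbeats 1000000 in
/-- Let V be a finite-dimensional vector space over the field with two elements and S a solvable group of linear automorphisms of V with O₂(S) = 1. If P ∈ S has order 4 and (P − 1)³ = 0 on V, then the image of (P − 1)² has at least 4 elements; equivalently, in the decomposition of V into indecomposable modules for the cyclic group generated by P, at least two summands have dimension 3. -/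
theorem result
    {V : Type*} [AddCommGroup V] [Module (ZMod 2) V] [Finite V]
    (S : Subgroup (V ≃ₗ[ZMod 2] V)) (hS : Group.IsSolvable ↥S) (hO2 : Cfsg.pCore 2 ↥S = ⊥)
    (P : V ≃ₗ[ZMod 2] V) (hPS : P ∈ S) (hP4 : orderOf P = 4)
    (hcub : ((P : V →ₗ[ZMod 2] V) - LinearMap.id) ^ 3 = 0) :
    4 ≤ Nat.card ↥(LinearMap.range (((P : V →ₗ[ZMod 2] V) - LinearMap.id) ^ 2)) := by
  classical
  haveI := hS
  by_contra hlt
  push Not at hlt
  haveI : Finite (V ≃ₗ[ZMod 2] V) := DFunLike.finite _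
  set t := P ^ 2 with ht
  have hto : orderOf t = 2 := by rw [ht, orderOf_pow' P two_ne_zero, hP4]; norm_num
  have htt : t * t = 1 := by
    have h := pow_orderOf_eq_one t
    rwa [hto, pow_two] at h
  have htinv : t⁻¹ = t := inv_eq_of_mul_eq_one_right htt
  set D := ((P : V →ₗ[ZMod 2] V) - LinearMap.id) ^ 2 with hD
  have hDapp : ∀ v, D v = t v + v := by
    intro v
    let D0 : V →ₗ[ZMod 2] V := (P : V →ₗ[ZMod 2] V) - LinearMap.id
    show D0 (D0 v) = P (P v) + v
    simp only [D0]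
    simp only [LinearMap.sub_apply, LinearMap.id_apply, LinearEquiv.coe_coe, map_sub]
    calc P (P v) - P v - (P v - v) = P (P v) + v - (P v + P v) := by abel
      _ = _ := by rw [two_eq, sub_zero]
  set L := LinearMap.range D
  have hLmem : ∀ v, t v + v ∈ L := fun v => ⟨v, hDapp v⟩
  have hL : Nat.card L ≤ 2 := by
    have h1 := Module.natCard_eq_pow_finrank (K := ZMod 2) (V := L)
    rw [Nat.card_eq_fintype_card (α := ZMod 2), ZMod.card] at h1
    have h2 : Module.finrank (ZMod 2) L < 2 := (Nat.pow_lt_pow_iff_right (a := 2) (by norm_num)).1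
      (lt_of_eq_of_lt h1.symm hlt)
    calc Nat.card L ≤ 2 ^ 1 := h1 ▸ Nat.pow_le_pow_right (by norm_num) (by omega)
      _ = 2 := pow_one 2
  let tS : S := ⟨t, S.pow_mem hPS 2⟩
  let PS : S := ⟨P, hPS⟩
  -- `t` centralises every normal odd `q`-subgroup
  have key : ∀ q : ℕ, q.Prime → q ≠ 2 → ∀ T : Subgroup S, T.Normal → IsPGroup q T → ∀ u ∈ T, tS * u = u * tS := by
    intro q hq hq2 T hT hTq
    haveI := Fact.mk hq
    have hTodd : ∀ x ∈ T, ∃ n, Odd n ∧ ((x : S) : V ≃ₗ[ZMod 2] V) ^ n = 1 := fun x hx => by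
      obtain ⟨k, hk⟩ := hTq ⟨x, hx⟩
      exact ⟨q ^ k, (hq.odd_of_ne_two hq2).pow, congrArg (fun z : T => ((z : S) : V ≃ₗ[ZMod 2] V)) hk⟩
    let cu : S → S := fun u => tS * u * tS⁻¹ * u⁻¹
    have hcu : ∀ u ∈ T, cu u ∈ T := fun u hu => T.mul_mem (hT.conj_mem u hu tS) (T.inv_mem hu)
    -- the support of `cu u`
    let W : S → Submodule (ZMod 2) V := fun u => L.map (((u : V ≃ₗ[ZMod 2] V) : V →ₗ[ZMod 2] V))
    have hsupp : ∀ u : S, ∀ v, ((cu u : S) : V ≃ₗ[ZMod 2] V) v + v ∈ L ⊔ W u := by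
      intro u v
      set f := (u : V ≃ₗ[ZMod 2] V)
      show (t * f * t⁻¹ * f⁻¹) v + v ∈ _
      rw [htinv]
      show t (f (t (f⁻¹ v))) + v ∈ _
      set w := f⁻¹ v
      have hv : f w = v := f.apply_symm_apply v
      have e1 : f (t w) + v = f (t w + w) := by rw [map_add, hv]
      have e : t (f (t w)) + v = (t (f (t w)) + f (t w)) + (f (t w) + v) := by
        rw [add_assoc, ← add_assoc (f (t w)), two_eq, zero_add]
      rw [e, e1]
      exact Submodule.add_mem _ (Submodule.mem_sup_left (hLmem _)) (Submodule.mem_sup_right ⟨_, hLmem w, rfl⟩)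
    have hWcard : ∀ u, Nat.card (W u) ≤ 2 := fun u => by
      have h1 : Nat.card ↥(W u) = Nat.card ((u : V ≃ₗ[ZMod 2] V) '' (L : Set V)) := rfl
      rw [h1, Nat.card_image_of_injective (LinearEquiv.injective _)]
      exact hL
    have hsupcard : ∀ A B : Submodule (ZMod 2) V, Nat.card ↥(A ⊔ B) ≤ Nat.card A * Nat.card B := fun A B => by
      rw [← Nat.card_prod]
      refine Nat.card_le_card_of_surjective (fun x : A × B => (⟨x.1 + x.2, Submodule.add_mem_sup x.1.2 x.2.2⟩ : ↥(A ⊔ B))) ?_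
      rintro ⟨x, hx⟩
      obtain ⟨a, ha, b, hb, rfl⟩ := Submodule.mem_sup.1 hx
      exact ⟨(⟨a, ha⟩, ⟨b, hb⟩), rfl⟩
    -- subgroups of `T` supported on a small subspace
    have small : ∀ Wc : Submodule (ZMod 2) V, Nat.card Wc ≤ 8 → ∃ K : Subgroup S, K ≤ T ∧
        (∀ x ∈ T, (∀ v, ((x : S) : V ≃ₗ[ZMod 2] V) v + v ∈ Wc) → x ∈ K) ∧
        Nat.card K ∣ Nat.card (Wc ≃ₗ[ZMod 2] Wc) := by
      intro Wc hWc
      have hmap : ∀ x : S, (∀ v, (x : V ≃ₗ[ZMod 2] V) v + v ∈ Wc) → ∀ w ∈ Wc, (x : V ≃ₗ[ZMod 2] V) w ∈ Wc := fun x hx w hw => by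
        have := Wc.add_mem (hx w) hw
        rwa [add_assoc, two_eq, add_zero] at this
      let K : Subgroup S :=
        { carrier := {x | x ∈ T ∧ ∀ v, (x : V ≃ₗ[ZMod 2] V) v + v ∈ Wc}
          one_mem' := ⟨T.one_mem, fun v => by rw [OneMemClass.coe_one]; show v + v ∈ Wc; rw [two_eq]; exact Wc.zero_mem⟩
          mul_mem' := fun {x y} hx hy => ⟨T.mul_mem hx.1 hy.1, fun v => by
            rw [Subgroup.coe_mul]
            show (x : V ≃ₗ[ZMod 2] V) ((y : V ≃ₗ[ZMod 2] V) v) + v ∈ Wc
            have := Wc.add_mem (hx.2 ((y : V ≃ₗ[ZMod 2] V) v)) (hy.2 v)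
            rwa [add_assoc, ← add_assoc ((y : V ≃ₗ[ZMod 2] V) v), two_eq, zero_add] at this⟩
          inv_mem' := fun {x} hx => ⟨T.inv_mem hx.1, fun v => by
            rw [Subgroup.coe_inv]
            have := hx.2 ((x : V ≃ₗ[ZMod 2] V)⁻¹ v)
            rw [show (x : V ≃ₗ[ZMod 2] V) ((x : V ≃ₗ[ZMod 2] V)⁻¹ v) = v from (x : V ≃ₗ[ZMod 2] V).apply_symm_apply v, add_comm] at this
            exact this⟩ }
      refine ⟨K, fun x hx => hx.1, fun x hx h => ⟨hx, h⟩, ?_⟩
      let ρ : K →* (Wc ≃ₗ[ZMod 2] Wc) :=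
        { toFun := fun x =>
            { toFun := fun w => ⟨((x : S) : V ≃ₗ[ZMod 2] V) w, hmap _ x.2.2 w w.2⟩
              map_add' := fun a b => Subtype.ext (by simp)
              map_smul' := fun c a => Subtype.ext (by simp)
              invFun := fun w => ⟨(((x⁻¹ : K) : S) : V ≃ₗ[ZMod 2] V) w, hmap _ (x⁻¹).2.2 w w.2⟩
              left_inv := fun w => Subtype.ext (((x : S) : V ≃ₗ[ZMod 2] V).symm_apply_apply w)
              right_inv := fun w => Subtype.ext (((x : S) : V ≃ₗ[ZMod 2] V).apply_symm_apply w) }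
          map_one' := LinearEquiv.ext fun w => Subtype.ext rfl
          map_mul' := fun a b => LinearEquiv.ext fun w => Subtype.ext rfl }
      have hρ : Function.Injective ρ := by
        rw [injective_iff_map_eq_one]
        intro x hx
        obtain ⟨n, hn, hxn⟩ := hTodd x x.2.1
        refine Subtype.ext (Subtype.ext ?_)
        exact eq_one_of_stab hn hxn Wc x.2.2 fun w hw => congrArg (fun f : Wc ≃ₗ[ZMod 2] Wc => ((f ⟨w, hw⟩ : Wc) : V)) hx
      exact Subgroup.card_dvd_of_injective ρ hρ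
    intro u₀ hu₀
    by_contra hne
    set a := cu u₀ with ha
    have ha1 : a ≠ 1 := fun e => hne (mul_inv_eq_iff_eq_mul.1 (mul_inv_eq_one.1 e))
    have haT := hcu u₀ hu₀
    have hWa : Nat.card ↥(L ⊔ W u₀) ≤ 4 := (hsupcard _ _).trans ((Nat.mul_le_mul hL (hWcard u₀)).trans le_rfl)
    -- `q = 3`
    obtain ⟨K, hKT, hKmem, hKc⟩ := small (L ⊔ W u₀) (by omega)
    have haK : a ∈ K := hKmem a haT (hsupp u₀)
    obtain ⟨k, hk⟩ := IsPGroup.iff_orderOf.1 hTq ⟨a, haT⟩
    rw [Subgroup.orderOf_mk] at hk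
    have h6 : orderOf a ∣ 6 := ((Subgroup.orderOf_dvd_natCard K haK).trans hKc).trans ((card_aut_dvd _ (by omega)).2 hWa)
    have hk1 : k ≠ 0 := fun e => ha1 (orderOf_eq_one_iff.1 (by rw [hk, e, pow_zero]))
    have hq3 : q = 3 := by
      have h1 : q ∣ 6 := (hk ▸ dvd_pow_self q hk1 : q ∣ orderOf a).trans h6
      have h3 := Nat.le_of_dvd (by norm_num) h1
      interval_cases q <;> first | rfl | omega | (exfalso; revert h1; norm_num; done) | (exfalso; revert hq; norm_num; done)
    subst hq3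
    have hao : orderOf a = 3 := by
      rw [hk] at h6 ⊢
      have : k < 2 := by
        by_contra hk2
        have := (pow_dvd_pow 3 (not_lt.1 hk2)).trans h6
        norm_num at this
      rw [show k = 1 by omega, pow_one]
    -- all `cu u` lie in `⟨a⟩`
    have hall : ∀ u ∈ T, cu u ∈ Subgroup.zpowers a := by
      intro u hu
      obtain ⟨K', hK'T, hK'mem, hK'c⟩ := small (L ⊔ W u₀ ⊔ W u) ((hsupcard _ _).trans ((Nat.mul_le_mul hWa (hWcard u)).trans le_rfl))
      have h168 : Nat.card K' ∣ 168 := hK'c.trans (card_aut_dvd _ ((hsupcard _ _).trans ((Nat.mul_le_mul hWa (hWcard u)).trans le_rfl))).1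
      obtain ⟨j, hj⟩ := IsPGroup.iff_card.1 (hTq.to_le hK'T)
      rw [hj] at h168
      have hj1 : j ≤ 1 := by
        by_contra hj2
        have := (pow_dvd_pow 3 (show 2 ≤ j by omega)).trans h168
        norm_num at this
      have haK' : Subgroup.zpowers a ≤ K' := Subgroup.zpowers_le.2
        (hK'mem a haT fun v => Submodule.mem_sup_left (hsupp u₀ v))
      have heq : Subgroup.zpowers a = K' := Subgroup.eq_of_le_of_card_ge haK' (by
        rw [Nat.card_zpowers, hao, hj]
        exact (Nat.pow_le_pow_right (by norm_num) hj1).trans (le_of_eq (pow_one 3)))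
      rw [heq]
      exact hK'mem _ (hcu u hu) fun v => (sup_le (le_sup_left.trans le_sup_left) le_sup_right : L ⊔ W u ≤ L ⊔ W u₀ ⊔ W u) (hsupp u v)
    have htP : tS = PS * PS := Subtype.ext (pow_two P)
    have hPa : PS * a * PS⁻¹ ∈ Subgroup.zpowers a := by
      have e : PS * a * PS⁻¹ = cu (PS * u₀ * PS⁻¹) := by
        simp only [ha, cu, htP]; group
      rw [e]; exact hall _ (hT.conj_mem u₀ hu₀ PS)
    have ha3 : a ^ 3 = 1 := by rw [← hao]; exact pow_orderOf_eq_one a
    have hainv : a⁻¹ = a * a := inv_eq_of_mul_eq_one_right (by rw [← mul_assoc, ← pow_three']; exact ha3)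
    have hfix : tS * a * tS⁻¹ = a := by
      obtain ⟨i, hi⟩ := Subgroup.mem_zpowers_iff.1 hPa
      have h2 : tS * a * tS⁻¹ = a ^ (i * i) := by
        calc tS * a * tS⁻¹ = PS * (PS * a * PS⁻¹) * PS⁻¹ := by rw [htP]; group
          _ = _ := by rw [← hi, ← conj_zpow, ← hi, ← zpow_mul]
      rw [h2]
      rw [show a = a ^ (1 : ℤ) from (zpow_one a).symm]
      rw [← zpow_mul, one_mul]
      rw [← zpow_mod_orderOf a (i * i), hao]
      have hi3 : i % 3 = 1 ∨ i % 3 = 2 := by
        have : i % 3 = 0 ∨ i % 3 = 1 ∨ i % 3 = 2 := by omega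
        rcases this with e | e
        · exfalso
          have h5 : PS * a * PS⁻¹ = 1 := by rw [← hi, ← zpow_mod_orderOf, hao]; simp [e]
          exact ha1 (conj_eq_one_iff.1 h5)
        · exact e
      have : (i * i) % 3 = 1 := by rw [Int.mul_emod]; rcases hi3 with e | e <;> rw [e] <;> rfl
      simp [this]
    have hinv : tS * a * tS⁻¹ = a⁻¹ := by
      have htS : tS⁻¹ = tS := Subtype.ext (by rw [Subgroup.coe_inv]; exact htinv)
      have htS2 : tS * tS = 1 := Subtype.ext htt
      simp only [ha, cu]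
      rw [mul_inv_rev, mul_inv_rev, mul_inv_rev, inv_inv, inv_inv, htS]
      calc tS * (tS * u₀ * tS * u₀⁻¹) * tS = (tS * tS) * (u₀ * (tS * (u₀⁻¹ * tS))) := by group
        _ = _ := by rw [htS2, one_mul]
    rw [hfix] at hinv
    have h2 : a ^ 2 = 1 := by rw [pow_two]; nth_rewrite 1 [hinv]; exact inv_mul_cancel a
    have := Nat.le_of_dvd two_pos (orderOf_dvd_of_pow_eq_one h2)
    omega
  -- so `t` centralises the Fitting subgroup
  have hcF : tS ∈ Subgroup.centralizer (Cfsg.fittingSubgroup S : Set S) := by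
    refine Subgroup.mem_centralizer_iff.2 fun x hx => ?_
    suffices Cfsg.fittingSubgroup S ≤ Subgroup.centralizer ({tS} : Set S) from
      Subgroup.mem_centralizer_singleton_iff.1 (this hx)
    rw [CfsgLib.Solv.fittingSubgroup_eq_iSup_pCore]
    refine iSup_le fun q u hu => ?_
    haveI := Fact.mk q.2
    by_cases hq2 : (q : ℕ) = 2
    · rw [hq2, hO2, Subgroup.mem_bot] at hu
      rw [hu]; exact one_mem _
    · exact Subgroup.mem_centralizer_singleton_iff.2
        (key q q.2 hq2 _ (CfsgLib.Solv.pCore_normal _ _) (CfsgLib.Solv.pCore_isPGroup _ _) u hu).symm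
  have htF := CfsgLib.Solv.centralizer_fittingSubgroup_le hcF
  haveI := CfsgLib.Solv.fittingSubgroup_normal S
  let Z : Subgroup S :=
    { carrier := {z | z ∈ Cfsg.fittingSubgroup S ∧ z ∈ Subgroup.centralizer (Cfsg.fittingSubgroup S : Set S) ∧ z * z = 1}
      one_mem' := ⟨one_mem _, one_mem _, one_mul 1⟩
      mul_mem' := fun {x y} hx hy => ⟨mul_mem hx.1 hy.1, mul_mem hx.2.1 hy.2.1, by
        have hxy : y * x = x * y := Subgroup.mem_centralizer_iff.1 hx.2.1 y hy.1
        rw [mul_assoc x y, ← mul_assoc y x, hxy, mul_assoc x y y, hy.2.2, mul_one, hx.2.2]⟩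
      inv_mem' := fun {x} hx => ⟨inv_mem hx.1, inv_mem hx.2.1, by rw [← mul_inv_rev, hx.2.2, inv_one]⟩ }
  haveI : Z.Normal := ⟨fun z hz g => ⟨Subgroup.Normal.conj_mem inferInstance z hz.1 g,
    Subgroup.Normal.conj_mem inferInstance z hz.2.1 g, by
      calc g * z * g⁻¹ * (g * z * g⁻¹) = g * (z * z) * g⁻¹ := by group
        _ = 1 := by rw [hz.2.2, mul_one, mul_inv_cancel]⟩⟩
  haveI := Fact.mk Nat.prime_two
  have hZ : Z ≤ Cfsg.pCore 2 S := CfsgLib.Solv.le_pCore (fun z => ⟨1, Subtype.ext (by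
    rw [pow_one, SubgroupClass.coe_pow, pow_two]; exact z.2.2.2)⟩)
  have h := hZ (show tS ∈ Z from ⟨htF, hcF, Subtype.ext htt⟩)
  rw [hO2, Subgroup.mem_bot] at h
  rw [show t = 1 from congrArg Subtype.val h, orderOf_one] at hto
  omega

end Cfsg.Agent.S4410
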