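import Mathlib
-- Template for statement S4412 (row 4412; see /opt/grader/pristine/manifest.json for weights).
-- Copy to Cfsg/Agent/S4412.lean and replace the sorry. The statement below is byte-identical to the frozen
-- statement Cfsg.CfsgFrozen.S4412 (Cfsg/Statements/S4412.lean; the theorem Cfsg.fg19_elementary_eight_automorphism_group_of_odd_p_group_with_few_noncyclic_centralizers);
-- the grader kernel-checks Cfsg.Agent.S4412.result against that frozen type. Keep the theorem IN THIS FILE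
-- (a `result` declared elsewhere and merely imported here is not credited); helpers may live anywhere
-- under Cfsg/Agent/.
import Cfsg.Statements.S4412
import Cfsg.Agent.Solv.FittingBasic
-- import your own Cfsg.Agent.* helpers here

set_option autoImplicit false
open Cfsg
open scoped commutatorElement
set_option linter.style.haveILetI false
set_option linter.unusedSectionVars false

namespace Cfsg.Agent.S4412

variable {P : Type*} [Group P] [Finite P] {p : ℕ}

/-- fixed or inverted -/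
def Eig (T : MulAut P) (x : P) : Prop := T x = x ∨ T x = x⁻¹

theorem inv_eq_self {x : P} (hodd : Odd (Nat.card P)) (h : x⁻¹ = x) : x = 1 := by
  have h2 : x ^ 2 = 1 := by rw [pow_two]; nth_rewrite 1 [← h]; exact inv_mul_cancel x
  have h3 : orderOf x ∣ Nat.gcd 2 (orderOf x) := Nat.dvd_gcd (orderOf_dvd_of_pow_eq_one h2) dvd_rfl
  rwa [Nat.coprime_two_left.2 (hodd.of_dvd_nat (orderOf_dvd_natCard x)), Nat.dvd_one, orderOf_eq_one_iff] at h3

/-- A coset fixed modulo `K` (up to the sign) contains an element fixed exactly. -/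
theorem exists_lift (hodd : Odd (Nat.card P)) {I : Subgroup (MulAut P)} (hI2 : ∀ T ∈ I, T * T = 1) (K : Subgroup P) [K.Normal]
    (hK : ∀ T ∈ I, ∀ k ∈ K, T k ∈ K) (χ : I → Bool) (hχ : ∀ S T : I, χ (S * T) = Bool.xor (χ S) (χ T)) (x : P)
    (hx : ∀ T : I, QuotientGroup.mk' K ((T : MulAut P) x) = if χ T then (QuotientGroup.mk' K x)⁻¹ else QuotientGroup.mk' K x) :
    ∃ y, QuotientGroup.mk' K y = QuotientGroup.mk' K x ∧ ∀ T : I, (T : MulAut P) y = if χ T then y⁻¹ else y := by
  classical
  haveI : Fact (Nat.Prime 2) := ⟨Nat.prime_two⟩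
  let X := {z : P // QuotientGroup.mk' K z = QuotientGroup.mk' K x}
  have hχ1 : χ 1 = false := by have := hχ 1 1; rw [mul_one] at this; cases h : χ 1 <;> simp_all
  let act : I → P → P := fun T z => if χ T then ((T : MulAut P) z)⁻¹ else (T : MulAut P) z
  have hmem : ∀ (T : I) (z : X), QuotientGroup.mk' K (act T z) = QuotientGroup.mk' K x := fun T z => by
    have h1 : QuotientGroup.mk' K ((T : MulAut P) z) = QuotientGroup.mk' K ((T : MulAut P) x) := by
      refine QuotientGroup.eq.2 ?_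
      rw [← map_inv, ← map_mul]
      exact hK T T.2 _ (QuotientGroup.eq.1 z.2)
    simp only [act]
    cases h : χ T <;> simp only [Bool.false_eq_true, if_false, if_true]
    · rw [h1, hx T, h]; simp
    · rw [map_inv, h1, hx T, h]; simp
  letI : MulAction I X :=
    { smul := fun T z => ⟨act T z, hmem T z⟩
      one_smul := fun z => Subtype.ext (show act 1 z = z by simp [act, hχ1])
      mul_smul := fun S T z => Subtype.ext (show act (S * T) z = act S (act T z) by
        simp only [act, hχ]; cases χ S <;> cases χ T <;> simp) }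
  have hP : IsPGroup 2 I := fun T => ⟨1, Subtype.ext (by rw [SubgroupClass.coe_pow, pow_one, pow_two]; exact hI2 T T.2)⟩
  have hcard : ¬ 2 ∣ Nat.card X := by
    rw [Nat.card_congr (show X ≃ K from
      { toFun := fun z => ⟨x⁻¹ * z.1, QuotientGroup.eq.1 z.2.symm⟩
        invFun := fun k => ⟨x * k, by rw [map_mul, show QuotientGroup.mk' K (k : P) = 1 from (QuotientGroup.eq_one_iff _).2 k.2, mul_one]⟩
        left_inv := fun z => Subtype.ext (mul_inv_cancel_left _ _)
        right_inv := fun k => Subtype.ext (inv_mul_cancel_left _ _) })]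
    exact fun h => Nat.not_even_iff_odd.2 (hodd.of_dvd_nat (Subgroup.card_subgroup_dvd_card K)) (even_iff_two_dvd.2 h)
  obtain ⟨y, hy⟩ := hP.nonempty_fixed_point_of_prime_not_dvd_card X hcard
  refine ⟨y.1, y.2, fun T => ?_⟩
  have h1 : act T y.1 = y.1 := congrArg Subtype.val (hy T)
  simp only [act] at h1
  cases h : χ T <;> simp only [h, Bool.false_eq_true, if_false, if_true] at h1 ⊢
  · exact h1
  · exact inv_eq_iff_eq_inv.1 h1

/-- Simultaneous eigen elements generate. -/
theorem eigen_generate [hp : Fact p.Prime] (hp2 : p ≠ 2) (hP : IsPGroup p P) {I : Subgroup (MulAut P)} (hI2 : ∀ T ∈ I, T * T = 1)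
    (hIc : ∀ S ∈ I, ∀ T ∈ I, S * T = T * S) : Subgroup.closure {x : P | ∀ T ∈ I, Eig T x} = ⊤ := by
  classical
  have hodd : Odd (Nat.card P) := by
    obtain ⟨n, hn⟩ := IsPGroup.iff_card.1 hP
    exact hn ▸ (hp.out.odd_of_ne_two hp2).pow
  set Φ := frattini P
  set π := QuotientGroup.mk' Φ
  have hab : ∀ a b : P ⧸ Φ, a * b = b * a := by
    intro a b
    obtain ⟨a, rfl⟩ := QuotientGroup.mk'_surjective Φ a
    obtain ⟨b, rfl⟩ := QuotientGroup.mk'_surjective Φ b
    refine commutatorElement_eq_one_iff_commute.1 ?_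
    rw [← map_commutatorElement]
    exact (QuotientGroup.eq_one_iff _).2 (CfsgLib.Solv.commutator_le_frattini hP
      (Subgroup.commutator_mem_commutator (Subgroup.mem_top a) (Subgroup.mem_top b)))
  have hΦ : ∀ T ∈ I, ∀ k ∈ Φ, (T : MulAut P) k ∈ Φ := fun T _ k hk => by
    have : Φ.map T.toMonoidHom = Φ := Subgroup.characteristic_iff_map_eq.1 frattini_characteristic T
    exact this ▸ ⟨k, hk, rfl⟩
  let Q : Finset (MulAut P) → Set P := fun s => {x | ∀ T ∈ s, π (T x) = π x ∨ π (T x) = (π x)⁻¹}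
  have hgen : ∀ s : Finset (MulAut P), (∀ T ∈ s, T ∈ I) → Subgroup.closure (Q s) = ⊤ := by
    intro s
    induction s using Finset.induction with
    | empty => intro _; exact eq_top_iff.2 fun x _ => Subgroup.subset_closure (fun T hT => absurd hT (Finset.notMem_empty T))
    | insert T s hTs ih =>
      intro hs
      have hsI : ∀ S ∈ s, S ∈ I := fun S hS => hs S (Finset.mem_insert_of_mem hS)
      have hTI : T ∈ I := hs T (Finset.mem_insert_self T s)
      rw [eq_top_iff, ← ih hsI, Subgroup.closure_le]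
      intro v hv
      have hT2 : T (T v) = v := by rw [← MulAut.mul_apply, hI2 T hTI, MulAut.one_apply]
      have h1 : v * T v ∈ Q (insert T s) := by
        intro S hS
        rcases Finset.mem_insert.1 hS with rfl | hS
        · left; rw [map_mul, map_mul, hT2, hab, ← map_mul, map_mul]
        · have hST : S (T v) = T (S v) := by rw [← MulAut.mul_apply, hIc S (hsI S hS) T hTI, MulAut.mul_apply]
          have hTv : ∀ w, π w = π v ∨ π w = (π v)⁻¹ → π w = π v → π (T w) = π (T v) := fun w _ h =>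
            QuotientGroup.eq.2 (by rw [← map_inv, ← map_mul]; exact hΦ T hTI _ (QuotientGroup.eq.1 h))
          rcases hv S hS with h | h
          · left; rw [map_mul, map_mul, hST, h, hTv _ (Or.inl h) h, ← map_mul]
          · right
            have h' : π (T (S v)) = (π (T v))⁻¹ := by
              rw [← map_inv π, ← map_inv T]
              exact QuotientGroup.eq.2 (by
                rw [← map_inv, ← map_mul]; exact hΦ T hTI _ (QuotientGroup.eq.1 (by rw [← map_inv] at h; exact h)))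
            rw [map_mul, map_mul, hST, h, h', map_mul, mul_inv_rev, hab]
      have h2 : v * (T v)⁻¹ ∈ Q (insert T s) := by
        intro S hS
        rcases Finset.mem_insert.1 hS with rfl | hS
        · right
          rw [map_mul, map_inv, hT2, map_mul π, map_inv π, map_mul π, map_inv π, mul_inv_rev, inv_inv]
        · have hST : S (T v) = T (S v) := by rw [← MulAut.mul_apply, hIc S (hsI S hS) T hTI, MulAut.mul_apply]
          rcases hv S hS with h | h
          · left
            have h' : π (T (S v)) = π (T v) := QuotientGroup.eq.2 (by rw [← map_inv, ← map_mul]; exact hΦ T hTI _ (QuotientGroup.eq.1 h))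
            rw [map_mul, map_inv, hST, map_mul π, map_inv π, h, h', map_mul π, map_inv π]
          · right
            have h' : π (T (S v)) = (π (T v))⁻¹ := by
              rw [← map_inv π, ← map_inv T]
              exact QuotientGroup.eq.2 (by
                rw [← map_inv, ← map_mul]; exact hΦ T hTI _ (QuotientGroup.eq.1 (by rw [← map_inv] at h; exact h)))
            rw [map_mul, map_inv, hST, map_mul π, map_inv π, h, h', map_mul π, map_inv π, mul_inv_rev, inv_inv, hab]
      obtain ⟨r, hr⟩ : ∃ r : ℕ, orderOf v = 2 * r + 1 := hodd.of_dvd_nat (orderOf_dvd_natCard v)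
      have h3 : v * T v * (v * (T v)⁻¹) * ((v * v)⁻¹ * (v * T v * (v * (T v)⁻¹)))⁻¹ = v * v := by rw [mul_inv_rev, inv_inv, mul_inv_cancel_left]
      have h4 : (v * v)⁻¹ * (v * T v * (v * (T v)⁻¹)) ∈ Φ := by
        rw [← QuotientGroup.eq_one_iff]
        show π _ = 1
        rw [map_mul, map_inv, map_mul π (v * T v), map_mul, map_mul, map_mul π v (T v)⁻¹, map_inv,
          hab (π v) (π (T v)), show π (T v) * π v * (π v * (π (T v))⁻¹) = π (T v) * (π v * π v) * (π (T v))⁻¹ by group,
          hab (π (T v)), mul_inv_cancel_right, inv_mul_cancel]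
      have h5 : ∀ k ∈ Φ, k ∈ Subgroup.closure (Q (insert T s)) := fun k hk => Subgroup.subset_closure (fun S hS => by
        left
        rw [show π k = 1 from (QuotientGroup.eq_one_iff k).2 hk]
        exact (QuotientGroup.eq_one_iff _).2 (hΦ S (hs S hS) k hk))
      have h6 : v * v ∈ Subgroup.closure (Q (insert T s)) :=
        h3 ▸ mul_mem (mul_mem (Subgroup.subset_closure h1) (Subgroup.subset_closure h2)) (inv_mem (h5 _ h4))
      have h7 : v = (v * v) ^ (r + 1) := by
        rw [← pow_two, ← pow_mul, show 2 * (r + 1) = orderOf v + 1 by omega, pow_succ, pow_orderOf_eq_one, one_mul]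
      rw [SetLike.mem_coe, h7]; exact pow_mem h6 _
  haveI : Fintype I := Fintype.ofFinite I
  let s : Finset (MulAut P) := (Finset.univ : Finset I).image Subtype.val
  have hall := hgen s fun T hT => by
    obtain ⟨S, -, rfl⟩ := Finset.mem_image.1 hT; exact S.2
  refine frattini_nongenerating (top_le_iff.1 ?_)
  rw [← hall, Subgroup.closure_le]
  intro v hv
  have hsgn : ∀ T : I, π ((T : MulAut P) v) = if decide (π ((T : MulAut P) v) = π v) then π v else (π v)⁻¹ := fun T => by
    by_cases h : π ((T : MulAut P) v) = π v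
    · simp [h]
    · simp only [h, decide_false, Bool.false_eq_true, if_false]
      exact (hv T (Finset.mem_image.2 ⟨T, Finset.mem_univ _, rfl⟩)).resolve_left h
  by_cases hv1 : π v = 1
  · exact Subgroup.mem_sup_right ((QuotientGroup.eq_one_iff v).1 hv1)
  have hne : (π v)⁻¹ ≠ π v := by
    intro h
    obtain ⟨n, hn⟩ := IsPGroup.iff_card.1 hP
    refine hv1 (inv_eq_self (P := P ⧸ Φ) ?_ h)
    exact (hn ▸ (hp.out.odd_of_ne_two hp2).pow : Odd (Nat.card P)).of_dvd_nat (Subgroup.card_quotient_dvd_card Φ)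
  let χ : I → Bool := fun T => decide (π ((T : MulAut P) v) = (π v)⁻¹)
  have hval : ∀ T : I, π ((T : MulAut P) v) = if χ T then (π v)⁻¹ else π v := fun T => by
    by_cases h : π ((T : MulAut P) v) = (π v)⁻¹
    · simp [χ, h]
    · simp only [χ, h, decide_false, Bool.false_eq_true, if_false]
      exact (hv T (Finset.mem_image.2 ⟨T, Finset.mem_univ _, rfl⟩)).resolve_right h
  have hχ : ∀ S T : I, χ (S * T) = Bool.xor (χ S) (χ T) := fun S T => by
    have e : π (((S * T : I) : MulAut P) v) = if Bool.xor (χ S) (χ T) then (π v)⁻¹ else π v := by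
      show π ((S : MulAut P) ((T : MulAut P) v)) = _
      have hcong : ∀ a b, π a = π b → π ((S : MulAut P) a) = π ((S : MulAut P) b) := fun a b h =>
        QuotientGroup.eq.2 (by rw [← map_inv, ← map_mul]; exact hΦ S S.2 _ (QuotientGroup.eq.1 h))
      have hT' := hval T
      cases hT : χ T <;> simp only [hT, Bool.false_eq_true, if_false, if_true] at hT'
      · rw [hcong _ v hT', hval S]; simp
      · rw [hcong _ v⁻¹ (by rw [map_inv]; exact hT'), map_inv, map_inv, hval S]; cases χ S <;> simp only [Bool.false_eq_true, if_false, if_true, Bool.xor_true, Bool.not_false, Bool.not_true] <;> first | rfl | exact inv_inv _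
    rw [hval (S * T)] at e
    cases h1 : χ (S * T) <;> cases h2 : Bool.xor (χ S) (χ T) <;> simp_all [hne, hne.symm]
  obtain ⟨y, hy, hy'⟩ := exists_lift hodd hI2 Φ hΦ χ hχ v hval
  have hyX : y ∈ Subgroup.closure {x : P | ∀ T ∈ I, Eig T x} := Subgroup.subset_closure fun T hT => by
    have h8 : T y = if χ ⟨T, hT⟩ then y⁻¹ else y := hy' ⟨T, hT⟩
    cases h : χ ⟨T, hT⟩ <;> simp only [h, Bool.false_eq_true, if_false, if_true] at h8
    exacts [Or.inl h8, Or.inr h8]
  have h9 := Subgroup.mul_mem_sup hyX (QuotientGroup.eq.1 hy)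
  rwa [mul_inv_cancel_left] at h9

theorem pow_of_cyclic [hp : Fact p.Prime] (hP : IsPGroup p P) {g x y : P} (hx : x ∈ Subgroup.zpowers g) (hy : y ∈ Subgroup.zpowers g) :
    x ∈ Subgroup.zpowers y ∨ y ∈ Subgroup.zpowers x := by
  wlog h : orderOf x ≤ orderOf y generalizing x y with H
  · exact (H hy hx (le_of_not_ge h)).symm
  left
  obtain ⟨a, ha⟩ := IsPGroup.iff_orderOf.1 hP x
  obtain ⟨b, hb⟩ := IsPGroup.iff_orderOf.1 hP y
  haveI : IsCyclic (Subgroup.zpowers g) := inferInstance
  have hab : a ≤ b := (Nat.pow_le_pow_iff_right hp.out.one_lt).1 (ha ▸ hb ▸ h)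
  classical
  haveI := Fintype.ofFinite P
  -- all roots of `z ^ orderOf y = 1` in a cyclic group are powers of `y`
  let S : Finset (Subgroup.zpowers g) := Finset.univ.filter fun z => z ^ orderOf y = 1
  have hS : S.card ≤ orderOf y := IsCyclic.card_pow_eq_one_le (orderOf_pos y)
  let e : Subgroup.zpowers y → Subgroup.zpowers g := Subgroup.inclusion (Subgroup.zpowers_le.2 hy)
  have hsub : Finset.univ.image e ⊆ S := by
    intro z hz
    obtain ⟨w, -, rfl⟩ := Finset.mem_image.1 hz
    refine Finset.mem_filter.2 ⟨Finset.mem_univ _, Subtype.ext ?_⟩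
    obtain ⟨i, hi⟩ := Subgroup.mem_zpowers_iff.1 w.2
    show (w : P) ^ orderOf y = 1
    rw [← hi, ← zpow_natCast, ← zpow_mul, mul_comm, zpow_mul, zpow_natCast, pow_orderOf_eq_one, one_zpow]
  have heq : Finset.univ.image e = S := Finset.eq_of_subset_of_card_le hsub (by
    rw [Finset.card_image_of_injective _ (Subgroup.inclusion_injective _), Finset.card_univ, Fintype.card_zpowers]
    exact hS)
  have hxS : (⟨x, hx⟩ : Subgroup.zpowers g) ∈ S := Finset.mem_filter.2 ⟨Finset.mem_univ _, Subtype.ext (by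
    show x ^ orderOf y = 1
    rw [← orderOf_dvd_iff_pow_eq_one, ha, hb]; exact pow_dvd_pow p hab)⟩
  rw [← heq] at hxS
  obtain ⟨w, -, hw⟩ := Finset.mem_image.1 hxS
  have : (w : P) = x := congrArg Subtype.val hw
  exact this ▸ w.2


set_option maxHeartbeats 0 in
/-- Let p be an odd prime, P a finite p-group and I an elementary abelian subgroup of order 8 of Aut(P). Call T ∈ I, T ≠ 1, broad when its fixed-point subgroup C_P(T) is not cyclic. Suppose I has a proper subgroup I₀ containing no broad element such that the product of any two broad elements lies in I₀. Then P is abelian of rank exactly 3 (generated by three elements but not by two), there are exactly three broad elements and they generate I, and I₀ is exactly the set of products of two broad elements. -/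
theorem result
    {P : Type*} [Group P] [Finite P] (p : ℕ) (hp : p.Prime) (hp2 : p ≠ 2) (hP : IsPGroup p P)
    (I : Subgroup (MulAut P)) (hI : Cfsg.IsElementaryAbelian 2 I) (hI8 : Nat.card ↥I = 8)
    (I₀ : Subgroup (MulAut P)) (hI₀ : I₀ < I)
    (hdisj : ∀ T ∈ I₀, T ≠ 1 → ∃ g : P, ∀ x : P, (T x = x ↔ x ∈ Subgroup.zpowers g))
    (hprod : ∀ T ∈ I, ∀ T' ∈ I, T ≠ 1 → T' ≠ 1 → (¬ ∃ g : P, ∀ x : P, (T x = x ↔ x ∈ Subgroup.zpowers g)) →
      (¬ ∃ g : P, ∀ x : P, (T' x = x ↔ x ∈ Subgroup.zpowers g)) → T * T' ∈ I₀) :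
    IsMulCommutative P ∧ (∃ a b c : P, Subgroup.closure {a, b, c} = ⊤) ∧ (¬ ∃ a b : P, Subgroup.closure {a, b} = ⊤) ∧
      Nat.card {T : MulAut P // T ∈ I ∧ T ≠ 1 ∧ ¬ ∃ g : P, ∀ x : P, (T x = x ↔ x ∈ Subgroup.zpowers g)} = 3 ∧
      Subgroup.closure {T : MulAut P | T ∈ I ∧ T ≠ 1 ∧ ¬ ∃ g : P, ∀ x : P, (T x = x ↔ x ∈ Subgroup.zpowers g)} = I ∧
      (I₀ : Set (MulAut P)) = {S : MulAut P | ∃ T T' : MulAut P, T ∈ I ∧ T' ∈ I ∧ T ≠ 1 ∧ T' ≠ 1 ∧
        (¬ ∃ g : P, ∀ x : P, (T x = x ↔ x ∈ Subgroup.zpowers g)) ∧ (¬ ∃ g : P, ∀ x : P, (T' x = x ↔ x ∈ Subgroup.zpowers g)) ∧ S = T * T'} := by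
  classical
  haveI := Fact.mk hp
  obtain ⟨n, hn⟩ := IsPGroup.iff_card.1 hP
  have hodd : Odd (Nat.card P) := hn ▸ (hp.odd_of_ne_two hp2).pow
  have hI2 : ∀ T ∈ I, T * T = 1 := fun T hT => by rw [← pow_two]; exact hI.2 T hT
  have hIc : ∀ S ∈ I, ∀ T ∈ I, S * T = T * S := fun S hS T hT => by
    haveI := hI.1
    exact congrArg Subtype.val (mul_comm' (⟨S, hS⟩ : I) ⟨T, hT⟩)
  haveI : Fintype P := Fintype.ofFinite P
  -- irredundant eigen generators
  obtain ⟨s, ⟨hsX, hsgen⟩, hsmin⟩ : ∃ s : Finset P, ((∀ x ∈ s, ∀ T ∈ I, Eig T x) ∧ Subgroup.closure (s : Set P) = ⊤) ∧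
      ∀ t ⊂ s, Subgroup.closure (t : Set P) ≠ ⊤ := by
    obtain ⟨s, hs⟩ := (Set.toFinite {s : Finset P | (∀ x ∈ s, ∀ T ∈ I, Eig T x) ∧ Subgroup.closure (s : Set P) = ⊤}).exists_minimal
      ⟨Finset.univ.filter fun x => ∀ T ∈ I, Eig T x, fun x hx => (Finset.mem_filter.1 hx).2, by
        simpa using eigen_generate hp2 hP hI2 hIc⟩
    exact ⟨s, hs.1, fun t ht e => ht.not_subset (hs.2 ⟨fun x hx => hs.1.1 x (ht.subset hx), e⟩ ht.subset)⟩
  have hred : ∀ x ∈ s, x ∉ Subgroup.closure ((s.erase x : Finset P) : Set P) := fun x hx h =>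
    hsmin _ (Finset.erase_ssubset hx) (top_le_iff.1 (hsgen ▸ (Subgroup.closure_le _).2 (fun y hy => by
      by_cases e : y = x
      · exact e ▸ h
      · exact Subgroup.subset_closure (Finset.mem_coe.2 (Finset.mem_erase.2 ⟨e, hy⟩)))))
  have hs1 : ∀ x ∈ s, x ≠ 1 := fun x hx e => hred x hx (e ▸ one_mem _)
  have hpow : ∀ x ∈ s, ∀ y ∈ s, x ∈ Subgroup.zpowers y → x = y := fun x hx y hy h => by_contra fun e =>
    hred x hx (Subgroup.zpowers_le.2 (Subgroup.subset_closure (Finset.mem_coe.2 (Finset.mem_erase.2 ⟨fun e' => e e'.symm, hy⟩))) h)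
  have honly : ∀ T ∈ I₀, T ≠ 1 → ∀ x ∈ s, ∀ y ∈ s, T x = x → T y = y → x = y := fun T hT hT1 x hx y hy hTx hTy => by
    obtain ⟨g, hg⟩ := hdisj T hT hT1
    rcases pow_of_cyclic hP ((hg x).1 hTx) ((hg y).1 hTy) with h | h
    · exact hpow x hx y hy h
    · exact (hpow y hy x hx h).symm
  have hfix1 : ∀ T : MulAut P, (∀ x ∈ s, T x = x) → T = 1 := fun T h => MulEquiv.ext fun x => by
    have : x ∈ Subgroup.closure (s : Set P) := hsgen ▸ Subgroup.mem_top x
    induction this using Subgroup.closure_induction with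
    | mem y hy => exact h y hy
    | one => exact map_one T
    | mul a b _ _ ha hb => rw [map_mul, ha, hb]; rfl
    | inv a _ ha => rw [map_inv, ha]; rfl
  have heig : ∀ x ∈ s, ∀ T ∈ I, ∀ T' ∈ I, (T x = x ∧ T' x = x → (T * T') x = x) ∧ (T x ≠ x ∧ T' x ≠ x → (T * T') x = x) := by
    intro x hx T hT T' hT'
    refine ⟨fun h => by rw [MulAut.mul_apply, h.2, h.1], fun h => ?_⟩
    rw [MulAut.mul_apply, (hsX x hx T' hT').resolve_left h.2, map_inv, (hsX x hx T hT).resolve_left h.1, inv_inv]
  -- the sign of an element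
  let sg : P → MulAut P → Bool := fun x T => decide (T x ≠ x)
  have hsg : ∀ x ∈ s, ∀ T ∈ I, ∀ T' ∈ I, sg x (T * T') = Bool.xor (sg x T) (sg x T') := by
    intro x hx T hT T' hT'
    by_cases h : T x = x <;> by_cases h' : T' x = x
    · have := (heig x hx T hT T' hT').1 ⟨h, h'⟩
      rw [MulAut.mul_apply] at this
      simp [sg, h, h', this]
    · have : (T * T') x ≠ x := fun e => h' (by
        rw [MulAut.mul_apply] at e
        exact T.injective (e.trans h.symm))
      rw [MulAut.mul_apply] at this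
      simp [sg, h, h', this]
    · have : (T * T') x ≠ x := fun e => h (by rwa [MulAut.mul_apply, h'] at e)
      rw [MulAut.mul_apply] at this
      simp [sg, h, h', this]
    · have := (heig x hx T hT T' hT').2 ⟨h, h'⟩
      rw [MulAut.mul_apply] at this
      simp [sg, h, h', this]
  -- three independent signs
  have hker : ∀ x y : P, x ∈ s → y ∈ s → ∃ T ∈ I, T ≠ 1 ∧ T x = x ∧ T y = y := by
    intro x y hx hy
    by_contra hno
    push Not at hno
    have hinj : Function.Injective (fun T : I => (sg x T, sg y T)) := fun A B e => by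
      simp only [Prod.mk.injEq] at e
      refine Subtype.ext ?_
      have h1 : ((A : MulAut P) * B) = 1 := by
        by_contra h1
        have e1 := hsg x hx A A.2 B B.2
        have e2 := hsg y hy A A.2 B B.2
        rw [e.1, Bool.xor_self] at e1
        rw [e.2, Bool.xor_self] at e2
        simp only [sg, ne_eq, decide_eq_false_iff_not, not_not] at e1 e2
        exact hno _ (mul_mem A.2 B.2) h1 e1 e2
      rw [← mul_one (A : MulAut P), ← hI2 B B.2, ← mul_assoc, h1, one_mul]
    have := Nat.card_le_card_of_injective _ hinj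
    rw [hI8, Nat.card_eq_fintype_card] at this
    simp at this
  have hIne : ∃ T ∈ I, T ≠ 1 := by
    by_contra h
    push Not at h
    have : I = ⊥ := (Subgroup.eq_bot_iff_forall I).2 h
    rw [this, Subgroup.card_bot] at hI8; omega
  obtain ⟨T₁, hT₁, hT₁1⟩ := hIne
  obtain ⟨x₁, hx₁, hx₁m⟩ : ∃ x ∈ s, T₁ x ≠ x := by
    by_contra h; push Not at h; exact hT₁1 (hfix1 _ h)
  obtain ⟨T₂, hT₂, hT₂1, hT₂x, -⟩ := hker x₁ x₁ hx₁ hx₁
  obtain ⟨x₂, hx₂, hx₂m⟩ : ∃ x ∈ s, T₂ x ≠ x := by
    by_contra h; push Not at h; exact hT₂1 (hfix1 _ h)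
  obtain ⟨T₃, hT₃, hT₃1, hT₃x, hT₃y⟩ := hker x₁ x₂ hx₁ hx₂
  obtain ⟨x₃, hx₃, hx₃m⟩ : ∃ x ∈ s, T₃ x ≠ x := by
    by_contra h; push Not at h; exact hT₃1 (hfix1 _ h)
  let xs : Fin 3 → P := ![x₁, x₂, x₃]
  have hxs : ∀ i, xs i ∈ s := fun i => by fin_cases i <;> assumption
  let Ψ : I → (Fin 3 → Bool) := fun T i => sg (xs i) T
  have hΨm : ∀ A B : I, Ψ (A * B) = fun i => Bool.xor (Ψ A i) (Ψ B i) := fun A B => funext fun i => hsg _ (hxs i) A A.2 B B.2
  have hΨs : Function.Surjective Ψ := by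
    intro w
    have a1 : Ψ ⟨T₁, hT₁⟩ 0 = true := by simp [Ψ, sg, xs, hx₁m]
    have a2 : Ψ ⟨T₂, hT₂⟩ 0 = false := by simp [Ψ, sg, xs, hT₂x]
    have a3 : Ψ ⟨T₂, hT₂⟩ 1 = true := by simp [Ψ, sg, xs, hx₂m]
    have a4 : Ψ ⟨T₃, hT₃⟩ 0 = false := by simp [Ψ, sg, xs, hT₃x]
    have a5 : Ψ ⟨T₃, hT₃⟩ 1 = false := by simp [Ψ, sg, xs, hT₃y]
    have a6 : Ψ ⟨T₃, hT₃⟩ 2 = true := by simp [Ψ, sg, xs, hx₃m]
    have z0 : Ψ 1 = fun _ => false := funext fun i => by simp [Ψ, sg]
    obtain ⟨c, hc⟩ : ∃ c : I, Ψ c 0 = w 0 := by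
      cases h : w 0
      · exact ⟨1, by rw [z0]⟩
      · exact ⟨_, a1⟩
    obtain ⟨d, hd0, hd1⟩ : ∃ d : I, Ψ d 0 = false ∧ Ψ d 1 = Bool.xor (Ψ c 1) (w 1) := by
      cases h : Bool.xor (Ψ c 1) (w 1)
      · exact ⟨1, by rw [z0], by rw [z0]⟩
      · exact ⟨_, a2, a3⟩
    obtain ⟨f, hf0, hf1, hf2⟩ : ∃ f : I, Ψ f 0 = false ∧ Ψ f 1 = false ∧ Ψ f 2 = Bool.xor (Bool.xor (Ψ c 2) (Ψ d 2)) (w 2) := by
      cases h : Bool.xor (Bool.xor (Ψ c 2) (Ψ d 2)) (w 2)
      · exact ⟨1, by rw [z0], by rw [z0], by rw [z0]⟩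
      · exact ⟨_, a4, a5, a6⟩
    refine ⟨c * d * f, funext fun i => ?_⟩
    rw [hΨm, hΨm]
    fin_cases i
    · simp [hc, hd0, hf0]
    · simp [hd1, hf1]
    · simp [hf2]; cases Ψ c 2 <;> cases Ψ d 2 <;> cases w 2 <;> rfl
  have hΨi : Function.Injective Ψ :=
    ((Nat.bijective_iff_surjective_and_card Ψ).2 ⟨hΨs, by rw [hI8, Nat.card_eq_fintype_card]; simp⟩).1
  choose el hel using hΨs
  let b : Fin 3 → I := fun i => el fun j => decide (j = i)
  have hb : ∀ i j, Ψ (b i) j = decide (j = i) := fun i j => congrFun (hel _) j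
  have hz : ∀ (T : I) i, (T : MulAut P) (xs i) = xs i ↔ Ψ T i = false := fun T i => by simp [Ψ, sg]
  have hb1 : ∀ i, ((b i : I) : MulAut P) ≠ 1 := fun i h => by
    have := (hz (b i) i).1 (by rw [h, MulAut.one_apply])
    rw [hb] at this; simp at this
  have hinjx : Function.Injective xs := fun i j e => by
    have h1 := hb i i
    have h2 := hb i j
    simp only [Ψ, e] at h1 h2
    rw [h1] at h2
    exact (by simpa using h2 : j = i).symm
  let Broad : MulAut P → Prop := fun T => ¬ ∃ g : P, ∀ x : P, (T x = x ↔ x ∈ Subgroup.zpowers g)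
  have hbroad : ∀ i, Broad (b i : I) := by
    rintro i ⟨g, hg⟩
    obtain ⟨j, k, hji, hki, hjk⟩ : ∃ j k : Fin 3, j ≠ i ∧ k ≠ i ∧ j ≠ k := by fin_cases i <;> decide
    have h1 := (hg (xs j)).1 ((hz _ j).2 (by rw [hb]; simpa using hji))
    have h2 := (hg (xs k)).1 ((hz _ k).2 (by rw [hb]; simpa using hki))
    rcases pow_of_cyclic hP h1 h2 with h | h
    · exact hjk (hinjx (hpow _ (hxs j) _ (hxs k) h))
    · exact hjk.symm (hinjx (hpow _ (hxs k) _ (hxs j) h))
  let e2 : Fin 3 → I := fun k => el fun j => decide (j ≠ k)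
  have he2 : ∀ k j, Ψ (e2 k) j = decide (j ≠ k) := fun k j => congrFun (hel _) j
  have he2I : ∀ k, ((e2 k : I) : MulAut P) ∈ I₀ ∧ ((e2 k : I) : MulAut P) ≠ 1 := by
    intro k
    refine ⟨?_, fun h => ?_⟩
    · obtain ⟨i, j, hij, hw⟩ : ∃ i j : Fin 3, i ≠ j ∧ ∀ l, decide (l ≠ k) = Bool.xor (decide (l = i)) (decide (l = j)) := by
        fin_cases k <;> decide
      have e : e2 k = b i * b j := hΨi (funext fun l => by rw [hΨm]; simp only [he2, hb]; exact hw l)
      rw [e]
      exact hprod _ (b i).2 _ (b j).2 (hb1 i) (hb1 j) (hbroad i) (hbroad j)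
    · obtain ⟨l, hl⟩ : ∃ l : Fin 3, l ≠ k := by fin_cases k <;> decide
      have := (hz (e2 k) l).1 (by rw [h, MulAut.one_apply])
      rw [he2] at this; simp [hl] at this
  have hs3 : ∀ y ∈ s, ∃ i, y = xs i := by
    intro y hy
    by_contra hno
    push Not at hno
    have hfr : ∀ k, (e2 k : I).1 y ≠ y := fun k h => hno k
      (honly _ (he2I k).1 (he2I k).2 y hy _ (hxs k) h ((hz _ k).2 (by rw [he2]; simp)))
    have hmul : e2 0 * e2 1 = e2 2 := hΨi (funext fun l => by
      rw [hΨm]; simp only [he2]; fin_cases l <;> decide)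
    have := (heig y hy _ (e2 0).2 _ (e2 1).2).2 ⟨hfr 0, hfr 1⟩
    exact hfr 2 (by rw [← hmul]; exact this)
  have hgen3 : Subgroup.closure (Set.range xs) = ⊤ := top_le_iff.1 (hsgen ▸ Subgroup.closure_mono (fun y hy => by
    obtain ⟨i, rfl⟩ := hs3 y hy; exact ⟨i, rfl⟩))
  -- commutativity
  haveI hnil : Group.IsNilpotent P := hP.isNilpotent
  set K := ⁅commutator P, (⊤ : Subgroup P)⁆
  haveI hKn : K.Normal := Subgroup.commutator_normal _ _
  have hKinv : ∀ T ∈ I, ∀ k ∈ K, (T : MulAut P) k ∈ K := fun T _ k hk => by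
    have : K.map T.toMonoidHom ≤ K := by
      rw [Subgroup.map_commutator]
      refine Subgroup.commutator_mono ?_ le_top
      rw [commutator_def, Subgroup.map_commutator]
      exact Subgroup.commutator_mono le_top le_top
    exact this ⟨k, hk, rfl⟩
  set π := QuotientGroup.mk' K
  have hcen : ∀ (c : P) (y : P ⧸ K), c ∈ commutator P → π c * y = y * π c := fun c y hc => by
    obtain ⟨y, rfl⟩ := QuotientGroup.mk'_surjective K y
    refine commutatorElement_eq_one_iff_commute.1 ?_
    rw [← map_commutatorElement]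
    exact (QuotientGroup.eq_one_iff _).2 (Subgroup.commutator_mem_commutator hc (Subgroup.mem_top y))
  have hcK : ∀ i j, π (xs i) * π (xs j) = π (xs j) * π (xs i) := by
    intro i j
    by_cases hij : i = j
    · rw [hij]
    obtain ⟨k, hki, hkj⟩ : ∃ k : Fin 3, k ≠ i ∧ k ≠ j := by fin_cases i <;> fin_cases j <;> decide
    set c := ⁅xs i, xs j⁆
    have hc : c ∈ commutator P := Subgroup.commutator_mem_commutator (Subgroup.mem_top _) (Subgroup.mem_top _)
    have key : ∀ (u v : P ⧸ K), (∀ w, ⁅u, v⁆ * w = w * ⁅u, v⁆) → ⁅u⁻¹, v⁆ = ⁅u, v⁆⁻¹ ∧ ⁅u⁻¹, v⁻¹⁆ = ⁅u, v⁆ := by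
      intro u v hw
      refine ⟨?_, ?_⟩
      · calc ⁅u⁻¹, v⁆ = u⁻¹ * ⁅u, v⁆⁻¹ * u := by rw [commutatorElement_def, commutatorElement_def]; group
          _ = ⁅u, v⁆⁻¹ := by
            have h := (Commute.inv_left (show Commute ⁅u, v⁆ u from hw u)).eq
            rw [mul_assoc, h, inv_mul_cancel_left]
      · calc ⁅u⁻¹, v⁻¹⁆ = (v * u)⁻¹ * ⁅u, v⁆ * (v * u) := by rw [commutatorElement_def, commutatorElement_def]; group
          _ = ⁅u, v⁆ := by rw [mul_assoc, hw, inv_mul_cancel_left]
    have hw : ∀ w, ⁅π (xs i), π (xs j)⁆ * w = w * ⁅π (xs i), π (xs j)⁆ := fun w => by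
      rw [← map_commutatorElement]; exact hcen c w hc
    have hinvx : ∀ (T : I) l, Ψ T l = true → (T : MulAut P) (xs l) = (xs l)⁻¹ := fun T l h =>
      (hsX _ (hxs l) _ T.2).resolve_left fun e => by rw [(hz T l).1 e] at h; exact Bool.noConfusion h
    set T := e2 k
    have hTc : π ((T : MulAut P) c) = π c := by
      rw [map_commutatorElement, hinvx T i (by rw [he2]; simp [Ne.symm hki]), hinvx T j (by rw [he2]; simp [Ne.symm hkj]),
        map_commutatorElement, map_inv, map_inv, (key _ _ hw).2, map_commutatorElement]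
    -- a fixed lift
    let J : Subgroup (MulAut P) := Subgroup.zpowers (T : MulAut P)
    have hJI : J ≤ I := Subgroup.zpowers_le.2 T.2
    have hJfix : ∀ w : J, π ((w : MulAut P) c) = π c := by
      rintro ⟨w, hw'⟩
      obtain ⟨z, rfl⟩ := Subgroup.mem_zpowers_iff.1 hw'
      rcases Int.even_or_odd z with ⟨r, rfl⟩ | ⟨r, rfl⟩
      · show π (((T : MulAut P) ^ (r + r)) c) = π c
        rw [← two_mul, zpow_mul, zpow_two, hI2 _ T.2, one_zpow, MulAut.one_apply]
      · show π (((T : MulAut P) ^ (2 * r + 1)) c) = π c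
        rw [zpow_add, zpow_mul, zpow_two, hI2 _ T.2, one_zpow, one_mul, zpow_one]; exact hTc
    obtain ⟨d, hd, hd'⟩ := exists_lift hodd (I := J) (fun S hS => hI2 S (hJI hS)) K (fun S hS => hKinv S (hJI hS))
      (fun _ => false) (fun _ _ => rfl) c (fun w => by simp only [Bool.false_eq_true, if_false]; exact hJfix w)
    have hTd : (T : MulAut P) d = d := by simpa using hd' ⟨_, Subgroup.mem_zpowers _⟩
    obtain ⟨g, hg⟩ := hdisj _ (he2I k).1 (he2I k).2
    have hxk : xs k ∈ Subgroup.zpowers g := (hg _).1 ((hz T k).2 (by rw [he2]; simp))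
    -- `b i` is trivial on the fixed points of `T`
    set S : MulAut P := (b i).1
    have hSg : S g ∈ Subgroup.zpowers g := (hg _).1 (by
      rw [← MulAut.mul_apply, hIc _ T.2 _ (b i).2, MulAut.mul_apply, (hg g).2 (Subgroup.mem_zpowers g)])
    have hSxk : S (xs k) = xs k := (hz _ k).2 (by rw [hb]; simpa using hki)
    have hSd : S d = d := by
      obtain ⟨l, hl⟩ := Subgroup.mem_zpowers_iff.1 hSg
      have hll : g ^ (l * l) = g := by
        rw [zpow_mul, hl, ← map_zpow, hl, ← MulAut.mul_apply, hI2 _ (b i).2, MulAut.one_apply]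
      obtain ⟨m, hm⟩ := IsPGroup.iff_orderOf.1 hP g
      have hd1 : ((p : ℤ) ^ m) ∣ (l - 1) * (l + 1) := by
        rw [← Nat.cast_pow, ← hm, orderOf_dvd_iff_zpow_eq_one, show (l - 1) * (l + 1) = l * l + (-1) by ring, zpow_add, hll,
          zpow_neg_one, mul_inv_cancel]
      have hpp : Prime (p : ℤ) := Nat.prime_iff_prime_int.1 hp
      by_cases h1 : (p : ℤ) ∣ l + 1
      · exfalso
        have h2 : ¬ (p : ℤ) ∣ l - 1 := fun h => by
          have := dvd_sub h1 h
          rw [show l + 1 - (l - 1) = ((2 : ℕ) : ℤ) by push_cast; ring, Int.natCast_dvd_natCast] at this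
          exact hp2 ((Nat.prime_dvd_prime_iff_eq hp Nat.prime_two).1 this)
        have h3 := (IsCoprime.pow_left ((Prime.coprime_iff_not_dvd hpp).2 h2) : IsCoprime ((p : ℤ) ^ m) (l - 1)).dvd_of_dvd_mul_left hd1
        rw [← Nat.cast_pow, ← hm, orderOf_dvd_iff_zpow_eq_one] at h3
        have hgl : g ^ l = g⁻¹ := by rw [show l = l + 1 + (-1) by ring, zpow_add, h3, one_mul, zpow_neg_one]
        obtain ⟨q, hq⟩ := Subgroup.mem_zpowers_iff.1 hxk
        have : (xs k)⁻¹ = xs k := by
          conv_rhs => rw [← hSxk, ← hq, map_zpow, ← hl, hgl, inv_zpow, hq]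
        exact hs1 _ (hxs k) (inv_eq_self hodd this)
      · have h3 := (IsCoprime.pow_left ((Prime.coprime_iff_not_dvd hpp).2 h1) : IsCoprime ((p : ℤ) ^ m) (l + 1)).dvd_of_dvd_mul_right hd1
        rw [← Nat.cast_pow, ← hm, orderOf_dvd_iff_zpow_eq_one] at h3
        have hgl : g ^ l = g := by rw [show l = l - 1 + 1 by ring, zpow_add, h3, one_mul, zpow_one]
        obtain ⟨q, hq⟩ := Subgroup.mem_zpowers_iff.1 ((hg d).1 hTd)
        rw [← hq, map_zpow, ← hl, hgl]
    have hSc : π (S c) = (π c)⁻¹ := by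
      rw [map_commutatorElement, hinvx (b i) i (by rw [hb]; simp), (hz (b i) j).2 (by rw [hb]; simp [Ne.symm hij]),
        map_commutatorElement, map_inv, (key _ _ hw).1, map_commutatorElement]
    have h4 : π (S c) = π (S d) := QuotientGroup.eq.2 (by
      rw [← map_inv, ← map_mul]; exact hKinv _ (b i).2 _ (QuotientGroup.eq.1 hd.symm))
    rw [hSd, hd, hSc] at h4
    have h5 : π c = 1 := inv_eq_self (P := P ⧸ K) (hodd.of_dvd_nat (Subgroup.card_quotient_dvd_card K)) h4
    rw [map_commutatorElement] at h5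
    exact commutatorElement_eq_one_iff_commute.1 h5
  have habQ : commutator P ≤ K := by
    haveI hQc : IsMulCommutative (Subgroup.closure (π '' Set.range xs)) := Subgroup.isMulCommutative_closure (by
      rintro _ ⟨_, ⟨i, rfl⟩, rfl⟩ _ ⟨_, ⟨j, rfl⟩, rfl⟩; exact hcK i j)
    have htop : Subgroup.closure (π '' Set.range xs) = ⊤ := by
      rw [← MonoidHom.map_closure, hgen3, Subgroup.map_top_of_surjective _ (QuotientGroup.mk'_surjective K)]
    rw [commutator_def, Subgroup.commutator_le]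
    intro a _ c _
    rw [← QuotientGroup.eq_one_iff]
    show π ⁅a, c⁆ = 1
    rw [map_commutatorElement, commutatorElement_eq_one_iff_commute]
    exact congrArg Subtype.val (mul_comm' (⟨π a, htop ▸ Subgroup.mem_top _⟩ : Subgroup.closure (π '' Set.range xs)) ⟨π c, htop ▸ Subgroup.mem_top _⟩)
  have hder : commutator P = ⊥ := by
    have hstep : ∀ m, commutator P ≤ Subgroup.lowerCentralSeries (⊤ : Subgroup P) m := by
      intro m
      induction m with
      | zero => rw [Subgroup.lowerCentralSeries_zero]; exact le_top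
      | succ m ih => exact habQ.trans (Subgroup.commutator_mono ih le_top)
    obtain ⟨m, hm⟩ := Subgroup.nilpotent_iff_lowerCentralSeries.1 hnil
    exact le_bot_iff.1 (hm ▸ hstep m)
  have hcomm : ∀ a c : P, a * c = c * a := fun a c => commutatorElement_eq_one_iff_commute.1
    (Subgroup.mem_bot.1 (hder ▸ Subgroup.commutator_mem_commutator (Subgroup.mem_top a) (Subgroup.mem_top c)))
  -- the classification of the elements of `I`
  have hclass : ∀ T : I, (T : MulAut P) ≠ 1 → (∃ i, T = b i) ∨ (∃ k, T = e2 k) ∨ (T : MulAut P) = (el fun _ => true : I) := by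
    intro T hT
    have key : ∀ w : Fin 3 → Bool, w = (fun _ => false) ∨ (∃ i, w = fun j => decide (j = i)) ∨
        (∃ k, w = fun j => decide (j ≠ k)) ∨ w = fun _ => true := by decide
    rcases key (Ψ T) with h | ⟨i, h⟩ | ⟨k, h⟩ | h
    · exact absurd (congrArg Subtype.val (hΨi (show Ψ T = Ψ 1 by rw [h]; funext i; simp [Ψ, sg]))) hT
    · exact Or.inl ⟨i, hΨi (h.trans (hel _).symm)⟩
    · exact Or.inr (Or.inl ⟨k, hΨi (h.trans (hel _).symm)⟩)
    · exact Or.inr (Or.inr (congrArg Subtype.val (hΨi (h.trans (hel _).symm))))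
  have hall3 : ¬ Broad (el fun _ => true : I) := by
    intro hB
    refine hB ⟨1, fun x => ?_⟩
    have hinv : ∀ y, ((el fun _ => true : I) : MulAut P) y = y⁻¹ := fun y => by
      have : y ∈ Subgroup.closure (Set.range xs) := hgen3 ▸ Subgroup.mem_top y
      induction this using Subgroup.closure_induction with
      | mem z hz' =>
        obtain ⟨l, rfl⟩ := hz'
        refine (hsX _ (hxs l) _ (el fun _ => true).2).resolve_left fun e => ?_
        have := (hz _ l).1 e
        rw [hel] at this; exact Bool.noConfusion this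
      | one => simp
      | mul a c _ _ ha hc => rw [map_mul, ha, hc, mul_inv_rev, hcomm]
      | inv a _ ha => rw [map_inv, ha]
    rw [hinv, Subgroup.zpowers_one_eq_bot, Subgroup.mem_bot]
    exact ⟨inv_eq_self hodd, fun h => by simp [h]⟩
  have hBiff : ∀ T : MulAut P, (T ∈ I ∧ T ≠ 1 ∧ Broad T) ↔ ∃ i, T = (b i : I) := by
    intro T
    constructor
    · rintro ⟨hT, hT1, hB⟩
      rcases hclass ⟨T, hT⟩ hT1 with ⟨i, h⟩ | ⟨k, h⟩ | h
      · exact ⟨i, congrArg Subtype.val h⟩
      · exact absurd (hdisj T ((by rw [show T = ((e2 k : I) : MulAut P) from congrArg Subtype.val h]; exact (he2I k).1)) hT1) hB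
      · exact absurd (show Broad ((el fun _ => true : I) : MulAut P) from (show T = _ from h) ▸ hB) hall3
    · rintro ⟨i, rfl⟩; exact ⟨(b i).2, hb1 i, hbroad i⟩
  have hbinj : Function.Injective b := fun i j e => by
    have := hb i i; rw [e, hb] at this; simpa using this
  refine ⟨⟨⟨hcomm⟩⟩, ⟨x₁, x₂, x₃, ?_⟩, ?_, ?_, ?_, ?_⟩
  · rw [← hgen3]; congr 1
    ext y; simp [xs, eq_comm]; tauto
  · rintro ⟨a, c, hac⟩
    haveI hΦn : (frattini P).Normal := inferInstance
    have hupper : (frattini P).index ≤ p * p := by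
      have hsurj : Function.Surjective (fun z : Fin p × Fin p => QuotientGroup.mk' (frattini P) (a ^ (z.1 : ℕ) * c ^ (z.2 : ℕ))) := by
        have hm : ∀ w, QuotientGroup.mk' (frattini P) w ^ p = 1 := fun w => by
          rw [← map_pow]; exact (QuotientGroup.eq_one_iff _).2 (CfsgLib.Solv.pow_mem_frattini hP w)
        intro q
        obtain ⟨w, rfl⟩ := QuotientGroup.mk'_surjective _ q
        have hw : w ∈ Subgroup.closure {a, c} := hac ▸ Subgroup.mem_top w
        letI : CommGroup P := { (inferInstance : Group P) with mul_comm := hcomm }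
        obtain ⟨u, v, rfl⟩ := Subgroup.mem_closure_pair.1 hw
        have key : ∀ (g : P ⧸ frattini P) (z : ℤ), g ^ p = 1 → ∃ r : Fin p, g ^ z = g ^ (r : ℕ) := fun g z hg => by
          have hp0 : (p : ℤ) ≠ 0 := Int.natCast_ne_zero.2 hp.ne_zero
          refine ⟨⟨(z % p).toNat, by have := Int.emod_lt_of_pos z (show (0 : ℤ) < p by exact_mod_cast hp.pos); have := Int.emod_nonneg z hp0; omega⟩, ?_⟩
          show g ^ z = g ^ ((z % (p : ℤ)).toNat)
          rw [← zpow_natCast, Int.toNat_of_nonneg (Int.emod_nonneg z hp0)]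
          conv_lhs => rw [← Int.mul_ediv_add_emod z p, zpow_add, zpow_mul, zpow_natCast, hg, one_zpow, one_mul]
        obtain ⟨r1, h1⟩ := key _ u (hm a)
        obtain ⟨r2, h2⟩ := key _ v (hm c)
        exact ⟨(r1, r2), by simp only [map_mul, map_pow, map_zpow, h1, h2]⟩
      have := Nat.card_le_card_of_surjective _ hsurj
      simpa [Subgroup.index] using this
    -- but a chain of length three
    let H : Fin 4 → Subgroup P := ![frattini P, Subgroup.closure {x₁} ⊔ frattini P, Subgroup.closure {x₁, x₂} ⊔ frattini P, ⊤]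
    have hlt : ∀ (A B : Subgroup P), A < B → p * B.index ≤ A.index := fun A B h => by
      rw [← Subgroup.relIndex_mul_index h.le]
      refine Nat.mul_le_mul_right _ ?_
      obtain ⟨j, hj⟩ := (hP.to_subgroup B).index (A.subgroupOf B)
      have hj' : A.relIndex B = p ^ j := hj
      rw [hj']
      refine le_self_pow₀ hp.one_le fun h0 => h.not_ge (Subgroup.relIndex_eq_one.1 ?_)
      rw [hj', h0, pow_zero]
    have hne : ∀ (S : Set P) (z : P), z ∈ s → S ⊆ (s.erase z : Finset P) → z ∉ Subgroup.closure S ⊔ frattini P := by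
      intro S z hz' hS hmem
      refine hred z hz' ?_
      have h0 : Subgroup.closure (s : Set P) ≤ Subgroup.closure ((s.erase z : Finset P) : Set P) ⊔ frattini P := by
        refine (Subgroup.closure_le _).2 fun y hy => ?_
        by_cases ey : y = z
        · rw [ey]; exact (sup_le_sup_right (Subgroup.closure_mono hS) _) hmem
        · exact Subgroup.mem_sup_left (Subgroup.subset_closure (Finset.mem_coe.2 (Finset.mem_erase.2 ⟨ey, hy⟩)))
      rw [hsgen] at h0
      rw [frattini_nongenerating (top_le_iff.1 h0)]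
      exact Subgroup.mem_top _
    have n0 : frattini P < Subgroup.closure {x₁} ⊔ frattini P := by
      refine lt_of_le_of_ne le_sup_right fun e => hne ∅ x₁ hx₁ (Set.empty_subset _) ?_
      rw [Subgroup.closure_empty, bot_sup_eq, e]
      exact Subgroup.mem_sup_left (Subgroup.subset_closure rfl)
    have d12 : x₁ ≠ x₂ := fun e => absurd (hinjx (show xs 0 = xs 1 from e)) (by decide)
    have d13 : x₁ ≠ x₃ := fun e => absurd (hinjx (show xs 0 = xs 2 from e)) (by decide)
    have d23 : x₂ ≠ x₃ := fun e => absurd (hinjx (show xs 1 = xs 2 from e)) (by decide)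
    have n1 : Subgroup.closure {x₁} ⊔ frattini P < Subgroup.closure {x₁, x₂} ⊔ frattini P :=
      lt_of_le_of_ne (sup_le_sup_right (Subgroup.closure_mono (by simp)) _) fun e => hne {x₁} x₂ hx₂ (by simp [hx₁, d12])
        (e ▸ Subgroup.mem_sup_left (Subgroup.subset_closure (by simp)))
    have n2 : Subgroup.closure {x₁, x₂} ⊔ frattini P < ⊤ :=
      lt_of_le_of_ne le_top fun e => hne {x₁, x₂} x₃ hx₃ (by
        intro y hy
        rcases hy with rfl | rfl
        · simp [hx₁, d13]
        · simp [hx₂, d23]) (e ▸ Subgroup.mem_top _)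
    have m0 := hlt _ _ n0
    have m1 := hlt _ _ n1
    have m2 := hlt _ _ n2
    rw [Subgroup.index_top] at m2
    have := hp.two_le
    nlinarith
  · have e : {T : MulAut P // T ∈ I ∧ T ≠ 1 ∧ Broad T} ≃ Fin 3 :=
      (Equiv.ofBijective (fun i : Fin 3 => (⟨(b i : I), (hBiff _).2 ⟨i, rfl⟩⟩ : {T : MulAut P // T ∈ I ∧ T ≠ 1 ∧ Broad T}))
        ⟨fun i j h => hbinj (Subtype.ext (congrArg Subtype.val h :)), fun ⟨T, hT⟩ => by
          obtain ⟨i, hi⟩ := (hBiff T).1 hT; exact ⟨i, Subtype.ext hi.symm⟩⟩).symm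
    exact (Nat.card_congr e).trans (by simp)
  · refine le_antisymm ((Subgroup.closure_le _).2 fun T hT => hT.1) fun T hT => ?_
    set Cl := Subgroup.closure {T : MulAut P | T ∈ I ∧ T ≠ 1 ∧ ¬ ∃ g : P, ∀ x : P, (T x = x ↔ x ∈ Subgroup.zpowers g)}
    have hbm : ∀ i, ((b i : I) : MulAut P) ∈ Cl := fun i => Subgroup.subset_closure ⟨(b i).2, hb1 i, hbroad i⟩
    let pw : Fin 3 → I := fun i => if Ψ ⟨T, hT⟩ i then b i else 1
    have hpwm : ∀ i, ((pw i : I) : MulAut P) ∈ Cl := fun i => by
      simp only [pw]; split_ifs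
      · exact hbm i
      · exact one_mem _
    have hpw : ∀ i j, Ψ (pw i) j = (Ψ ⟨T, hT⟩ i && decide (j = i)) := fun i j => by
      simp only [pw]
      cases Ψ ⟨T, hT⟩ i
      · simp [Ψ, sg]
      · simp [hb]
    have e : (⟨T, hT⟩ : I) = pw 0 * pw 1 * pw 2 := hΨi (funext fun l => by
      rw [hΨm, hΨm]; simp only [hpw]; fin_cases l <;> simp)
    have e' := congrArg Subtype.val e
    simp only [Subgroup.coe_mul] at e'
    rw [e']
    exact mul_mem (mul_mem (hpwm 0) (hpwm 1)) (hpwm 2)
  · ext S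
    constructor
    · intro hS
      by_cases hS1 : S = 1
      · exact ⟨_, _, (b 0).2, (b 0).2, hb1 0, hb1 0, hbroad 0, hbroad 0, hS1.trans (hI2 _ (b 0).2).symm⟩
      rcases hclass ⟨S, hI₀.le hS⟩ hS1 with ⟨i, h⟩ | ⟨k, h⟩ | h
      · exact absurd (hdisj S hS hS1) (by rw [show S = ((b i : I) : MulAut P) from congrArg Subtype.val h]; exact hbroad i)
      · obtain ⟨i, j, -, hw⟩ : ∃ i j : Fin 3, i ≠ j ∧ ∀ l, decide (l ≠ k) = Bool.xor (decide (l = i)) (decide (l = j)) := by
          fin_cases k <;> decide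
        have e : e2 k = b i * b j := hΨi (funext fun l => by rw [hΨm]; simp only [he2, hb]; exact hw l)
        exact ⟨_, _, (b i).2, (b j).2, hb1 i, hb1 j, hbroad i, hbroad j, congrArg Subtype.val (h.trans e)⟩
      · exfalso
        -- then the odd element would put a broad element into `I₀`
        have hprod' : (el fun _ => true : I) * e2 0 = b 0 := hΨi (funext fun l => by
          rw [hΨm]; simp only [hel, he2, hb]; fin_cases l <;> decide)
        have h0 : ((b 0 : I) : MulAut P) ∈ I₀ := by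
          rw [← hprod', Subgroup.coe_mul, ← show S = ((el fun _ => true : I) : MulAut P) from h]
          exact mul_mem hS (he2I 0).1
        exact hbroad 0 (hdisj _ h0 (hb1 0))
    · rintro ⟨A, B, hA, hB, hA1, hB1, hAb, hBb, rfl⟩
      exact hprod A hA B hB hA1 hB1 hAb hBb

end Cfsg.Agent.S4412
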