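import Cfsg.Statements.S4416

import Cfsg.Agent.Perm.ExtraTwoTypes

set_option autoImplicit false
set_option linter.style.haveILetI false
open Cfsg

namespace Cfsg.Agent.S4416

/-- Classification of extraspecial 2-groups in intrinsic form. An extraspecial 2-group has order 2^(2m+1) for some m ≥ 1, and the number of its elements squaring to the identity is either 2^(2m) + 2^m or 2^(2m) − 2^m; two extraspecial 2-groups of the same order with the same number of such elements are isomorphic. (The two cases are the central products of m dihedral groups of order 8, and of m − 1 dihedral groups with one quaternion group.) -/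
theorem result (E : Type*) [Group E] [Finite E] (hE : Cfsg.IsExtraspecial 2 E) :
    (∃ m : ℕ, 1 ≤ m ∧ Nat.card E = 2 ^ (2 * m + 1) ∧
      (Nat.card {x : E // x ^ 2 = 1} = 2 ^ (2 * m) + 2 ^ m ∨ Nat.card {x : E // x ^ 2 = 1} = 2 ^ (2 * m) - 2 ^ m)) ∧
    ∀ (E' : Type*) [Group E'] [Finite E'], Cfsg.IsExtraspecial 2 E' → Nat.card E' = Nat.card E →
      Nat.card {x : E' // x ^ 2 = 1} = Nat.card {x : E // x ^ 2 = 1} → Nonempty (E ≃* E') := by
  classical
  haveI : Fact (Nat.Prime 2) := ⟨Nat.prime_two⟩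
  obtain ⟨⟨hp, -, hc⟩, hZ⟩ := hE
  obtain ⟨m, hm⟩ := CfsgLib.Solv.sympl_card _ E 2 rfl hZ hc.le
  have hm1 : 1 ≤ m := by
    by_contra h
    obtain rfl : m = 0 := by omega
    haveI : IsCyclic E := isCyclic_of_prime_card (p := 2) (by simpa using hm)
    letI := IsCyclic.commGroup (α := E)
    have hbot : Subgroup.center E = ⊥ := hc.symm.trans (commutator_eq_bot E)
    rw [hbot, Subgroup.card_bot] at hZ
    omega
  refine ⟨⟨m, hm1, hm, ?_⟩, ?_⟩
  · have h2m : 2 ^ (2 * m + 1) = 2 * 2 ^ (2 * m) := by rw [pow_succ, mul_comm]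
    rcases CfsgLib.Perm.ExtraTwo.excess_eq m E hm hZ hc.le with h | ⟨-, h⟩ <;>
      rw [CfsgLib.Perm.ExtraTwo.excess, hm, h2m, pow_succ 2 m] at h <;> push_cast at h
    · left
      zify
      linarith
    · right
      have hle : 2 ^ m ≤ 2 ^ (2 * m) := Nat.pow_le_pow_right two_pos (by omega)
      zify [hle]
      linarith
  · intro E' _ _ hE' hcard hcount
    obtain ⟨⟨-, -, hc'⟩, hZ'⟩ := hE'
    obtain ⟨z, hz, hz1⟩ := CfsgLib.Perm.ExtraTwo.exists_gen_center hZ
    obtain ⟨z', hz', hz'1⟩ := CfsgLib.Perm.ExtraTwo.exists_gen_center hZ'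
    obtain ⟨φ, -⟩ := CfsgLib.Perm.ExtraTwo.iso_of_excess _ E E' rfl hcard hZ hc.le hZ' hc'.le
      (by rw [CfsgLib.Perm.ExtraTwo.excess, CfsgLib.Perm.ExtraTwo.excess, hcard, hcount]) z hz hz1 z' hz' hz'1
    exact ⟨φ⟩

end Cfsg.Agent.S4416
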