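import Mathlib
-- Template for statement S4417 (row 4417; see /opt/grader/pristine/manifest.json for weights).
-- Copy to Cfsg/Agent/S4417.lean and replace the sorry. The statement below is byte-identical to the frozen
-- statement Cfsg.CfsgFrozen.S4417 (Cfsg/Statements/S4417.lean; the theorem Cfsg.kfact70_cross_characteristic_p_subgroup_of_general_linear_derived_length);
-- the grader kernel-checks Cfsg.Agent.S4417.result against that frozen type. Keep the theorem IN THIS FILE
-- (a `result` declared elsewhere and merely imported here is not credited); helpers may live anywhere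
-- under Cfsg/Agent/.
import Cfsg.Statements.S4417
import Cfsg.Agent.Perm.DerivedLinear


set_option autoImplicit false
open Cfsg

namespace Cfsg.Agent.S4417
open Module

variable {F : Type*} [Field F]

/-- The extension of scalars of a matrix acting on column vectors. -/
noncomputable def ext {P : Type*} [Group P] {d : ℕ} (μ : P →* Matrix (Fin d) (Fin d) F) :
    Representation (AlgebraicClosure F) P (Fin d → AlgebraicClosure F) where
  toFun g := Matrix.toLin' ((μ g).map (algebraMap F (AlgebraicClosure F)))
  map_one' := by rw [map_one, Matrix.map_one _ (map_zero _) (map_one _), Matrix.toLin'_one]; rfl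
  map_mul' a b := by rw [map_mul, Matrix.map_mul, Matrix.toLin'_mul]; rfl

/-- A common fixed vector over the closure gives one over the ground field. -/
theorem descend {P : Type*} [Group P] {d : ℕ} (μ : P →* Matrix (Fin d) (Fin d) F) (S : Set P)
    {x : Fin d → AlgebraicClosure F} (hx : x ≠ 0) (h : ∀ g ∈ S, ext μ g x = x) :
    ∃ v : Fin d → F, v ≠ 0 ∧ ∀ g ∈ S, (μ g).mulVec v = v := by
  obtain ⟨i, hi⟩ := Function.ne_iff.1 hx
  obtain ⟨l, hl⟩ : ∃ l : AlgebraicClosure F →ₗ[F] F, l (x i) ≠ 0 := by
    by_contra hcon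
    push Not at hcon
    exact hi ((Module.forall_dual_apply_eq_zero_iff F _).1 hcon)
  refine ⟨fun j => l (x j), Function.ne_iff.2 ⟨i, hl⟩, fun g hg => funext fun j => ?_⟩
  have hj := congrArg l (congrFun (h g hg) j)
  simp only [ext, MonoidHom.coe_mk, OneHom.coe_mk, Matrix.toLin'_apply, Matrix.mulVec, dotProduct,
    Matrix.map_apply, map_sum] at hj
  simpa [Matrix.mulVec, dotProduct, ← Algebra.smul_def] using hj

theorem finrank_block {K V : Type*} [Field K] [AddCommGroup V] [Module K V] [FiniteDimensional K V]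
    (E : ℕ → Submodule K V) (m e : ℕ) (hdim : ∀ i < e, finrank K (E i) = m)
    (hind : ∀ i < e, Disjoint (E i) (⨆ j ∈ Finset.range i, E j)) : e * m ≤ finrank K V := by
  have key : ∀ i ≤ e, finrank K ↥(⨆ j ∈ Finset.range i, E j) = i * m := by
    intro i hi
    induction i with
    | zero =>
      rw [zero_mul, Submodule.finrank_eq_zero]
      exact eq_bot_iff.2 (iSup₂_le fun j hj => absurd (Finset.mem_range.1 hj) (Nat.not_lt_zero j))
    | succ i ih =>
      have h1 := Submodule.finrank_sup_add_finrank_inf_eq (E i) (⨆ j ∈ Finset.range i, E j)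
      rw [(hind i (by omega)).eq_bot, finrank_bot, add_zero, hdim i (by omega), ih (by omega)] at h1
      rw [Finset.range_add_one, Finset.iSup_insert, h1]; ring
  exact key e le_rfl ▸ Submodule.finrank_le _

/-- The derived length bound over a finite field. -/
theorem derived_finite [Fintype F] {p : ℕ} [hp : Fact p.Prime] (hpq : ¬ p ∣ Fintype.card F)
    {P : Type*} [Group P] [Finite P] (hP : IsPGroup p P) (k : ℕ) :
    ∀ (d : ℕ) (V : Type _) [AddCommGroup V] [Module F V] [FiniteDimensional F V]
      (ρ : Representation F P V), finrank F V = d →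
      d < orderOf (Fintype.card F : ZMod p) * 2 ^ k → derivedSeries P k ≤ ρ.ker := by
  intro d
  induction d using Nat.strong_induction_on with
  | _ d ihd =>
    intro V _ _ _ ρ hd hlt
    set q := Fintype.card F
    have hpF : (p : F) ≠ 0 := fun h => by
      obtain ⟨r, hr⟩ := CharP.exists F
      obtain ⟨n, hrp, hn⟩ := FiniteField.card F r
      have := (Nat.prime_dvd_prime_iff_eq hrp hp.out).1 ((CharP.cast_eq_zero_iff F r p).1 h)
      exact hpq (show p ∣ Fintype.card F by rw [hn, ← this]; exact dvd_pow_self r n.ne_zero)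
    by_cases hred : ∃ W : Submodule F V, (∀ g, ∀ w ∈ W, ρ g w ∈ W) ∧ W ≠ ⊥ ∧ W ≠ ⊤
    · obtain ⟨W, hW, hW0, hW1⟩ := hred
      intro g hg
      have hd1 : finrank F W < d := hd ▸ Submodule.finrank_lt hW1
      have hd2 : finrank F (V ⧸ W) < d := by
        have h1 := Submodule.finrank_quotient_add_finrank W
        have h2 : finrank F W ≠ 0 := fun h => hW0 (Submodule.finrank_eq_zero.1 h)
        omega
      exact CfsgLib.Perm.DerivedLinear.eq_one_of_series hP hpF ρ hW
        (ihd _ hd1 W (CfsgLib.Perm.DerivedLinear.sub ρ W hW) rfl (hd1.trans hlt) hg)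
        (ihd _ hd2 (V ⧸ W) (CfsgLib.Perm.DerivedLinear.quo ρ W hW) rfl (hd2.trans hlt) hg)
    push Not at hred
    by_cases htriv : ρ.ker = ⊤
    · rw [htriv]; exact le_top
    -- a central element of order `p` of the image
    haveI : Nontrivial (P ⧸ ρ.ker) := QuotientGroup.nontrivial_iff.2 htriv
    haveI := (hP.to_quotient ρ.ker).center_nontrivial
    obtain ⟨z0, hz0⟩ := exists_prime_orderOf_dvd_card' (G := Subgroup.center (P ⧸ ρ.ker)) p (by
      obtain ⟨n, hn0, hn⟩ := (IsPGroup.nontrivial_iff_card ((hP.to_quotient ρ.ker).to_subgroup _)).1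
        (inferInstance : Nontrivial (Subgroup.center (P ⧸ ρ.ker)))
      exact hn ▸ dvd_pow_self p hn0.ne')
    obtain ⟨z, hzq⟩ := QuotientGroup.mk'_surjective ρ.ker (z0 : P ⧸ ρ.ker)
    rw [QuotientGroup.mk'_apply] at hzq
    have hzc : ∀ g, ρ z * ρ g = ρ g * ρ z := fun g => by
      have h := Subgroup.mem_center_iff.1 z0.2 (g : P ⧸ ρ.ker)
      rw [← hzq, ← QuotientGroup.mk_mul, ← QuotientGroup.mk_mul, QuotientGroup.eq] at h
      have h' := MonoidHom.mem_ker.1 h
      rw [map_mul] at h'
      calc ρ z * ρ g = ρ g * ρ z * (ρ (g * z)⁻¹ * ρ (z * g)) * 1 := by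
            rw [mul_one, ← map_mul, ← map_mul, ← map_mul, ← map_mul]; congr 1; group
        _ = ρ g * ρ z := by rw [h', mul_one, mul_one]
    have hzp : ρ z ^ p = 1 := by
      rw [← map_pow]
      refine MonoidHom.mem_ker.1 ((QuotientGroup.eq_one_iff _).1 ?_)
      rw [QuotientGroup.mk_pow, hzq, ← SubmonoidClass.coe_pow, ← hz0, pow_orderOf_eq_one]; rfl
    have hz1 : ρ z ≠ 1 := fun h => by
      have h' : z0 = 1 := Subtype.ext
        (by rw [← hzq]; exact (QuotientGroup.eq_one_iff z).2 (MonoidHom.mem_ker.2 h))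
      rw [h', orderOf_one] at hz0
      exact hp.out.one_lt.ne hz0
    have hzfix : ∀ v, ρ z v = v → v = 0 := by
      have h0 : Module.End.eigenspace (ρ z) 1 = ⊥ := by
        by_contra h
        have h1 := hred _ (fun g w hw => by
          rw [Module.End.mem_eigenspace_iff, one_smul] at hw ⊢
          rw [← Module.End.mul_apply, hzc g, Module.End.mul_apply, hw]) h
        refine hz1 (LinearMap.ext fun v => ?_)
        have h2 : v ∈ Module.End.eigenspace (ρ z) 1 := by rw [h1]; trivial
        simpa [Module.End.mem_eigenspace_iff] using h2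
      exact fun v hv => (Submodule.mem_bot F).1
        (h0 ▸ Module.End.mem_eigenspace_iff.2 (by rw [one_smul]; exact hv))
    rcases subsingleton_or_nontrivial V with hV | hV
    · exact fun g _ => MonoidHom.mem_ker.2 (LinearMap.ext fun v => Subsingleton.elim _ _)
    -- coordinates
    let b := Module.finBasisOfFinrankEq F V hd
    let μ : P →* Matrix (Fin d) (Fin d) F :=
      ((LinearMap.toMatrixAlgEquiv b).toAlgHom.toRingHom.toMonoidHom).comp ρ
    have hμ : ∀ g v, (μ g).mulVec (b.equivFun v) = b.equivFun (ρ g v) := fun g v =>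
      LinearMap.toMatrix_mulVec_repr b b (ρ g) v
    let K := AlgebraicClosure F
    let τ := ext μ
    have hτfix : ∀ x, τ z x = x → x = 0 := fun x hx => by
      by_contra hx0
      obtain ⟨v, hv0, hv⟩ := descend μ {z} hx0 (by rintro g rfl; exact hx)
      have h1 := hv z rfl
      rw [← b.equivFun.apply_symm_apply v, hμ] at h1
      exact hv0 (b.equivFun.symm.injective
        (by rw [map_zero]; exact hzfix _ (b.equivFun.injective h1)))
    haveI : Nonempty (Fin d) := ⟨⟨0, hd ▸ finrank_pos⟩⟩
    obtain ⟨ζ, hζ⟩ := Module.End.exists_eigenvalue (τ z)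
    let E : K → Submodule K (Fin d → K) := fun c => Module.End.eigenspace (τ z) c
    have hτp : τ z ^ p = 1 := by
      have h1 : μ z ^ p = 1 := by
        show ((LinearMap.toMatrixAlgEquiv b) (ρ z)) ^ p = 1
        rw [← map_pow, hzp, map_one]
      rw [← map_pow]
      show Matrix.toLin' ((μ (z ^ p)).map _) = 1
      rw [map_pow, h1, Matrix.map_one _ (map_zero _) (map_one _), Matrix.toLin'_one]
      rfl
    obtain ⟨x0, hx0, hx00⟩ := hζ.exists_hasEigenvector
    rw [Module.End.mem_eigenspace_iff] at hx0
    have hζp : ζ ^ p = 1 := by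
      have h1 : ∀ j : ℕ, (τ z ^ j) x0 = ζ ^ j • x0 := fun j => by
        induction j with
        | zero => simp
        | succ j ih => rw [pow_succ', Module.End.mul_apply, ih, map_smul, hx0, smul_smul, pow_succ]
      have h2 := h1 p
      rw [hτp, Module.End.one_apply] at h2
      exact smul_left_injective K hx00 (show ζ ^ p • x0 = (1 : K) • x0 by rw [one_smul]; exact h2.symm)
    have hζ1 : ζ ≠ 1 := fun h => hx00 (hτfix x0 (by rw [hx0, h, one_smul]))
    have hordζ : orderOf ζ = p := orderOf_eq_prime hζp hζ1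
    -- Frobenius permutes the eigenspaces
    have hfrob : ∀ i : ℕ, finrank K (E (ζ ^ q ^ i)) = finrank K (E ζ) := by
      intro i
      let σ : K ≃ₐ[F] K := FiniteField.frobeniusAlgEquivOfAlgebraic F K ^ i
      have hσ : ∀ c : K, σ c = c ^ q ^ i := fun c => by
        show (FiniteField.frobeniusAlgEquivOfAlgebraic F K ^ i) c = _
        rw [AlgEquiv.coe_pow, FiniteField.coe_frobeniusAlgEquivOfAlgebraic_iterate]
      have hcomm : ∀ x : Fin d → K, τ z (fun j => σ (x j)) = fun j => σ (τ z x j) := by
        intro x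
        funext j
        simp only [τ, ext, MonoidHom.coe_mk, OneHom.coe_mk, Matrix.toLin'_apply, Matrix.mulVec, dotProduct,
          Matrix.map_apply, map_sum, map_mul]
        exact Finset.sum_congr rfl fun l _ => congrArg (· * σ (x l)) (σ.commutes (μ z j l)).symm
      have hmem : ∀ x : Fin d → K, x ∈ E ζ ↔ (fun j => σ (x j)) ∈ E (ζ ^ q ^ i) := by
        intro x
        simp only [E, Module.End.mem_eigenspace_iff, hcomm, funext_iff, Pi.smul_apply, smul_eq_mul,
          ← hσ ζ, ← map_mul, EmbeddingLike.apply_eq_iff_eq]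
      let jmap : E ζ ≃+ E (ζ ^ q ^ i) :=
        { toFun := fun x => ⟨fun j => σ ((x : Fin d → K) j), (hmem _).1 x.2⟩
          invFun := fun y => ⟨fun j => σ.symm ((y : Fin d → K) j), (hmem _).2 (by simp)⟩
          left_inv := fun x => Subtype.ext (funext fun j => by simp)
          right_inv := fun x => Subtype.ext (funext fun j => by simp)
          map_add' := fun x y => Subtype.ext (funext fun j => by simp) }
      exact (congrArg Cardinal.toNat (rank_eq_of_equiv_equiv σ jmap σ.bijective
        fun r m => Subtype.ext (funext fun j => by simp [jmap]))).symm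
    set e := orderOf (q : ZMod p)
    have hinj : ∀ i < e, ∀ j < e, ζ ^ q ^ i = ζ ^ q ^ j → i = j := by
      intro i hi j hj h
      rw [(isOfFinOrder_iff_pow_eq_one.2 ⟨p, hp.out.pos, hζp⟩).pow_eq_pow_iff_modEq, hordζ, ← ZMod.natCast_eq_natCast_iff] at h
      push_cast at h
      exact pow_injOn_Iio_orderOf hi hj h
    have hm : finrank K (E ζ) < 2 ^ k := by
      have h1 := finrank_block (fun i => E (ζ ^ q ^ i)) _ e (fun i _ => hfrob i) fun i hi => by
        refine ((Module.End.eigenspaces_iSupIndep (τ z)) (ζ ^ q ^ i)).mono_right ?_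
        refine iSup₂_le fun j hj => ?_
        have hne : ζ ^ q ^ j ≠ ζ ^ q ^ i := fun h =>
          (Finset.mem_range.1 hj).ne (hinj j ((Finset.mem_range.1 hj).trans hi) i hi h)
        exact le_iSup₂ (f := fun c (_ : c ≠ ζ ^ q ^ i) => Module.End.eigenspace (τ z) c) _ hne
      rw [finrank_fin_fun] at h1
      exact Nat.lt_of_mul_lt_mul_left (h1.trans_lt hlt)
    have hEinv : ∀ g, ∀ x ∈ E ζ, τ g x ∈ E ζ := by
      intro g x hx
      rw [Module.End.mem_eigenspace_iff] at hx ⊢
      have h1 : τ z * τ g = τ g * τ z := by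
        show Matrix.toLin' ((μ z).map _) * Matrix.toLin' ((μ g).map _) = _
        show _ = Matrix.toLin' ((μ g).map _) * Matrix.toLin' ((μ z).map _)
        have : μ z * μ g = μ g * μ z := by
          show LinearMap.toMatrixAlgEquiv b (ρ z) * LinearMap.toMatrixAlgEquiv b (ρ g) = _
          rw [← map_mul, hzc g, map_mul]; rfl
        rw [Module.End.mul_eq_comp, Module.End.mul_eq_comp, ← Matrix.toLin'_mul, ← Matrix.toLin'_mul,
          ← Matrix.map_mul, ← Matrix.map_mul, this]
      rw [← Module.End.mul_apply, h1, Module.End.mul_apply, hx, map_smul]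
    have hpK : (p : K) ≠ 0 := fun h =>
      hpF ((algebraMap F K).injective (by rw [map_natCast, h, map_zero]))
    have hker := CfsgLib.Perm.DerivedLinear.derived_trivial hpK hP
      (CfsgLib.Perm.DerivedLinear.sub τ (E ζ) hEinv) hm
    obtain ⟨v, hv0, hv⟩ := descend μ (derivedSeries P k : Set P) hx00 fun g hg =>
      CfsgLib.Perm.DerivedLinear.fix_of_sub_fix τ hEinv (hker hg)
        (Module.End.mem_eigenspace_iff.2 hx0)
    let W : Submodule F V := ⨅ g : derivedSeries P k, Module.End.eigenspace (ρ g) 1
    have hWmem : ∀ v, v ∈ W ↔ ∀ g : derivedSeries P k, ρ g v = v := fun v => by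
      simp [W, Submodule.mem_iInf]
    haveI := derivedSeries_normal P k
    have hW : W = ⊤ := by
      refine hred W (fun g w hw => (hWmem _).2 fun a => ?_) ((Submodule.ne_bot_iff W).2
        ⟨b.equivFun.symm v, (hWmem _).2 fun a => b.equivFun.injective ?_, fun h0 => hv0 (b.equivFun.symm.injective (h0.trans (map_zero _).symm))⟩)
      · have hc : g⁻¹ * (a : P) * g ∈ derivedSeries P k := by
          simpa using (derivedSeries_normal P k).conj_mem _ a.2 g⁻¹
        have h1 := (hWmem w).1 hw ⟨_, hc⟩
        calc ρ a (ρ g w) = ρ g (ρ (g⁻¹ * a * g) w) := by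
              rw [← Module.End.mul_apply, ← map_mul, ← Module.End.mul_apply, ← map_mul]
              simp [← mul_assoc]
          _ = ρ g w := by rw [h1]
      · rw [← hμ, LinearEquiv.apply_symm_apply]; exact hv a a.2
    exact fun g hg => MonoidHom.mem_ker.2 (LinearMap.ext fun w =>
      (hWmem w).1 (hW ▸ Submodule.mem_top) ⟨g, hg⟩)


/-- Let F be a field with q elements, p a prime not dividing q, and e the multiplicative order of q modulo p; assume e ≤ n. Then every p-subgroup of GL_n(F) has derived length at most ⌊log₂(n/e)⌋ + 1: that term of its derived series is trivial (n/e is the integer quotient). -/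
theorem result {F : Type*} [Field F] [Fintype F] (q : ℕ) (hF : Fintype.card F = q) (p : ℕ) [Fact p.Prime] (hpq : ¬ p ∣ q) (n e : ℕ) (he : e = orderOf (q : ZMod p)) (hen : e ≤ n) (P : Subgroup (GL (Fin n) F)) (hP : IsPGroup p P) : derivedSeries ↥P (Nat.log 2 (n / e) + 1) = ⊥ := by
  set k := Nat.log 2 (n / e) + 1
  subst hF
  let τ : Representation F ↥P (Fin n → F) :=
    { toFun := fun g => Matrix.toLin' ((g : GL (Fin n) F) : Matrix (Fin n) (Fin n) F)
      map_one' := by simp only [OneMemClass.coe_one, Units.val_one, Matrix.toLin'_one]; rfl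
      map_mul' := fun a b => by simp only [Subgroup.coe_mul, Units.val_mul, Matrix.toLin'_mul]; rfl }
  have he0 : 0 < e := by
    have hu : IsUnit (Fintype.card F : ZMod p) := by
      rw [isUnit_iff_ne_zero, Ne, ZMod.natCast_eq_zero_iff]; exact hpq
    rw [he, orderOf_pos_iff]
    exact hu.isOfFinOrder
  have hlt : n < e * 2 ^ k := by
    rw [mul_comm]
    exact (Nat.div_lt_iff_lt_mul he0).1 (Nat.lt_pow_succ_log_self one_lt_two (n / e))
  refine eq_bot_iff.2 fun g hg => Subgroup.mem_bot.2 (Subtype.ext (Units.ext ?_))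
  have h := derived_finite hpq hP k n (Fin n → F) τ (finrank_fin_fun F) (by rw [← he]; exact hlt) hg
  have h1 : Matrix.toLin' ((g : GL (Fin n) F) : Matrix (Fin n) (Fin n) F) =
      Matrix.toLin' (((1 : ↥P) : GL (Fin n) F) : Matrix (Fin n) (Fin n) F) := by
    rw [OneMemClass.coe_one, Units.val_one, Matrix.toLin'_one]; exact MonoidHom.mem_ker.1 h
  exact Matrix.toLin'.injective h1

end Cfsg.Agent.S4417
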