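import Cfsg.Statements.S4419

import Cfsg.Agent.Solv.PComplement
import Cfsg.Agent.Solv.FittingBasic
import Cfsg.Agent.Fus.MetacyclicTwoGroup
import Cfsg.Agent.Perm.PComp

set_option autoImplicit false
set_option linter.style.haveILetI false
open Cfsg

namespace Cfsg.Agent.S4419

open scoped commutatorElement

/-- A coprime automorphism of a group of exponent `p` and order at most `p²` is trivial. -/
theorem s4419_aut {V : Type*} [Group V] [Finite V] {p l : ℕ} [hp : Fact p.Prime] (hl : l.Prime)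
    (hlp : l ≠ p) (hl1 : ¬ l ∣ p ^ 2 - 1) (hV : IsPGroup p V) (hc : Nat.card V ≤ p ^ 2)
    (γ : MulAut V) (hγ : γ ^ l = 1) : γ = 1 := by
  haveI : Fact l.Prime := ⟨hl⟩
  let F : Subgroup V := γ.toMonoidHom.eqLocus (MonoidHom.id _)
  have hγp : IsPGroup l (Subgroup.zpowers γ) := by
    obtain ⟨i, -, hi⟩ := (Nat.dvd_prime_pow hl).1
      (show orderOf γ ∣ l ^ 1 by rw [pow_one]; exact orderOf_dvd_of_pow_eq_one hγ)
    exact IsPGroup.of_card (n := i) (by rw [Nat.card_zpowers, hi])
  have hmod := hγp.card_modEq_card_fixedPoints V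
  have hfix : MulAction.fixedPoints (Subgroup.zpowers γ) V = (F : Set V) := by
    ext r
    constructor
    · exact fun h => h ⟨γ, Subgroup.mem_zpowers _⟩
    · rintro (h : γ r = r) ⟨_, i, rfl⟩
      show (γ ^ i) r = r
      exact (Subgroup.zpow_mem (MulAction.stabilizer (MulAut V) r) (x := γ) h i)
  rw [hfix, show Nat.card ↑(F : Set V) = Nat.card F from rfl] at hmod
  obtain ⟨k, hk⟩ := IsPGroup.iff_card.1 hV
  obtain ⟨i, hi, hF⟩ := (Nat.dvd_prime_pow hp.out).1 (hk ▸ Subgroup.card_subgroup_dvd_card F)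
  rw [hk] at hc
  have hk2 := (Nat.pow_le_pow_iff_right hp.out.one_lt).1 hc
  rw [hk, hF] at hmod
  have hdvd : l ∣ p ^ k - p ^ i := (Nat.modEq_iff_dvd' (Nat.pow_le_pow_right hp.out.pos hi)).1 hmod.symm
  have hik : i = k := by
    by_contra hne
    have e : p ^ k - p ^ i = p ^ i * (p ^ (k - i) - 1) := by
      rw [Nat.mul_sub, ← pow_add, mul_one, Nat.add_sub_cancel' hi]
    rw [e] at hdvd
    rcases hl.dvd_mul.1 hdvd with h | h
    · exact hlp ((Nat.prime_dvd_prime_iff_eq hl hp.out).1 (hl.dvd_of_dvd_pow h))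
    · refine hl1 (h.trans ?_)
      rcases (show k - i = 1 ∨ k - i = 2 by omega) with e | e <;> rw [e]
      simpa using Nat.sub_dvd_pow_sub_pow p 1 2
  have htop : F = ⊤ := Subgroup.eq_top_of_card_eq F (by rw [hF, hik, hk])
  exact MulEquiv.ext fun r => (show r ∈ F by rw [htop]; exact Subgroup.mem_top r)

/-- A subgroup of a metacyclic group is generated by two elements. -/
theorem s4419_two {S : Type*} [Group S] (hS : Cfsg.IsMetacyclic S) (U : Subgroup S) :
    ∃ a b : U, Subgroup.closure ({a, b} : Set U) = ⊤ := by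
  obtain ⟨N, hN, hNc, hQc⟩ := hS
  haveI := hN
  haveI := hNc
  haveI := hQc
  obtain ⟨a, ha⟩ : ∃ a : U, ∀ u : U, (u : S) ∈ N → u ∈ Subgroup.zpowers a := by
    have h1 : IsCyclic ↥(N ⊓ U) := by
      haveI : IsCyclic ↥((U.subgroupOf N)) := inferInstance
      exact isCyclic_of_injective (MonoidHom.mk' (fun x : ↥(N ⊓ U) => (⟨(x : S), x.2.1⟩ : N)) fun _ _ => rfl)
        fun x y h => Subtype.ext (congrArg (fun z : N => (z : S)) h)
    obtain ⟨a, ha⟩ := h1.exists_generator
    refine ⟨⟨(a : S), a.2.2⟩, fun u hu => ?_⟩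
    obtain ⟨i, hi⟩ := Subgroup.mem_zpowers_iff.1 (ha ⟨u, hu, u.2⟩)
    refine Subgroup.mem_zpowers_iff.2 ⟨i, Subtype.ext ?_⟩
    have h2 : ((a ^ i : ↥(N ⊓ U)) : S) = (u : S) := congrArg (fun z : ↥(N ⊓ U) => (z : S)) hi
    rw [Subgroup.coe_zpow] at h2 ⊢
    exact h2
  obtain ⟨b, hb⟩ := IsCyclic.exists_generator (α := ((QuotientGroup.mk' N).comp U.subtype).range)
  obtain ⟨b', hb'⟩ := b.2
  refine ⟨a, b', eq_top_iff.2 fun u _ => ?_⟩
  obtain ⟨j, hj⟩ := Subgroup.mem_zpowers_iff.1 (hb ⟨_, u, rfl⟩)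
  have hj' : (b : S ⧸ N) ^ j = ((QuotientGroup.mk' N).comp U.subtype) u := congrArg Subtype.val hj
  have hu : (((b' ^ j)⁻¹ * u : U) : S) ∈ N := by
    refine (QuotientGroup.eq_one_iff (N := N) _).1 ?_
    show ((QuotientGroup.mk' N).comp U.subtype) ((b' ^ j)⁻¹ * u) = 1
    rw [map_mul, map_inv, map_zpow, hb', hj', inv_mul_cancel]
  obtain ⟨i, hi⟩ := Subgroup.mem_zpowers_iff.1 (ha _ hu)
  have hu' : u = b' ^ j * a ^ i := by rw [hi]; group
  rw [hu']
  have hbm : b' ∈ Subgroup.closure ({a, b'} : Set U) :=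
    Subgroup.subset_closure (Set.mem_insert_of_mem a (Set.mem_singleton b'))
  have ham : a ∈ Subgroup.closure ({a, b'} : Set U) :=
    Subgroup.subset_closure (Set.mem_insert a ({b'} : Set U))
  apply Subgroup.mul_mem
  · exact Subgroup.zpow_mem (Subgroup.closure ({a, b'} : Set U)) hbm j
  · exact Subgroup.zpow_mem (Subgroup.closure ({a, b'} : Set U)) ham i

/-- Let p be a prime and G a finite group whose Sylow p-subgroups are metacyclic (a cyclic normal subgroup with cyclic quotient). Then G has a normal p-complement if and only if the order of G/O_{p′,p}(G) is coprime to p² − 1. -/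
theorem result {G : Type*} [Group G] [Finite G] (p : ℕ) [Fact p.Prime] (S : Sylow p G) (hS : Cfsg.IsMetacyclic ↥(S : Subgroup G)) : Cfsg.HasNormalPComplement p G ↔ Nat.Coprime (Nat.card (G ⧸ Cfsg.pPrimePCore p G)) (p ^ 2 - 1) := by
  classical
  haveI hOn : (Cfsg.pPrimeCore p G).Normal := CfsgLib.Solv.pPrimeCore_normal G p
  set O := Cfsg.pPrimeCore p G
  have hpc : p.Prime := Fact.out
  constructor
  · intro h
    obtain ⟨N, hN, hNp, m, hm⟩ := CfsgLib.Perm.exists_of_hasNormalPComplement h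
    haveI := hN
    have hNO : N ≤ O := CfsgLib.Solv.le_pPrimeCore (((hpc.coprime_iff_not_dvd).2 hNp).symm)
    have hQ : IsPGroup p (G ⧸ O) := by
      obtain ⟨k, -, hk⟩ := (Nat.dvd_prime_pow hpc).1 (hm ▸ Subgroup.index_dvd_of_le hNO)
      exact IsPGroup.of_card (n := k) (by rw [← Subgroup.index_eq_card, hk])
    have htop : Cfsg.pCore p (G ⧸ O) = ⊤ :=
      eq_top_iff.2 (le_sSup ⟨inferInstance, hQ.of_equiv Subgroup.topEquiv.symm⟩)
    have : Cfsg.pPrimePCore p G = ⊤ := by
      show (Cfsg.pCore p (G ⧸ O)).comap _ = ⊤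
      rw [htop, Subgroup.comap_top]
    rw [← Subgroup.index_eq_card, this, Subgroup.index_top]
    exact Nat.coprime_one_left _
  · intro hcop
    rw [CfsgLib.Solv.hnpc_iff_frobCond]
    intro U hU g hg hgp
    set K := Cfsg.pPrimePCore p G with hKdef
    haveI hpcn : (Cfsg.pCore p (G ⧸ O)).Normal := Cfsg.pCore_normal p (G ⧸ O)
    haveI hKn : K.Normal := hpcn.comap _
    set m := Nat.card (G ⧸ K)
    have hgm : g ^ m ∈ O := by
      have h1 : g ^ m ∈ K := (QuotientGroup.eq_one_iff _).1 (by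
        rw [QuotientGroup.mk_pow]; exact pow_card_eq_one')
      obtain ⟨k, hk⟩ := IsPGroup.iff_orderOf.1 (CfsgLib.Solv.pCore_isPGroup (G ⧸ O) p) (⟨_, h1⟩ : Cfsg.pCore p (G ⧸ O))
      have h2 : orderOf (QuotientGroup.mk' O (g ^ m)) = p ^ k := by
        rw [← hk]; exact (Subgroup.orderOf_mk _ _).symm
      have h3 : orderOf (QuotientGroup.mk' O (g ^ m)) ∣ orderOf g :=
        (orderOf_map_dvd _ _).trans (orderOf_pow_dvd m)
      rw [h2] at h3
      have h4 : p ^ k = 1 := Nat.Coprime.eq_one_of_dvd (Nat.Coprime.pow_left k hgp.symm) h3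
      rw [h4, orderOf_eq_one_iff] at h2
      exact (QuotientGroup.eq_one_iff _).1 h2
    let ψ := U.normalizerMonoidHom
    let γ : MulAut U := ψ ⟨g, hg⟩
    have hγapp : ∀ u : U, ((γ u : U) : G) = g * u * g⁻¹ := fun u => rfl
    have hγm : γ ^ m = 1 := by
      rw [← map_pow]
      refine MulEquiv.ext fun u => Subtype.ext ?_
      show (g ^ m) * u * (g ^ m)⁻¹ = u
      have h1 : ⁅g ^ m, (u : G)⁆ ∈ O := by
        rw [commutatorElement_def, mul_assoc (g ^ m) _ _, mul_assoc (g ^ m)]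
        exact O.mul_mem hgm (hOn.conj_mem _ (O.inv_mem hgm) _)
      have h2 : ⁅g ^ m, (u : G)⁆ ∈ U := U.mul_mem
        ((Subgroup.mem_normalizer_iff.1 (Subgroup.pow_mem _ hg m) _).1 u.2) (U.inv_mem u.2)
      obtain ⟨k, hk⟩ := IsPGroup.iff_orderOf.1 hU ⟨_, h2⟩
      rw [Subgroup.orderOf_mk] at hk
      have h3 := Subgroup.orderOf_dvd_natCard O h1
      rw [hk] at h3
      have h4 : ⁅g ^ m, (u : G)⁆ = 1 := orderOf_eq_one_iff.1 (by
        rw [hk]
        exact Nat.Coprime.eq_one_of_dvd ((CfsgLib.Solv.pPrimeCore_coprime G p).symm.pow_left k) h3)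
      have h5 := commutatorElement_eq_one_iff_mul_comm.1 h4
      rw [h5, mul_inv_cancel_right]
    have hγo : γ ^ orderOf g = 1 := by
      rw [← map_pow, show (⟨g, hg⟩ : Subgroup.normalizer (U : Set G)) ^ orderOf g = 1 from
        Subtype.ext (pow_orderOf_eq_one g), map_one]
    -- `γ` on `U ⧸ Φ(U)`
    set Φ := frattini U
    let lift : MulAut U →* MulAut (U ⧸ Φ) := MonoidHom.mk'
      (fun e => QuotientGroup.congr Φ Φ e (Subgroup.characteristic_iff_map_eq.1 inferInstance e))
      fun e e' => MulEquiv.ext fun q => QuotientGroup.induction_on q fun x => rfl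
    obtain ⟨Q, hUQ⟩ := hU.exists_le_sylow
    obtain ⟨a, b, hab⟩ := s4419_two (S := ↥(Q : Subgroup G)) (by
      obtain ⟨N, hN, hNc, hQc⟩ := hS
      haveI := hN
      haveI := hNc
      haveI := hQc
      let e := Sylow.equiv S Q
      refine ⟨N.map e.toMonoidHom, hN.map _ e.surjective, isCyclic_of_surjective (N.equivMapOfInjective e.toMonoidHom e.injective).toMonoidHom (N.equivMapOfInjective e.toMonoidHom e.injective).surjective, ?_⟩
      haveI : (N.map e.toMonoidHom).Normal := hN.map _ e.surjective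
      exact isCyclic_of_surjective (QuotientGroup.congr N (N.map e.toMonoidHom) e rfl).toMonoidHom
        (QuotientGroup.congr N (N.map e.toMonoidHom) e rfl).surjective) (U.subgroupOf Q)
    let eU := Subgroup.subgroupOfEquivOfLe hUQ
    have hV : Nat.card (U ⧸ Φ) ≤ p ^ 2 := by
      have hpow : ∀ q : U ⧸ Φ, q ^ p = 1 := fun q => QuotientGroup.induction_on q fun x => by
        rw [← QuotientGroup.mk_pow, QuotientGroup.eq_one_iff]
        exact CfsgLib.Solv.pow_mem_frattini hU x
      have hcomm : ∀ q r : U ⧸ Φ, q * r = r * q := fun q r => by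
        obtain ⟨x, rfl⟩ := QuotientGroup.mk'_surjective Φ q
        obtain ⟨y, rfl⟩ := QuotientGroup.mk'_surjective Φ r
        rw [← commutatorElement_eq_one_iff_mul_comm, ← map_commutatorElement]
        exact (QuotientGroup.eq_one_iff _).2 (CfsgLib.Solv.commutator_le_frattini hU
          (Subgroup.commutator_mem_commutator (Subgroup.mem_top x) (Subgroup.mem_top y)))
      letI : CommGroup (U ⧸ Φ) := { (inferInstance : Group (U ⧸ Φ)) with mul_comm := hcomm }
      let f : U.subgroupOf (Q : Subgroup G) →* U ⧸ Φ := (QuotientGroup.mk' Φ).comp eU.toMonoidHom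
      have hf : Function.Surjective f := (QuotientGroup.mk'_surjective Φ).comp eU.surjective
      have hgen : ∀ q : U ⧸ Φ, ∃ t : Fin p × Fin p, f a ^ (t.1 : ℕ) * f b ^ (t.2 : ℕ) = q := by
        intro q
        obtain ⟨x, rfl⟩ := hf q
        have hx : x ∈ Subgroup.closure ({a, b} : Set _) := hab ▸ Subgroup.mem_top x
        have hle : Subgroup.closure ({a, b} : Set _) ≤ (Subgroup.closure ({f a, f b} : Set (U ⧸ Φ))).comap f := by
          rw [Subgroup.closure_le]
          rintro y (rfl | rfl) <;> exact Subgroup.subset_closure (by simp)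
        obtain ⟨i, j, hij⟩ := Subgroup.mem_closure_pair.1 (hle hx)
        have key : ∀ (q : U ⧸ Φ) (i : ℤ), ∃ n : Fin p, q ^ (n : ℕ) = q ^ i := fun q i => by
          have hp0 : (0 : ℤ) < p := by exact_mod_cast hpc.pos
          have h0 := Int.emod_nonneg i hp0.ne'
          have h1 := Int.emod_lt_of_pos i hp0
          refine ⟨⟨(i % p).toNat, by omega⟩, ?_⟩
          rw [← zpow_natCast, Int.toNat_of_nonneg h0]
          conv_rhs => rw [← Int.emod_add_mul_ediv i p, zpow_add, zpow_mul, zpow_natCast, hpow, one_zpow, mul_one]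
        obtain ⟨n₁, hn₁⟩ := key (f a) i
        obtain ⟨n₂, hn₂⟩ := key (f b) j
        exact ⟨(n₁, n₂), by rw [← hij, hn₁, hn₂]⟩
      have := Nat.card_le_card_of_surjective _ hgen
      rwa [Nat.card_prod, Nat.card_fin, ← sq] at this
    have hδ : lift γ = 1 := by
      set δ := lift γ
      by_contra hne
      haveI : Finite (MulAut (U ⧸ Φ)) := inferInstanceAs (Finite ((U ⧸ Φ) ≃* (U ⧸ Φ)))
      have ho : orderOf δ ≠ 1 := fun h => hne (orderOf_eq_one_iff.1 h)
      set l := (orderOf δ).minFac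
      have hl : l.Prime := Nat.minFac_prime ho
      have hlm : l ∣ m := (Nat.minFac_dvd _).trans (orderOf_dvd_of_pow_eq_one (by rw [← map_pow, hγm, map_one]))
      have hlg : l ∣ orderOf g := (Nat.minFac_dvd _).trans (orderOf_dvd_of_pow_eq_one (by rw [← map_pow, hγo, map_one]))
      have hδl : (δ ^ (orderOf δ / l)) ^ l = 1 := by
        rw [← pow_mul, Nat.div_mul_cancel (Nat.minFac_dvd _), pow_orderOf_eq_one]
      have h1 := s4419_aut (p := p) hl (fun h => hpc.ne_one (Nat.Coprime.eq_one_of_dvd hgp.symm (h ▸ hlg)))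
        (fun h => hl.ne_one (Nat.Coprime.eq_one_of_dvd (Nat.Coprime.coprime_dvd_left hlm hcop) h))
        (hU.to_quotient Φ) hV _ hδl
      have h2 := orderOf_dvd_of_pow_eq_one h1
      have hpos : 0 < orderOf δ := orderOf_pos δ
      exact absurd (Nat.le_of_dvd (Nat.div_pos (Nat.le_of_dvd hpos (Nat.minFac_dvd _)) hl.pos) h2)
        (Nat.not_le.2 (Nat.div_lt_self hpos hl.one_lt))
    obtain ⟨k, hk⟩ := CfsgLib.Fus.MetaTwo.ppow_of_trivial_mod_frattini hU γ fun x => by
      refine QuotientGroup.eq.1 ?_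
      exact (congrArg (fun e : MulAut (U ⧸ Φ) => e (x : U ⧸ Φ)) hδ).symm
    have hγ1 : γ = 1 := orderOf_eq_one_iff.1 (Nat.Coprime.eq_one_of_dvd
      ((hgp.symm.pow_left k).coprime_dvd_left (orderOf_dvd_of_pow_eq_one hk))
      (orderOf_dvd_of_pow_eq_one hγo))
    rw [Subgroup.mem_centralizer_iff]
    intro u hu
    have h : g * u * g⁻¹ = u := congrArg (fun e : MulAut U => ((e ⟨u, hu⟩ : U) : G)) hγ1
    calc u * g = g * u * g⁻¹ * g := by rw [h]
      _ = g * u := by group

end Cfsg.Agent.S4419
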