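import Cfsg.Statements.S4420


set_option autoImplicit false
set_option linter.style.haveILetI false
open Cfsg

namespace Cfsg.Agent.S4420

/-- Structure of groups in which every element outside some proper subgroup has square 1. Let H be a finite group with a proper subgroup A such that every element outside A has square 1. Then H has an abelian normal subgroup B of index 2 such that every element outside B is an involution inverting every element of B; and if H is not an elementary abelian 2-group, B is the only abelian normal subgroup of index 2 with this property. -/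
theorem result {H : Type*} [Group H] [Finite H] (A : Subgroup H) (hA : A ≠ ⊤) (hD : ∀ x : H, x ∉ A → x ^ 2 = 1) :
    ∃ B : Subgroup H, B.Normal ∧ IsMulCommutative ↥B ∧ B.index = 2 ∧
      (∀ x : H, x ∉ B → x ^ 2 = 1 ∧ ∀ b ∈ B, x * b * x⁻¹ = b⁻¹) ∧
      (¬ (IsMulCommutative H ∧ ∀ x : H, x ^ 2 = 1) →
        ∀ B' : Subgroup H, B'.Normal → IsMulCommutative ↥B' → B'.index = 2 →
          (∀ x : H, x ∉ B' → x ^ 2 = 1 ∧ ∀ b ∈ B', x * b * x⁻¹ = b⁻¹) → B' = B) := by
  classical
  by_cases hel : ∀ x : H, x ^ 2 = 1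
  · have hcomm : ∀ a b : H, a * b = b * a := fun a b => by
      have ha : a⁻¹ = a := inv_eq_of_mul_eq_one_right (by rw [← sq, hel])
      have hb : b⁻¹ = b := inv_eq_of_mul_eq_one_right (by rw [← sq, hel])
      have hab : (a * b)⁻¹ = a * b := inv_eq_of_mul_eq_one_right (by rw [← sq, hel])
      rw [← hab, mul_inv_rev, ha, hb]
    have hp : IsPGroup 2 H := fun x => ⟨1, by simpa using hel x⟩
    haveI : Fact (Nat.Prime 2) := ⟨Nat.prime_two⟩
    obtain ⟨n, hn⟩ := IsPGroup.iff_card.1 hp
    have hn0 : n ≠ 0 := fun h0 => by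
      rw [h0, pow_zero] at hn
      exact hA (Subgroup.eq_top_of_card_eq A (le_antisymm (Subgroup.card_le_card_group A) (hn ▸ Nat.card_pos)))
    obtain ⟨B, hB⟩ := Sylow.exists_subgroup_card_pow_prime (G := H) 2 (n := n - 1) (by rw [hn]; exact pow_dvd_pow 2 (by omega))
    have hidx : B.index = 2 := by
      have h1 := B.card_mul_index
      rw [hB, hn] at h1
      have h2 : 2 ^ n = 2 ^ (n - 1) * 2 := by rw [← pow_succ]; congr 1; omega
      rw [h2] at h1
      exact Nat.eq_of_mul_eq_mul_left (Nat.pos_of_ne_zero (by simp)) h1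
    refine ⟨B, Subgroup.normal_of_index_eq_two hidx, ⟨⟨fun a b => Subtype.ext (hcomm a b)⟩⟩, hidx, fun x _ => ⟨hel x, fun b _ => ?_⟩, fun hne => absurd ⟨⟨⟨hcomm⟩⟩, hel⟩ hne⟩
    rw [hcomm x b, mul_inv_cancel_right]
    exact (inv_eq_of_mul_eq_one_right (by rw [← sq, hel])).symm
  push Not at hel
  have hinv : ∀ x ∉ A, ∀ a ∈ A, x * a * x⁻¹ = a⁻¹ := by
    intro x hx a ha
    have h1 := hD (x * a) fun h => hx (by simpa using A.mul_mem h (A.inv_mem ha))
    have h2 : x⁻¹ = x := inv_eq_of_mul_eq_one_right (by rw [← sq, hD x hx])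
    rw [h2, eq_inv_iff_mul_eq_one]
    rw [sq] at h1
    simpa [mul_assoc] using h1
  obtain ⟨x, hx⟩ : ∃ x, x ∉ A := by
    by_contra h
    push Not at h
    exact hA (eq_top_iff.2 fun y _ => h y)
  obtain ⟨c, hc⟩ := hel
  have hcA : c ∈ A := by_contra fun h => hc (hD c h)
  have hcomm : ∀ a ∈ A, ∀ b ∈ A, a * b = b * a := by
    intro a ha b hb
    have h1 := hinv x hx _ (A.mul_mem ha hb)
    have h2 : x * (a * b) * x⁻¹ = (x * a * x⁻¹) * (x * b * x⁻¹) := by group
    rw [h2, hinv x hx a ha, hinv x hx b hb, ← mul_inv_rev, inv_inj] at h1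
    exact h1.symm
  have hprod : ∀ u ∉ A, ∀ v ∉ A, u * v ∈ A := by
    intro u hu v hv
    by_contra h
    have h1 := hinv (u * v) h c hcA
    have h2 : u * v * c * (u * v)⁻¹ = u * (v * c * v⁻¹) * u⁻¹ := by group
    rw [h2, hinv v hv c hcA, hinv u hu _ (A.inv_mem hcA), inv_inv] at h1
    exact hc (by rw [sq]; nth_rw 1 [h1]; exact inv_mul_cancel c)
  have hidx : A.index = 2 := by
    rw [Subgroup.index_eq_two_iff]
    refine ⟨x, fun b => ?_⟩
    by_cases hb : b ∈ A
    · exact Or.inr ⟨hb, fun h => hx (by simpa using A.mul_mem (A.inv_mem hb) h)⟩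
    · exact Or.inl ⟨hprod b hb x hx, hb⟩
  refine ⟨A, Subgroup.normal_of_index_eq_two hidx, ⟨⟨fun a b => Subtype.ext (hcomm a a.2 b b.2)⟩⟩, hidx,
    fun u hu => ⟨hD u hu, hinv u hu⟩, fun _ B' _ hB' hidx' hB'' => ?_⟩
  have hcB : c ∈ B' := by_contra fun h => hc ((hB'' c h).1)
  have hle : B' ≤ A := by
    intro u hu
    by_contra h
    have h1 := hinv u h c hcA
    have h2 : u * c = c * u := congrArg Subtype.val (hB'.is_comm.comm ⟨u, hu⟩ ⟨c, hcB⟩)
    rw [h2, mul_inv_cancel_right] at h1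
    exact hc (by rw [sq]; nth_rw 1 [h1]; exact inv_mul_cancel c)
  refine le_antisymm hle ?_
  have := Subgroup.relIndex_mul_index hle
  rw [hidx, hidx'] at this
  exact Subgroup.relIndex_eq_one.1 (by omega)

end Cfsg.Agent.S4420
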