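import Cfsg.Statements.S4421


set_option autoImplicit false
set_option linter.style.haveILetI false
open Cfsg

namespace Cfsg.Agent.S4421

/-- A factorization of a normalizer from two-step control of fusion. Let `G` be a finite group and `A ≤ S ≤ H` subgroups of `G` such that: (i) `S` controls the `G`-fusion of `A` in the sense that every `G`-conjugate of `A` lying in `S` is an `S`-conjugate of `A`; (ii) `H` controls the `G`-fusion of `S` in the same sense; (iii) every conjugate of `S` by an element of the normalizer of `A` lies in `H`. Then `N_G(A) = N_H(A) · (N_G(S) ∩ N_G(A))`: every element of the normalizer of `A` is a product of an element of `H` normalizing `A` and an element normalizing both `S` and `A`. -/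
theorem result {G : Type*} [Group G] [Finite G] (A S H : Subgroup G)
    (hAS : A ≤ S) (hSH : S ≤ H)
    (h1 : ∀ g : G, A.map (MulAut.conj g).toMonoidHom ≤ S → ∃ s ∈ S, A.map (MulAut.conj g).toMonoidHom = A.map (MulAut.conj s).toMonoidHom)
    (h2 : ∀ g : G, S.map (MulAut.conj g).toMonoidHom ≤ H → ∃ y ∈ H, S.map (MulAut.conj g).toMonoidHom = S.map (MulAut.conj y).toMonoidHom)
    (h3 : ∀ x ∈ Subgroup.normalizer (A : Set G), S.map (MulAut.conj x).toMonoidHom ≤ H) :
    ∀ x ∈ Subgroup.normalizer (A : Set G), ∃ y ∈ H ⊓ Subgroup.normalizer (A : Set G),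
      ∃ z ∈ Subgroup.normalizer (S : Set G) ⊓ Subgroup.normalizer (A : Set G), x = y * z := by
  intro x hx
  obtain ⟨y₀, hy₀, he⟩ := h2 x (h3 x hx)
  have hxA : A.map (MulAut.conj x).toMonoidHom = A := by
    rw [Subgroup.mem_normalizer_iff_conj_image_eq] at hx
    exact SetLike.coe_injective (by simpa using hx)
  have hmm : ∀ (K : Subgroup G) (a b : G),
      (K.map (MulAut.conj a).toMonoidHom).map (MulAut.conj b).toMonoidHom =
        K.map (MulAut.conj (b * a)).toMonoidHom := fun K a b => by
    rw [Subgroup.map_map]; congr 1; ext z; simp [mul_assoc]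
  have hid : ∀ K : Subgroup G, K.map (MulAut.conj (1 : G)).toMonoidHom = K := fun K => by
    conv_rhs => rw [← Subgroup.map_id K]
    congr 1; ext z; simp
  have hle : A.map (MulAut.conj y₀⁻¹).toMonoidHom ≤ S := by
    calc A.map (MulAut.conj y₀⁻¹).toMonoidHom
        = (A.map (MulAut.conj x).toMonoidHom).map (MulAut.conj y₀⁻¹).toMonoidHom := by rw [hxA]
      _ ≤ (S.map (MulAut.conj x).toMonoidHom).map (MulAut.conj y₀⁻¹).toMonoidHom :=
          Subgroup.map_mono (Subgroup.map_mono hAS)
      _ = S := by rw [he, hmm, inv_mul_cancel, hid]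
  obtain ⟨s, hs, hs'⟩ := h1 y₀⁻¹ hle
  have hnorm : ∀ (K : Subgroup G) (z : G), K.map (MulAut.conj z).toMonoidHom = K →
      z ∈ Subgroup.normalizer (K : Set G) := fun K z hz => by
    rw [Subgroup.mem_normalizer_iff_conj_image_eq]
    exact (Subgroup.coe_map _ K).symm.trans (congrArg _ hz) |>.trans (by rfl)
  have hsS : S.map (MulAut.conj s).toMonoidHom = S := by
    have h5 := Subgroup.le_normalizer hs
    rw [Subgroup.mem_normalizer_iff_conj_image_eq] at h5
    exact SetLike.coe_injective (by simpa using h5)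
  have hyA : A.map (MulAut.conj (y₀ * s)).toMonoidHom = A := by
    rw [← hmm, ← hs', hmm, mul_inv_cancel, hid]
  refine ⟨y₀ * s, ⟨mul_mem hy₀ (hSH hs), hnorm A _ hyA⟩, (y₀ * s)⁻¹ * x, ⟨hnorm S _ ?_, ?_⟩, by group⟩
  · rw [← hmm, he, hmm]
    have e : (y₀ * s)⁻¹ * y₀ = s⁻¹ := by group
    rw [e]
    conv_lhs => rw [← hsS]
    rw [hmm, inv_mul_cancel, hid]
  · exact (Subgroup.normalizer (A : Set G)).mul_mem ((Subgroup.normalizer (A : Set G)).inv_mem (hnorm A _ hyA)) (hnorm A _ hxA)

end Cfsg.Agent.S4421
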