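import Cfsg.Statements.S4422


set_option autoImplicit false
set_option linter.style.haveILetI false
open Cfsg

namespace Cfsg.Agent.S4422

/-- Primitive divisors of `q^e - 1` are congruent to 1 modulo `e`. Let `q ≥ 2` and `e ≥ 1` be natural numbers and let `m` be a divisor of `q^e - 1` that is coprime to `q^i - 1` for every `1 ≤ i < e` (so `m` divides the primitive part of `q^e - 1`, the largest such divisor). Then `m ≡ 1 (mod e)`. -/
theorem result (q e m : ℕ) (hq : 2 ≤ q) (he : 1 ≤ e)
    (hm : m ∣ q ^ e - 1) (hcop : ∀ i : ℕ, 1 ≤ i → i < e → Nat.Coprime m (q ^ i - 1)) :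
    m % e = 1 % e := by
  have hprime : ∀ r : ℕ, r.Prime → r ∣ m → r ≡ 1 [MOD e] := by
    intro r hr hrm
    haveI := Fact.mk hr
    have h1 : ∀ i : ℕ, (r ∣ q ^ i - 1) → ((q : ZMod r)) ^ i = 1 := by
      intro i hi
      have h2 : 1 ≤ q ^ i := Nat.one_le_pow _ _ (by omega)
      have h3 := (ZMod.natCast_eq_zero_iff _ _).2 hi
      rw [Nat.cast_sub h2, Nat.cast_pow, Nat.cast_one, sub_eq_zero] at h3
      exact h3
    have h2 : (q : ZMod r) ^ e = 1 := h1 e (hrm.trans hm)
    have h3 : orderOf (q : ZMod r) = e := by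
      refine orderOf_eq_iff (by omega) |>.2 ⟨h2, fun i hi hi0 h4 => ?_⟩
      have h5 : r ∣ q ^ i - 1 := by
        rw [← ZMod.natCast_eq_zero_iff, Nat.cast_sub (Nat.one_le_pow _ _ (by omega)), Nat.cast_pow,
          Nat.cast_one, h4, sub_self]
      exact Nat.not_coprime_of_dvd_of_dvd hr.one_lt hrm h5 (hcop i (by omega) hi)
    have h4 : (q : ZMod r) ≠ 0 := by
      intro h
      rw [h, zero_pow (by omega)] at h2
      exact zero_ne_one h2
    have h5 : e ∣ r - 1 := h3 ▸ ZMod.orderOf_dvd_card_sub_one h4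
    exact ((Nat.modEq_iff_dvd' hr.one_le).2 h5).symm
  have hgen : ∀ k : ℕ, k ≠ 0 → k ∣ m → k ≡ 1 [MOD e] := by
    intro k
    induction k using Nat.recOnMul with
    | zero => exact fun h => absurd rfl h
    | one => exact fun _ _ => rfl
    | prime r hr => exact fun _ h => hprime r hr h
    | mul a b iha ihb =>
      intro h0 h
      simpa using (iha (left_ne_zero_of_mul h0) ((dvd_mul_right a b).trans h)).mul
        (ihb (right_ne_zero_of_mul h0) ((dvd_mul_left b a).trans h))
  have hm0 : m ≠ 0 := by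
    rintro rfl
    have : 2 ≤ q ^ e := le_trans hq (Nat.le_self_pow (by omega) q)
    have := Nat.eq_zero_of_zero_dvd hm
    omega
  exact hgen m hm0 dvd_rfl

end Cfsg.Agent.S4422
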