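import Cfsg.Statements.S4424
import Cfsg.Agent.Blk.RegExpand

set_option autoImplicit false
open Cfsg

namespace Cfsg.Agent.S4424
open scoped CfsgLib.Char


/-- Let χ be an irreducible character of the finite group G lying in the p-block B (relative to a maximal ideal M of the algebraic integers containing p), and let p^a be the p-part of the order of G. Then the class function that equals p^a · χ on the p-regular elements and vanishes on the p-singular elements is an integer combination of the irreducible characters in B: there are integers a_ψ, zero for ψ outside B, with that function equal to Σ a_ψ ψ. -/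
theorem result {G : Type*} [Group G] [Finite G] (p : ℕ) [Fact p.Prime] (M : Ideal Cfsg.AlgInt) (hM : Cfsg.IsPModular p M) (B : Set (Cfsg.IrrCharacter G)) (hB : Cfsg.IsPBlock M B) (χ : Cfsg.IrrCharacter G) (hχ : χ ∈ B) : ∃ a : Cfsg.IrrCharacter G → ℤ, (∀ ψ, ψ ∉ B → a ψ = 0) ∧ (fun x : G => if p ∣ orderOf x then (0 : ℂ) else ((p ^ (Nat.card G).factorization p : ℕ) : ℂ) * (χ : G → ℂ) x) = fun x => ∑ᶠ ψ : Cfsg.IrrCharacter G, (a ψ : ℂ) * (ψ : G → ℂ) x := by
  classical
  haveI := hM.2.1.isPrime
  haveI := Fintype.ofFinite G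
  obtain ⟨a, h0, hsum, -⟩ := CfsgLib.Blk.exists_int_regPart hM hB hχ
  obtain ⟨e, he⟩ := Nat.exists_eq_add_of_le (CfsgLib.Blk.blockDefect_le (p := p) hM B)
  refine ⟨fun ψ => (p : ℤ) ^ e * a ψ, fun ψ hψ => by simp [h0 ψ hψ], funext fun x => ?_⟩
  have hx := congrFun hsum x
  simp only [Pi.smul_apply, Finset.sum_apply, smul_eq_mul, CfsgLib.Blk.regPart] at hx
  rw [finsum_eq_sum_of_fintype,
    show (Nat.card G).factorization p = Cfsg.blockDefect p B + e from he]
  push_cast
  simp only [mul_assoc]
  rw [← Finset.mul_sum, ← hx, pow_add]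
  split_ifs <;> ring

end Cfsg.Agent.S4424
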