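import Cfsg.Statements.S4425
import Cfsg.Agent.Blk.RegExpand
import Cfsg.Agent.Blk.Criterion

set_option autoImplicit false
open Cfsg

namespace Cfsg.Agent.S4425
open scoped CfsgLib.Char


/-- Let χ be an irreducible character of the finite group G, p a prime, p^a the p-part of the order of G and p^b the p-part of the degree χ(1). Let χ̃ be the class function equal to p^a · χ on p-regular elements and zero on p-singular elements. Then p^(−b) · χ̃ is a generalized character of G, while p^(−(b+1)) · χ̃ is not. -/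
theorem result {G : Type*} [Group G] [Finite G] (p : ℕ) [Fact p.Prime] (χ : Cfsg.IrrCharacter G) : Cfsg.IsGeneralizedCharacter G (fun x : G => if p ∣ orderOf x then (0 : ℂ) else ((p ^ ((Nat.card G).factorization p - (Cfsg.charDegree (χ : G → ℂ)).factorization p) : ℕ) : ℂ) * (χ : G → ℂ) x) ∧ ¬ Cfsg.IsGeneralizedCharacter G (fun x : G => if p ∣ orderOf x then (0 : ℂ) else ((p ^ (Nat.card G).factorization p : ℕ) : ℂ) / ((p ^ ((Cfsg.charDegree (χ : G → ℂ)).factorization p + 1) : ℕ) : ℂ) * (χ : G → ℂ) x) := by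
  classical
  haveI := Fintype.ofFinite G
  obtain ⟨M, hM⟩ := CfsgLib.Blk.exists_isPModular (Fact.out : p.Prime)
  haveI := hM.2.1.isPrime
  have hp : p.Prime := Fact.out
  have hp0 : (p : ℂ) ≠ 0 := Nat.cast_ne_zero.2 hp.ne_zero
  obtain ⟨n, hn, hnp⟩ := CfsgLib.Blk.exists_deg_eq (p := p) χ.2
  obtain ⟨m, hm, hmp⟩ := CfsgLib.Blk.exists_card_eq (p := p) (G := G)
  obtain ⟨e, he⟩ := Nat.exists_eq_add_of_le (CfsgLib.Blk.degExp_le (p := p) χ.2)
  set b := CfsgLib.Blk.degExp p (χ : G → ℂ) with hb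
  have hbe : (Nat.card G).factorization p - (Cfsg.charDegree (χ : G → ℂ)).factorization p = e := by
    change CfsgLib.Blk.pExp p G - b = e
    omega
  refine ⟨?_, fun hgen => ?_⟩
  · rw [hbe, show (fun x : G => if p ∣ orderOf x then (0 : ℂ) else ((p ^ e : ℕ) : ℂ) * (χ : G → ℂ) x)
      = (p : ℂ) ^ e • CfsgLib.Blk.regPart p (χ : G → ℂ) from funext fun x => by
        simp only [CfsgLib.Blk.regPart, Pi.smul_apply, smul_eq_mul, Nat.cast_pow]; split_ifs <;> simp]
    refine CfsgLib.Char.isGeneralized_iff.2 ⟨fun g h => ?_, fun ψ => ?_⟩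
    · simp only [Pi.smul_apply]
      rw [CfsgLib.Blk.classFun_regPart (CfsgLib.Char.classFun_of_irr χ.2) g h]
    obtain ⟨N, hN⟩ := (CfsgLib.Char.isGeneralized_iff.1 (CfsgLib.Blk.gen_regPart (p := p) χ)).2 ψ
    rw [CfsgLib.Char.classInner_smul_left, he, pow_add] at hN
    have hdvd : (p : ℤ) ^ b ∣ N := by
      refine CfsgLib.Blk.pow_dvd_of_eq (r := (p : ℂ) ^ e * Cfsg.classInner
        (CfsgLib.Blk.regPart p (χ : G → ℂ)) (ψ : G → ℂ)) hM ?_ (by rw [← hN]; ring)
      rw [CfsgLib.Blk.inner_regPart (M := M), hn, hm, he]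
      have hm0 : (m : ℂ) ≠ 0 := CfsgLib.Blk.natCast_ne_zero_of_not_dvd hmp
      rw [show (p : ℂ) ^ e * ((↑(p ^ (b + e) * m) : ℂ)⁻¹ * (((p ^ b : ℕ) : ℂ) * (n : ℂ) *
          CfsgLib.Blk.omega (χ : G → ℂ) (CfsgLib.Blk.regElt M p ψ))) =
          (n : ℂ) * (m : ℂ)⁻¹ * CfsgLib.Blk.omega (χ : G → ℂ) (CfsgLib.Blk.regElt M p ψ) by
        push_cast; rw [pow_add]; field_simp]
      exact mul_mem (mul_mem (natCast_mem _ n) (CfsgLib.Blk.natCast_inv_mem hM hmp))
        (CfsgLib.Blk.omega_mem χ.2 (CfsgLib.Blk.isClassCoeff_regElt ψ))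
    obtain ⟨k, rfl⟩ := hdvd
    refine ⟨k, ?_⟩
    rw [CfsgLib.Char.classInner_smul_left]
    push_cast at hN
    refine mul_left_cancel₀ (pow_ne_zero b hp0) ?_
    rw [← hN]; ring
  · obtain ⟨k, hk⟩ := CfsgLib.Blk.exists_one_eq_of_vanishing (p := p) hgen fun g hg => if_pos hg
    rw [orderOf_one, if_neg hp.not_dvd_one, hn] at hk
    change ((p ^ CfsgLib.Blk.pExp p G : ℕ) : ℂ) / ((p ^ (b + 1) : ℕ) : ℂ) * _ = _ at hk
    push_cast at hk
    field_simp at hk
    refine hnp ?_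
    have h1 : (n : ℤ) = p * k := by
      have : (n : ℂ) = (p : ℂ) * (k : ℂ) := by
        refine mul_left_cancel₀ (pow_ne_zero b hp0) ?_
        rw [pow_succ] at hk
        linear_combination hk
      exact_mod_cast this
    exact Int.natCast_dvd_natCast.1 ⟨k, h1⟩

end Cfsg.Agent.S4425
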