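import Cfsg.Statements.S4426
import Cfsg.Agent.Blk.RegExpand

set_option autoImplicit false
open Cfsg

namespace Cfsg.Agent.S4426
open scoped CfsgLib.Char


/-- Let χ be an irreducible character in the p-block B of the finite group G (relative to a maximal ideal M of the algebraic integers containing p), let p^a be the p-part of the order of G, and let χ̃ be the class function equal to p^a · χ on p-regular elements and zero elsewhere. For ξ ∈ B the inner product [χ̃, ξ] is an integer. The following are equivalent: (a) χ has height zero in B; (b) for some ξ ∈ B the integer [χ̃, ξ] is nonzero and the exact power of p dividing it equals the exact power of p dividing ξ(1); (c) the same holds for every ξ ∈ B. -/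
theorem result {G : Type*} [Group G] [Fintype G] (p : ℕ) [Fact p.Prime] (M : Ideal Cfsg.AlgInt) (hM : Cfsg.IsPModular p M) (B : Set (Cfsg.IrrCharacter G)) (hB : Cfsg.IsPBlock M B) (χ : Cfsg.IrrCharacter G) (hχ : χ ∈ B) : (Cfsg.blockHeight p B (χ : G → ℂ) = 0 ↔ ∃ ξ ∈ B, ∃ n : ℤ, Cfsg.classInner (fun x : G => if p ∣ orderOf x then (0 : ℂ) else ((p ^ (Nat.card G).factorization p : ℕ) : ℂ) * (χ : G → ℂ) x) (ξ : G → ℂ) = (n : ℂ) ∧ n ≠ 0 ∧ padicValInt p n = (Cfsg.charDegree (ξ : G → ℂ)).factorization p) ∧ (Cfsg.blockHeight p B (χ : G → ℂ) = 0 ↔ ∀ ξ ∈ B, ∃ n : ℤ, Cfsg.classInner (fun x : G => if p ∣ orderOf x then (0 : ℂ) else ((p ^ (Nat.card G).factorization p : ℕ) : ℂ) * (χ : G → ℂ) x) (ξ : G → ℂ) = (n : ℂ) ∧ n ≠ 0 ∧ padicValInt p n = (Cfsg.charDegree (ξ : G → ℂ)).factorization p) := by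
  classical
  haveI := hM.2.1.isPrime
  have hp : p.Prime := Fact.out
  have hp0 : (p : ℂ) ≠ 0 := Nat.cast_ne_zero.2 hp.ne_zero
  obtain ⟨e, he⟩ := Nat.exists_eq_add_of_le (CfsgLib.Blk.blockDefect_le (p := p) hM B)
  have hfun : (fun x : G => if p ∣ orderOf x then (0 : ℂ) else
      ((p ^ (Nat.card G).factorization p : ℕ) : ℂ) * (χ : G → ℂ) x) =
      (p : ℂ) ^ CfsgLib.Blk.pExp p G • CfsgLib.Blk.regPart p (χ : G → ℂ) := funext fun x => by
    simp only [CfsgLib.Blk.regPart, Pi.smul_apply, smul_eq_mul, Nat.cast_pow, CfsgLib.Blk.pExp]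
    split_ifs <;> simp
  rw [hfun]
  have key : ∀ ξ ∈ B, ∃ n : ℤ, Cfsg.classInner ((p : ℂ) ^ CfsgLib.Blk.pExp p G •
        CfsgLib.Blk.regPart p (χ : G → ℂ)) (ξ : G → ℂ) = (n : ℂ) ∧
      ((p : ℤ) ^ (e + Cfsg.blockHeight p B (ξ : G → ℂ) + 1) ∣ n ↔
        0 < Cfsg.blockHeight p B (χ : G → ℂ)) ∧
      (p : ℤ) ^ (e + Cfsg.blockHeight p B (ξ : G → ℂ)) ∣ n := by
    intro ξ hξ
    obtain ⟨a, u, hu, hu', hu0, ha, ha'⟩ := CfsgLib.Blk.exists_regCartan hM hB hξ χ
    have ha2 : (a : ℂ) = (p : ℂ) ^ Cfsg.blockDefect p B *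
        Cfsg.classInner (CfsgLib.Blk.regPart p (χ : G → ℂ)) (ξ : G → ℂ) := by
      have := congrArg (starRingEnd ℂ) ha
      rw [map_mul, map_pow, Complex.conj_natCast, ← CfsgLib.Blk.inner_regPart_conj] at this
      simpa using this
    refine ⟨(p : ℤ) ^ e * a, ?_, ?_, ?_⟩
    · rw [CfsgLib.Char.classInner_smul_left, he, pow_add, Int.cast_mul, ha2]
      push_cast; ring
    · rw [add_assoc, pow_add, mul_dvd_mul_iff_left (pow_ne_zero _ (by exact_mod_cast hp.ne_zero))]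
      constructor
      · intro hd
        by_contra h0
        obtain ⟨k, rfl⟩ := hd
        refine CfsgLib.Blk.omega_regElt_unit hM hB hχ (by omega) hξ
          (CfsgLib.Blk.memLocalIdeal_of_pow_eq hM (Nat.lt_succ_self (Cfsg.blockHeight p B (ξ : G → ℂ)))
            (mul_mem (intCast_mem (CfsgLib.Blk.locRing M) k) hu') ?_)
        push_cast at ha'
        rw [← mul_assoc, ha']
        field_simp
      · intro h0
        have hmem : Cfsg.MemLocalIdeal M (u * CfsgLib.Blk.omega (ξ : G → ℂ) (CfsgLib.Blk.regElt M p χ)) :=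
          CfsgLib.Blk.memLocalIdeal_mul_left hu (CfsgLib.Blk.omega_regElt_mem hM hB hχ h0 hξ)
        obtain ⟨k, hk⟩ : (p : ℤ) ^ Cfsg.blockHeight p B (ξ : G → ℂ) ∣ a :=
          CfsgLib.Blk.pow_dvd_of_eq hM (CfsgLib.Blk.memLocalIdeal_mem hmem) (by rw [ha']; ring)
        rw [hk, pow_succ, mul_dvd_mul_iff_left (pow_ne_zero _ (by exact_mod_cast hp.ne_zero)),
          ← CfsgLib.Blk.intCast_memLocalIdeal_iff hM]
        convert hmem using 1
        rw [hk] at ha'
        push_cast at ha'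
        exact mul_left_cancel₀ (pow_ne_zero _ hp0) (by rw [ha']; ring)
    · rw [pow_add]
      refine mul_dvd_mul_left _ (CfsgLib.Blk.pow_dvd_of_eq hM ?_ (by rw [ha', mul_assoc]))
      exact mul_mem hu (CfsgLib.Blk.omega_mem ξ.2 (CfsgLib.Blk.isClassCoeff_regElt χ))
  have hval : ∀ ξ ∈ B, ∀ n : ℤ, (Cfsg.classInner ((p : ℂ) ^ CfsgLib.Blk.pExp p G •
        CfsgLib.Blk.regPart p (χ : G → ℂ)) (ξ : G → ℂ) = (n : ℂ)) →
      ((n ≠ 0 ∧ padicValInt p n = (Cfsg.charDegree (ξ : G → ℂ)).factorization p) ↔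
        Cfsg.blockHeight p B (χ : G → ℂ) = 0) := by
    intro ξ hξ n hn
    obtain ⟨n', hn', h1, h2⟩ := key ξ hξ
    rw [hn'] at hn
    obtain rfl := Int.cast_injective hn
    have hdeg : (Cfsg.charDegree (ξ : G → ℂ)).factorization p = e + Cfsg.blockHeight p B (ξ : G → ℂ) := by
      have := CfsgLib.Blk.degExp_eq_height_add hM hB hξ
      change CfsgLib.Blk.degExp p (ξ : G → ℂ) = _
      omega
    rw [hdeg]
    constructor
    · rintro ⟨hne, hv⟩
      by_contra h0
      have h3 := h1.2 (Nat.pos_of_ne_zero h0)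
      rw [padicValInt_dvd_iff, hv] at h3
      rcases h3 with h3 | h3
      · exact hne h3
      · omega
    · intro h0
      have hne : n' ≠ 0 := by
        rintro rfl
        exact absurd (h1.1 (dvd_zero _)) (by omega)
      refine ⟨hne, le_antisymm ?_ ?_⟩
      · by_contra hlt
        exact absurd (h1.1 (padicValInt_dvd_iff _ _ |>.2 (Or.inr (by omega)))) (by omega)
      · exact ((padicValInt_dvd_iff _ _).1 h2).resolve_left hne
  refine ⟨⟨fun h0 => ⟨χ, hχ, ?_⟩, fun ⟨ξ, hξ, n, hn, h⟩ => (hval ξ hξ n hn).1 h⟩,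
    fun h0 ξ hξ => ?_, fun h => ?_⟩
  · obtain ⟨n, hn, -⟩ := key χ hχ
    exact ⟨n, hn, (hval χ hχ n hn).2 h0⟩
  · obtain ⟨n, hn, -⟩ := key ξ hξ
    exact ⟨n, hn, (hval ξ hξ n hn).2 h0⟩
  · obtain ⟨n, hn, h'⟩ := h χ hχ
    exact (hval χ hχ n hn).1 h'

end Cfsg.Agent.S4426
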