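import Cfsg.Statements.S4428
import Cfsg.Agent.Blk.HeightZero
import Cfsg.Agent.Blk.Contrib
import Cfsg.Agent.Blk.SecondMain

set_option autoImplicit false
open Cfsg

namespace Cfsg.Agent.S4428
open scoped CfsgLib.Char ComplexConjugate


/-- Let χ be an irreducible character of height zero in the p-block B of the finite group G (relative to a maximal ideal M of the algebraic integers containing p). Let x be a p-element of G with centralizer C, and let b be a block of C that induces B. Form the class function ϑ(c) = χ(x c) on C and its b-part (the sum over ψ ∈ b of the inner product of ϑ with ψ, times ψ). Then the b-part of ϑ does not vanish identically on the p-regular elements of C. (Compare the second main Theorem, which gives vanishing when b does not induce B.) -/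
theorem result {G : Type*} [Group G] [Finite G] (p : ℕ) [Fact p.Prime] (M : Ideal Cfsg.AlgInt) (hM : Cfsg.IsPModular p M) (B : Set (Cfsg.IrrCharacter G)) (hB : Cfsg.IsPBlock M B) (χ : Cfsg.IrrCharacter G) (hχ : χ ∈ B) (h0 : Cfsg.blockHeight p B (χ : G → ℂ) = 0) (x : G) (hx : ∃ k : ℕ, orderOf x = p ^ k) (b : Set (Cfsg.IrrCharacter (Subgroup.centralizer ({x} : Set G)))) (hb : Cfsg.IsInducedBlock M (Subgroup.centralizer ({x} : Set G)) b B) : ∃ y : Subgroup.centralizer ({x} : Set G), ¬ p ∣ orderOf y ∧ Cfsg.blockPart b (fun c : Subgroup.centralizer ({x} : Set G) => (χ : G → ℂ) (x * (c : G))) y ≠ 0 := by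
  classical
  open CfsgLib.Blk CfsgLib.Char in
  · haveI : M.IsMaximal := hM.2.1
    haveI := Fintype.ofFinite G
    haveI : Fintype (Subgroup.centralizer ({x} : Set G)) := Fintype.ofFinite _
    let x' : Subgroup.centralizer ({x} : Set G) := ⟨x, Subgroup.mem_centralizer_singleton_iff.2 rfl⟩
    have hx'c : ∀ c, Commute x' c := fun c => Subtype.ext (Subgroup.mem_centralizer_singleton_iff.1 c.2).symm
    have hres : Cfsg.IsCharacter (Subgroup.centralizer ({x} : Set G)) (fun c => (χ : G → ℂ) c) :=
      isCharacter_restrict _ (isCharacter_of_isIrr χ.2)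
    have hn' := fun η : Cfsg.IrrCharacter (Subgroup.centralizer ({x} : Set G)) => inner_char_irr hres η.2
    choose n hn using hn'
    have hexp : ∀ c : Subgroup.centralizer ({x} : Set G), (χ : G → ℂ) c =
        ∑ η : Cfsg.IrrCharacter (Subgroup.centralizer ({x} : Set G)), (n η : ℂ) * (η : _ → ℂ) c := fun c => by
      have := congrFun (classFun_eq_sum (classFun_of_char hres)) c
      simp only [hn, Finset.sum_apply, Pi.smul_apply, smul_eq_mul] at this
      exact this
    have hz' := fun η : Cfsg.IrrCharacter (Subgroup.centralizer ({x} : Set G)) => exists_central_scalar η hx'c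
    choose z hz1 hz using hz'
    obtain ⟨k, hk⟩ := hx
    have hzred : ∀ η, red M (conj (z η)) = 1 ∧ conj (z η) ∈ locRing M := by
      intro η
      have h1 : z η ^ p ^ k = 1 := by
        have := hz1 η
        rwa [← Subgroup.orderOf_coe, hk] at this
      have h2 : conj (z η) ^ p ^ k = 1 := by rw [← map_pow, h1, map_one]
      refine ⟨?_, integral_mem (IsIntegral.of_pow (pow_pos (Fact.out : p.Prime).pos k) (h2 ▸ isIntegral_one))⟩
      simpa using red_aeval_root hM h2 (Polynomial.X : Polynomial ℤ)
    by_contra hcon
    push Not at hcon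
    obtain ⟨hbb, hBB, hω⟩ := (isInducedBlock_iff _).1 hb
    obtain ⟨ξ, hξ⟩ := isPBlock_nonempty hbb
    have hzero : ∀ c : Subgroup.centralizer ({x} : Set G), ¬ p ∣ orderOf c →
        ∑ η : Cfsg.IrrCharacter (Subgroup.centralizer ({x} : Set G)), (if η ∈ b then (n η : ℂ) * z η * (η : _ → ℂ) c else 0) = 0 := by
      intro c hc
      have h := hcon c hc
      rw [blockPart_eq_sum hM hbb] at h
      · refine Eq.trans ?_ h
        have e : ∀ g : Subgroup.centralizer ({x} : Set G), (χ : G → ℂ) (x * ((g * c : Subgroup.centralizer ({x} : Set G)) : G)) =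
            ∑ η : Cfsg.IrrCharacter (Subgroup.centralizer ({x} : Set G)), (n η : ℂ) * z η * (η : _ → ℂ) (g * c) := by
          intro g
          rw [show x * ((g * c : Subgroup.centralizer ({x} : Set G)) : G) = ((x' ^ 1 * (g * c) : Subgroup.centralizer ({x} : Set G)) : G) by simp [x'], hexp]
          exact Finset.sum_congr rfl fun η _ => by rw [hz, pow_one, mul_assoc]
        simp only [e, Finset.mul_sum]
        rw [Finset.sum_comm]
        refine Finset.sum_congr rfl fun η _ => ?_
        rw [Finset.sum_congr rfl fun g _ => mul_left_comm (blockCoeff b g) ((n η : ℂ) * z η) _,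
          ← Finset.mul_sum, sum_blockCoeff_mul_char hM hbb]
        split_ifs <;> simp
      · intro a d
        show (χ : G → ℂ) (x * ((d * a * d⁻¹ : Subgroup.centralizer ({x} : Set G)) : G)) = (χ : G → ℂ) (x * a)
        rw [← classFun_of_irr χ.2 (x * a) d]
        congr 1
        simp only [Subgroup.coe_mul, Subgroup.coe_inv, ← mul_assoc]
        exact congrArg (fun t => (χ : G → ℂ) (t * (a : G) * (d : G)⁻¹)) (congrArg Subtype.val (hx'c d).eq : x * (d : G) = (d : G) * x)
    refine omega_regElt_unit (p := p) hM hB hχ h0 hχ ?_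
    rw [← red_eq_zero_iff (omega_mem χ.2 (isClassCoeff_regElt χ))]
    have h1 := hω ξ hξ χ hχ _ (isClassCoeff_regElt (p := p) χ)
    rw [omegaBar, omegaBar] at h1
    rw [← h1, omega_resA_regElt _ χ (fun η => (n η : ℂ)) hexp]
    have hmem : ∀ η : Cfsg.IrrCharacter (Subgroup.centralizer ({x} : Set G)),
        omega (ξ : _ → ℂ) (regElt M p η) ∈ locRing M := fun η => omega_mem ξ.2 (isClassCoeff_regElt η)
    have h2 : ∑ η : Cfsg.IrrCharacter (Subgroup.centralizer ({x} : Set G)),
        (if η ∈ b then conj (n η : ℂ) * conj (z η) else 0) * omega (ξ : _ → ℂ) (regElt M p η) = 0 := by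
      simp only [omega_eq, mul_div_assoc', ← Finset.sum_div, Finset.mul_sum]
      rw [Finset.sum_comm, Finset.sum_eq_zero fun c _ => ?_, zero_div]
      by_cases hc : p ∣ orderOf c
      · simp [coeff_regElt, hc]
      · have h := congrArg conj (hzero c hc)
        rw [map_zero, map_sum] at h
        refine (Finset.sum_congr rfl fun η _ => ?_).trans ((Finset.sum_mul _ _ ((ξ : _ → ℂ) c)).symm.trans (by rw [h, zero_mul]))
        split_ifs with hη <;> simp [coeff_regElt, hc]
        ring
    rw [← red_zero (M := M), ← h2,
      red_sum _ _ fun η _ => mul_mem (by rw [Complex.conj_natCast]; exact natCast_mem _ _) (hmem η),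
      red_sum _ _ fun η _ => mul_mem (by
        split_ifs
        · exact mul_mem (by rw [Complex.conj_natCast]; exact natCast_mem _ _) (hzred η).2
        · exact zero_mem _) (hmem η)]
    refine Finset.sum_congr rfl fun η _ => ?_
    rw [Complex.conj_natCast, red_mul (natCast_mem _ _) (hmem η)]
    split_ifs with hη
    · rw [red_mul (mul_mem (natCast_mem _ _) (hzred η).2) (hmem η), red_mul (natCast_mem _ _) (hzred η).2, (hzred η).1, mul_one]
    · rw [omega_regElt_eq_zero hM fun hs => hη (mem_of_sameBlock hbb hξ hs), red_zero, mul_zero, zero_mul, red_zero]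

end Cfsg.Agent.S4428
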