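import Cfsg.Statements.S4430
import Cfsg.Agent.Blk.SecondMain
import Cfsg.Agent.Blk.Induced
import Cfsg.Agent.Blk.Defect

set_option autoImplicit false
open Cfsg

namespace Cfsg.Agent.S4430
open scoped CfsgLib.Char


/-- Let H be a subgroup of the finite group G, b a block of H whose induced block B₀ in G is defined (relative to a maximal ideal M of the algebraic integers containing p), and ξ ∈ b. For a block B of G let n_B be the value at 1 of the B-part of the induced character ξ^G (a natural number: the sum over χ ∈ B of the multiplicity of χ in ξ^G times χ(1)). Then for B = B₀ the exact power of p dividing n_B equals the exact power of p dividing ξ^G(1), while for every other block B either n_B = 0 or n_B is divisible by a strictly higher power of p than ξ^G(1). -/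
theorem result {G : Type*} [Group G] [Fintype G] (p : ℕ) [Fact p.Prime] (M : Ideal Cfsg.AlgInt) (hM : Cfsg.IsPModular p M) (H : Subgroup G) [Fintype H] (b : Set (Cfsg.IrrCharacter H)) (B₀ : Set (Cfsg.IrrCharacter G)) (hind : Cfsg.IsInducedBlock M H b B₀) (ξ : Cfsg.IrrCharacter H) (hξ : ξ ∈ b) : (∃ n : ℕ, Cfsg.blockPart B₀ (Cfsg.indFun H (ξ : H → ℂ)) 1 = (n : ℂ) ∧ n ≠ 0 ∧ n.factorization p = (Cfsg.charDegree (Cfsg.indFun H (ξ : H → ℂ))).factorization p) ∧ ∀ B : Set (Cfsg.IrrCharacter G), Cfsg.IsPBlock M B → B ≠ B₀ → ∃ n : ℕ, Cfsg.blockPart B (Cfsg.indFun H (ξ : H → ℂ)) 1 = (n : ℂ) ∧ (n = 0 ∨ (Cfsg.charDegree (Cfsg.indFun H (ξ : H → ℂ))).factorization p < n.factorization p) := by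
  classical
  haveI := hM.2.1.isPrime
  obtain ⟨hb, hB₀, hω⟩ := (CfsgLib.Blk.isInducedBlock_iff H).1 hind
  set f := Cfsg.indFun H (ξ : H → ℂ) with hf
  have hfc := CfsgLib.Char.isCharacter_indFun H (CfsgLib.Char.isCharacter_of_isIrr ξ.2)
  have hf1 : f 1 = (Cfsg.charDegree f : ℂ) := CfsgLib.Char.char_one_eq hfc
  have hd0 : Cfsg.charDegree f ≠ 0 := fun h => by
    rw [h, Nat.cast_zero, hf, CfsgLib.Char.indFun_one, mul_eq_zero] at hf1
    rcases hf1 with h1 | h1
    · exact Subgroup.index_ne_zero_of_finite (Nat.cast_eq_zero.1 h1)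
    · exact CfsgLib.Char.irr_one_ne_zero ξ.2 h1
  have key : ∀ B : Set (Cfsg.IrrCharacter G), Cfsg.IsPBlock M B → ∃ n : ℕ, ∃ u ∈ CfsgLib.Blk.locRing M,
      Cfsg.blockPart B f 1 = (n : ℂ) ∧ (n : ℂ) = (Cfsg.charDegree f : ℂ) * u ∧
      (Cfsg.MemLocalIdeal M u ↔ B ≠ B₀) := by
    intro B hB
    have hu : CfsgLib.Blk.omega (ξ : H → ℂ) (CfsgLib.Blk.resA H (CfsgLib.Blk.blockIdem hM hB)) ∈
        CfsgLib.Blk.locRing M :=
      CfsgLib.Blk.omega_mem ξ.2 (CfsgLib.Blk.isClassCoeff_resA H (CfsgLib.Blk.isClassCoeff_blockIdem hM hB))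
    choose c hc using fun χ : Cfsg.IrrCharacter G => CfsgLib.Char.inner_char_irr hfc χ.2
    refine ⟨∑ χ : Cfsg.IrrCharacter G, if χ ∈ B then c χ * Cfsg.charDegree (χ : G → ℂ) else 0,
      _, hu, ?_, ?_, ?_⟩
    · rw [Cfsg.blockPart, CfsgLib.Blk.finsum_mem_eq_sum_ite, Nat.cast_sum]
      refine Finset.sum_congr rfl fun χ _ => ?_
      split_ifs
      · rw [CfsgLib.Char.classInner_congr_inst _ inferInstance, hc, CfsgLib.Char.irr_one_eq χ.2, Nat.cast_mul]
      · simp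
    · have e : Cfsg.blockPart B f 1 = f 1 * CfsgLib.Blk.omega f (CfsgLib.Blk.blockIdem hM hB) := by
        rw [CfsgLib.Blk.blockPart_eq_sum hM hB (CfsgLib.Char.indFun_classFun H _), CfsgLib.Blk.omega_eq,
          mul_div_cancel₀ _ (by rw [hf1]; exact Nat.cast_ne_zero.2 hd0)]
        exact Finset.sum_congr rfl fun g _ => by rw [mul_one, CfsgLib.Blk.coeff_blockIdem]
      rw [← hf1, ← CfsgLib.Blk.omega_indFun H (ξ : H → ℂ) (CfsgLib.Blk.isClassCoeff_blockIdem hM hB),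
        ← hf, ← e, Cfsg.blockPart, CfsgLib.Blk.finsum_mem_eq_sum_ite, Nat.cast_sum]
      refine Finset.sum_congr rfl fun χ _ => ?_
      split_ifs
      · rw [CfsgLib.Char.classInner_congr_inst _ inferInstance, hc, CfsgLib.Char.irr_one_eq χ.2, Nat.cast_mul]
      · simp
    · obtain ⟨χ₀, hχ₀⟩ := CfsgLib.Blk.isPBlock_nonempty hB₀
      have he := hω ξ hξ χ₀ hχ₀ _ (CfsgLib.Blk.isClassCoeff_blockIdem hM hB)
      rw [CfsgLib.Blk.omegaBar_blockIdem] at he
      rw [← CfsgLib.Blk.red_eq_zero_iff hu]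
      change CfsgLib.Blk.omegaBar _ _ = 0 ↔ _
      rw [he]
      split_ifs with h
      · exact iff_of_false one_ne_zero fun hne => hne (CfsgLib.Blk.eq_of_mem_of_mem hB hB₀ h hχ₀)
      · exact iff_of_true rfl fun e => h (e ▸ hχ₀)
  set d := (Cfsg.charDegree f).factorization p with hd
  obtain ⟨q, hq⟩ : ∃ q, Cfsg.charDegree f = p ^ d * q := ⟨_, (Nat.ordProj_mul_ordCompl_eq_self _ p).symm⟩
  have hqp : ¬ p ∣ q := by
    have := Nat.not_dvd_ordCompl (Fact.out : p.Prime) hd0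
    rwa [show Cfsg.charDegree f / p ^ d = q by
      rw [hq, Nat.mul_div_cancel_left _ (pow_pos (Fact.out : p.Prime).pos _)]] at this
  have step : ∀ (n : ℕ) (u : ℂ), u ∈ CfsgLib.Blk.locRing M →
      (n : ℂ) = (Cfsg.charDegree f : ℂ) * u → p ^ d ∣ n ∧ ∀ k : ℕ, n = p ^ d * k →
        (Cfsg.MemLocalIdeal M u ↔ p ∣ k) := by
    intro n u hu he
    rw [hq] at he
    push_cast at he
    refine ⟨?_, ?_⟩
    · have := CfsgLib.Blk.pow_dvd_of_eq hM (j := d) (n := (n : ℤ)) (mul_mem (natCast_mem _ q) hu)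
        (by push_cast; rw [he]; ring)
      exact_mod_cast this
    · intro k hk
      rw [hk] at he
      push_cast at he
      rw [← CfsgLib.Blk.natCast_memLocalIdeal_iff hM, show (k : ℂ) = (q : ℂ) * u from
        mul_left_cancel₀ (pow_ne_zero d (Nat.cast_ne_zero.2 (Fact.out : p.Prime).ne_zero))
          (by rw [he]; ring), CfsgLib.Blk.memLocalIdeal_natCast_mul_iff hM hqp]
  refine ⟨?_, fun B hB hne => ?_⟩
  · obtain ⟨n, u, hu, h1, h2, h3⟩ := key B₀ hB₀
    obtain ⟨⟨k, hk⟩, h4⟩ := step n u hu h2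
    have hkp : ¬ p ∣ k := fun h => (h3.1 ((h4 k hk).2 h)) rfl
    refine ⟨n, h1, ?_, ?_⟩
    · rw [hk]; exact mul_ne_zero (pow_ne_zero _ (Fact.out : p.Prime).ne_zero) (fun h : k = 0 => hkp (h ▸ dvd_zero p))
    · rw [hk, Nat.factorization_mul (pow_ne_zero _ (Fact.out : p.Prime).ne_zero) (fun h : k = 0 => hkp (h ▸ dvd_zero p))]
      simp [Nat.factorization_eq_zero_of_not_dvd hkp, Nat.Prime.factorization_self (Fact.out : p.Prime), hd]
  · obtain ⟨n, u, hu, h1, h2, h3⟩ := key B hB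
    obtain ⟨⟨k, hk⟩, h4⟩ := step n u hu h2
    refine ⟨n, h1, or_iff_not_imp_left.2 fun hn => ?_⟩
    obtain ⟨j, rfl⟩ := (h4 k hk).1 (h3.2 hne)
    refine ((Fact.out : p.Prime).pow_dvd_iff_le_factorization hn).1 ⟨j, ?_⟩
    rw [hk, pow_succ]; ring

end Cfsg.Agent.S4430
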