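import Cfsg.Statements.S4431
import Cfsg.Agent.Blk.HeightZero
import Cfsg.Agent.Blk.RegExpand
import Cfsg.Agent.Blk.Induced

set_option autoImplicit false
open Cfsg

namespace Cfsg.Agent.S4431
open scoped CfsgLib.Char


/-- Let H be a subgroup of the finite group G and b a block of H whose induced block B₀ in G is defined (relative to a maximal ideal M of the algebraic integers containing p). Let χ be an irreducible character of G, ψ ∈ b, and let η be the class function on H equal to p^a · χ on the p-regular elements of H and zero elsewhere, p^a being the p-part of the order of H. Then (a) if χ ∉ B₀, the number [η, ψ]/ψ(1) lies in the local ideal at M; (b) if χ ∈ B₀ has height zero, it does not. -/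
theorem result {G : Type*} [Group G] [Fintype G] (p : ℕ) [Fact p.Prime] (M : Ideal Cfsg.AlgInt) (hM : Cfsg.IsPModular p M) (H : Subgroup G) [Fintype H] (b : Set (Cfsg.IrrCharacter H)) (B₀ : Set (Cfsg.IrrCharacter G)) (hind : Cfsg.IsInducedBlock M H b B₀) (χ : Cfsg.IrrCharacter G) (ψ : Cfsg.IrrCharacter H) (hψ : ψ ∈ b) : (χ ∉ B₀ → Cfsg.MemLocalIdeal M (Cfsg.classInner (fun h : H => if p ∣ orderOf h then (0 : ℂ) else ((p ^ (Nat.card H).factorization p : ℕ) : ℂ) * (χ : G → ℂ) h) (ψ : H → ℂ) / (ψ : H → ℂ) 1)) ∧ (χ ∈ B₀ → Cfsg.blockHeight p B₀ (χ : G → ℂ) = 0 → ¬ Cfsg.MemLocalIdeal M (Cfsg.classInner (fun h : H => if p ∣ orderOf h then (0 : ℂ) else ((p ^ (Nat.card H).factorization p : ℕ) : ℂ) * (χ : G → ℂ) h) (ψ : H → ℂ) / (ψ : H → ℂ) 1)) := by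
  classical
  haveI := hM.2.1.isPrime
  obtain ⟨m, hm, hmp⟩ := CfsgLib.Blk.exists_card_eq (p := p) (G := H)
  have hp0 : (p : ℂ) ≠ 0 := Nat.cast_ne_zero.2 (Fact.out : p.Prime).ne_zero
  have hm0 := CfsgLib.Blk.natCast_ne_zero_of_not_dvd hmp
  set w := CfsgLib.Blk.omega (ψ : H → ℂ) (CfsgLib.Blk.resA H (CfsgLib.Blk.regElt M p χ)) with hw
  have hwm : w ∈ CfsgLib.Blk.locRing M :=
    CfsgLib.Blk.omega_mem ψ.2 (CfsgLib.Blk.isClassCoeff_resA H (CfsgLib.Blk.isClassCoeff_regElt χ))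
  have hval : Cfsg.classInner (fun h : H => if p ∣ orderOf h then (0 : ℂ) else
      ((p ^ (Nat.card H).factorization p : ℕ) : ℂ) * (χ : G → ℂ) h) (ψ : H → ℂ) / (ψ : H → ℂ) 1 =
      (m : ℂ)⁻¹ * w := by
    set T := Cfsg.classInner (fun h : H => if p ∣ orderOf h then (0 : ℂ) else
      ((p ^ (Nat.card H).factorization p : ℕ) : ℂ) * (χ : G → ℂ) h) (ψ : H → ℂ) with hT
    have hint : (starRingEnd ℂ) T = T := by
      obtain ⟨n, hn⟩ := (CfsgLib.Char.isGeneralized_iff.1 (CfsgLib.Blk.gen_mul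
        (CfsgLib.Blk.gen_regular (G := H) (p := p)) (CfsgLib.Blk.gen_of_char
          (CfsgLib.Char.isCharacter_restrict H (CfsgLib.Char.isCharacter_of_isIrr χ.2))))).2 ψ
      have e : T = (n : ℂ) := by
        rw [hT, ← hn]
        congr 1
        funext h
        simp only [Pi.mul_apply]
        split_ifs <;> simp [CfsgLib.Blk.pExp]
      rw [e, map_intCast]
    have e : T = (m : ℂ)⁻¹ * (w * (ψ : H → ℂ) 1) := by
      rw [← hint, hT, hw, CfsgLib.Blk.omega_eq, div_mul_cancel₀ _ (CfsgLib.Char.irr_one_ne_zero ψ.2),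
        CfsgLib.Char.classInner_def, map_mul, map_inv₀, Complex.conj_natCast, map_sum,
        show (Nat.card H : ℂ) = (p : ℂ) ^ CfsgLib.Blk.pExp p H * (m : ℂ) by rw [hm]; push_cast; rfl,
        mul_inv, Finset.mul_sum, Finset.mul_sum]
      refine Finset.sum_congr rfl fun h _ => ?_
      rw [CfsgLib.Blk.coeff_resA, CfsgLib.Blk.coeff_regElt]
      simp only [Subgroup.orderOf_coe, map_mul, Complex.conj_conj]
      split_ifs
      · simp
      · rw [map_mul, Complex.conj_natCast, Nat.cast_pow, CfsgLib.Blk.pExp]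
        field_simp
    rw [e, mul_div_assoc, mul_div_cancel_right₀ _ (CfsgLib.Char.irr_one_ne_zero ψ.2)]
  rw [hval]
  obtain ⟨hb, hB, hω⟩ := (CfsgLib.Blk.isInducedBlock_iff H).1 hind
  obtain ⟨χ₀, hχ₀⟩ := CfsgLib.Blk.isPBlock_nonempty hB
  have he := hω ψ hψ χ₀ hχ₀ _ (CfsgLib.Blk.isClassCoeff_regElt (p := p) χ)
  have hiff : Cfsg.MemLocalIdeal M ((m : ℂ)⁻¹ * w) ↔
      Cfsg.MemLocalIdeal M (CfsgLib.Blk.omega (χ₀ : G → ℂ) (CfsgLib.Blk.regElt M p χ)) := by
    rw [← CfsgLib.Blk.memLocalIdeal_natCast_mul_iff hM hmp, ← mul_assoc, mul_inv_cancel₀ hm0, one_mul,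
      ← CfsgLib.Blk.red_eq_zero_iff hwm,
      ← CfsgLib.Blk.red_eq_zero_iff (CfsgLib.Blk.omega_mem χ₀.2 (CfsgLib.Blk.isClassCoeff_regElt χ))]
    exact Iff.of_eq (congrArg (· = 0) he)
  refine ⟨fun hχ => hiff.2 ?_, fun hχ h0 hh => ?_⟩
  · rw [CfsgLib.Blk.omega_regElt_eq_zero hM fun h => hχ (CfsgLib.Blk.mem_of_sameBlock hB hχ₀ h)]
    exact CfsgLib.Blk.memLocalIdeal_zero
  · exact CfsgLib.Blk.omega_regElt_unit hM hB hχ h0 hχ₀ (hiff.1 hh)

end Cfsg.Agent.S4431
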