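import Cfsg.Statements.S4432
import Cfsg.Agent.Blk.RegExpand
import Cfsg.Agent.Char.Clifford
-- import your own Cfsg.Agent.* helpers here

set_option autoImplicit false
open Cfsg
open scoped CfsgLib.Char

namespace Cfsg.Agent.S4432

/-- Let N be a normal subgroup of the finite group G, b a block of N and B a block of G (relative to a maximal ideal M of the algebraic integers containing p) such that B covers b: some member of B has a constituent in b on restriction to N. Then every θ ∈ b is a constituent of the restriction of some χ ∈ B. -/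
theorem result {G : Type*} [Group G] [Fintype G] (p : ℕ) [Fact p.Prime] (M : Ideal Cfsg.AlgInt) (hM : Cfsg.IsPModular p M) (N : Subgroup G) [hN : N.Normal] [Fintype N] (B : Set (Cfsg.IrrCharacter G)) (hB : Cfsg.IsPBlock M B) (b : Set (Cfsg.IrrCharacter N)) (hb : Cfsg.IsPBlock M b) (hcov : (∃ χ ∈ B, ∃ θ ∈ b, Cfsg.classInner (fun n : N => (χ : G → ℂ) n) (θ : N → ℂ) ≠ 0)) (θ : Cfsg.IrrCharacter N) (hθ : θ ∈ b) : ∃ χ ∈ B, Cfsg.classInner (fun n : N => (χ : G → ℂ) n) (θ : N → ℂ) ≠ 0 := by
  classical
  open CfsgLib.Blk CfsgLib.Char in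
  · haveI : M.IsPrime := hM.2.1.isPrime
    let T : Set (IrrCharacter N) :=
      {θ | ∃ χ ∈ B, classInner (fun n : N => (χ : G → ℂ) n) (θ : N → ℂ) ≠ 0}
    let σ : G → IrrCharacter N → IrrCharacter N := fun g θ => ⟨conjN (θ : N → ℂ) g, irr_conjN θ.2 g⟩
    have hσinv : ∀ g θ, σ g⁻¹ (σ g θ) = θ := fun g θ => Subtype.ext (by
      show conjN (conjN (θ : N → ℂ) g) g⁻¹ = θ
      rw [conjN_mul, mul_inv_cancel, conjN_one])
    have hσinv' : ∀ g θ, σ g (σ g⁻¹ θ) = θ := fun g θ => by
      have := hσinv g⁻¹ θ
      rwa [inv_inv] at this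
    let σe : G → IrrCharacter N ≃ IrrCharacter N := fun g => ⟨σ g, σ g⁻¹, hσinv g, hσinv' g⟩
    have hTinv : ∀ g θ, σ g θ ∈ T ↔ θ ∈ T := fun g θ => by
      simp only [T, σ, Set.mem_setOf_eq]
      refine exists_congr fun χ => and_congr Iff.rfl ?_
      rw [inner_res_conjN (classFun_of_irr χ.2)]
    let R : IrrCharacter N → IrrCharacter N → ℂ := fun θ ψ =>
      classInner (regPart p (θ : N → ℂ)) (ψ : N → ℂ)
    have hreg : ∀ (f : N → ℂ) (g : G), regPart p (conjN f g) = conjN (regPart p f) g := by
      intro f g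
      funext n
      simp only [regPart, conjN]
      refine if_congr ?_ rfl rfl
      rw [← Subgroup.orderOf_coe, ← Subgroup.orderOf_coe]
      show p ∣ orderOf (n : G) ↔ p ∣ orderOf (g * n * g⁻¹)
      rw [show g * n * g⁻¹ = MulAut.conj g (n : G) from rfl, MulEquiv.orderOf_eq]
    have hR : ∀ g θ ψ, R (σ g θ) (σ g ψ) = R θ ψ := fun g θ ψ => by
      simp only [R, σ, hreg, classInner_conjN]
    have hRswap : ∀ θ ψ, R θ ψ = (starRingEnd ℂ) (R ψ θ) := fun θ ψ => inner_regPart_conj θ ψ
    -- a summed orbit of a member of `T` is orthogonal to everything outside `T`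
    have hZ : ∀ θ ∈ T, ∀ ψ ∉ T, ∑ g : G, R (σ g θ) ψ = 0 := by
      rintro θ ⟨χ, hχ, hne⟩ ψ hψ
      have h0 : classInner (regPart p (fun n : N => (χ : G → ℂ) n)) (ψ : N → ℂ) = 0 := by
        have e : regPart p (fun n : N => (χ : G → ℂ) n) = fun n : N => regPart p (χ : G → ℂ) (n : G) := by
          funext n; simp only [regPart, Subgroup.orderOf_coe]
        have e2 : (fun n : N => regPart p (χ : G → ℂ) (n : G)) = ∑ φ : IrrCharacter G,
            classInner (regPart p (χ : G → ℂ)) (φ : G → ℂ) • (fun n : N => (φ : G → ℂ) n) := by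
          funext n
          conv_lhs => rw [regPart_eq_sum χ]
          simp [Finset.sum_apply]
        rw [e, e2, classInner_sum_left]
        refine Finset.sum_eq_zero fun φ _ => ?_
        rw [classInner_smul_left]
        by_cases hφ : φ ∈ B
        · have : classInner (fun n : N => (φ : G → ℂ) n) (ψ : N → ℂ) = 0 := by
            by_contra h
            exact hψ ⟨φ, hφ, h⟩
          rw [this, mul_zero]
        · rw [inner_regPart_eq_zero_of_notMem hM hB hχ hφ, zero_mul]
      have hcl := clifford χ.2 θ.2 hne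
      have hsum : ∑ g : G, R (σ g θ) ψ = (Nat.card (inertia (θ : N → ℂ)) : ℂ) *
          ∑ φ ∈ Finset.univ.image (conjN (θ : N → ℂ)), classInner (regPart p φ) (ψ : N → ℂ) := by
        rw [Finset.mul_sum, ← Finset.sum_fiberwise_of_maps_to (g := fun g => conjN (θ : N → ℂ) g)
          (t := Finset.univ.image (conjN (θ : N → ℂ))) (fun g _ => Finset.mem_image_of_mem _ (Finset.mem_univ g))]
        refine Finset.sum_congr rfl fun φ hφ => ?_
        rw [Finset.sum_congr rfl (g := fun _ => classInner (regPart p φ) (ψ : N → ℂ))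
          fun g hg => by simp only [R, σ, (Finset.mem_filter.1 hg).2]]
        rw [Finset.sum_const, nsmul_eq_mul]
        congr 2
        obtain ⟨x, -, rfl⟩ := Finset.mem_image.1 hφ
        rw [Nat.card_eq_fintype_card, Fintype.card_subtype]
        refine Finset.card_equiv (Equiv.mulRight x⁻¹) fun g => ?_
        simp only [Finset.mem_filter, Finset.mem_univ, true_and, Equiv.coe_mulRight, mem_inertia]
        constructor
        · intro h; rw [← conjN_mul, h, conjN_mul, mul_inv_cancel, conjN_one]
        · intro h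
          conv_rhs => rw [← h, conjN_mul, inv_mul_cancel_right]
      rw [hsum]
      have e3 : regPart p (classInner (fun n : N => (χ : G → ℂ) n) (θ : N → ℂ) •
          ∑ φ ∈ Finset.univ.image (conjN (θ : N → ℂ)), φ) =
          classInner (fun n : N => (χ : G → ℂ) n) (θ : N → ℂ) •
            ∑ φ ∈ Finset.univ.image (conjN (θ : N → ℂ)), regPart p φ := by
        funext n
        simp only [regPart, Pi.smul_apply, Finset.sum_apply]
        split_ifs <;> simp
      rw [congrArg (regPart p) hcl, e3, classInner_smul_left, classInner_sum_left, mul_eq_zero] at h0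
      rcases h0 with h0 | h0
      · exact absurd h0 hne
      · rw [h0, mul_zero]
    -- an invariant combination
    have h1G : ¬ p ∣ orderOf (1 : G) := by simpa using (Fact.out : p.Prime).ne_one
    obtain ⟨c, m, hm, hc⟩ := exists_comb_regular hM h1G
    choose k hk using fun (χ : IrrCharacter G) (θ : IrrCharacter N) =>
      inner_char_char (isCharacter_restrict N (isCharacter_of_isIrr χ.2)) (isCharacter_of_isIrr θ.2)
    let c' : IrrCharacter N → ℂ := fun θ => ∑ χ : IrrCharacter G, ((c χ : locRing M) : ℂ) * (k χ θ : ℂ)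
    have hkconj : ∀ g χ θ, (k χ (σ g θ) : ℂ) = (k χ θ : ℂ) := fun g χ θ => by
      rw [← hk, ← hk]; exact inner_res_conjN (classFun_of_irr χ.2) _ g
    have hc'inv : ∀ g θ, c' (σ g θ) = c' θ := fun g θ => by simp only [c', hkconj]
    have hc'mem : ∀ θ, c' θ ∈ locRing M := fun θ =>
      sum_mem fun χ _ => mul_mem (c χ).2 (natCast_mem _ _)
    have hc'val : ∀ n : N, ¬ p ∣ orderOf n →
        ∑ θ : IrrCharacter N, c' θ * (θ : N → ℂ) n = if n = 1 then (m : ℂ) else 0 := by
      intro n hn
      have hn' : ¬ p ∣ orderOf (n : G) := by rwa [Subgroup.orderOf_coe]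
      have h := hc (n : G) hn'
      have hexp : ∀ χ : IrrCharacter G, (χ : G → ℂ) n = ∑ θ : IrrCharacter N, (k χ θ : ℂ) * (θ : N → ℂ) n := by
        intro χ
        have := congrFun (classFun_eq_sum (classFun_of_char (isCharacter_restrict N (isCharacter_of_isIrr χ.2)))) n
        simpa [Finset.sum_apply, hk] using this
      simp only [hexp, Finset.mul_sum] at h
      rw [Finset.sum_comm] at h
      simp only [c', Finset.sum_mul, mul_assoc]
      rw [h]
      refine if_congr ⟨fun hh => Subtype.ext (isConj_one_left.1 hh), fun hh => by rw [hh]; exact IsConj.refl _⟩ rfl rfl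
    have hG0 : (Nat.card G : ℂ) ≠ 0 := natCard_ne_zero G
    have hzero : ∀ ψ, ∀ P : IrrCharacter N → Prop, (∀ g θ, P (σ g θ) ↔ P θ) →
        (∀ θ, P θ → ∑ g : G, R (σ g θ) ψ = 0) →
        ∑ θ : IrrCharacter N, (if P θ then c' θ * R θ ψ else 0) = 0 := by
      intro ψ P hP hz
      have e : ∀ g : G, ∑ θ : IrrCharacter N, (if P θ then c' θ * R (σ g θ) ψ else 0) =
          ∑ θ : IrrCharacter N, (if P θ then c' θ * R θ ψ else 0) := by
        intro g
        refine Fintype.sum_equiv (σe g) _ _ fun θ => ?_
        show _ = if P (σ g θ) then c' (σ g θ) * R (σ g θ) ψ else 0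
        rw [if_congr (hP g θ) rfl rfl, hc'inv]
      have hsum := Finset.sum_congr (rfl : (Finset.univ : Finset G) = Finset.univ) fun g _ => e g
      rw [Finset.sum_const, Finset.card_univ, nsmul_eq_mul, Finset.sum_comm,
        Finset.sum_eq_zero fun θ _ => ?_] at hsum
      · rcases mul_eq_zero.1 hsum.symm with h | h
        · exact absurd (by simpa [Nat.card_eq_fintype_card] using h) hG0
        · exact h
      · by_cases hθ : P θ
        · simp only [if_pos hθ, ← Finset.mul_sum, hz θ hθ, mul_zero]
        · simp [hθ]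
    have hone : ¬ p ∣ orderOf (1 : N) := by simpa using (Fact.out : p.Prime).ne_one
    let f : N → ℂ := regPart p (∑ θ : IrrCharacter N, (if θ ∈ T then c' θ else 0) • (θ : N → ℂ))
    have hcl : IsClassFunction N f := classFun_regPart fun x y => by
      simp only [Finset.sum_apply, Pi.smul_apply]
      exact Finset.sum_congr rfl fun θ _ => by rw [classFun_of_irr θ.2 x y]
    have hfsum : ∀ ψ : IrrCharacter N, classInner f (ψ : N → ℂ) =
        ∑ θ : IrrCharacter N, (if θ ∈ T then c' θ * R θ ψ else 0) := by
      intro ψ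
      have e : f = ∑ θ : IrrCharacter N, (if θ ∈ T then c' θ else 0) • regPart p (θ : N → ℂ) := by
        funext n
        simp only [f, regPart, Finset.sum_apply, Pi.smul_apply]
        split_ifs <;> simp
      rw [e, classInner_sum_left]
      refine Finset.sum_congr rfl fun θ _ => ?_
      rw [classInner_smul_left]
      split_ifs <;> simp [R]
    have hinner : ∀ ψ : IrrCharacter N, classInner f (ψ : N → ℂ) =
        if ψ ∈ T then (m : ℂ) * (Nat.card N : ℂ)⁻¹ * (ψ : N → ℂ) 1 else 0 := by
      intro ψ
      rw [hfsum]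
      split_ifs with hψ
      · have hall : ∑ θ : IrrCharacter N, c' θ * R θ ψ = (m : ℂ) * (Nat.card N : ℂ)⁻¹ * (ψ : N → ℂ) 1 := by
          simp only [R, classInner_def, Finset.mul_sum]
          rw [Finset.sum_comm, Finset.sum_eq_single (1 : N)]
          · simp only [regPart, if_neg hone]
            have h := hc'val 1 hone
            rw [if_pos rfl] at h
            rw [← h, Finset.sum_mul, Finset.sum_mul, char_one_eq (isCharacter_of_isIrr ψ.2), Complex.conj_natCast]
            exact Finset.sum_congr rfl fun θ _ => by ring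
          · intro x _ hx
            simp only [regPart]
            by_cases hreg : p ∣ orderOf x
            · simp [hreg]
            · simp only [if_neg hreg]
              have h := hc'val x hreg
              rw [if_neg hx] at h
              rw [Finset.sum_congr rfl (g := fun θ : IrrCharacter N => c' θ * (θ : N → ℂ) x *
                ((Nat.card N : ℂ)⁻¹ * (starRingEnd ℂ) ((ψ : N → ℂ) x))) fun θ _ => by ring,
                ← Finset.sum_mul, h, zero_mul]
          · simp
        have hout := hzero ψ (fun θ => θ ∉ T) (fun g θ => not_congr (hTinv g θ)) fun θ hθ => by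
          have h1 := congrArg (starRingEnd ℂ) (hZ ψ hψ θ hθ)
          rw [map_sum, map_zero] at h1
          rw [← h1]
          refine Fintype.sum_equiv (Equiv.inv G) _ _ fun g => ?_
          simp only [Equiv.inv_apply]
          rw [← hRswap θ (σ g⁻¹ ψ), ← hR g⁻¹ (σ g θ) ψ, hσinv]
        rw [← hall]
        refine Eq.trans ?_ (Finset.sum_congr rfl (f := fun θ : IrrCharacter N =>
          (if θ ∈ T then c' θ * R θ ψ else 0) + (if θ ∉ T then c' θ * R θ ψ else 0))
          fun θ _ => by by_cases h : θ ∈ T <;> simp [h])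
        rw [Finset.sum_add_distrib]
        refine (add_eq_left.2 ?_).symm
        convert hout using 3
      · refine Eq.trans ?_ (hzero ψ (fun θ => θ ∈ T) (fun g θ => hTinv g θ) fun θ hθ => hZ θ hθ ψ hψ)
        exact Finset.sum_congr rfl fun θ _ => by by_cases h : θ ∈ T <;> simp [h]
    have hA : ∀ g : N, blockCoeff T g ∈ locRing M := by
      intro g
      have hval : ∀ x : N, f x ∈ locRing M := by
        intro x
        simp only [f, regPart, Finset.sum_apply, Pi.smul_apply, smul_eq_mul]
        split_ifs
        · exact zero_mem _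
        · refine sum_mem fun θ _ => ?_
          split_ifs
          · exact mul_mem (hc'mem θ) (irr_mem θ x)
          · simp
      have hfx := congrFun (classFun_eq_sum hcl) g⁻¹
      simp only [Finset.sum_apply, Pi.smul_apply, smul_eq_mul, hinner] at hfx
      have hmem : (m : ℂ)⁻¹ * f g⁻¹ ∈ locRing M := mul_mem (natCast_inv_mem hM hm) (hval _)
      convert hmem using 1
      have hm0 : (m : ℂ) ≠ 0 := Nat.cast_ne_zero.2 fun h0 => hm (h0 ▸ dvd_zero p)
      rw [hfx, blockCoeff, finsum_mem_eq_sum_ite, Finset.mul_sum, Finset.mul_sum]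
      refine Finset.sum_congr rfl fun φ _ => ?_
      split_ifs
      · rw [char_conj_eq (isCharacter_of_isIrr φ.2)]
        field_simp
      · simp
    obtain ⟨χ₀, hχ₀, θ₀, hθ₀, hne₀⟩ := hcov
    exact blockOf_subset_of_blockCoeff_mem hA (χ := θ₀) ⟨χ₀, hχ₀, hne₀⟩ (by
      rw [← eq_blockOf hb hθ₀]; exact hθ)

end Cfsg.Agent.S4432
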