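import Cfsg.Statements.S4437
import Cfsg.Agent.Blk.PairCriterion
import Cfsg.Agent.Blk.Pair.NormalP
import Cfsg.Agent.Blk.PiKer

set_option autoImplicit false
open Cfsg

namespace Cfsg.Agent.S4437
open scoped CfsgLib.Char ComplexConjugate


/-- Let P be a p-subgroup of the finite group G, H = P·C_G(P), and b a block of H (relative to a maximal ideal M of the algebraic integers containing p) having P as a defect group; let B be the block of G induced by b. Let T be the stabilizer of b in N_G(P): the elements g of N_G(P) such that the g-conjugate of every member of b is again a member of b. Then B has defect group P if and only if p does not divide the index of H in T. -/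
theorem result {G : Type*} [Group G] [Fintype G] (p : ℕ) [Fact p.Prime] (M : Ideal Cfsg.AlgInt) (hM : Cfsg.IsPModular p M) (P : Subgroup G) (hP : IsPGroup p P) (H : Subgroup G) [Fintype H] (hH : H = P ⊔ Subgroup.centralizer (P : Set G)) (b : Set (Cfsg.IrrCharacter H)) (hb : Cfsg.IsPBlock M b) (hbP : Cfsg.IsDefectGroup p M b (P.subgroupOf H)) (B : Set (Cfsg.IrrCharacter G)) (hind : Cfsg.IsInducedBlock M H b B) (T : Subgroup G) (hT : ∀ g : G, g ∈ T ↔ (g ∈ Subgroup.normalizer (P : Set G) ∧ ∀ θ ∈ b, ∀ θ' : Cfsg.IrrCharacter H, (∀ h h' : H, (h' : G) = g * h * g⁻¹ → (θ' : H → ℂ) h' = (θ : H → ℂ) h) → θ' ∈ b)) : Cfsg.IsDefectGroup p M B P ↔ ¬ p ∣ H.relIndex T := by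
  classical
  open CfsgLib.Blk CfsgLib.Blk.Pair CfsgLib.Char in
  · haveI := CfsgLib.Blk.IsPModular.isPrime hM
    have hp : p.Prime := Fact.out
    have hPH : P ≤ H := hH ▸ le_sup_left
    have hCH : Cn P ≤ H := hH ▸ le_sup_right
    set P' := P.subgroupOf H with hP'
    have hP'p : IsPGroup p P' := hP.of_equiv (Subgroup.subgroupOfEquivOfLe hPH).symm
    haveI hP'n : P'.Normal := by
      rw [hP']
      refine Subgroup.normal_subgroupOf_of_le_normalizer ?_
      rw [hH]
      exact le_normalizer_pc P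
    obtain ⟨e', he'⟩ := exists_pairOf_of_normal hM hP'p hb
    obtain ⟨f, hf, hsub⟩ := pairOf_induced hM hind hPH hCH he'
    have hmax' : Cfsg.IsMaximalBrauerPair p M b P' e' := maximal_of_card hM he' hbP le_rfl
    have hfd : Cfsg.IsDefectGroup p M f (P.subgroupOf (Cn P)) := by
      have h := isDefectGroup_mvSet (cnEquiv hCH hPH).symm (exists_canonical_of_maximal hM hmax').1
      rw [← hsub, mvSet_symm] at h
      convert h using 1
      ext x
      rw [Subgroup.mem_map_equiv]
      rfl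
    have hfix' : ∀ x : H, cjA x (idA M P' e') = idA M P' e' := by
      intro x
      obtain ⟨-, -, -, -, hfixQ, -⟩ := (isNormalSubpair_iff hM).1 (normalSubpair_self hM he'.1)
      have h := fix_sup hfixQ (fix_Cn_inA P' (isClassCoeff_bid hM he'.1.2))
      refine h x ?_
      have hx : (x : G) ∈ P ⊔ Cn P := hH ▸ x.2
      rw [← SetLike.mem_coe, Subgroup.coe_mul_of_left_le_normalizer_right P (Cn P) (Subgroup.le_normalizer.trans (normalizer_le_normalizer_Cn P))] at hx
      obtain ⟨q, hq, c, hc, hqc⟩ := Set.mem_mul.1 hx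
      rw [show x = (⟨q, hPH hq⟩ : H) * ⟨c, hCH hc⟩ from Subtype.ext hqc.symm]
      exact mul_mem (Subgroup.mem_sup_left hq) (Subgroup.mem_sup_right ((mem_Cn_subgroupOf hPH _).2 hc))
    have hkey : inA H (bid M b) = idA M P f := by
      refine MonoidAlgebra.coeff_injective (Finsupp.ext fun g => ?_)
      by_cases hg : g ∈ H
      · have h1 := blockCoeff_eq_trace hM he' ⊤ (fun x => iff_of_true (Subgroup.mem_top x) (hfix' x)) ⟨g, hg⟩
        have hbc : Cfsg.blockCoeff b ⟨g, hg⟩ = Cfsg.subgroupBlockCoeff (Cn P) f g := by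
          rw [h1, Finset.sum_congr rfl (g := fun _ => Cfsg.subgroupBlockCoeff (Cn P) f g), Finset.sum_const, Finset.card_univ, nsmul_eq_mul, ← Nat.card_eq_fintype_card, Nat.card_congr Subgroup.topEquiv.toEquiv, inv_mul_cancel_left₀ (natCard_ne_zero H)]
          intro x _
          have hx := congrArg (fun a => Cfsg.subgroupBlockCoeff (Cn P') e' a) (rfl : (x⁻¹ * (⟨g, hg⟩ : H) * x) = _)
          have hs : Cfsg.subgroupBlockCoeff (Cn P') e' (x⁻¹ * (⟨g, hg⟩ : H) * x) = Cfsg.subgroupBlockCoeff (Cn P') e' ⟨g, hg⟩ := by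
            have hK : ∀ y : H, y ∈ Cn P' ↔ x⁻¹ * y * x ∈ Cn P' := Cn_normal_conj hP'n x
            have h0 : mvSet (cjIso x hK) e' = e' := by
              refine bid_inj hM (isPBlock_mvSet _ he'.1.2) he'.1.2 (inA_injective _ ?_)
              rw [inA_bid_mvSet]
              exact hfix' x
            conv_rhs => rw [← h0]
            rw [subgroupBlockCoeff_mvSet x hK]
          rw [hs, ← hsub, subgroupBlockCoeff_subSet hCH hPH]
        have e1 := coeff_inA H (bid M b) ⟨g, hg⟩
        simp only at e1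
        rw [e1, coeff_bid, hbc, red_subgroupBlockCoeff]
      · rw [coeff_inA_of_notMem _ _ hg, idA, coeff_inA_of_notMem _ _ fun h => hg (hCH h)]
    have hNH : ∀ g, g ∈ Subgroup.normalizer (P : Set G) → g ∈ Subgroup.normalizer (H : Set G) := fun g hg => hH ▸ normalizer_le_normalizer_pc P hg
    have hTiff : ∀ g, g ∈ T ↔ g ∈ Subgroup.normalizer (P : Set G) ∧ cjA g (idA M P f) = idA M P f := by
      intro g
      rw [hT]
      refine and_congr_right fun hg => ?_
      rw [← hkey]
      have hKg := mem_normalizer_subgroup_iff.1 (hNH g hg)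
      refine Iff.trans ?_ ((stabilizesBlock_iff hM hb g).trans (and_iff_right (hNH g hg)))
      refine ⟨fun h => ⟨hNH g hg, fun θ hθ => ?_⟩, fun h θ hθ θ' hθ' => ?_⟩
      · have hc : Cfsg.IsConjCharOf H g (θ : H → ℂ) (mvChar (cjIso g hKg) θ : H → ℂ) := by
          intro k k' hkk
          rw [mvChar_apply]
          refine congrArg _ (Subtype.ext ?_)
          rw [coe_cjIso_symm, hkk]
          group
        exact ⟨_, h θ hθ _ (fun k k' hkk => hc k k' hkk), hc⟩
      · obtain ⟨χ', hχ', hc⟩ := h.2 θ hθ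
        convert hχ' using 1
        refine Subtype.ext (funext fun k => ?_)
        have hk2 : g⁻¹ * (k : G) * g ∈ H := (hKg k).1 k.2
        have e1 : (k : G) = g * ((⟨_, hk2⟩ : H) : G) * g⁻¹ := by simp only; group
        rw [hθ' ⟨_, hk2⟩ k e1, hc ⟨_, hk2⟩ k e1]
    have hHT : H ≤ T := by
      intro g hg
      rw [hTiff]
      refine ⟨(hH ▸ le_normalizer_pc P : H ≤ _) hg, ?_⟩
      rw [← hkey]
      refine fix_iff.2 (fun y hy z => ?_) g hg
      by_cases hz : z ∈ H
      · rw [coeff_inA H (bid M b) ⟨z, hz⟩]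
        have h1 := coeff_inA H (bid M b) (⟨y, hy⟩ * ⟨z, hz⟩ * (⟨y, hy⟩ : H)⁻¹)
        rw [isClassCoeff_bid hM hb ⟨z, hz⟩ ⟨y, hy⟩] at h1
        exact h1
      · rw [coeff_inA_of_notMem _ _ hz, coeff_inA_of_notMem]
        intro h
        exact hz (by simpa [mul_assoc] using mul_mem (mul_mem (inv_mem hy) h) hy)
    have hTN : T ≤ Subgroup.normalizer (H : Set G) := fun g hg => hNH g ((hTiff g).1 hg).1
    haveI : (H.subgroupOf T).Normal := Subgroup.normal_subgroupOf_of_le_normalizer hTN
    have hst : ∀ g : G, (g ∈ Subgroup.normalizer (P : Set G) ∧ Cfsg.StabilizesBlock (Cn P) f g) ↔ g ∈ T := by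
      intro g
      rw [hTiff, stabilizesBlock_iff hM hf.1.2]
      exact ⟨fun h => ⟨h.1, h.2.2⟩, fun h => ⟨h.1, normalizer_le_normalizer_Cn P h.1, h.2⟩⟩
    constructor
    · intro hPD hdvd
      have hmax : Cfsg.IsMaximalBrauerPair p M B P f := maximal_of_card hM hf hPD le_rfl
      obtain ⟨x, hx⟩ := exists_prime_orderOf_dvd_card' (G := T ⧸ H.subgroupOf T) p hdvd
      obtain ⟨t, rfl⟩ := QuotientGroup.mk_surjective x
      obtain ⟨y, hy⟩ := exists_isPPart hp (t : G)
      have hyT : y ∈ T := Subgroup.zpowers_le.2 t.2 (isPPart_mem_zpowers hp hy)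
      obtain ⟨s, hs, -, hye, hsr⟩ := hy
      have hyH : y ∈ H := by
        rw [hH]
        exact stabilizer_pElem_of_maximal hM hmax ((hst y).2 hyT).1 ((hst y).2 hyT).2 hye
      have hsT : s ∈ T := by rw [show s = y⁻¹ * (t : G) by rw [← hs, inv_mul_cancel_left]]; exact T.mul_mem (T.inv_mem hyT) t.2
      have e : ((t : T) : T ⧸ H.subgroupOf T) = ((⟨s, hsT⟩ : T) : T ⧸ H.subgroupOf T) := by
        rw [show t = ⟨y, hyT⟩ * ⟨s, hsT⟩ from Subtype.ext hs.symm, QuotientGroup.mk_mul, (QuotientGroup.eq_one_iff _).2 (Subgroup.mem_subgroupOf.2 hyH : (⟨y, hyT⟩ : T) ∈ H.subgroupOf T), one_mul]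
      rw [e] at hx
      have h := orderOf_map_dvd (QuotientGroup.mk' (H.subgroupOf T)) (⟨s, hsT⟩ : T)
      rw [QuotientGroup.mk'_apply, hx, Subgroup.orderOf_mk] at h
      exact hsr h
    · intro hndvd
      have hst' : ∀ g : G, g ∈ Subgroup.normalizer (P : Set G) → Cfsg.StabilizesBlock (Cn P) f g → (∃ k : ℕ, orderOf g = p ^ k) → g ∈ P ⊔ Cn P := by
        rintro g hgN hgs ⟨k, hk⟩
        rw [← hH]
        have hgT : g ∈ T := (hst g).1 ⟨hgN, hgs⟩
        have h1 : orderOf ((⟨g, hgT⟩ : T) : T ⧸ H.subgroupOf T) ∣ p ^ k := by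
          rw [← hk, ← Subgroup.orderOf_mk g hgT]
          exact orderOf_map_dvd (QuotientGroup.mk' _) _
        have h2 : orderOf ((⟨g, hgT⟩ : T) : T ⧸ H.subgroupOf T) ∣ H.relIndex T := orderOf_dvd_natCard _
        have h3 := Nat.eq_one_of_dvd_coprimes (Nat.Coprime.pow_left k (hp.coprime_iff_not_dvd.2 hndvd)) h1 h2
        exact Subgroup.mem_subgroupOf.1 ((QuotientGroup.eq_one_iff _).1 (orderOf_eq_one_iff.1 h3))
      obtain ⟨B', hmax⟩ := maximal_of_canonical hM hf.1 hfd hst'
      obtain rfl : B' = B := (existsUnique_block hM hf.1).unique hmax.1 hf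
      exact isDefectGroup_of_maximal hM hmax

end Cfsg.Agent.S4437
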