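import Cfsg.Statements.S4444
import Cfsg.Agent.Char.Glauberman

set_option autoImplicit false
open Cfsg

namespace Cfsg.Agent.S4444

/-- The Glauberman correspondence for a p-group of operators. Inside a finite group Γ let S normalise G with the orders of G and S coprime, S a p-group, and let C = G ⊓ C(S) be the fixed points. Call an irreducible character χ of G S-invariant when χ(s g s⁻¹) = χ(g) for s ∈ S, g ∈ G. Then: (i) for every S-invariant χ there is exactly one irreducible character β of C whose multiplicity [χ_C, β] in the restriction of χ is not divisible by p; (ii) that multiplicity is ≡ 1 or ≡ −1 (mod p); (iii) distinct S-invariant χ give distinct β; (iv) every irreducible character of C arises in this way. So χ ↦ β is a bijection from the S-invariant irreducible characters of G onto the irreducible characters of C. -/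
theorem result {Γ : Type*} [Group Γ] [Fintype Γ] (G S : Subgroup Γ) [Fintype G] (hnorm : ∀ s ∈ S, ∀ g ∈ G, s * g * s⁻¹ ∈ G) (hcop : (Nat.card G).Coprime (Nat.card S)) (p : ℕ) (hp : p.Prime) (hS : IsPGroup p S) (C : Subgroup Γ) [Fintype C] (hC : C = G ⊓ Subgroup.centralizer (S : Set Γ)) (hCG : C ≤ G) : (∀ χ : Cfsg.IrrCharacter G, (∀ s ∈ S, ∀ g g' : G, (g' : Γ) = s * g * s⁻¹ → (χ : G → ℂ) g' = (χ : G → ℂ) g) → ∃! β : Cfsg.IrrCharacter C, ∃ m : ℕ, Cfsg.classInner (fun c : C => (χ : G → ℂ) ⟨c, hCG c.2⟩) (β : C → ℂ) = (m : ℂ) ∧ ¬ p ∣ m) ∧ (∀ χ : Cfsg.IrrCharacter G, (∀ s ∈ S, ∀ g g' : G, (g' : Γ) = s * g * s⁻¹ → (χ : G → ℂ) g' = (χ : G → ℂ) g) → ∀ β : Cfsg.IrrCharacter C, ∀ m : ℕ, Cfsg.classInner (fun c : C => (χ : G → ℂ) ⟨c, hCG c.2⟩) (β : C → ℂ) = (m : ℂ) → ¬ p ∣ m → ((m : ℤ) ≡ 1 [ZMOD p] ∨ (m : ℤ) ≡ -1 [ZMOD p])) ∧ (∀ χ χ' : Cfsg.IrrCharacter G, (∀ s ∈ S, ∀ g g' : G, (g' : Γ) = s * g *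 s⁻¹ → (χ : G → ℂ) g' = (χ : G → ℂ) g) → (∀ s ∈ S, ∀ g g' : G, (g' : Γ) = s * g * s⁻¹ → (χ' : G → ℂ) g' = (χ' : G → ℂ) g) → ∀ β : Cfsg.IrrCharacter C, ∀ m m' : ℕ, Cfsg.classInner (fun c : C => (χ : G → ℂ) ⟨c, hCG c.2⟩) (β : C → ℂ) = (m : ℂ) → ¬ p ∣ m → Cfsg.classInner (fun c : C => (χ' : G → ℂ) ⟨c, hCG c.2⟩) (β : C → ℂ) = (m' : ℂ) → ¬ p ∣ m' → χ = χ') ∧ (∀ β : Cfsg.IrrCharacter C, ∃ χ : Cfsg.IrrCharacter G, (∀ s ∈ S, ∀ g g' : G, (g' : Γ) = s * g * s⁻¹ → (χ : G → ℂ) g' = (χ : G → ℂ) g) ∧ ∃ m : ℕ, Cfsg.classInner (fun c : C => (χ : G → ℂ) ⟨c, hCG c.2⟩) (β : C → ℂ) = (m : ℂ) ∧ ¬ p ∣ m) := by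
  classical
  haveI : Fact p.Prime := ⟨hp⟩
  letI act : MulDistribMulAction S G :=
    { smul := fun s g => ⟨(s : Γ) * g * (s : Γ)⁻¹, hnorm s s.2 g g.2⟩
      one_smul := fun g => Subtype.ext (by
        show ((1 : S) : Γ) * g * ((1 : S) : Γ)⁻¹ = g
        simp)
      mul_smul := fun a b g => Subtype.ext (by
        show ((a * b : S) : Γ) * g * ((a * b : S) : Γ)⁻¹ = a * ((b : Γ) * g * (b : Γ)⁻¹) * (a : Γ)⁻¹
        simp [mul_assoc])
      smul_mul := fun a g h => Subtype.ext (by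
        show (a : Γ) * ((g * h : G) : Γ) * (a : Γ)⁻¹ =
          (a : Γ) * g * (a : Γ)⁻¹ * ((a : Γ) * h * (a : Γ)⁻¹)
        simp [mul_assoc])
      smul_one := fun a => Subtype.ext (by
        show (a : Γ) * ((1 : G) : Γ) * (a : Γ)⁻¹ = ((1 : G) : Γ)
        simp) }
  have hsmul : ∀ (s : S) (g : G), ((s • g : G) : Γ) = (s : Γ) * g * (s : Γ)⁻¹ := fun s g => rfl
  let ι : C →* G := Subgroup.inclusion hCG
  have hι : CfsgLib.Char.IsFixedEmb S ι := by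
    refine ⟨Subgroup.inclusion_injective hCG, fun g => ⟨?_, fun h => ?_⟩⟩
    · rintro ⟨c, rfl⟩ a
      refine Subtype.ext ?_
      rw [hsmul]
      have hc : (c : Γ) ∈ Subgroup.centralizer (S : Set Γ) := (hC ▸ c.2 : (c : Γ) ∈ G ⊓ _).2
      show (a : Γ) * c * (a : Γ)⁻¹ = c
      rw [Subgroup.mem_centralizer_iff.mp hc a a.2, mul_inv_cancel_right]
    · refine ⟨⟨g, hC ▸ Subgroup.mem_inf.mpr ⟨g.2, Subgroup.mem_centralizer_iff.mpr fun s hs => ?_⟩⟩,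
        Subtype.ext rfl⟩
      have := congrArg Subtype.val (h ⟨s, hs⟩)
      rw [hsmul] at this
      exact mul_inv_eq_iff_eq_mul.mp this
  by_cases hpG : p ∣ Nat.card G
  · -- then the `p`-group of operators is trivial
    have hS1 : S = ⊥ := by
      obtain ⟨k, hk⟩ := IsPGroup.iff_card.mp hS
      rcases k.eq_zero_or_pos with rfl | hk0
      · exact Subgroup.card_eq_one.mp (by simpa using hk)
      · exfalso
        exact hp.not_dvd_one (hcop ▸ Nat.dvd_gcd hpG (hk ▸ dvd_pow_self p hk0.ne'))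
    have hCG' : C = G := by
      rw [hC, hS1]
      refine le_antisymm inf_le_left (le_inf le_rfl fun g _ => Subgroup.mem_centralizer_iff.mpr ?_)
      intro h hh
      rw [Subgroup.coe_bot, Set.mem_singleton_iff] at hh
      simp [hh]
    have htriv : ∀ χ : Cfsg.IrrCharacter G, ∀ s ∈ S, ∀ g g' : G, (g' : Γ) = s * g * s⁻¹ →
        (χ : G → ℂ) g' = (χ : G → ℂ) g := by
      intro χ s hs g g' h
      rw [hS1, Subgroup.mem_bot] at hs
      subst hs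
      rw [show g' = g from Subtype.ext (by simpa using h)]
    let e : C ≃* G := MulEquiv.subgroupCongr hCG'
    have hres : ∀ χ : G → ℂ, (fun c : C => χ ⟨c, hCG c.2⟩) = χ ∘ e := fun χ => rfl
    have hin : ∀ (χ : Cfsg.IrrCharacter G) (β : Cfsg.IrrCharacter C), Cfsg.classInner (fun c : C =>
        (χ : G → ℂ) ⟨c, hCG c.2⟩) (β : C → ℂ) = if (χ : G → ℂ) ∘ e = β then 1 else 0 := fun χ β => by
      rw [hres, CfsgLib.Char.irr_inner (CfsgLib.Char.irr_mulEquiv e χ.2) β.2]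
    have hmul : ∀ (χ : Cfsg.IrrCharacter G) (β : Cfsg.IrrCharacter C) (m : ℕ),
        Cfsg.classInner (fun c : C => (χ : G → ℂ) ⟨c, hCG c.2⟩) (β : C → ℂ) = (m : ℂ) → ¬ p ∣ m →
        (χ : G → ℂ) ∘ e = β ∧ m = 1 := by
      intro χ β m hm hmp
      rw [hin] at hm
      split_ifs at hm with h
      · exact ⟨h, by exact_mod_cast hm.symm⟩
      · rw [eq_comm, Nat.cast_eq_zero] at hm
        subst hm
        exact absurd (dvd_zero p) hmp
    refine ⟨fun χ _ => ?_, fun χ _ β m hm hmp => ?_, fun χ χ' _ _ β m m' hm hmp hm' hmp' => ?_,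
      fun β => ?_⟩
    · refine ⟨⟨_, CfsgLib.Char.irr_mulEquiv e χ.2⟩, ⟨1, ?_, hp.not_dvd_one⟩, fun β ⟨m, hm, hmp⟩ =>
        Subtype.ext (hmul χ β m hm hmp).1.symm⟩
      rw [hin, if_pos rfl, Nat.cast_one]
    · left; rw [(hmul χ β m hm hmp).2]; norm_num
    · refine Subtype.ext (funext fun g => ?_)
      have h1 := congrFun ((hmul χ β m hm hmp).1.trans (hmul χ' β m' hm' hmp').1.symm) (e.symm g)
      simpa using h1
    · refine ⟨⟨_, CfsgLib.Char.irr_mulEquiv e.symm β.2⟩, htriv _, 1, ?_, hp.not_dvd_one⟩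
      rw [hin, if_pos ?_, Nat.cast_one]
      funext c
      simp
  have hinv : ∀ χ : G → ℂ, (∀ s ∈ S, ∀ g g' : G, (g' : Γ) = s * g * s⁻¹ → χ g' = χ g) →
      CfsgLib.Char.IsInv S χ := fun χ h a g => h a a.2 g (a • g) (hsmul a g)
  refine ⟨fun χ hχ => ?_, fun χ hχ β m hm hmp => ?_, fun χ χ' hχ hχ' β m m' hm hmp hm' hmp' => ?_,
    fun β => ?_⟩
  · obtain ⟨β, hβ⟩ := CfsgLib.Char.glau_exists hS hpG hι χ.2 (hinv _ hχ)
    exact ⟨β, hβ, fun β' hβ' =>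
      Subtype.ext (CfsgLib.Char.glau_unique hS hpG hι χ.2 (hinv _ hχ) β'.2 β.2 hβ' hβ)⟩
  · exact CfsgLib.Char.glau_pm_one hS hpG hι χ.2 (hinv _ hχ) β.2 hm hmp
  · exact Subtype.ext (CfsgLib.Char.glau_inj hS hpG hι χ.2 χ'.2 (hinv _ hχ) (hinv _ hχ') β.2
      ⟨m, hm, hmp⟩ ⟨m', hm', hmp'⟩)
  · obtain ⟨χ, hχ, hglau⟩ := CfsgLib.Char.glau_surj hS hpG hι β.2
    refine ⟨χ, fun s hs g g' h => ?_, hglau⟩
    have : g' = (⟨s, hs⟩ : S) • g := Subtype.ext h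
    rw [this, hχ]

end Cfsg.Agent.S4444
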