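import Cfsg.Statements.S4445
import Cfsg.Agent.Char.GlauberApp

set_option autoImplicit false
open Cfsg

namespace Cfsg.Agent.S4445

/-- Inside a finite group Γ let the solvable subgroup S normalise G with the orders of G and S coprime. Then the number of S-invariant irreducible characters of G (χ(s g s⁻¹) = χ(g) for all s ∈ S, g ∈ G) equals the number of conjugacy classes of G mapped to themselves by conjugation by every element of S. -/
theorem result {Γ : Type*} [Group Γ] [Fintype Γ] (G S : Subgroup Γ) [Fintype G] (hnorm : ∀ s ∈ S, ∀ g ∈ G, s * g * s⁻¹ ∈ G) (hcop : (Nat.card G).Coprime (Nat.card S)) (hsolv : Group.IsSolvable S) : Nat.card {χ : Cfsg.IrrCharacter G // (∀ s ∈ S, ∀ g g' : G, (g' : Γ) = s * g * s⁻¹ → (χ : G → ℂ) g' = (χ : G → ℂ) g)} = Nat.card {K : ConjClasses G // ∀ s ∈ S, ∀ g g' : G, (g' : Γ) = s * g * s⁻¹ → ConjClasses.mk g = K → ConjClasses.mk g' = K} := by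
  haveI := hsolv
  obtain ⟨hs, hc⟩ := CfsgLib.Char.actHom_facts G S hnorm hcop
  obtain ⟨h1, h2⟩ := CfsgLib.Char.card_inv_irr_and_classes _ (CfsgLib.Char.actHom G S hnorm).range rfl hs hc
  have e1 : Nat.card {χ : Cfsg.IrrCharacter G // ∀ s ∈ S, ∀ g g' : G, (g' : Γ) = s * g * s⁻¹ →
      (χ : G → ℂ) g' = (χ : G → ℂ) g} =
      Nat.card {χ : Cfsg.IrrCharacter G //
        CfsgLib.Char.AutInv (CfsgLib.Char.actHom G S hnorm).range (χ : G → ℂ)} :=
    Nat.card_congr (Equiv.subtypeEquivRight fun χ => (CfsgLib.Char.autInv_actHom G S hnorm _).symm)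
  have e2 : Nat.card {K : ConjClasses G // ∀ s ∈ S, ∀ g g' : G, (g' : Γ) = s * g * s⁻¹ →
      ConjClasses.mk g = K → ConjClasses.mk g' = K} =
      Nat.card {K : ConjClasses G //
        CfsgLib.Char.ClassFixed (CfsgLib.Char.actHom G S hnorm).range K} :=
    Nat.card_congr (Equiv.subtypeEquivRight fun K => by
      constructor
      · rintro h _ ⟨s, rfl⟩ g hg
        exact h s s.2 g _ rfl hg
      · intro h s hs g g' he hg
        rw [show g' = CfsgLib.Char.actHom G S hnorm ⟨s, hs⟩ g from Subtype.ext he]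
        exact h _ ⟨⟨s, hs⟩, rfl⟩ g hg)
  rw [e1, e2, h1, h2]

end Cfsg.Agent.S4445
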