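import Cfsg.Statements.S4446
import Cfsg.Agent.Char.GlauberCyclic

set_option autoImplicit false
open Cfsg

namespace Cfsg.Agent.S4446

/-- Let the finite group Γ be generated by a normal subgroup G and a cyclic subgroup S of coprime orders, C = G ⊓ C(S), and let χ be an S-invariant irreducible character of G with canonical extension χ̂ to Γ (the extension whose determinantal order is coprime to the order of S). Then there are exactly one irreducible character β of C and one sign ε such that χ̂(c s) = ε β(c) for every c ∈ C and every generator s of S; this β is a constituent of the restriction of χ to C; distinct S-invariant χ give distinct β; and every irreducible character of C arises in this way. -/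
theorem result {Γ : Type*} [Group Γ] [Fintype Γ] (G S : Subgroup Γ) [Fintype G] (hnorm : ∀ s ∈ S, ∀ g ∈ G, s * g * s⁻¹ ∈ G) (hcop : (Nat.card G).Coprime (Nat.card S)) (htop : G ⊔ S = ⊤) (hcyc : IsCyclic S) (C : Subgroup Γ) [Fintype C] (hC : C = G ⊓ Subgroup.centralizer (S : Set Γ)) (hCG : C ≤ G) : (∀ (χ : Cfsg.IrrCharacter G) (χh : Cfsg.IrrCharacter Γ), (∀ s ∈ S, ∀ g g' : G, (g' : Γ) = s * g * s⁻¹ → (χ : G → ℂ) g' = (χ : G → ℂ) g) → (∀ g : G, (χh : Γ → ℂ) g = (χ : G → ℂ) g) → (Cfsg.detOrder (χh : Γ → ℂ)).Coprime (Nat.card S) → (∃! βε : Cfsg.IrrCharacter C × ℤ, (βε.2 = 1 ∨ βε.2 = -1) ∧ ∀ c : C, ∀ s : Γ, Subgroup.zpowers s = S → (χh : Γ → ℂ) ((c : Γ) * s) = (βε.2 : ℂ) * (βε.1 : C → ℂ) c) ∧ ∀ β : Cfsg.IrrCharacter C, ∀ ε : ℤ, (ε = 1 ∨ ε = -1) → (∀ c : C, ∀ s : Γ, Subgroup.zpowers s = S → (χh : Γ → ℂ) ((c : Γ) * s) = (ε : ℂ) * (β : C → ℂ) c) → Cfsg.classInner (fun c : C => (χ : G → ℂ) ⟨c, hCG c.2⟩)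 (β : C → ℂ) ≠ 0) ∧ (∀ (χ χ' : Cfsg.IrrCharacter G) (χh χh' : Cfsg.IrrCharacter Γ), (∀ s ∈ S, ∀ g g' : G, (g' : Γ) = s * g * s⁻¹ → (χ : G → ℂ) g' = (χ : G → ℂ) g) → (∀ s ∈ S, ∀ g g' : G, (g' : Γ) = s * g * s⁻¹ → (χ' : G → ℂ) g' = (χ' : G → ℂ) g) → (∀ g : G, (χh : Γ → ℂ) g = (χ : G → ℂ) g) → (∀ g : G, (χh' : Γ → ℂ) g = (χ' : G → ℂ) g) → (Cfsg.detOrder (χh : Γ → ℂ)).Coprime (Nat.card S) → (Cfsg.detOrder (χh' : Γ → ℂ)).Coprime (Nat.card S) → ∀ β : Cfsg.IrrCharacter C, ∀ ε ε' : ℤ, (ε = 1 ∨ ε = -1) → (ε' = 1 ∨ ε' = -1) → (∀ c : C, ∀ s : Γ, Subgroup.zpowers s = S → (χh : Γ → ℂ) ((c : Γ) * s) = (ε : ℂ) * (β : C → ℂ) c) → (∀ c : C, ∀ s : Γ, Subgroup.zpowers s = S → (χh' : Γ → ℂ) ((c : Γ) * s) = (ε' : ℂ) * (β : C → ℂ) c) → χ = χ') ∧ (∀ β : Cfsg.IrrCharacter C, ∃ (χ : Cfsg.IrrCharacter G) (χh : Cfsg.IrrCharacter Γ) (ε : ℤ), (∀ s ∈ S, ∀ g g' : G, (g' : Γ) = s * g * s⁻¹ → (χ : G → ℂ) g' = (χ : G → ℂ) g) ∧ (∀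 g : G, (χh : Γ → ℂ) g = (χ : G → ℂ) g) ∧ (Cfsg.detOrder (χh : Γ → ℂ)).Coprime (Nat.card S) ∧ (ε = 1 ∨ ε = -1) ∧ ∀ c : C, ∀ s : Γ, Subgroup.zpowers s = S → (χh : Γ → ℂ) ((c : Γ) * s) = (ε : ℂ) * (β : C → ℂ) c) := by
  classical
  obtain ⟨s, hS, hn, hact, hgen, hmem'⟩ := CfsgLib.Char.cyclic_setup G S hnorm hcop htop hcyc
  have hmem : ∀ c, c ∈ C ↔ c ∈ G ∧ c * s = s * c := fun c => by rw [hC]; exact hmem' c
  have hcanon : ∀ (χ : Cfsg.IrrCharacter G) (χh : Cfsg.IrrCharacter Γ),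
      (∀ g : G, (χh : Γ → ℂ) g = (χ : G → ℂ) g) →
      (Cfsg.detOrder (χh : Γ → ℂ)).Coprime (Nat.card S) →
      CfsgLib.Char.IsCanon G s (χh : Γ → ℂ) := fun χ χh h1 h2 =>
    ⟨χh.2, by rw [show (fun g : G => (χh : Γ → ℂ) g) = (χ : G → ℂ) from funext h1]; exact χ.2,
      by rw [hn]; exact h2⟩
  have hval : ∀ (χh : Γ → ℂ), CfsgLib.Char.IsCanon G s χh → ∀ (c : C) (s' : Γ),
      Subgroup.zpowers s' = S → χh ((c : Γ) * s') = χh ((c : Γ) * s) := fun χh hc c s' hs' => by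
    obtain ⟨j, hj, rfl⟩ := hgen s' hs'
    exact CfsgLib.Char.IsCanon.gen_indep hact hc ((hmem c).mp c.2).1 ((hmem c).mp c.2).2 hj
  have horth : ∀ (χ χ' : Γ → ℂ), CfsgLib.Char.IsCanon G s χ → CfsgLib.Char.IsCanon G s χ' →
      (fun g : G => χ g) ≠ (fun g : G => χ' g) →
      Cfsg.classInner (fun c : C => χ ((c : Γ) * s)) (fun c : C => χ' ((c : Γ) * s)) = 0 := by
    intro χ χ' h1 h2 hne
    have hs := hact.coset_sum C hmem (fun x => χ x * (starRingEnd ℂ) (χ' x))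
      (fun a b => by simp only [CfsgLib.Char.classFun_of_irr h1.1 a b, CfsgLib.Char.classFun_of_irr h2.1 a b])
    rw [CfsgLib.Char.IsCanon.coset_orth hact h1 h2, if_neg hne] at hs
    rcases mul_eq_zero.mp hs.symm with h0 | h0
    · exact absurd h0 (Nat.cast_ne_zero.mpr Subgroup.index_ne_zero_of_finite)
    · rw [CfsgLib.Char.classInner_def, h0, mul_zero]
  have hinj : ∀ (χ χ' : Cfsg.IrrCharacter G) (χh χh' : Cfsg.IrrCharacter Γ),
      (∀ g : G, (χh : Γ → ℂ) g = (χ : G → ℂ) g) → (∀ g : G, (χh' : Γ → ℂ) g = (χ' : G → ℂ) g) →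
      CfsgLib.Char.IsCanon G s (χh : Γ → ℂ) → CfsgLib.Char.IsCanon G s (χh' : Γ → ℂ) →
      ∀ (β : Cfsg.IrrCharacter C) (ε ε' : ℂ), ε ≠ 0 → ε' ≠ 0 →
      (fun c : C => (χh : Γ → ℂ) ((c : Γ) * s)) = ε • (β : C → ℂ) →
      (fun c : C => (χh' : Γ → ℂ) ((c : Γ) * s)) = ε' • (β : C → ℂ) → χ = χ' := by
    intro χ χ' χh χh' h1 h1' hc hc' β ε ε' he he' e e'
    by_contra hne
    have h := horth _ _ hc hc' fun hh => hne (Subtype.ext (funext fun g =>
      (h1 g).symm.trans ((congrFun hh g).trans (h1' g))))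
    rw [e, e', CfsgLib.Char.classInner_smul_left, CfsgLib.Char.classInner_smul_right,
      CfsgLib.Char.irr_inner_self β.2, mul_one] at h
    rcases mul_eq_zero.mp h with h0 | h0
    · exact he h0
    · exact he' ((map_eq_zero (starRingEnd ℂ)).mp h0)
  have hsign : ∀ ε : ℤ, (ε = 1 ∨ ε = -1) → (ε : ℂ) ≠ 0 := by
    rintro ε (rfl | rfl) <;> norm_num
  have hexists : ∀ χh : Γ → ℂ, CfsgLib.Char.IsCanon G s χh → ∃ β : Cfsg.IrrCharacter C, ∃ ε : ℤ,
      (ε = 1 ∨ ε = -1) ∧ ∀ c : C, ∀ s' : Γ, Subgroup.zpowers s' = S →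
        χh ((c : Γ) * s') = (ε : ℂ) * (β : C → ℂ) c := by
    intro χh hc
    obtain ⟨⟨β, ε, hε, he⟩, -⟩ := CfsgLib.Char.IsCanon.value_irr hact C hmem hc
    exact ⟨β, ε, hε, fun c s' hs' => (hval χh hc c s' hs').trans (congrFun he c)⟩
  refine ⟨fun χ χh hinv h1 h2 => ⟨?_, fun β ε hε hβ => ?_⟩,
    fun χ χ' χh χh' _ _ h1 h1' h2 h2' β ε ε' hε hε' hβ hβ' => ?_, ?_⟩
  · obtain ⟨β, ε, hε, hβ⟩ := hexists _ (hcanon χ χh h1 h2)
    refine ⟨(β, ε), ⟨hε, hβ⟩, ?_⟩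
    rintro ⟨β', ε'⟩ ⟨hε', hβ'⟩
    simp only at hε' hβ'
    have key : ∀ c : C, (ε' : ℂ) * (β' : C → ℂ) c = (ε : ℂ) * (β : C → ℂ) c := fun c =>
      (hβ' c s hS).symm.trans (hβ c s hS)
    obtain ⟨a, ha, ha1⟩ := CfsgLib.Char.irr_deg β.2
    obtain ⟨b, hb, hb1⟩ := CfsgLib.Char.irr_deg β'.2
    have h := key 1
    rw [ha1, hb1] at h
    have h' : ε' * (b : ℤ) = ε * (a : ℤ) := by exact_mod_cast h
    have he : ε' = ε := by rcases hε with rfl | rfl <;> rcases hε' with rfl | rfl <;> omega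
    subst he
    exact Prod.ext (Subtype.ext (funext fun c => mul_left_cancel₀ (hsign _ hε') (key c))) rfl
  · have hc := hcanon χ χh h1 h2
    obtain ⟨-, hcons⟩ := CfsgLib.Char.IsCanon.value_irr hact C hmem hc
    have h3 := hcons β (by
      rw [show (fun c : C => (χh : Γ → ℂ) ((c : Γ) * s)) = (ε : ℂ) • (β : C → ℂ) from
        funext fun c => hβ c s hS, CfsgLib.Char.classInner_smul_left,
        CfsgLib.Char.irr_inner_self β.2, mul_one]
      exact hsign ε hε)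
    rwa [show (fun c : C => (χ : G → ℂ) ⟨c, hCG c.2⟩) = fun c : C => (χh : Γ → ℂ) (c : Γ) from
      funext fun c => (h1 ⟨c, hCG c.2⟩).symm]
  · exact hinj χ χ' χh χh' h1 h1' (hcanon χ χh h1 h2) (hcanon χ' χh' h1' h2') β ε ε'
      (hsign ε hε) (hsign ε' hε') (funext fun c => hβ c s hS) (funext fun c => hβ' c s hS)
  · -- counting
    have hA : Subgroup.zpowers s = S := hS
    haveI := hcyc
    haveI : Group.IsSolvable S := isSolvable_of_comm fun a b => mul_comm' a b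
    obtain ⟨hs', hc'⟩ := CfsgLib.Char.actHom_facts G S hnorm hcop
    obtain ⟨hcount, -⟩ := CfsgLib.Char.card_inv_irr_and_classes _
      (CfsgLib.Char.actHom G S hnorm).range rfl hs' hc'
    let X := {χ : Cfsg.IrrCharacter G //
      CfsgLib.Char.AutInv (CfsgLib.Char.actHom G S hnorm).range (χ : G → ℂ)}
    have hX : ∀ x : X, ∃ χh : Γ → ℂ, CfsgLib.Char.IsCanon G s χh ∧ ∀ g : G, χh g = (x.1 : G → ℂ) g :=
      fun x => CfsgLib.Char.IsCanon.exists hact x.1.2 fun g g' he =>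
        (CfsgLib.Char.autInv_actHom G S hnorm _).mp x.2 s (hS ▸ Subgroup.mem_zpowers s) g g' he
    choose ext hext hres using hX
    choose bet sgn hsgn hbet using fun x : X => hexists (ext x) (hext x)
    have hbinj : Function.Injective bet := fun x y hxy => Subtype.ext (hinj x.1 y.1
      ⟨ext x, (hext x).1⟩ ⟨ext y, (hext y).1⟩ (hres x) (hres y) (hext x) (hext y) (bet x) (sgn x) (sgn y)
      (hsign _ (hsgn x)) (hsign _ (hsgn y)) (funext fun c => hbet x c s hS)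
      (by rw [hxy]; exact funext fun c => hbet y c s hS))
    have hCfix : Nat.card (Cfsg.IrrCharacter
        (CfsgLib.Char.fixedSub (CfsgLib.Char.actHom G S hnorm).range)) =
        Nat.card (Cfsg.IrrCharacter C) := by
      have hiff : ∀ g : G, g ∈ CfsgLib.Char.fixedSub (CfsgLib.Char.actHom G S hnorm).range ↔
          (g : Γ) ∈ C := by
        intro g
        constructor
        · intro h
          refine (hmem g).mpr ⟨g.2, ?_⟩
          have h1 : (s : Γ) * g * s⁻¹ = g :=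
            congrArg Subtype.val (h _ ⟨⟨s, hS ▸ Subgroup.mem_zpowers s⟩, rfl⟩)
          rw [mul_inv_eq_iff_eq_mul] at h1
          exact h1.symm
        · rintro h _ ⟨t, rfl⟩
          refine Subtype.ext ?_
          show (t : Γ) * g * (t : Γ)⁻¹ = g
          have h1 : (g : Γ) ∈ G ⊓ Subgroup.centralizer (S : Set Γ) := hC ▸ h
          rw [h1.2 t t.2, mul_inv_cancel_right]
      let e : CfsgLib.Char.fixedSub (CfsgLib.Char.actHom G S hnorm).range ≃* C :=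
        { toFun := fun x => ⟨(x.1 : Γ), (hiff x.1).mp x.2⟩
          invFun := fun c => ⟨⟨c, hCG c.2⟩, (hiff ⟨c, hCG c.2⟩).mpr c.2⟩
          left_inv := fun x => rfl
          right_inv := fun c => rfl
          map_mul' := fun a b => rfl }
      haveI := Fintype.ofFinite (CfsgLib.Char.fixedSub (CfsgLib.Char.actHom G S hnorm).range)
      exact Nat.card_congr
        { toFun := fun θ => ⟨θ.1 ∘ e.symm, CfsgLib.Char.irr_mulEquiv e.symm θ.2⟩
          invFun := fun β => ⟨β.1 ∘ e, CfsgLib.Char.irr_mulEquiv e β.2⟩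
          left_inv := fun θ => Subtype.ext (funext fun x =>
            congrArg θ.1 (e.symm_apply_apply x))
          right_inv := fun β => Subtype.ext (funext fun x =>
            congrArg β.1 (e.apply_symm_apply x)) }
    intro β
    obtain ⟨x, rfl⟩ := (Nat.bijective_iff_injective_and_card bet).mpr
      ⟨hbinj, hcount.trans hCfix⟩ |>.2 β
    exact ⟨x.1, ⟨ext x, (hext x).1⟩, sgn x, (CfsgLib.Char.autInv_actHom G S hnorm _).mp x.2,
      hres x, by rw [← hn]; exact (hext x).2.2, hsgn x, hbet x⟩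

end Cfsg.Agent.S4446
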