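import Cfsg.Statements.S4447
import Cfsg.Agent.Char.InvChain
import Cfsg.Agent.Char.DerivedQuot

set_option autoImplicit false
open Cfsg

namespace Cfsg.Agent.S4447

/-- Inside a finite group Γ let S normalise G and also normalise a normal subgroup N of G, with the order of S coprime to the index of N in G and S or G/N solvable. Then for every S-invariant irreducible character χ of G, the restriction of χ to N has an S-invariant irreducible constituent. -/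
theorem result {Γ : Type*} [Group Γ] [Fintype Γ] (G S N : Subgroup Γ) [Fintype G] [Fintype N] (hnorm : ∀ s ∈ S, ∀ g ∈ G, s * g * s⁻¹ ∈ G) (hNG : N ≤ G) [hNn : (N.subgroupOf G).Normal] (hNS : ∀ s ∈ S, ∀ n ∈ N, s * n * s⁻¹ ∈ N) (hcop : (N.relIndex G).Coprime (Nat.card S)) (hsolv : Group.IsSolvable S ∨ Group.IsSolvable (G ⧸ N.subgroupOf G)) (χ : Cfsg.IrrCharacter G) (hinv : (∀ s ∈ S, ∀ g g' : G, (g' : Γ) = s * g * s⁻¹ → (χ : G → ℂ) g' = (χ : G → ℂ) g)) : ∃ θ : Cfsg.IrrCharacter N, Cfsg.classInner (fun n : N => (χ : G → ℂ) ⟨n, hNG n.2⟩) (θ : N → ℂ) ≠ 0 ∧ (∀ s ∈ S, ∀ g g' : N, (g' : Γ) = s * g * s⁻¹ → (θ : N → ℂ) g' = (θ : N → ℂ) g) := by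
  classical
  haveI := hNn
  have hGN : ∀ g ∈ G, ∀ n ∈ N, g * n * g⁻¹ ∈ N := fun g hg n hn =>
    Subgroup.mem_subgroupOf.mp (hNn.conj_mem ⟨n, hNG hn⟩ (Subgroup.mem_subgroupOf.mpr hn) ⟨g, hg⟩)
  rcases hsolv with hS | hQ
  · haveI := hS
    haveI := Fintype.ofFinite (N.subgroupOf G)
    obtain ⟨θ', hθ', h1, h2⟩ := CfsgLib.Char.exists_inv_constituent_step
      (CfsgLib.Char.actHom G S hnorm) (N := N.subgroupOf G) (fun a n hn => hNS a a.2 _ hn) ⊥
      (fun b hb θ hθ n => congrArg θ (Subtype.ext (by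
        rw [Subgroup.mem_bot] at hb; simp [hb])))
      (Or.inr ⟨hS, hcop.symm⟩) χ.2 (fun a x => hinv a a.2 x _ rfl)
    let e : N.subgroupOf G ≃* N := Subgroup.subgroupOfEquivOfLe hNG
    refine ⟨⟨θ' ∘ e.symm, CfsgLib.Char.irr_mulEquiv e.symm hθ'⟩, ?_, fun s hs g g' he => ?_⟩
    · show Cfsg.classInner _ (θ' ∘ e.symm) ≠ 0
      rw [show (fun n : N => (χ : G → ℂ) ⟨n, hNG n.2⟩) =
        (fun n : N.subgroupOf G => (χ : G → ℂ) n) ∘ e.symm from rfl,
        CfsgLib.Char.classInner_mulEquiv]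
      exact h1
    · show θ' (e.symm g') = θ' (e.symm g)
      rw [← h2 ⟨s, hs⟩ (e.symm g)]
      exact congrArg θ' (Subtype.ext (Subtype.ext he))
  · obtain ⟨θ, hθ, h1, h2⟩ := CfsgLib.Char.exists_inv_down _ S ⊥ G N hNG rfl hnorm hNS hGN
      (CfsgLib.Char.exists_derived_le_of_solvable_quotient _ hQ) bot_le bot_le
      (by rw [Subgroup.relIndex_bot_left]; exact hcop.symm) χ χ.2 hinv
    refine ⟨⟨θ, hθ⟩, h1, fun s hs g g' he => ?_⟩
    rw [show g' = ⟨s * g * s⁻¹, hNS s hs g g.2⟩ from Subtype.ext he]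
    exact h2 s hs g

end Cfsg.Agent.S4447
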