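import Cfsg.Statements.S4449
import Cfsg.Agent.Char.GlauberApp

set_option autoImplicit false
open Cfsg

namespace Cfsg.Agent.S4449

/-- Inside a finite group Γ let the solvable subgroup S normalise G with the orders of G and S coprime, and let N be a normal subgroup of G normalised by S. Then for every S-invariant irreducible character ϑ of N, the induced character ϑ^G has an S-invariant irreducible constituent. -/
theorem result {Γ : Type*} [Group Γ] [Fintype Γ] (G S N : Subgroup Γ) [Fintype G] [Fintype N] (hnorm : ∀ s ∈ S, ∀ g ∈ G, s * g * s⁻¹ ∈ G) (hNG : N ≤ G) (hNnormal : ∀ g ∈ G, ∀ n ∈ N, g * n * g⁻¹ ∈ N) (hNS : ∀ s ∈ S, ∀ n ∈ N, s * n * s⁻¹ ∈ N) (hcop : (Nat.card G).Coprime (Nat.card S)) (hsolv : Group.IsSolvable S) (θ : Cfsg.IrrCharacter N) (hinv : (∀ s ∈ S, ∀ g g' : N, (g' : Γ) = s * g * s⁻¹ → (θ : N → ℂ) g' = (θ : N → ℂ) g)) : ∃ χ : Cfsg.IrrCharacter G, Cfsg.classInner (fun n :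 N => (χ : G → ℂ) ⟨n, hNG n.2⟩) (θ : N → ℂ) ≠ 0 ∧ (∀ s ∈ S, ∀ g g' : G, (g' : Γ) = s * g * s⁻¹ → (χ : G → ℂ) g' = (χ : G → ℂ) g) := by
  classical
  haveI := hsolv
  obtain ⟨hs, hc⟩ := CfsgLib.Char.actHom_facts G S hnorm hcop
  haveI : (N.subgroupOf G).Normal :=
    ⟨fun n hn g => Subgroup.mem_subgroupOf.mpr (hNnormal g g.2 n (Subgroup.mem_subgroupOf.mp hn))⟩
  haveI := Fintype.ofFinite (N.subgroupOf G)
  let e : N.subgroupOf G ≃* N := Subgroup.subgroupOfEquivOfLe hNG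
  obtain ⟨χ, hχ, hi, hover⟩ := CfsgLib.Char.exists_inv_over _ (CfsgLib.Char.actHom G S hnorm).range rfl
    hs hc (N.subgroupOf G) (by
      rintro _ ⟨s, rfl⟩ g hg
      exact hNS s s.2 _ hg) ((θ : N → ℂ) ∘ e) (CfsgLib.Char.irr_mulEquiv e θ.2) (by
      rintro _ ⟨s, rfl⟩ x h
      exact hinv s s.2 (e x) _ rfl)
  refine ⟨⟨χ, hχ⟩, fun h0 => hover ?_, (CfsgLib.Char.autInv_actHom G S hnorm χ).mp hi⟩
  have : (fun x : N.subgroupOf G => χ x) = (fun n : N => χ ⟨n, hNG n.2⟩) ∘ e := rfl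
  rw [this, CfsgLib.Char.classInner_mulEquiv]
  exact h0

end Cfsg.Agent.S4449
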