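import Cfsg.Statements.S4450
import Cfsg.Agent.Char.InvChain
import Cfsg.Agent.Char.DerivedQuot
import Cfsg.Agent.Char.InvTriple

set_option autoImplicit false
open Cfsg

namespace Cfsg.Agent.S4450

/-- Let N ≤ G be normal subgroups of the finite group Γ with the index of G in Γ coprime to the index of N in G, and Γ/G or G/N solvable. Then for every irreducible character ϑ of N invariant under conjugation by Γ, the induced character ϑ^G has an irreducible constituent invariant under conjugation by Γ. -/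
theorem result {Γ : Type*} [Group Γ] [Fintype Γ] (G N : Subgroup Γ) [hG : G.Normal] [hN : N.Normal] [Fintype G] [Fintype N] (hNG : N ≤ G) (hcop : (G.index).Coprime (N.relIndex G)) (hsolv : Group.IsSolvable (Γ ⧸ G) ∨ Group.IsSolvable (G ⧸ N.subgroupOf G)) (θ : Cfsg.IrrCharacter N) (hinv : ∀ (x : Γ) (n : N), (θ : N → ℂ) ⟨x * n * x⁻¹, hN.conj_mem n n.2 x⟩ = (θ : N → ℂ) n) : ∃ χ : Cfsg.IrrCharacter G, Cfsg.classInner (fun n : N => (χ : G → ℂ) ⟨n, hNG n.2⟩) (θ : N → ℂ) ≠ 0 ∧ ∀ (x : Γ) (g : G), (χ : G → ℂ) ⟨x * g * x⁻¹, hG.conj_mem g g.2 x⟩ = (χ : G → ℂ) g := by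
  classical
  have hinv' : ∀ x : Γ, CfsgLib.Char.conjN (θ : N → ℂ) x = (θ : N → ℂ) := fun x => funext (hinv x)
  rcases hsolv with hS | hQ
  · obtain ⟨χ, h1, h2, h3⟩ := CfsgLib.Char.exists_inv_over_triple G N hNG hcop hS θ.2 hinv'
    exact ⟨⟨χ, h1⟩, h2, h3⟩
  -- complement of `G/N` in `Γ/N`
  let mk := QuotientGroup.mk' N
  have hmk : Function.Surjective mk := QuotientGroup.mk'_surjective N
  haveI : (G.map mk).Normal := Subgroup.Normal.map hG mk hmk
  have hker : mk.ker ≤ G := by rw [QuotientGroup.ker_mk']; exact hNG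
  have hi : (G.map mk).index = G.index := Subgroup.index_map_eq G hmk hker
  have hc : Nat.card (G.map mk) = N.relIndex G := by
    have h1 := (G.map mk).card_mul_index
    rw [hi, ← Subgroup.index_eq_card, ← Subgroup.relIndex_mul_index hNG] at h1
    exact Nat.eq_of_mul_eq_mul_right (Nat.pos_of_ne_zero Subgroup.index_ne_zero_of_finite) h1
  obtain ⟨H', hH'⟩ := Subgroup.exists_right_complement'_of_coprime (N := G.map mk) (by
    rw [hi, hc]; exact hcop.symm)
  let H := H'.comap mk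
  have hNH : N ≤ H := fun n hn => by
    show mk n ∈ H'
    rw [show mk n = 1 from (QuotientGroup.eq_one_iff n).mpr hn]
    exact one_mem _
  have hrel : N.relIndex H = G.index := by
    have h1 : Nat.card H' = G.index := by rw [← hH'.symm.index_eq_card, hi]
    have h2 := H'.card_mul_index
    rw [← Subgroup.index_eq_card N, ← Subgroup.relIndex_mul_index hNH,
      show H.index = H'.index from Subgroup.index_comap_of_surjective H' hmk] at h2
    rw [← h1]
    exact (Nat.eq_of_mul_eq_mul_right (Nat.pos_of_ne_zero Subgroup.index_ne_zero_of_finite) h2).symm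
  obtain ⟨χ, hχ, h1, h2⟩ := CfsgLib.Char.exists_inv_up _ H N G N hNG rfl
    (fun a _ g hg => hG.conj_mem g hg a) (fun a _ n hn => hN.conj_mem n hn a)
    (fun g _ n hn => hN.conj_mem n hn g)
    (CfsgLib.Char.exists_derived_le_of_solvable_quotient _ hQ) hNH le_rfl
    (by rw [hrel]; exact hcop) θ θ.2 (fun a _ n => hinv a n)
  refine ⟨⟨χ, hχ⟩, h1, fun x g => ?_⟩
  obtain ⟨⟨a, h⟩, hah, -⟩ := Subgroup.isComplement_iff_existsUnique.mp hH' (mk x)
  obtain ⟨g₀, hg₀, hga⟩ := a.2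
  have hx : g₀⁻¹ * x ∈ H := by
    show mk (g₀⁻¹ * x) ∈ H'
    rw [map_mul, map_inv, hga, ← hah, inv_mul_cancel_left]
    exact h.2
  have e1 := h2 _ hx g ⟨(g₀⁻¹ * x) * g * (g₀⁻¹ * x)⁻¹, hG.conj_mem g g.2 _⟩ rfl
  have e2 := CfsgLib.Char.classFun_of_irr hχ ⟨(g₀⁻¹ * x) * g * (g₀⁻¹ * x)⁻¹, hG.conj_mem g g.2 _⟩
    ⟨g₀, hg₀⟩
  show χ _ = χ g
  rw [← e1, ← e2]
  refine congrArg χ (Subtype.ext ?_)
  simp only [Subgroup.coe_mul, Subgroup.coe_inv]
  group

end Cfsg.Agent.S4450
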