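import Cfsg.Statements.S4452
import Cfsg.Agent.Char.GlauberApp

set_option autoImplicit false
open Cfsg

namespace Cfsg.Agent.S4452

/-- Let the finite group G be the product of a normal subgroup K and a solvable subgroup H of coprime orders, and let N = N_G(H). Then the number of irreducible characters of G of degree coprime to the order of H equals the number of irreducible characters of N of degree coprime to the order of H. (The two sets are in fact in a canonical bijection; only the equality of their sizes is stated here.) -/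
theorem result {G : Type*} [Group G] [Finite G] (K H : Subgroup G) [K.Normal] (hKH : K ⊔ H = ⊤) (hcop : (Nat.card K).Coprime (Nat.card H)) (hsolv : Group.IsSolvable H) : Nat.card {χ : Cfsg.IrrCharacter G // (Cfsg.charDegree (χ : G → ℂ)).Coprime (Nat.card H)} = Nat.card {η : Cfsg.IrrCharacter (Subgroup.normalizer (H : Set G)) // (Cfsg.charDegree (η : Subgroup.normalizer (H : Set G) → ℂ)).Coprime (Nat.card H)} := by
  classical
  haveI := Fintype.ofFinite G
  haveI := Fintype.ofFinite K
  set M := Subgroup.normalizer (H : Set G) with hM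
  haveI := Fintype.ofFinite M
  let C := K.subgroupOf M
  haveI := Fintype.ofFinite C
  have hHM : H ≤ M := Subgroup.le_normalizer
  let H' := H.subgroupOf M
  have hHcard : Nat.card H' = Nat.card H :=
    Nat.card_congr (Subgroup.subgroupOfEquivOfLe hHM).toEquiv
  have hCcop : (Nat.card C).Coprime (Nat.card H') := by
    rw [hHcard]
    exact hcop.of_dvd_left (Subgroup.card_comap_dvd_of_injective K M.subtype M.subtype_injective)
  have hCH : C ⊔ H' = ⊤ := by
    refine top_le_iff.mp fun m _ => ?_
    obtain ⟨k, hk, h, hh, hm⟩ := Subgroup.mem_sup_of_normal_left.mp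
      (hKH ▸ Subgroup.mem_top (m : G) : (m : G) ∈ K ⊔ H)
    have hkM : k ∈ M := by
      have : k = (m : G) * h⁻¹ := by rw [← hm, mul_inv_cancel_right]
      rw [this]
      exact M.mul_mem m.2 (M.inv_mem (hHM hh))
    have : m = (⟨k, hkM⟩ : M) * ⟨h, hHM hh⟩ := Subtype.ext hm.symm
    rw [this]
    exact Subgroup.mul_mem_sup hk hh
  rw [← hHcard]
  conv_lhs => rw [hHcard]
  rw [CfsgLib.Char.card_coprime_degree hKH hcop, CfsgLib.Char.card_coprime_degree hCH hCcop,
    Nat.card_prod, Nat.card_prod]
  -- elements of `C` commute with `H`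
  have hcomm : ∀ c : M, c ∈ C → ∀ h ∈ H, h * (c : G) = c * h := by
    intro c hc h hh
    have h1 : (c : G) * h * (c : G)⁻¹ * h⁻¹ ∈ K ⊓ H := by
      refine ⟨?_, H.mul_mem ((Subgroup.mem_normalizer_iff.mp c.2 h).mp hh) (H.inv_mem hh)⟩
      rw [mul_assoc (c : G), mul_assoc]
      exact K.mul_mem hc (‹K.Normal›.conj_mem _ (K.inv_mem hc) h)
    rw [Subgroup.inf_eq_bot_of_coprime hcop, Subgroup.mem_bot] at h1
    rw [mul_inv_eq_one, mul_inv_eq_iff_eq_mul] at h1
    exact h1.symm
  have hnorm : ∀ s ∈ H, ∀ g ∈ K, s * g * s⁻¹ ∈ K := fun s _ g hg => ‹K.Normal›.conj_mem g hg s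
  haveI := hsolv
  obtain ⟨hs, hc⟩ := CfsgLib.Char.actHom_facts K H hnorm hcop
  obtain ⟨h1, -⟩ := CfsgLib.Char.card_inv_irr_and_classes _ (CfsgLib.Char.actHom K H hnorm).range rfl hs hc
  congr 1
  · have e1 : Nat.card {θ : Cfsg.IrrCharacter K // ∀ g : G, CfsgLib.Char.conjN (θ : K → ℂ) g = θ} =
        Nat.card {θ : Cfsg.IrrCharacter K //
          CfsgLib.Char.AutInv (CfsgLib.Char.actHom K H hnorm).range (θ : K → ℂ)} := by
      refine Nat.card_congr (Equiv.subtypeEquivRight fun θ => ⟨?_, fun h g => ?_⟩)
      · rintro h _ ⟨s, rfl⟩ k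
        exact congrFun (h s) k
      · obtain ⟨k, hk, x, hx, rfl⟩ := Subgroup.mem_sup_of_normal_left.mp
          (hKH ▸ Subgroup.mem_top g : g ∈ K ⊔ H)
        rw [← CfsgLib.Char.conjN_mul, CfsgLib.Char.conjN_of_mem (CfsgLib.Char.classFun_of_irr θ.2) hk]
        exact funext fun n => h _ ⟨⟨x, hx⟩, rfl⟩ n
    have e2 : Nat.card {θ : Cfsg.IrrCharacter C // ∀ g : M, CfsgLib.Char.conjN (θ : C → ℂ) g = θ} =
        Nat.card (Cfsg.IrrCharacter C) := by
      refine Nat.card_congr (Equiv.subtypeUnivEquiv fun θ g => ?_)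
      obtain ⟨c, hc, x, hx, rfl⟩ := Subgroup.mem_sup_of_normal_left.mp
        (hCH ▸ Subgroup.mem_top g : g ∈ C ⊔ H')
      rw [← CfsgLib.Char.conjN_mul, CfsgLib.Char.conjN_of_mem (CfsgLib.Char.classFun_of_irr θ.2) hc]
      funext n
      show (θ : C → ℂ) _ = (θ : C → ℂ) n
      refine congrArg (θ : C → ℂ) (Subtype.ext (Subtype.ext ?_))
      show (x : G) * ((n : M) : G) * (x : G)⁻¹ = ((n : M) : G)
      rw [hcomm n n.2 x hx, mul_inv_cancel_right]
    let eC : C ≃* CfsgLib.Char.fixedSub (CfsgLib.Char.actHom K H hnorm).range :=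
      { toFun := fun c => ⟨⟨((c : M) : G), c.2⟩, by
          rintro _ ⟨s, rfl⟩
          refine Subtype.ext ?_
          show (s : G) * ((c : M) : G) * (s : G)⁻¹ = _
          rw [hcomm c c.2 s s.2, mul_inv_cancel_right]⟩
        invFun := fun k => ⟨⟨((k : K) : G), Subgroup.mem_normalizer_iff.mpr fun z => by
          have hk : ∀ s : H, (s : G) * ((k : K) : G) = ((k : K) : G) * (s : G) := fun s =>
            mul_inv_eq_iff_eq_mul.mp (congrArg Subtype.val (k.2 _ ⟨s, rfl⟩))
          constructor
          · intro hz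
            rw [← hk ⟨z, hz⟩, mul_inv_cancel_right]
            exact hz
          · intro hz
            have h3 := hk ⟨_, hz⟩
            simp only [mul_assoc, inv_mul_cancel, mul_one] at h3
            have h4 : ((k : K) : G) * z * ((k : K) : G)⁻¹ = z := by
              rw [mul_assoc]; exact mul_left_cancel h3.symm
            rwa [h4] at hz⟩, (k : K).2⟩
        left_inv := fun c => rfl
        right_inv := fun k => rfl
        map_mul' := fun a b => rfl }
    rw [e1, h1, e2]
    exact Nat.card_congr
      { toFun := fun χ => ⟨_, CfsgLib.Char.irr_mulEquiv eC χ.2⟩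
        invFun := fun χ => ⟨_, CfsgLib.Char.irr_mulEquiv eC.symm χ.2⟩
        left_inv := fun χ => Subtype.ext (funext fun x => by simp)
        right_inv := fun χ => Subtype.ext (funext fun x => by simp) }
  · let eH : H' ≃* H := Subgroup.subgroupOfEquivOfLe hHM
    exact Nat.card_congr
      { toFun := fun L => L.comp eH.toMonoidHom
        invFun := fun L => L.comp eH.symm.toMonoidHom
        left_inv := fun L => MonoidHom.ext fun x => by simp
        right_inv := fun L => MonoidHom.ext fun x => by simp }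

end Cfsg.Agent.S4452
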