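import Cfsg.Statements.S4553
import Cfsg.Agent.Blk.ThompsonPrincipal
import Cfsg.Agent.Char.GaloisTwist
import Cfsg.Agent.Char.Gallagher
import Cfsg.Agent.Blk.Cover
import Cfsg.Agent.Blk.Pair.PIndex

set_option autoImplicit false
open Cfsg

namespace Cfsg.Agent.S4553
open CfsgLib.Char
open scoped CfsgLib.Char

theorem detOrder_coprime {G : Type*} [Group G] [Finite G] {p : ℕ} [Fact p.Prime] {N : Subgroup G}
    [N.Normal] (hN : Cfsg.pResidual p G = N) (θ : Cfsg.IrrCharacter N) :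
    ¬ p ∣ Cfsg.detOrder (θ : N → ℂ) := by
  intro hh
  have hp : p.Prime := Fact.out
  haveI := Fintype.ofFinite N
  obtain ⟨D, hD⟩ := detChar_exists_hom (isCharacter_of_isIrr θ.2)
  rw [Cfsg.detOrder, hD, orderOf_coe_linear] at hh
  obtain ⟨m, hm⟩ := hh
  have hDo : orderOf D ≠ 0 := by
    refine (orderOf_pos_iff.2 ?_).ne'
    refine isOfFinOrder_iff_pow_eq_one.2 ⟨Nat.card N, Nat.card_pos, MonoidHom.ext fun n => ?_⟩
    rw [MonoidHom.pow_apply, ← map_pow, pow_card_eq_one', map_one, MonoidHom.one_apply]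
  have hDn : ∀ n, D n ^ orderOf D = 1 := fun n => by
    rw [← MonoidHom.pow_apply]
    exact (congrArg (fun f : N →* ℂˣ => f n) (pow_orderOf_eq_one D)).trans rfl
  have h1 := CfsgLib.Blk.eq_one_of_pPower hN ((powMonoidHom m).comp D) (a := 1) fun n => by
    rw [pow_one, MonoidHom.comp_apply, powMonoidHom_apply, ← pow_mul, mul_comm, ← hm, hDn]
  have hm0 : 0 < m := Nat.pos_of_ne_zero fun e => hDo (by rw [hm, e, mul_zero])
  have hle := Nat.le_of_dvd hm0 (orderOf_dvd_of_pow_eq_one (x := D)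
    (MonoidHom.ext fun n => by
      have h2 := congrArg (fun f : N →* ℂˣ => f n) h1
      simpa using h2))
  rw [hm] at hle
  nlinarith [hp.two_le]

theorem principal_below {G : Type*} [Group G] [Fintype G] {p : ℕ} [Fact p.Prime]
    {M : Ideal Cfsg.AlgInt} [M.IsPrime] (hM : Cfsg.IsPModular p M) (N : Subgroup G) [N.Normal]
    [Fintype N] {χ : Cfsg.IrrCharacter G} (hχ : χ ∈ Cfsg.principalBlock M G)
    {φ : Cfsg.IrrCharacter N}
    (hφ : Cfsg.classInner (fun n : N => (χ : G → ℂ) n) (φ : N → ℂ) ≠ 0) :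
    φ ∈ Cfsg.principalBlock M N := by
  classical
  have hc : Cfsg.IsPBlock M (Cfsg.principalBlock M N) := CfsgLib.Blk.isPBlock_principalBlock
  have h := fun n => CfsgLib.Blk.red_centralChar_eq (M := M) (χ := ⟨_, isIrr_one⟩) (ψ := χ) hχ
    (θ := (⟨_, isIrr_one⟩ : Cfsg.IrrCharacter N)) (θ' := ⟨_, isIrr_one⟩)
    (CfsgLib.Blk.sameBlock_refl _) (by
      show classInner (fun _ : N => (1 : ℂ)) (fun _ : N => (1 : ℂ)) ≠ 0
      rw [irr_inner_self isIrr_one]; exact one_ne_zero) n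
  obtain ⟨θ', hθ', g, e⟩ := CfsgLib.Blk.covered_conj hM hc CfsgLib.Blk.one_mem_principalBlock h hφ
  have h1 := (CfsgLib.Blk.Pair.sameBlock_mvChar (φ := (MulAut.conjNormal g : MulAut N).symm)
    (χ := (⟨_, isIrr_one⟩ : Cfsg.IrrCharacter N)) (ψ := θ')).2 hθ'
  show Cfsg.SameBlock M (fun _ : N => (1 : ℂ)) (φ : N → ℂ)
  rw [e, conjN_eq_comp]
  exact h1


/-- Let G be a finite group, p a prime, P a Sylow p-subgroup, N the p-residual of G (the subgroup generated by the elements of order prime to p, the smallest normal subgroup with G/N a p-group), and M a maximal ideal of the algebraic integers containing p; suppose G/N is cyclic and nontrivial. Let k be a natural number with g ^ k = g ^ (1 + p) for every p-element g and g ^ k = g for every element g of order prime to p (so that χ (g ^ k) is the image of χ g under the field automorphism that raises p-power roots of unity to the power 1 + p and fixes the roots of unity of order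 prime to p). Then the number of members χ of the principal block of G of degree prime to p with χ (g ^ k) = χ g for all g equals p times the number of members θ of the principal block of N of degree prime to p that are invariant under conjugation by P and satisfy θ (n ^ k) = θ n for all n. -/
theorem result {G : Type*} [Group G] [Finite G] (p : ℕ) [Fact p.Prime] (M : Ideal Cfsg.AlgInt) (hM : Cfsg.IsPModular p M) (P : Sylow p G) (N : Subgroup G) [hN : N.Normal] (hNres : N = Cfsg.pResidual p G) (hcyc : IsCyclic (G ⧸ N)) (hnt : N ≠ ⊤) (k : ℕ) (hk₁ : ∀ g : G, (∃ j : ℕ, orderOf g = p ^ j) → g ^ k = g ^ (1 + p)) (hk₂ : ∀ g : G, Nat.Coprime (orderOf g) p → g ^ k = g) : Nat.card {χ : Cfsg.IrrCharacter G // χ ∈ Cfsg.principalBlock M G ∧ ¬ p ∣ Cfsg.charDegree (χ : G → ℂ) ∧ ∀ g : G, (χ : G → ℂ) (g ^ k) = (χ : G → ℂ) g} = p * Nat.card {θ : Cfsg.IrrCharacter ↥N // θ ∈ Cfsg.principalBlock M ↥N ∧ ¬ p ∣ Cfsg.charDegree (θ : ↥N → ℂ) ∧ (∀ x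 ∈ (P : Subgroup G), ∀ n : ↥N, (θ : ↥N → ℂ) ⟨x * n * x⁻¹, hN.conj_mem n n.2 x⟩ = (θ : ↥N → ℂ) n) ∧ ∀ n : ↥N, (θ : ↥N → ℂ) (n ^ k) = (θ : ↥N → ℂ) n} := by
  classical
  haveI : M.IsPrime := hM.2.1.isPrime
  haveI := Fintype.ofFinite G
  haveI := Fintype.ofFinite N
  have hp : p.Prime := Fact.out
  have hres := hNres.symm
  obtain ⟨m, hidx⟩ : ∃ m, N.index = p ^ m := hres ▸ CfsgLib.Solv.exists_index_pResidual
  have hm1 : 1 ≤ m := by
    rcases Nat.eq_zero_or_pos m with rfl | h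
    · exact absurd (Subgroup.index_eq_one.1 (by simpa using hidx)) hnt
    · exact h
  have hcopN : ∀ n : ℕ, ¬ p ∣ n → Nat.Coprime N.index n := fun n hn =>
    hidx ▸ Nat.Coprime.pow_left m (hp.coprime_iff_not_dvd.2 hn)
  have hpreg : ∀ g : G, ¬ p ∣ orderOf g → Nat.Coprime (orderOf g) p := fun g hg =>
    (hp.coprime_iff_not_dvd.2 hg).symm
  have hcop : k.Coprime (Nat.card G) := by
    refine Nat.coprime_of_dvd fun r hr hrk hrG => ?_
    haveI := Fact.mk hr
    obtain ⟨g, hg⟩ := exists_prime_orderOf_dvd_card' r hrG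
    have h1 : g ^ k = 1 := orderOf_dvd_iff_pow_eq_one.1 (hg ▸ hrk)
    by_cases hrp : r = p
    · subst hrp
      rw [hk₁ g ⟨1, by rw [hg, pow_one]⟩, ← orderOf_dvd_iff_pow_eq_one, hg] at h1
      exact hr.not_dvd_one ((Nat.dvd_add_left dvd_rfl).1 h1)
    · rw [hk₂ g (hg ▸ (Nat.coprime_primes hr hp).2 hrp)] at h1
      rw [h1, orderOf_one] at hg
      exact hr.ne_one hg.symm
  letI : CommGroup (G ⧸ N) := hcyc.commGroup
  set π := QuotientGroup.mk' N
  have hπk : ∀ g : G, (π g) ^ k = (π g) ^ (1 + p) := by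
    intro g
    obtain ⟨x, y, hxy, hc, hx, hy⟩ := CfsgLib.Blk.exists_isPPart hp g
    have hyN : y ∈ N := hres ▸ Subgroup.subset_closure (hpreg y hy)
    have e : π g = π x := by
      rw [← hxy, map_mul, show π y = 1 from (QuotientGroup.eq_one_iff y).2 hyN, mul_one]
    rw [e, ← map_pow, hk₁ x hx, map_pow]
  -- the canonical extension
  have hext : ∀ θ : {θ : Cfsg.IrrCharacter ↥N // θ ∈ Cfsg.principalBlock M ↥N ∧
      ¬ p ∣ Cfsg.charDegree (θ : ↥N → ℂ) ∧ (∀ x ∈ (P : Subgroup G), ∀ n : ↥N,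
        (θ : ↥N → ℂ) ⟨x * n * x⁻¹, hN.conj_mem n n.2 x⟩ = (θ : ↥N → ℂ) n) ∧
      ∀ n : ↥N, (θ : ↥N → ℂ) (n ^ k) = (θ : ↥N → ℂ) n},
      ∃ χ : G → ℂ, Cfsg.IsIrrCharacter G χ ∧ (∀ n : N, χ n = (θ.1 : N → ℂ) n) ∧
        ∀ g, χ (g ^ k) = χ g := by
    rintro ⟨θ, -, hd, hP, hfix⟩
    have htop : inertia (θ : N → ℂ) = ⊤ := by
      rw [eq_top_iff, ← CfsgLib.Solv.sylow_sup_pResidual P, hres]
      exact sup_le (fun q hq => mem_inertia.2 (funext fun n => hP q hq n))
        (le_inertia (classFun_of_irr θ.2))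
    have hinv : ∀ g, conjN (θ : N → ℂ) g = (θ : N → ℂ) := fun g =>
      mem_inertia.1 (htop ▸ Subgroup.mem_top g)
    have hdet := detOrder_coprime hres θ
    obtain ⟨χ, ⟨hχ, hχN, hχd⟩, huniq⟩ := exists_canonical_extension θ.2 hinv (irr_one_eq θ.2)
      (hcopN _ fun h => (hp.dvd_mul.1 h).elim hdet hd)
    refine ⟨χ, hχ, hχN, fun g => congrFun (huniq _ (irr_pow hcop hχ) (fun n => ?_) ?_) g⟩
    · show χ (((n : G)) ^ k) = _
      rw [← Subgroup.coe_pow, hχN]
      exact hfix n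
    · obtain ⟨D, hD⟩ := detChar_exists_hom (isCharacter_of_isIrr hχ)
      obtain ⟨D', hD'⟩ := detChar_exists_hom (isCharacter_of_isIrr (irr_pow hcop hχ))
      have hDD : D' = D ^ k := MonoidHom.ext fun g => Units.ext (by
        rw [← congrFun hD' g, detChar_pow hcop hχ g, congrFun hD g, MonoidHom.pow_apply,
          Units.val_pow_eq_pow_val])
      refine (hcopN _ hdet).coprime_dvd_right ?_
      rw [← hχd, Cfsg.detOrder, Cfsg.detOrder, hD, hD', orderOf_coe_linear, orderOf_coe_linear,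
        hDD]
      exact orderOf_pow_dvd _
  choose χ₀ hχ₀ hχ₀N hχ₀k using hext
  -- the linear characters of exponent `p`
  let L := ↥(MonoidHom.ker (G := (G ⧸ N) →* ℂˣ) (powMonoidHom p))
  have hL : Nat.card L = p := by
    obtain ⟨e⟩ := CommGroup.monoidHom_mulEquiv_of_hasEnoughRootsOfUnity (G := G ⧸ N) ℂ
    haveI : Finite ((G ⧸ N) →* ℂˣ) := Finite.of_equiv _ e.symm.toEquiv
    haveI : IsCyclic ((G ⧸ N) →* ℂˣ) := isCyclic_of_surjective e.symm e.symm.surjective
    show Nat.card ↥(MonoidHom.ker (G := (G ⧸ N) →* ℂˣ) (powMonoidHom p)) = p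
    refine (IsCyclic.card_powMonoidHom_ker (G := (G ⧸ N) →* ℂˣ) p).trans ?_
    rw [Nat.card_congr e.toEquiv, ← Subgroup.index_eq_card, hidx]
    exact Nat.gcd_eq_right (dvd_pow_self p (by omega))
  conv_rhs => rw [mul_comm]
  refine Eq.trans ?_ (congrArg (_ * ·) hL)
  rw [← Nat.card_prod]
  symm
  have hlamk : ∀ (l : L) (g : G), (l.1 (π (g ^ k)) : ℂ) = (l.1 (π g) : ℂ) := by
    intro l g
    rw [map_pow, hπk, map_pow, pow_add, pow_one,
      show l.1 (π g) ^ p = 1 from congrArg (fun f : (G ⧸ N) →* ℂˣ => f (π g)) (MonoidHom.mem_ker.1 l.2),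
      mul_one]
  have hone : ∀ (l : (G ⧸ N) →* ℂˣ) (n : N), (l (π (n : G)) : ℂ) = 1 := fun l n => by
    rw [show π (n : G) = 1 from (QuotientGroup.eq_one_iff _).2 n.2, map_one, Units.val_one]
  have hset : ∀ l : (G ⧸ N) →* ℂˣ, (fun g => (l (π g) : ℂ)) ∈
      {β : G → ℂ | Cfsg.IsIrrCharacter G β ∧ ∀ n : N, β n = β 1} := fun l =>
    ⟨isIrr_linear (l.comp π), fun n => by
      show (l (π (n : G)) : ℂ) = (l (π 1) : ℂ)
      rw [hone l n, map_one, map_one, Units.val_one]⟩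
  refine Nat.card_congr (Equiv.ofBijective (fun x => ⟨⟨fun g => χ₀ x.1 g * (x.2.1 (π g) : ℂ),
    irr_mul_linear (hχ₀ x.1) (x.2.1.comp π)⟩, ?_, ?_, ?_⟩) ⟨?_, ?_⟩)
  · refine CfsgLib.Blk.mem_principal_of_constituent hM N ⟨m, hidx⟩ x.1.2.1 ?_
    show Cfsg.classInner (fun n : N => χ₀ x.1 n * (x.2.1 (π (n : G)) : ℂ)) (x.1.1 : N → ℂ) ≠ 0
    simp only [hone, mul_one, hχ₀N, irr_inner_self x.1.1.2]
    exact one_ne_zero
  · have e : Cfsg.charDegree (fun g => χ₀ x.1 g * (x.2.1 (π g) : ℂ)) =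
        Cfsg.charDegree (x.1.1 : N → ℂ) := by
      have h1 : χ₀ x.1 1 = (x.1.1 : N → ℂ) 1 := by rw [← hχ₀N x.1 1]; rfl
      simp only [Cfsg.charDegree, h1, map_one, Units.val_one, mul_one]
    exact fun h => x.1.2.2.1 (e ▸ h)
  · intro g
    show χ₀ x.1 (g ^ k) * (x.2.1 (π (g ^ k)) : ℂ) = χ₀ x.1 g * (x.2.1 (π g) : ℂ)
    rw [hχ₀k, hlamk]
  · intro a b hab
    have h := congrArg (fun z => (z.1 : G → ℂ)) hab
    have hθ : a.1 = b.1 := Subtype.ext (Subtype.ext (funext fun n => by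
      have := congrFun h (n : G)
      simp only [hone, mul_one, hχ₀N] at this
      exact this))
    obtain ⟨θ, la⟩ := a
    obtain ⟨θ', lb⟩ := b
    simp only at hθ
    subst hθ
    have h2 := (gallagher θ.1.2 (isCharacter_of_isIrr (hχ₀ θ)) (hχ₀N θ)).injOn
      (hset la.1) (hset lb.1) (funext fun g => by
        have := congrFun h g
        simp only [Pi.mul_apply] at this ⊢
        rw [mul_comm, this, mul_comm])
    refine Prod.ext rfl (Subtype.ext (MonoidHom.ext fun q => Units.ext ?_))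
    obtain ⟨g, rfl⟩ := QuotientGroup.mk'_surjective N q
    exact congrFun h2 g
  · rintro ⟨χ, hχB, hχd, hχk⟩
    obtain ⟨φ, hφ, hφc⟩ := exists_constituent_res (N := N) χ.2
    obtain ⟨e, he, hedvd⟩ := degree_quotient χ.2 hφ hφc
    have hdeq : Cfsg.charDegree (χ : G → ℂ) = e * Cfsg.charDegree φ := by
      rw [irr_one_eq χ.2, irr_one_eq hφ] at he
      exact_mod_cast he
    have he1 : e = 1 := by
      obtain ⟨j, -, rfl⟩ := (Nat.dvd_prime_pow hp).1 (hidx ▸ hedvd)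
      rcases Nat.eq_zero_or_pos j with rfl | hj
      · simp
      · exact absurd (hdeq ▸ (dvd_pow_self p hj.ne').mul_right _) hχd
    have hresφ : ∀ n : N, (χ : G → ℂ) n = φ n := by
      have hsub := isCharacter_sub_constituent
        (isCharacter_restrict N (isCharacter_of_isIrr χ.2)) hφ hφc
      have h0 := (char_eq_zero_iff hsub).1 (by
        rw [Pi.sub_apply, sub_eq_zero]
        show (χ : G → ℂ) 1 = φ 1
        rw [he, he1, Nat.cast_one, one_mul])
      exact fun n => sub_eq_zero.1 (congrFun h0 n)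
    have hφd : ¬ p ∣ Cfsg.charDegree φ := by rw [hdeq, he1, one_mul] at hχd; exact hχd
    let θ : {θ : Cfsg.IrrCharacter ↥N // θ ∈ Cfsg.principalBlock M ↥N ∧
        ¬ p ∣ Cfsg.charDegree (θ : ↥N → ℂ) ∧ (∀ x ∈ (P : Subgroup G), ∀ n : ↥N,
          (θ : ↥N → ℂ) ⟨x * n * x⁻¹, hN.conj_mem n n.2 x⟩ = (θ : ↥N → ℂ) n) ∧
        ∀ n : ↥N, (θ : ↥N → ℂ) (n ^ k) = (θ : ↥N → ℂ) n} :=
      ⟨⟨φ, hφ⟩, principal_below hM N hχB hφc, hφd, fun x _ n => by
        show φ _ = φ n
        rw [← hresφ, ← hresφ]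
        exact classFun_of_irr χ.2 _ _, fun n => by
        show φ (n ^ k) = φ n
        rw [← hresφ, ← hresφ, Subgroup.coe_pow, hχk]⟩
    have hbij := gallagher θ.1.2 (isCharacter_of_isIrr (hχ₀ θ)) (hχ₀N θ)
    obtain ⟨β, hβ, hβeq⟩ := hbij.surjOn (show (χ : G → ℂ) ∈ _ from ⟨χ.2, hφc⟩)
    simp only at hβeq
    have hβ1 : β 1 = 1 := by
      have h1 := congrFun hβeq 1
      rw [Pi.mul_apply, show χ₀ θ 1 = φ 1 from hχ₀N θ 1, show (χ : G → ℂ) 1 = φ 1 from hresφ 1] at h1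
      exact mul_eq_right₀ (irr_one_ne_zero hφ) |>.1 h1
    obtain ⟨B, hB⟩ := exists_hom_of_degree_one (isCharacter_of_isIrr hβ.1) hβ1
    have hBN : N ≤ B.ker := fun n hn => MonoidHom.mem_ker.2 (Units.ext (by
      rw [← congrFun hB n, hβ.2 ⟨n, hn⟩, hβ1, Units.val_one]))
    set l : (G ⧸ N) →* ℂˣ := QuotientGroup.lift N B hBN
    have hlB : ∀ g, (l (π g) : ℂ) = β g := fun g => by
      rw [show l (π g) = B g from QuotientGroup.lift_mk' _ hBN g, congrFun hB g]
    have hlp : l ∈ (MonoidHom.ker (G := (G ⧸ N) →* ℂˣ) (powMonoidHom p)) := by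
      have h2 := hbij.injOn (hset (l ^ (1 + p))) (hset l) (funext fun g => by
        show ((l ^ (1 + p)) (π g) : ℂ) * χ₀ θ g = (l (π g) : ℂ) * χ₀ θ g
        rw [hlB, MonoidHom.pow_apply, ← map_pow, ← hπk, ← map_pow, hlB, ← hχ₀k θ g]
        have ha := congrFun hβeq (g ^ k)
        have hb := congrFun hβeq g
        rw [hχk g, ← hb] at ha
        simp only [Pi.mul_apply] at ha
        rw [hχ₀k] at ha ⊢
        exact ha)
      refine MonoidHom.mem_ker.2 (MonoidHom.ext fun q => Units.ext ?_)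
      obtain ⟨g, rfl⟩ := QuotientGroup.mk'_surjective N q
      have h3 : ((l ^ (1 + p)) (π g) : ℂ) = (l (π g) : ℂ) := congrFun h2 g
      rw [MonoidHom.pow_apply, Units.val_pow_eq_pow_val, pow_add, pow_one] at h3
      rw [powMonoidHom_apply, MonoidHom.pow_apply, Units.val_pow_eq_pow_val]
      exact mul_eq_left₀ (l (π g)).ne_zero |>.1 h3
    refine ⟨⟨θ, ⟨l, hlp⟩⟩, Subtype.ext (Subtype.ext (funext fun g => ?_))⟩
    show χ₀ θ g * (l (π g) : ℂ) = (χ : G → ℂ) g
    rw [hlB, mul_comm]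
    exact congrFun hβeq g

end Cfsg.Agent.S4553
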