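import Cfsg.Statements.S4455
import Cfsg.Agent.S4553
import Cfsg.Agent.Char.Classes
import Cfsg.Agent.Blk.GAlg

set_option autoImplicit false
open Cfsg

namespace Cfsg.Agent.S4455
open CfsgLib.Char
open scoped CfsgLib.Char

theorem degree_eq {G : Type*} [Group G] [Fintype G] {p : ℕ} [Fact p.Prime] {N : Subgroup G} [N.Normal]
    [Fintype N] (hidx : ∃ m, N.index = p ^ m) (χ : Cfsg.IrrCharacter G)
    (hχd : ¬ p ∣ Cfsg.charDegree (χ : G → ℂ)) : ∃ θ : Cfsg.IrrCharacter N,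
      ∀ n : N, (χ : G → ℂ) n = (θ : N → ℂ) n := by
  have hp : p.Prime := Fact.out
  obtain ⟨m, hm⟩ := hidx
  obtain ⟨φ, hφ, hφc⟩ := exists_constituent_res (N := N) χ.2
  obtain ⟨e, he, hedvd⟩ := degree_quotient χ.2 hφ hφc
  have hdeq : Cfsg.charDegree (χ : G → ℂ) = e * Cfsg.charDegree φ := by
    rw [irr_one_eq χ.2, irr_one_eq hφ] at he
    exact_mod_cast he
  have he1 : e = 1 := by
    obtain ⟨j, -, rfl⟩ := (Nat.dvd_prime_pow hp).1 (hm ▸ hedvd)
    rcases Nat.eq_zero_or_pos j with rfl | hj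
    · simp
    · exact absurd (hdeq ▸ (dvd_pow_self p hj.ne').mul_right _) hχd
  refine ⟨⟨φ, hφ⟩, fun n => ?_⟩
  have hsub := isCharacter_sub_constituent
    (isCharacter_restrict N (isCharacter_of_isIrr χ.2)) hφ hφc
  have h0 := (char_eq_zero_iff hsub).1 (by
    rw [Pi.sub_apply, sub_eq_zero]
    show (χ : G → ℂ) 1 = φ 1
    rw [he, he1, Nat.cast_one, one_mul])
  exact sub_eq_zero.1 (congrFun h0 n)


/-- Fix a prime p and a finite group G. Let s be the sum of χ(1)² over the irreducible characters χ of G whose degree is not divisible by p and whose determinantal order o(χ) is not divisible by p. Then the order of O^p(G), the subgroup generated by the elements of order prime to p, is congruent to s modulo p. -/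
theorem result {G : Type*} [Group G] [Finite G] (p : ℕ) (hp : p.Prime) : (Nat.card (Cfsg.pResidual p G) : ℤ) ≡ (∑ᶠ χ ∈ {χ : Cfsg.IrrCharacter G | ¬ p ∣ Cfsg.charDegree (χ : G → ℂ) ∧ ¬ p ∣ Cfsg.detOrder (χ : G → ℂ)}, (Cfsg.charDegree (χ : G → ℂ) : ℤ) ^ 2) [ZMOD p] := by
  classical
  haveI := Fact.mk hp
  haveI := Fintype.ofFinite G
  obtain ⟨N, hNdef⟩ : ∃ N, Cfsg.pResidual p G = N := ⟨_, rfl⟩
  rw [hNdef]
  haveI : N.Normal := hNdef ▸ CfsgLib.Inv.pResidual_normal p G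
  haveI := Fintype.ofFinite N
  have hidx : ∃ k, N.index = p ^ k := hNdef ▸ CfsgLib.Solv.exists_index_pResidual
  have hcopN : ∀ n : ℕ, ¬ p ∣ n → Nat.Coprime N.index n := fun n hn => by
    obtain ⟨k, hk⟩ := hidx
    exact hk ▸ Nat.Coprime.pow_left k (hp.coprime_iff_not_dvd.2 hn)
  obtain ⟨P⟩ : Nonempty (Sylow p G) := inferInstance
  letI : MulAction (P : Subgroup G) (Cfsg.IrrCharacter N) :=
    { smul := fun q θ => ⟨conjN (θ : N → ℂ) (q : G)⁻¹, irr_conjN θ.2 _⟩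
      one_smul := fun θ => Subtype.ext (by
        show conjN (θ : N → ℂ) ((1 : (P : Subgroup G)) : G)⁻¹ = _
        rw [Subgroup.coe_one, inv_one, conjN_one])
      mul_smul := fun q r θ => Subtype.ext (by
        show conjN (θ : N → ℂ) ((q * r : (P : Subgroup G)) : G)⁻¹ =
          conjN (conjN (θ : N → ℂ) (r : G)⁻¹) (q : G)⁻¹
        rw [conjN_mul, Subgroup.coe_mul, mul_inv_rev]) }
  have hinv : ∀ θ : Cfsg.IrrCharacter N,
      θ ∈ MulAction.fixedPoints (P : Subgroup G) (Cfsg.IrrCharacter N) →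
      ∀ g, conjN (θ : N → ℂ) g = (θ : N → ℂ) := by
    intro θ hθ g
    have htop : inertia (θ : N → ℂ) = ⊤ := by
      rw [eq_top_iff, ← CfsgLib.Solv.sylow_sup_pResidual P, hNdef]
      refine sup_le (fun q hq => ?_) (le_inertia (classFun_of_irr θ.2))
      have h1 := congrArg Subtype.val (hθ (⟨q, hq⟩⁻¹))
      change conjN (θ : N → ℂ) ((q⁻¹)⁻¹) = _ at h1
      rwa [inv_inv] at h1
    exact mem_inertia.1 (htop ▸ Subgroup.mem_top g)
  let T : Finset (Cfsg.IrrCharacter N) := Finset.univ.filter fun θ =>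
    θ ∈ MulAction.fixedPoints (P : Subgroup G) (Cfsg.IrrCharacter N) ∧
      ¬ p ∣ Cfsg.charDegree (θ : N → ℂ)
  let S : Finset (Cfsg.IrrCharacter G) := Finset.univ.filter fun χ =>
    ¬ p ∣ Cfsg.charDegree (χ : G → ℂ) ∧ ¬ p ∣ Cfsg.detOrder (χ : G → ℂ)
  have hST : (∑ χ ∈ S, (Cfsg.charDegree (χ : G → ℂ) : ZMod p) ^ 2) =
      ∑ θ ∈ T, (Cfsg.charDegree (θ : N → ℂ) : ZMod p) ^ 2 := by
    have hS : ∀ χ ∈ S, ∃ θ ∈ T, ∀ n : N, (χ : G → ℂ) n = (θ : N → ℂ) n := by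
      intro χ hχ
      obtain ⟨-, hd, -⟩ := Finset.mem_filter.1 hχ
      obtain ⟨θ, hθ⟩ := degree_eq hidx χ hd
      refine ⟨θ, Finset.mem_filter.2 ⟨Finset.mem_univ _, fun q => Subtype.ext ?_, ?_⟩, hθ⟩
      · show conjN (θ : N → ℂ) (q : G)⁻¹ = (θ : N → ℂ)
        rw [← funext hθ]
        exact conjN_restrict (classFun_of_irr χ.2) _
      · simpa [Cfsg.charDegree, ← hθ] using hd
    choose f hfT hf using hS
    refine Finset.sum_bij f hfT ?_ ?_ ?_
    · intro χ hχ χ' hχ' h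
      obtain ⟨-, hd, ho⟩ := Finset.mem_filter.1 hχ
      obtain ⟨-, hd', ho'⟩ := Finset.mem_filter.1 hχ'
      obtain ⟨-, hfix, hdθ⟩ := Finset.mem_filter.1 (hfT χ hχ)
      obtain ⟨χ₀, -, huniq⟩ := exists_canonical_extension (f χ hχ).2 (hinv _ hfix)
        (irr_one_eq (f χ hχ).2) (hcopN _ fun hh => (hp.dvd_mul.1 hh).elim
          (Cfsg.Agent.S4553.detOrder_coprime hNdef (f χ hχ)) hdθ)
      exact Subtype.ext ((huniq _ χ.2 (hf χ hχ) (hcopN _ ho)).trans
        (huniq _ χ'.2 (fun n => h ▸ hf χ' hχ' n) (hcopN _ ho')).symm)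
    · intro θ hθ
      obtain ⟨-, hfix, hdθ⟩ := Finset.mem_filter.1 hθ
      have hdet := Cfsg.Agent.S4553.detOrder_coprime hNdef θ
      obtain ⟨χ, ⟨hχ, hχN, hχd⟩, -⟩ := exists_canonical_extension θ.2 (hinv _ hfix)
        (irr_one_eq θ.2) (hcopN _ fun hh => (hp.dvd_mul.1 hh).elim hdet hdθ)
      have hmem : (⟨χ, hχ⟩ : Cfsg.IrrCharacter G) ∈ S :=
        Finset.mem_filter.2 ⟨Finset.mem_univ _,
          by simpa [Cfsg.charDegree, ← hχN] using hdθ, by rw [hχd]; exact hdet⟩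
      exact ⟨⟨χ, hχ⟩, hmem, Subtype.ext (funext fun n => by rw [← hf _ hmem n]; exact hχN n)⟩
    · intro χ hχ
      simp [Cfsg.charDegree, ← hf χ hχ]
  have hN : (Nat.card N : ZMod p) = ∑ θ ∈ T, (Cfsg.charDegree (θ : N → ℂ) : ZMod p) ^ 2 := by
    have h1 : Nat.card N = ∑ θ : Cfsg.IrrCharacter N, Cfsg.charDegree (θ : N → ℂ) ^ 2 := by
      have h := sum_degree_sq (G := N)
      simp only [irr_one_eq (Subtype.prop _)] at h
      have h' : ((Nat.card N : ℕ) : ℂ) =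
          ((∑ θ : Cfsg.IrrCharacter N, Cfsg.charDegree (θ : N → ℂ) ^ 2 : ℕ) : ℂ) := by
        push_cast
        rw [← h]
        all_goals exact Finset.sum_congr rfl fun θ _ => by ring
      exact_mod_cast h'
    rw [h1]
    push_cast
    rw [CfsgLib.Blk.sum_eq_sum_fixedPoints P.2
      (fun θ : Cfsg.IrrCharacter N => (Cfsg.charDegree (θ : N → ℂ) : ZMod p) ^ 2) fun q θ => by
        show (Cfsg.charDegree (conjN (θ : N → ℂ) (q : G)⁻¹) : ZMod p) ^ 2 = _
        simp [Cfsg.charDegree, conjN_eq_comp]]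
    symm
    refine Finset.sum_subset (fun θ hθ => Finset.mem_filter.2
      ⟨Finset.mem_univ _, (Finset.mem_filter.1 hθ).2.1⟩) fun θ hθ hθT => ?_
    have : p ∣ Cfsg.charDegree (θ : N → ℂ) := by
      by_contra h
      exact hθT (Finset.mem_filter.2 ⟨Finset.mem_univ _, (Finset.mem_filter.1 hθ).2, h⟩)
    rw [(CharP.cast_eq_zero_iff (ZMod p) p _).2 this, zero_pow (by norm_num)]
  rw [← ZMod.intCast_eq_intCast_iff, Int.cast_natCast, hN, ← hST,
    finsum_mem_eq_finite_toFinset_sum _ (Set.toFinite _), Int.cast_sum]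
  refine Finset.sum_congr (by ext χ; simp [S]) fun χ _ => ?_
  push_cast
  rfl

end Cfsg.Agent.S4455
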