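import Cfsg.Statements.S4461
import Cfsg.Agent.Char.NormalSum
import Cfsg.Agent.Char.Clifford
import Cfsg.Agent.Solv.MinimalNormal

set_option autoImplicit false
open Cfsg

namespace Cfsg.Agent.S4461

open scoped ComplexConjugate
open scoped CfsgLib.Char

universe u

section
variable {G : Type u} [Group G] [Fintype G]

theorem irr_restrict_of_sup {χ : G → ℂ} (hχ : IsIrrCharacter G χ) (N M : Subgroup G) [N.Normal]
    (hN : ∀ k ∈ N, χ k = χ 1) (hsup : N ⊔ M = ⊤) : IsIrrCharacter M (fun m : M => χ m) := by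
  haveI := Fintype.ofFinite M
  haveI := Fintype.ofFinite (G ⧸ N)
  obtain ⟨χ', hχ', hc⟩ := CfsgLib.Char.irr_descend (QuotientGroup.mk' N)
    (QuotientGroup.mk'_surjective N) hχ (fun k hk => hN k ((QuotientGroup.eq_one_iff k).1 hk))
  have hs : Function.Surjective ((QuotientGroup.mk' N).comp M.subtype) := by
    intro y
    obtain ⟨g, rfl⟩ := QuotientGroup.mk'_surjective N y
    obtain ⟨a, ha, b, hb, rfl⟩ := Subgroup.mem_sup_of_normal_left.1
      (hsup ▸ Subgroup.mem_top g)
    refine ⟨⟨b, hb⟩, ?_⟩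
    show QuotientGroup.mk' N b = _
    rw [map_mul, show QuotientGroup.mk' N a = 1 from (QuotientGroup.eq_one_iff a).2 ha, one_mul]
  have h := CfsgLib.Char.irr_comp _ hs hχ'
  rw [show (fun m : M => χ m) = χ' ∘ ((QuotientGroup.mk' N).comp M.subtype) from
    funext fun m => (congrFun hc (m : G)).symm]
  exact h

theorem key {χ : G → ℂ} (hχ : IsIrrCharacter G χ) (K : Subgroup G) [K.Normal]
    (hK : ∀ g : G, g ∈ K ↔ χ g = χ 1) (M : Subgroup G) (hM : IsCoatom M) (hKM : ¬ K ≤ M)
    (m : G) (hm : m ∈ M) (hm0 : χ m ≠ 0) (g0 : G) (hg0 : g0⁻¹ * m * g0 ∉ M) :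
    ∃ ψ : IrrCharacter G, charDegree χ < charDegree (ψ : G → ℂ) ∧
      ∃ L : Subgroup G, (∀ g : G, g ∈ L ↔ (ψ : G → ℂ) g = (ψ : G → ℂ) 1) ∧ L < K := by
  classical
  haveI := Fintype.ofFinite M
  have hsupM : ∀ N : Subgroup G, ¬ N ≤ M → N ⊔ M = ⊤ := fun N hN =>
    hM.2 _ (lt_of_le_not_ge le_sup_right fun h => hN (le_sup_left.trans h))
  set θ : M → ℂ := fun x => χ x with hθdef
  have hθ : IsIrrCharacter M θ :=
    irr_restrict_of_sup hχ K M (fun k hk => (hK k).1 hk) (hsupM K hKM)
  have hIc := CfsgLib.Char.isCharacter_indFun M (CfsgLib.Char.isCharacter_of_isIrr hθ)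
  set I := indFun M θ with hIdef
  by_contra hcon
  have hall : ∀ ψ : IrrCharacter G, classInner I (ψ : G → ℂ) ≠ 0 →
      (fun x : M => (ψ : G → ℂ) x) = θ := by
    intro ψ hψ
    have h1 : classInner (fun x : M => (ψ : G → ℂ) x) θ ≠ 0 := by
      rw [hIdef, CfsgLib.Char.frobenius M θ (CfsgLib.Char.classFun_of_irr ψ.2)] at hψ
      intro e
      apply hψ
      rw [← CfsgLib.Char.classInner_conj, e, map_zero]
    have hrest := CfsgLib.Char.isCharacter_sub_constituent
      (CfsgLib.Char.isCharacter_restrict M (CfsgLib.Char.isCharacter_of_isIrr ψ.2)) hθ h1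
    obtain ⟨r, hr⟩ := CfsgLib.Char.charDegree_aux hrest
    have hdeg : (ψ : G → ℂ) 1 = χ 1 + r := by
      rw [← hr]; simp [hθdef]
    by_cases hr0 : r = 0
    · have := (CfsgLib.Char.char_eq_zero_iff hrest).1 (by rw [hr, hr0, Nat.cast_zero])
      exact sub_eq_zero.1 this
    · exfalso
      obtain ⟨L, hLn, hL, -⟩ :=
        CfsgLib.Char.exists_kernel (CfsgLib.Char.isCharacter_of_isIrr ψ.2)
      haveI := hLn
      have hdψ : charDegree (ψ : G → ℂ) = charDegree χ + r := CfsgLib.Char.charDegree_eq (by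
        rw [hdeg, CfsgLib.Char.irr_one_eq hχ]; push_cast; rfl)
      by_cases hLM : L ≤ M
      · refine hcon ⟨ψ, by omega, L, hL, lt_of_le_not_ge (fun x hx => (hK x).2 ?_)
          fun h => hKM (h.trans hLM)⟩
        have hx1 := (hL x).1 hx
        have hb1 := CfsgLib.Char.char_norm_le (CfsgLib.Char.isCharacter_of_isIrr hχ) x
        have hb2 := CfsgLib.Char.char_norm_le hrest ⟨x, hLM hx⟩
        rw [CfsgLib.Char.charDegree_eq hr] at hb2
        set z := ((fun y : M => (ψ : G → ℂ) y) - θ) ⟨x, hLM hx⟩ with hz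
        have hsum : χ x + z = χ 1 + r := by
          rw [← hdeg, ← hx1, hz]; simp [hθdef]
        have hre := congrArg Complex.re hsum
        rw [CfsgLib.Char.irr_one_eq hχ] at hre ⊢
        simp only [Complex.add_re, Complex.natCast_re] at hre
        have h3 := Complex.re_le_norm (χ x)
        have h4 := Complex.re_le_norm z
        have h5 : (χ x).re = charDegree χ := by linarith
        refine Complex.ext (by simpa using h5) ?_
        have h6 := Complex.sq_norm (χ x)
        rw [Complex.normSq_apply, h5] at h6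
        have h7 : ‖χ x‖ ^ 2 ≤ (charDegree χ : ℝ) ^ 2 :=
          pow_le_pow_left₀ (norm_nonneg _) hb1 2
        simp only [Complex.natCast_im]
        nlinarith
      · have hi := irr_restrict_of_sup ψ.2 L M (fun k hk => (hL k).1 hk) (hsupM L hLM)
        rw [CfsgLib.Char.irr_inner hi hθ] at h1
        have he : (fun x : M => (ψ : G → ℂ) x) = θ := by
          by_contra hne; exact h1 (if_neg hne)
        have := congrFun he 1
        simp only [hθdef, OneMemClass.coe_one, hdeg, add_eq_left] at this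
        exact hr0 (by exact_mod_cast this)
  have hres : ∀ x : M, I x = (∑ ψ : IrrCharacter G, classInner I (ψ : G → ℂ)) * θ x := by
    intro x
    conv_lhs => rw [hIdef, CfsgLib.Char.classFun_eq_sum (CfsgLib.Char.indFun_classFun M θ)]
    rw [Finset.sum_apply, Finset.sum_mul]
    refine Finset.sum_congr rfl fun ψ _ => ?_
    rw [Pi.smul_apply, smul_eq_mul]
    by_cases h : classInner I (ψ : G → ℂ) = 0
    · rw [show classInner (indFun M θ) (ψ : G → ℂ) = 0 from h, zero_mul, zero_mul]
    · exact congrArg _ (congrFun (hall ψ h) x)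
  have hidx : (∑ ψ : IrrCharacter G, classInner I (ψ : G → ℂ)) = (M.index : ℂ) := by
    have h := hres 1
    rw [OneMemClass.coe_one, hIdef, CfsgLib.Char.indFun_one] at h
    exact (mul_right_cancel₀ (CfsgLib.Char.irr_one_ne_zero hθ) h).symm
  have h := hres ⟨m, hm⟩
  rw [hidx, hIdef, CfsgLib.Char.indFun_apply] at h
  have hterm : ∀ g : G, extendByZero M θ (g⁻¹ * m * g) = if g⁻¹ * m * g ∈ M then χ m else 0 := by
    intro g
    split
    next hg =>
      rw [CfsgLib.Char.extendByZero_mem' M θ hg]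
      show χ (g⁻¹ * m * g) = χ m
      simpa using CfsgLib.Char.classFun_of_irr hχ m g⁻¹
    next hg => exact CfsgLib.Char.extendByZero_not_mem M θ hg
  rw [Finset.sum_congr rfl fun g _ => hterm g, Finset.sum_ite, Finset.sum_const_zero, add_zero,
    Finset.sum_const, nsmul_eq_mul, ← mul_assoc] at h
  have h2 := mul_right_cancel₀ hm0 h
  have hM0 : (Nat.card M : ℂ) ≠ 0 := Nat.cast_ne_zero.2 Nat.card_pos.ne'
  rw [inv_mul_eq_iff_eq_mul₀ hM0, mul_comm, ← Nat.cast_mul, Subgroup.index_mul_card,
    Nat.card_eq_fintype_card] at h2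
  have h3 : (Finset.univ.filter fun g : G => g⁻¹ * m * g ∈ M).card = (Finset.univ : Finset G).card := by
    rw [Finset.card_univ]; exact_mod_cast h2
  have h4 := Finset.eq_of_subset_of_card_le
    (Finset.filter_subset (fun g : G => g⁻¹ * m * g ∈ M) Finset.univ) h3.ge
  have h5 : g0 ∈ Finset.univ.filter (fun g : G => g⁻¹ * m * g ∈ M) := h4.symm ▸ Finset.mem_univ g0
  exact hg0 (Finset.mem_filter.1 h5).2

theorem frattini_le {p : ℕ} [Fact p.Prime] {L : Subgroup G} [L.Normal] (Q : Sylow p L)
    (X : Subgroup G) [X.Normal] (hXL : X ≤ L)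
    (hQX : (Q : Subgroup L).map L.subtype ≤ X) (M : Subgroup G)
    (hM : Subgroup.normalizer (((Q : Subgroup L).map L.subtype : Subgroup G) : Set G) ≤ M)
    (hXM : X ≤ M) : M = ⊤ := by
  set P := (Q : Subgroup L).map L.subtype with hP
  have hPX : IsPGroup p (P.subgroupOf X) :=
    (Q.2.map L.subtype).of_equiv (Subgroup.subgroupOfEquivOfLe hQX).symm
  have hind : ¬ p ∣ (P.subgroupOf X).index := by
    intro hd
    have h1 := Subgroup.relIndex_mul_relIndex P X L hQX hXL
    have h2 : P.relIndex L = (Q : Subgroup L).index := by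
      rw [Subgroup.relIndex, hP]
      congr 1
      exact Subgroup.comap_map_eq_self_of_injective L.subtype_injective _
    exact Q.not_dvd_index (h2 ▸ h1 ▸ dvd_mul_of_dvd_left hd _)
  have h := Sylow.normalizer_sup_eq_top (hPX.toSylow hind)
  rw [IsPGroup.toSylow_coe, Subgroup.subgroupOf_map_subtype, inf_eq_left.2 hQX] at h
  exact top_le_iff.1 (h ▸ sup_le hM hXM)

theorem exists_nonnormal_sylow (L : Subgroup G) [L.Normal] (h : ¬ Group.IsNilpotent L) :
    ∃ (p : ℕ) (_ : Fact p.Prime) (Q : Sylow p L),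
      Subgroup.normalizer (((Q : Subgroup L).map L.subtype : Subgroup G) : Set G) ≠ ⊤ := by
  by_contra hcon
  push Not at hcon
  apply h
  refine ((Group.isNilpotent_of_finite_tfae (G := L)).out 0 3).2 fun p hp Q => ?_
  have := Subgroup.normalizer_eq_top_iff.1 (hcon p hp Q)
  have h2 := this.comap L.subtype
  rwa [Subgroup.comap_map_eq_self_of_injective L.subtype_injective] at h2

end


/-- Let χ be an irreducible character of the finite group G and K its kernel (the elements where χ takes the value χ(1)). Suppose either that K is not contained in the Fitting subgroup F(G), or that K = F(G) with G/K solvable and K ≠ G. Then there is an irreducible character ψ of G with ψ(1) > χ(1) whose kernel is properly contained in K. -/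
theorem result {G : Type*} [Group G] [Finite G] (χ : Cfsg.IrrCharacter G) (K : Subgroup G) [K.Normal] (hK : (∀ g : G, g ∈ K ↔ (χ : G → ℂ) g = (χ : G → ℂ) 1)) (h : ¬ K ≤ Cfsg.fittingSubgroup G ∨ (K = Cfsg.fittingSubgroup G ∧ Group.IsSolvable (G ⧸ K) ∧ K ≠ ⊤)) : ∃ ψ : Cfsg.IrrCharacter G, Cfsg.charDegree (χ : G → ℂ) < Cfsg.charDegree (ψ : G → ℂ) ∧ ∃ L : Subgroup G, (∀ g : G, g ∈ L ↔ (ψ : G → ℂ) g = (ψ : G → ℂ) 1) ∧ L < K := by
  classical
  haveI := Fintype.ofFinite G
  rcases h with h | ⟨hF, hsolv, htop⟩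
  · have hnil : ¬ Group.IsNilpotent K := fun hn => h (CfsgLib.Solv.le_fittingSubgroup hn)
    obtain ⟨p, hp, Q, hQ⟩ := exists_nonnormal_sylow K hnil
    haveI := hp
    obtain ⟨M, hM, hle⟩ := (eq_top_or_exists_le_coatom _).resolve_left hQ
    have hKM : ¬ K ≤ M := fun hh =>
      hM.1 (frattini_le Q K le_rfl (Subgroup.map_subtype_le _) M hle hh)
    by_contra hcon
    refine hM.1 (frattini_le Q (K ⊓ M.normalCore) inf_le_left (fun x hx => ?_) M hle
      (inf_le_right.trans M.normalCore_le))
    refine ⟨Subgroup.map_subtype_le _ hx, fun g => ?_⟩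
    have hxM : x ∈ M := hle (Subgroup.le_normalizer hx)
    by_contra hg
    refine hcon (key χ.2 K hK M hM hKM x hxM ?_ g⁻¹ (by simpa using hg))
    rw [(hK x).1 (Subgroup.map_subtype_le _ hx)]
    exact CfsgLib.Char.irr_one_ne_zero χ.2
  · haveI := hsolv
    set π := QuotientGroup.mk' K with hπ
    have hπs : Function.Surjective π := QuotientGroup.mk'_surjective K
    haveI : Nontrivial (G ⧸ K) := QuotientGroup.nontrivial_iff.2 htop
    obtain ⟨V, p, hp, hV, -, -, hVp⟩ := CfsgLib.Solv.exists_minimal_normal_pGroup (G := G ⧸ K)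
    haveI := Fact.mk hp
    haveI := hV.1
    set L := V.comap π with hLdef
    haveI : L.Normal := hV.1.comap π
    have hKL : K ≤ L := fun x hx => by
      show π x ∈ V
      rw [show π x = 1 from (QuotientGroup.eq_one_iff x).2 hx]; exact V.one_mem
    have hLK : ¬ L ≤ K := fun hle => hV.2.1 (eq_bot_iff.2 fun y hy => by
      obtain ⟨g, rfl⟩ := hπs y
      exact Subgroup.mem_bot.2 ((QuotientGroup.eq_one_iff g).2 (hle hy)))
    have hnil : ¬ Group.IsNilpotent L := fun hn =>
      hLK (hF ▸ CfsgLib.Solv.le_fittingSubgroup hn)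
    obtain ⟨r, hr, R, hR⟩ := exists_nonnormal_sylow L hnil
    haveI := hr
    have hrp : r = p := by
      by_contra hne
      have hRK : (R : Subgroup L).map L.subtype ≤ K := by
        intro x hx
        obtain ⟨a, ha⟩ := (R.2.map L.subtype) ⟨x, hx⟩
        obtain ⟨b, hb⟩ := hVp ⟨π x, (Subgroup.map_subtype_le _ hx : x ∈ L)⟩
        have h1 : (π x) ^ (r ^ a) = 1 := by
          rw [← map_pow, show x ^ (r ^ a) = 1 from congrArg Subtype.val ha, map_one]
        have h2 : (π x) ^ (p ^ b) = 1 := congrArg Subtype.val hb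
        have h3 := Nat.eq_one_of_dvd_coprimes (Nat.Coprime.pow a b
          ((Nat.coprime_primes hr.out hp).2 hne))
          (orderOf_dvd_of_pow_eq_one h1) (orderOf_dvd_of_pow_eq_one h2)
        exact (QuotientGroup.eq_one_iff x).1 (orderOf_eq_one_iff.1 h3)
      haveI : Group.IsNilpotent K := by rw [hF]; exact CfsgLib.Solv.fittingSubgroup_isNilpotent
      set P := (R : Subgroup L).map L.subtype
      have hPK : IsPGroup r (P.subgroupOf K) :=
        (R.2.map L.subtype).of_equiv (Subgroup.subgroupOfEquivOfLe hRK).symm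
      have hind : ¬ r ∣ (P.subgroupOf K).index := by
        intro hd
        have h1 := Subgroup.relIndex_mul_relIndex P K L hRK hKL
        have h2 : P.relIndex L = (R : Subgroup L).index := by
          rw [Subgroup.relIndex]
          congr 1
          exact Subgroup.comap_map_eq_self_of_injective L.subtype_injective _
        exact R.not_dvd_index (h2 ▸ h1 ▸ dvd_mul_of_dvd_left hd _)
      have hn : ((hPK.toSylow hind : Sylow r K) : Subgroup K).Normal :=
        by
          have hnk : Group.IsNilpotent K := inferInstance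
          have hall : ∀ (p : ℕ) (_hp : Fact p.Prime) (P : Sylow p K), (P : Subgroup K).Normal :=
            ((Group.isNilpotent_of_finite_tfae (G := K)).out 0 3 rfl rfl).1 hnk
          exact hall r hr _
      haveI := Sylow.characteristic_of_normal _ hn
      have hmn : (((hPK.toSylow hind : Sylow r K) : Subgroup K).map K.subtype).Normal :=
        CfsgLib.Solv.normal_map_subtype_of_characteristic _
      rw [IsPGroup.toSylow_coe, Subgroup.subgroupOf_map_subtype, inf_eq_left.2 hRK] at hmn
      exact hR (Subgroup.normalizer_eq_top_iff.2 hmn)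
    subst hrp
    obtain ⟨M, hM, hle⟩ := (eq_top_or_exists_le_coatom _).resolve_left hR
    set P := (R : Subgroup L).map L.subtype with hP
    have hPL : P ≤ L := Subgroup.map_subtype_le _
    have hdec : ∀ x ∈ L, ∃ k ∈ K, ∃ y ∈ P, x = k * y := by
      intro x hx
      let f : L →* V := (π.comp L.subtype).codRestrict V fun z => z.2
      have hf : Function.Surjective f := fun v => by
        obtain ⟨g, hg⟩ := hπs v
        exact ⟨⟨g, show π g ∈ V by rw [hg]; exact v.2⟩, Subtype.ext hg⟩
      have hmap : (R : Subgroup L).map f = ⊤ :=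
        ((R.mapSurjective hf).is_maximal' (Q := ⊤)
          (hVp.of_equiv Subgroup.topEquiv.symm) le_top).symm
      obtain ⟨y, hy, hyx⟩ := (hmap ▸ Subgroup.mem_top (f ⟨x, hx⟩) :
        f ⟨x, hx⟩ ∈ (R : Subgroup L).map f)
      refine ⟨x * (y : G)⁻¹, ?_, (y : G), ⟨y, hy, rfl⟩, by group⟩
      refine (QuotientGroup.eq_one_iff _).1 ?_
      show π (x * (y : G)⁻¹) = 1
      rw [map_mul, map_inv, show π (y : G) = π x from congrArg Subtype.val hyx, mul_inv_cancel]
    have hPM : P ≤ M := Subgroup.le_normalizer.trans hle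
    have hKM : ¬ K ≤ M := fun hh => by
      refine hM.1 (frattini_le R L le_rfl hPL M hle fun x hx => ?_)
      obtain ⟨k, hk, y, hy, rfl⟩ := hdec x hx
      exact M.mul_mem (hh hk) (hPM hy)
    by_contra hcon
    have hcore : ∀ x ∈ M, (χ : G → ℂ) x ≠ 0 → x ∈ M.normalCore := by
      intro x hxM hx0 g
      by_contra hg
      exact hcon (key χ.2 K hK M hM hKM x hxM hx0 g⁻¹ (by simpa using hg))
    obtain ⟨x0, hx0P, hx0K, hx0⟩ : ∃ y ∈ P, y ∉ K ∧ (χ : G → ℂ) y ≠ 0 := by
      by_contra hall
      push Not at hall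
      haveI := Fintype.ofFinite L
      obtain ⟨K', -, hK', hmul⟩ :=
        CfsgLib.Char.exists_kernel (CfsgLib.Char.isCharacter_of_isIrr χ.2)
      have hz : ∀ x ∈ L, x ∉ K → (χ : G → ℂ) x = 0 := by
        intro x hx hxK
        obtain ⟨k, hk, y, hy, rfl⟩ := hdec x hx
        rw [hmul k ((hK' k).2 ((hK k).1 hk)) y]
        exact hall y hy fun hyK => hxK (K.mul_mem hk hyK)
      rcases CfsgLib.Char.irr_sum_zero_or_kernel (N := L) χ.2 with h1 | h1
      · have h2 : ∑ n : L, (χ : G → ℂ) n =
            ((Finset.univ.filter fun n : L => (n : G) ∈ K).card : ℂ) * (χ : G → ℂ) 1 := by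
          rw [← nsmul_eq_mul, ← Finset.sum_const, Finset.sum_filter]
          refine Finset.sum_congr rfl fun n _ => ?_
          split
          next hn => exact (hK n).1 hn
          next hn => exact hz n n.2 hn
        rw [h1] at h2
        rcases mul_eq_zero.1 h2.symm with h3 | h3
        · exact Finset.card_ne_zero.2 ⟨(1 : L), by simp⟩ (Nat.cast_eq_zero.1 h3)
        · exact CfsgLib.Char.irr_one_ne_zero χ.2 h3
      · exact hLK fun x hx => (hK x).2 (h1 x hx)
    set X := M.normalCore ⊓ L with hX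
    haveI : X.Normal := Subgroup.normal_inf_normal _ _
    have hKX : ∀ k, k ∈ K → k ∈ M → k ∈ X := fun k hk hkM =>
      ⟨hcore k hkM (by rw [(hK k).1 hk]; exact CfsgLib.Char.irr_one_ne_zero χ.2), hKL hk⟩
    have hXV : X.map π = V := by
      refine (hV.2.2 _ (Subgroup.Normal.map inferInstance π hπs) ?_).resolve_left fun hbot => ?_
      · rintro _ ⟨x, hx, rfl⟩; exact hx.2
      · have : π x0 ∈ X.map π := ⟨x0, ⟨hcore x0 (hPM hx0P) hx0, hPL hx0P⟩, rfl⟩
        rw [hbot, Subgroup.mem_bot] at this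
        exact hx0K ((QuotientGroup.eq_one_iff x0).1 this)
    refine hM.1 (frattini_le R X inf_le_right (fun y hy => ?_) M hle
      (inf_le_left.trans M.normalCore_le))
    obtain ⟨x, hx, hxy⟩ := (hXV.symm ▸ hPL hy : π y ∈ X.map π)
    have hk : x⁻¹ * y ∈ K := (QuotientGroup.eq_one_iff _).1 (by
      show π (x⁻¹ * y) = 1
      rw [map_mul, map_inv, hxy, inv_mul_cancel])
    have hkM : x⁻¹ * y ∈ M := M.mul_mem (M.inv_mem (M.normalCore_le hx.1)) (hPM hy)
    simpa using X.mul_mem hx (hKX _ hk hkM)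


end Cfsg.Agent.S4461
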