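import Cfsg.Statements.S4462
import Cfsg.Agent.S4461

set_option autoImplicit false
open Cfsg
open scoped CfsgLib.Char

namespace Cfsg.Agent.S4462

universe u

open Classical in
theorem chain : ∀ m : ℕ, ∀ (G : Type u) [Group G] [Finite G], Group.IsSolvable G →
    Nat.card {d : ℕ // ∃ χ : IrrCharacter G, charDegree (χ : G → ℂ) = d} ≤ m →
    ∃ N : ℕ → Subgroup G, N 0 = ⊥ ∧ N m = ⊤ ∧ Monotone N ∧ (∀ i, (N i).Normal) ∧
      ∀ i : ℕ, ∀ _h : ((N i).subgroupOf (N (i + 1))).Normal,
        Group.IsNilpotent (↥(N (i + 1)) ⧸ (N i).subgroupOf (N (i + 1))) := by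
  intro m
  induction m with
  | zero =>
    intro G _ _ _ hc
    haveI := Fintype.ofFinite G
    exfalso
    haveI : Finite {d : ℕ // ∃ χ : IrrCharacter G, charDegree (χ : G → ℂ) = d} :=
      Finite.of_surjective (fun χ : IrrCharacter G => ⟨charDegree (χ : G → ℂ), χ, rfl⟩)
        (by rintro ⟨d, χ, hd⟩; exact ⟨χ, Subtype.ext hd⟩)
    haveI : Nonempty {d : ℕ // ∃ χ : IrrCharacter G, charDegree (χ : G → ℂ) = d} :=
      ⟨⟨_, ⟨fun _ => 1, CfsgLib.Char.isIrr_one⟩, rfl⟩⟩
    have := Nat.card_pos (α := {d : ℕ // ∃ χ : IrrCharacter G, charDegree (χ : G → ℂ) = d})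
    omega
  | succ m ih =>
    intro G _ _ hs hc
    haveI := Fintype.ofFinite G
    haveI := hs
    set F := fittingSubgroup G with hFdef
    haveI hFn : F.Normal := CfsgLib.Solv.fittingSubgroup_normal G
    haveI hFnil : Group.IsNilpotent F := CfsgLib.Solv.fittingSubgroup_isNilpotent
    by_cases hF : F = ⊤
    · refine ⟨fun i => if i = 0 then ⊥ else ⊤, if_pos rfl, if_neg (by omega), ?_, ?_, ?_⟩
      · intro a b hab
        show (if a = 0 then ⊥ else ⊤) ≤ (if b = 0 then ⊥ else (⊤ : Subgroup G))
        split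
        · exact bot_le
        · rw [if_neg (by omega : b ≠ 0)]
      · intro i
        show (if i = 0 then ⊥ else (⊤ : Subgroup G)).Normal
        split <;> infer_instance
      · intro i _
        haveI : Group.IsNilpotent G := by
          haveI : Group.IsNilpotent (⊤ : Subgroup G) := hF ▸ hFnil
          exact Group.nilpotent_of_mulEquiv Subgroup.topEquiv
        infer_instance
    · haveI := Fintype.ofFinite (G ⧸ F)
      obtain ⟨χ0, -, hmax⟩ := Finset.exists_max_image (Finset.univ : Finset (IrrCharacter G))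
        (fun χ => charDegree (χ : G → ℂ)) ⟨⟨fun _ => 1, CfsgLib.Char.isIrr_one⟩, Finset.mem_univ _⟩
      have hlt : ∀ χ' : IrrCharacter (G ⧸ F), ∃ χ : IrrCharacter G,
          charDegree (χ : G → ℂ) = charDegree (χ' : G ⧸ F → ℂ) ∧
            charDegree (χ : G → ℂ) < charDegree (χ0 : G → ℂ) := by
        intro χ'
        let χ : IrrCharacter G := ⟨(χ' : G ⧸ F → ℂ) ∘ QuotientGroup.mk' F,
          CfsgLib.Char.irr_comp _ (QuotientGroup.mk'_surjective F) χ'.2⟩
        have hd : charDegree (χ : G → ℂ) = charDegree (χ' : G ⧸ F → ℂ) := rfl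
        refine ⟨χ, hd, ?_⟩
        obtain ⟨K, hKn, hK, -⟩ :=
          CfsgLib.Char.exists_kernel (CfsgLib.Char.isCharacter_of_isIrr χ.2)
        haveI := hKn
        have hFK : F ≤ K := fun x hx => (hK x).2 (by
          show (χ' : G ⧸ F → ℂ) (QuotientGroup.mk' F x) = (χ' : G ⧸ F → ℂ) (QuotientGroup.mk' F 1)
          rw [map_one, show QuotientGroup.mk' F x = 1 from (QuotientGroup.eq_one_iff x).2 hx])
        have hsq : Group.IsSolvable (G ⧸ K) :=
          solvable_of_surjective (QuotientGroup.mk'_surjective K)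
        have hyp : ¬ K ≤ fittingSubgroup G ∨
            (K = fittingSubgroup G ∧ Group.IsSolvable (G ⧸ K) ∧ K ≠ ⊤) := by
          by_cases h : K ≤ F
          · exact Or.inr ⟨le_antisymm h hFK, hsq, fun e => hF (top_le_iff.1 (e ▸ h))⟩
          · exact Or.inl h
        obtain ⟨ψ, hψ, -⟩ := Cfsg.Agent.S4461.result χ K hK hyp
        exact lt_of_lt_of_le hψ (hmax ψ (Finset.mem_univ _))
      have hc' : Nat.card {d : ℕ // ∃ χ : IrrCharacter (G ⧸ F), charDegree (χ : G ⧸ F → ℂ) = d} ≤ m := by
        haveI : Finite {d : ℕ // ∃ χ : IrrCharacter G, charDegree (χ : G → ℂ) = d} :=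
          Finite.of_surjective (fun χ : IrrCharacter G => ⟨charDegree (χ : G → ℂ), χ, rfl⟩)
            (by rintro ⟨d, χ, hd⟩; exact ⟨χ, Subtype.ext hd⟩)
        haveI := Fintype.ofFinite {d : ℕ // ∃ χ : IrrCharacter G, charDegree (χ : G → ℂ) = d}
        haveI : Finite {d : ℕ // ∃ χ : IrrCharacter (G ⧸ F), charDegree (χ : G ⧸ F → ℂ) = d} :=
          Finite.of_surjective (fun χ : IrrCharacter (G ⧸ F) => ⟨charDegree (χ : G ⧸ F → ℂ), χ, rfl⟩)
            (by rintro ⟨d, χ, hd⟩; exact ⟨χ, Subtype.ext hd⟩)
        haveI := Fintype.ofFinite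
          {d : ℕ // ∃ χ : IrrCharacter (G ⧸ F), charDegree (χ : G ⧸ F → ℂ) = d}
        let e : {d : ℕ // ∃ χ : IrrCharacter (G ⧸ F), charDegree (χ : G ⧸ F → ℂ) = d} →
            {d : ℕ // ∃ χ : IrrCharacter G, charDegree (χ : G → ℂ) = d} := fun d => ⟨d.1, by
          obtain ⟨χ', hd⟩ := d.2
          obtain ⟨χ, h1, -⟩ := hlt χ'
          exact ⟨χ, h1.trans hd⟩⟩
        have h1 := Fintype.card_lt_of_injective_not_surjective e
          (fun a b h => Subtype.ext (show a.1 = b.1 from congrArg (fun z => z.1) h)) (fun hsj => by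
            obtain ⟨⟨d, χ', hd⟩, he⟩ := hsj ⟨_, χ0, rfl⟩
            obtain ⟨χ, h1, h2⟩ := hlt χ'
            have h3 : d = charDegree (χ0 : G → ℂ) := congrArg Subtype.val he
            omega)
        simp only [← Nat.card_eq_fintype_card] at h1
        omega
      obtain ⟨N, hN0, hNm, hmono, hnor, hnil⟩ :=
        ih (G ⧸ F) (solvable_of_surjective (QuotientGroup.mk'_surjective F)) hc'
      set π := QuotientGroup.mk' F
      refine ⟨fun i => Nat.rec ⊥ (fun j _ => (N j).comap π) i, rfl, ?_, ?_, ?_, ?_⟩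
      · show (N m).comap π = ⊤
        rw [hNm, Subgroup.comap_top]
      · intro a b hab
        cases a with
        | zero => exact bot_le
        | succ a =>
          cases b with
          | zero => omega
          | succ b => exact Subgroup.comap_mono (hmono (by omega))
      · intro i
        cases i with
        | zero => exact (inferInstance : (⊥ : Subgroup G).Normal)
        | succ i => exact (hnor i).comap π
      · rintro (_ | i) h
        · have e : (N 0).comap π = F := by
            rw [hN0, MonoidHom.comap_bot, QuotientGroup.ker_mk']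
          haveI : Group.IsNilpotent ↥((N 0).comap π) :=
            Group.nilpotent_of_mulEquiv (MulEquiv.subgroupCongr e).symm
          exact Group.nilpotent_of_surjective (QuotientGroup.mk' _) (QuotientGroup.mk'_surjective _)
        · haveI := hnor i
          haveI : ((N i).subgroupOf (N (i + 1))).Normal := inferInstance
          haveI : (((N i).comap π).subgroupOf ((N (i + 1)).comap π)).Normal := h
          show Group.IsNilpotent (↥((N (i + 1)).comap π) ⧸ ((N i).comap π).subgroupOf ((N (i + 1)).comap π))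
          let f : ↥((N (i + 1)).comap π) →* ↥(N (i + 1)) ⧸ (N i).subgroupOf (N (i + 1)) :=
            (QuotientGroup.mk' _).comp
              ((π.comp ((N (i + 1)).comap π).subtype).codRestrict (N (i + 1)) fun z => z.2)
          have hf : Function.Surjective f := by
            intro y
            obtain ⟨⟨v, hv⟩, rfl⟩ := QuotientGroup.mk'_surjective _ y
            obtain ⟨g, rfl⟩ := QuotientGroup.mk'_surjective F v
            exact ⟨⟨g, hv⟩, rfl⟩
          have hk : f.ker = ((N i).comap π).subgroupOf ((N (i + 1)).comap π) := by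
            ext x
            rw [MonoidHom.mem_ker]
            exact QuotientGroup.eq_one_iff _
          haveI := hnil i inferInstance
          exact Group.nilpotent_of_mulEquiv
            ((QuotientGroup.quotientMulEquivOfEq hk).symm.trans
              (QuotientGroup.quotientKerEquivOfSurjective f hf)).symm


/-- Let G be a finite solvable group with exactly n distinct irreducible character degrees. Then G has normal subgroups 1 = N₀ ≤ N₁ ≤ ⋯ ≤ Nₙ = G with every quotient N_{i+1}/N_i nilpotent (the nilpotent length of G is at most n). -/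
theorem result {G : Type*} [Group G] [Finite G] (hsolv : Group.IsSolvable G) (n : ℕ) (hcd : Nat.card {d : ℕ // ∃ χ : Cfsg.IrrCharacter G, Cfsg.charDegree (χ : G → ℂ) = d} = n) : ∃ N : Fin (n + 1) → Subgroup G, N 0 = ⊥ ∧ N (Fin.last n) = ⊤ ∧ Monotone N ∧ (∀ i, (N i).Normal) ∧ ∀ i : Fin n, ∀ h : (N i.castSucc).subgroupOf (N i.succ) |>.Normal, Group.IsNilpotent (↥(N i.succ) ⧸ (N i.castSucc).subgroupOf (N i.succ)) := by
  obtain ⟨N, h0, hn, hmono, hnor, hnil⟩ := chain n G hsolv hcd.le
  exact ⟨fun i => N i.val, h0, hn, fun a b h => hmono h, fun i => hnor _, fun i h => hnil i.val h⟩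


end Cfsg.Agent.S4462
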