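import Cfsg.Statements.S4473
import Cfsg.Agent.Lie.DicksonLine
import Cfsg.Agent.Lie.DicksonOrbit
import Cfsg.Agent.Char.Clifford
import Cfsg.Agent.Char.Central
import Cfsg.Agent.Char.Monomial
import Mathlib

set_option autoImplicit false
open Cfsg
open scoped ComplexConjugate CfsgLib.Char

namespace Cfsg.Agent.S4473

open CfsgLib.Char CfsgLib.Lie CfsgLib.Lie.DicksonLine CfsgLib.Lie.ProjLine

universe u

section line
variable {K : Type*} [Field K] [CharZero K]

theorem fix_two_P0 {g : Matrix.ProjGenLinGroup (Fin 2) K} (hfin : IsOfFinOrder g) (hg : g ≠ 1)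
    (h0 : g • (P0 : Pt K) = P0) :
    ratio g ≠ 1 ∧ ∃ a b, a ≠ b ∧ ∀ x : Pt K, g • x = x ↔ x = a ∨ x = b := by
  induction g using Matrix.ProjGenLinGroup.induction_on with
  | mk A =>
    change A • (P0 : Pt K) = P0 at h0
    have h := (smul_P0_iff A).1 h0
    obtain ⟨p1, p2, p3, p4⟩ := tri_pow h (orderOf (Matrix.ProjGenLinGroup.mk A))
    have he : A.1 0 0 ≠ A.1 1 1 := by
      intro he
      have e := pow_orderOf_eq_one (Matrix.ProjGenLinGroup.mk A)
      rw [← map_pow] at e
      have h1 := (scalar_iff.1 e).2.1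
      have h2 := p4 he
      rw [h1, zero_mul, eq_comm, mul_eq_zero, mul_eq_zero] at h2
      rcases h2 with (h2 | h2) | h2
      · exact hfin.orderOf_pos.ne' (Nat.cast_eq_zero.1 h2)
      · exact (diag_ne_zero h).1 (pow_eq_zero_iff'.1 h2).1
      · exact hg (scalar_iff.2 ⟨h, h2, he⟩)
    have hs : A.1 1 1 - A.1 0 0 ≠ 0 := sub_ne_zero.2 (Ne.symm he)
    refine ⟨fun e => ?_, P0, pt (A.1 0 1 / (A.1 1 1 - A.1 0 0)), Ne.symm (pt_ne_P0 _), fun z => ?_⟩
    · rw [ratio_mk, div_eq_one_iff_eq (diag_ne_zero h).2] at e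
      exact he e
    · rcases pt_cases z with rfl | ⟨x, rfl⟩
      · simp only [true_or, iff_true]; exact h0
      · change A • pt x = pt x ↔ _
        rw [fix_tri h]
        constructor
        · intro e
          right
          congr 1
          rw [eq_div_iff hs]
          linear_combination -e
        · rintro (e | e)
          · exact absurd e (pt_ne_P0 x)
          · have := pt_inj e
            rw [eq_div_iff hs] at this
            linear_combination -this

theorem isLine_zero [IsAlgClosed K] (G : Subgroup (Matrix.ProjGenLinGroup (Fin 2) K)) [Finite G] {p : ℕ}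
    (hp : p.Prime) (hnp : ∀ g : G, g ^ p = 1 → g = 1) : DicksonOrbit.IsLine K G (Pt K) p where
  prime := hp
  fix g hg := by
    refine Or.inl ⟨fun e => hg (hnp g e), ?_⟩
    obtain ⟨x, hx⟩ := exists_fixed (g : Matrix.ProjGenLinGroup (Fin 2) K)
    obtain ⟨k, -, hk⟩ := exists_conj_P0 _ hx
    have e : ∀ y : Pt K, (g : Matrix.ProjGenLinGroup (Fin 2) K) • y = y ↔
        (k⁻¹ * (g : Matrix.ProjGenLinGroup (Fin 2) K) * k) • k⁻¹ • y = k⁻¹ • y := fun y => by
      rw [mul_smul, mul_smul, smul_inv_smul, smul_left_cancel_iff]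
    have hne : k⁻¹ * (g : Matrix.ProjGenLinGroup (Fin 2) K) * k ≠ 1 := fun e' => hg (Subtype.ext (show (g : Matrix.ProjGenLinGroup (Fin 2) K) = 1 by
      rw [← pow_one (g : Matrix.ProjGenLinGroup (Fin 2) K), ← conj_pow_eq_one k _ 1, pow_one, e']))
    have hfin : IsOfFinOrder (k⁻¹ * (g : Matrix.ProjGenLinGroup (Fin 2) K) * k) := by
      refine isOfFinOrder_iff_pow_eq_one.2 ⟨Nat.card G, Nat.card_pos, ?_⟩
      rw [conj_pow_eq_one, ← SubmonoidClass.coe_pow, pow_card_eq_one']; rfl
    obtain ⟨-, a, b, hab, hf⟩ := fix_two_P0 hfin hne hk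
    refine ⟨k • a, k • b, fun h => hab (smul_left_cancel k h), fun y => ?_⟩
    show (g : Matrix.ProjGenLinGroup (Fin 2) K) • y = y ↔ _
    rw [e, hf, inv_smul_eq_iff, inv_smul_eq_iff]
  stab x := by
    obtain ⟨k₀, hk₀⟩ := exists_to_P0 x
    obtain ⟨k, hk⟩ : ∃ k : Matrix.ProjGenLinGroup (Fin 2) K, k • (P0 : Pt K) = x := ⟨Matrix.ProjGenLinGroup.mk k₀, hk₀⟩
    have hfx : ∀ g : MulAction.stabilizer G x,
        (k⁻¹ * ((g : G) : Matrix.ProjGenLinGroup (Fin 2) K) * k) • (P0 : Pt K) = P0 := fun g => by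
      have hgx : ((g : G) : Matrix.ProjGenLinGroup (Fin 2) K) • x = x := g.2
      rw [mul_smul, mul_smul, hk, hgx, inv_smul_eq_iff, hk]
    refine ⟨MonoidHom.mk' (fun g => Units.mk0 _ (ratio_ne_zero (hfx g))) (fun a b => Units.ext ?_), fun g => ?_⟩
    · rw [Units.val_mul, Units.val_mk0, Units.val_mk0, Units.val_mk0, ← ratio_mul (hfx a) (hfx b)]
      congr 1
      simp [mul_assoc]
    · rw [MonoidHom.mk'_apply, Units.ext_iff, Units.val_mk0, Units.val_one]
      refine ⟨fun h => ?_, fun h => ?_⟩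
      · have : (g : G) = 1 := by
          by_contra hg
          refine (fix_two_P0 ?_ ?_ (hfx g)).1 h
          · refine isOfFinOrder_iff_pow_eq_one.2 ⟨Nat.card G, Nat.card_pos, ?_⟩
            rw [conj_pow_eq_one, ← SubmonoidClass.coe_pow, pow_card_eq_one']; rfl
          · intro e'
            refine hg (Subtype.ext (show ((g : G) : Matrix.ProjGenLinGroup (Fin 2) K) = 1 from ?_))
            rw [← pow_one ((g : G) : Matrix.ProjGenLinGroup (Fin 2) K), ← conj_pow_eq_one k _ 1, pow_one, e']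
        rw [this, one_pow]
      · rw [hnp _ h, OneMemClass.coe_one, mul_one, inv_mul_cancel, ratio_one]

end line

/-- Let the finite group G have a faithful irreducible character χ of degree 2 that is primitive: χ is not induced from a character of any proper subgroup. Then the centre of G has index 12, 24 or 60. -/
theorem result {G : Type*} [Group G] [Fintype G] (χ : Cfsg.IrrCharacter G) (hfaith : ∀ g : G, (χ : G → ℂ) g = (χ : G → ℂ) 1 → g = 1) (h2 : Cfsg.charDegree (χ : G → ℂ) = 2) (hprim : ∀ H : Subgroup G, H ≠ ⊤ → ∀ θ : H → ℂ, Cfsg.IsCharacter H θ → (χ : G → ℂ) ≠ Cfsg.indFun H θ) : (Subgroup.center G).index = 12 ∨ (Subgroup.center G).index = 24 ∨ (Subgroup.center G).index = 60 := by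
  classical
  have hχ1 : (χ : G → ℂ) 1 = 2 := by rw [irr_one_eq χ.2, h2]; norm_num
  obtain ⟨n, ρ, hirr, hρ⟩ := χ.2
  haveI := hirr
  have hn : n = 2 := by
    have := hχ1
    rw [← hρ] at this
    simp at this
    exact_mod_cast this
  subst hn
  have hinj : ∀ g, ρ g = 1 → g = 1 := fun g hg => hfaith g (by
    rw [← hρ]
    show LinearMap.trace ℂ _ (ρ g) = LinearMap.trace ℂ _ (ρ 1)
    rw [hg, map_one ρ])
  let f : G →* GL (Fin 2) ℂ :=
    (Units.map (LinearMap.toMatrixAlgEquiv' (R := ℂ) (n := Fin 2)).toMonoidHom).comp ρ.toHomUnits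
  let φ : G →* Matrix.ProjGenLinGroup (Fin 2) ℂ := Matrix.ProjGenLinGroup.mk.comp f
  have hfv : ∀ g, (f g).1 = LinearMap.toMatrixAlgEquiv' (ρ g) := fun g => rfl
  have hker : φ.ker = Subgroup.center G := by
    ext g
    rw [MonoidHom.mem_ker]
    constructor
    · intro h
      obtain ⟨h10, h01, h00⟩ := scalar_iff.1 h
      have hs : (f g).1 = (f g).1 0 0 • (1 : Matrix (Fin 2) (Fin 2) ℂ) := by
        ext i j; fin_cases i <;> fin_cases j <;> simp [h10, h01, ← h00]
      refine Subgroup.mem_center_iff.2 fun a => ?_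
      have hcomm : (f a).1 * (f g).1 = (f g).1 * (f a).1 := by rw [hs]; simp
      have h3 : ρ (a * g) = ρ (g * a) := (LinearMap.toMatrixAlgEquiv' (R := ℂ) (n := Fin 2)).injective (by
        rw [← hfv, ← hfv, map_mul, map_mul, Units.val_mul, Units.val_mul, hcomm])
      have h4 : ρ ((g * a)⁻¹ * (a * g)) = 1 := by rw [map_mul, h3, ← map_mul, inv_mul_cancel, map_one]
      exact (inv_mul_eq_one.1 (hinj _ h4)).symm
    · intro h
      obtain ⟨c, hc⟩ := schur_scalar ρ (ρ g) fun a v => by
        rw [← Module.End.mul_apply, ← map_mul, ← Module.End.mul_apply, ← map_mul, Subgroup.mem_center_iff.1 h a]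
      refine scalar_iff.2 ?_
      have e : (f g).1 = c • (1 : Matrix (Fin 2) (Fin 2) ℂ) := by
        rw [hfv, hc]; ext i j; simp [LinearMap.toMatrixAlgEquiv'_apply, Matrix.one_apply, Pi.single_apply]
      rw [e]; simp
  have hidx : (Subgroup.center G).index = Nat.card φ.range := by rw [← hker, Subgroup.index_ker]
  haveI : Finite φ.range := Finite.of_surjective φ.rangeRestrict φ.rangeRestrict_surjective
  obtain ⟨p, hpgt, hp⟩ := Nat.exists_infinite_primes (Nat.card φ.range + 1)
  have hnp : ∀ g : φ.range, g ^ p = 1 → g = 1 := by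
    intro g hg
    rcases (Nat.dvd_prime hp).1 (orderOf_dvd_of_pow_eq_one hg) with h | h
    · exact orderOf_eq_one_iff.1 h
    · have := Nat.le_of_dvd Nat.card_pos (orderOf_dvd_natCard g)
      omega
  have hL := isLine_zero φ.range hp hnp
  have hP : ∀ x, Nat.card (DicksonOrbit.P hL x) = 1 := fun x => (DicksonOrbit.P_eq_bot hL).2 fun g _ hg => hnp g hg
  have hnab : ¬ ∀ a b : G, a * b = b * a := fun h => by
    have := irr_degree_one_of_comm h χ.2
    rw [hχ1] at this
    norm_num at this
  rcases DicksonOrbit.classify hL (P0 : Pt ℂ) with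
    ⟨x, hx⟩ | ⟨k, hk, g, hg, -, ⟨d⟩⟩ | ⟨-, ⟨d⟩⟩ | ⟨-, ⟨d⟩⟩ | ⟨-, ⟨d⟩⟩ | ⟨x, hq, -⟩
  · exfalso
    haveI := DicksonOrbit.stab_cyclic hL (hP x)
    haveI : IsCyclic φ.range := isCyclic_of_surjective (MulAction.stabilizer φ.range x).subtype
      (fun g => ⟨⟨g, hx g⟩, rfl⟩)
    exact hnab (commutative_of_cyclic_center_quotient φ.rangeRestrict (by
      rw [MonoidHom.ker_rangeRestrict, hker]))
  · exfalso
    set H : Subgroup G := (Subgroup.zpowers g).comap φ.rangeRestrict with hH
    have hcard : Nat.card φ.range = 2 * k := by rw [Nat.card_congr d.toEquiv, DihedralGroup.nat_card]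
    have hHi : H.index = 2 := by
      rw [hH, Subgroup.index_comap_of_surjective _ φ.rangeRestrict_surjective]
      have := (Subgroup.zpowers g).card_mul_index
      rw [Nat.card_zpowers, hg, hcard] at this
      exact Nat.eq_of_mul_eq_mul_left (by omega : 0 < k) (by rw [this]; ring)
    have hHne : H ≠ ⊤ := fun e => by rw [e, Subgroup.index_top] at hHi; omega
    have hHab : ∀ a b : H, a * b = b * a := by
      let ψ : H →* Subgroup.zpowers g :=
        (φ.rangeRestrict.comp H.subtype).codRestrict _ fun a => a.2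
      refine commutative_of_cyclic_center_quotient ψ ?_
      intro a ha
      rw [MonoidHom.mem_ker] at ha
      have ha' : φ.rangeRestrict (a : G) = 1 := congrArg Subtype.val ha
      have : (a : G) ∈ φ.ker := congrArg Subtype.val ha'
      rw [hker] at this
      exact Subgroup.mem_center_iff.2 fun b => Subtype.ext (Subgroup.mem_center_iff.1 this b)
    haveI : Fintype H := Fintype.ofFinite H
    obtain ⟨θ, hθ⟩ := exists_constituent (isCharacter_restrict H (isCharacter_of_isIrr χ.2)) (fun e => by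
      have h0 := congrFun e 1
      simp [hχ1] at h0)
    have hθ1 : (θ : H → ℂ) 1 = 1 := irr_degree_one_of_comm hHab θ.2
    have hind : classInner (indFun H (θ : H → ℂ)) (χ : G → ℂ) ≠ 0 := by
      rw [frobenius H _ (classFun_of_irr χ.2), ← classInner_conj]
      exact fun h => hθ ((map_eq_zero _).1 h)
    have hc := isCharacter_indFun H (isCharacter_of_isIrr θ.2)
    have h0 := isCharacter_sub_constituent hc χ.2 hind
    have : (indFun H (θ : H → ℂ) - (χ : G → ℂ)) 1 = 0 := by
      rw [Pi.sub_apply, indFun_one, hθ1, hHi, hχ1]; norm_num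
    have := (char_eq_zero_iff h0).1 this
    exact hprim H hHne θ (isCharacter_of_isIrr θ.2) (sub_eq_zero.1 this).symm
  · left
    rw [hidx, Nat.card_congr d.toEquiv, nat_card_alternatingGroup, Nat.card_fin]; rfl
  · right; left
    rw [hidx, Nat.card_congr d.toEquiv, Nat.card_perm, Nat.card_fin]; rfl
  · right; right
    rw [hidx, Nat.card_congr d.toEquiv, nat_card_alternatingGroup, Nat.card_fin]; rfl
  · rw [hP x] at hq
    omega

end Cfsg.Agent.S4473
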