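import Cfsg.Statements.S4474
import Mathlib
import Cfsg.Agent.Char.FrobeniusSchur
-- import your own Cfsg.Agent.* helpers here

set_option autoImplicit false
open Cfsg

namespace Cfsg.Agent.S4474

open Matrix CfsgLib.Char Module
open scoped Matrix ComplexOrder ComplexConjugate

section
variable {G : Type*} [Group G] [Fintype G] {n : ℕ}

theorem fs_one_of_real (ρ : Representation ℂ G (Fin n → ℂ)) (hn : 0 < n)
    (hinn : classInner ρ.character (fun g => conj (ρ.character g)) = 1)
    (hreal : ∀ g i j, conj (repMat ρ g i j) = repMat ρ g i j) :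
    fsInd ρ.character = 1 := by
  set S := formAvg ρ 1 with hS
  have hSt : Sᵀ = S := by rw [hS, ← formAvg_transpose, Matrix.transpose_one]
  have hS0 : S ≠ 0 := by
    intro h0
    let i0 : Fin n := ⟨0, hn⟩
    have h1 := congrArg (fun X : Matrix (Fin n) (Fin n) ℂ => X i0 i0) h0
    simp only [hS, formAvg_apply, Matrix.smul_apply, Matrix.sum_apply, Matrix.mul_apply,
      Matrix.transpose_apply, Matrix.mul_one, Matrix.zero_apply, smul_eq_mul, mul_eq_zero,
      inv_eq_zero] at h1
    have h2 : ∑ g : G, ∑ k, repMat ρ g k i0 * repMat ρ g k i0 = 0 :=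
      h1.resolve_left (Nat.cast_ne_zero.2 Nat.card_pos.ne')
    have h3 : ∀ g k, 0 ≤ (repMat ρ g k i0 * repMat ρ g k i0).re ∧
        (repMat ρ g k i0 * repMat ρ g k i0).re = (repMat ρ g k i0).re * (repMat ρ g k i0).re := by
      intro g k
      have := Complex.conj_eq_iff_im.1 (hreal g k i0)
      have e : (repMat ρ g k i0 * repMat ρ g k i0).re = (repMat ρ g k i0).re * (repMat ρ g k i0).re := by
        rw [Complex.mul_re, this]; ring
      exact ⟨e ▸ mul_self_nonneg _, e⟩
    have h4 := congrArg Complex.re h2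
    simp only [Complex.re_sum, Complex.zero_re] at h4
    have h5 := (Finset.sum_eq_zero_iff_of_nonneg fun g _ =>
      Finset.sum_nonneg fun k _ => (h3 g k).1).1 h4 (1 : G) (Finset.mem_univ _)
    have h6 := (Finset.sum_eq_zero_iff_of_nonneg fun k _ => (h3 (1 : G) k).1).1 h5 i0
      (Finset.mem_univ _)
    rw [repMat_one] at h6
    simp at h6
  have h0 := finrank_range_formAvg ρ
  rw [hinn, Nat.cast_eq_one] at h0
  have hSne : (⟨S, LinearMap.mem_range_self (formAvg ρ) 1⟩ : LinearMap.range (formAvg ρ)) ≠ 0 :=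
    fun h => hS0 (congrArg Subtype.val h)
  have hall := (finrank_eq_one_iff_of_nonzero' _ hSne).1 h0
  have hcomp : formAvg ρ ∘ₗ (Matrix.transposeLinearEquiv (Fin n) (Fin n) ℂ ℂ).toLinearMap
      = formAvg ρ := by
    refine LinearMap.ext fun X => ?_
    obtain ⟨c, hc⟩ := hall ⟨formAvg ρ X, LinearMap.mem_range_self _ X⟩
    have hc' : formAvg ρ X = c • S := (congrArg Subtype.val hc).symm
    show formAvg ρ Xᵀ = formAvg ρ X
    rw [formAvg_transpose, hc', Matrix.transpose_smul, hSt]
  rw [← trace_formAvg_transpose, hcomp, trace_formAvg, hinn]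

theorem exists_T (ρ : Representation ℂ G (Fin n → ℂ)) {B : Matrix (Fin n) (Fin n) ℂ}
    (hB : B ≠ 0) (hBi : InvForm ρ B) (hBt : Bᵀ = B) :
    ∃ T : Matrix (Fin n) (Fin n) ℂ,
      (∀ g, T * repMat ρ g = (repMat ρ g).map conj * T) ∧
      (ρ.IsIrreducible → T.map conj * T ≠ 0 ∧
        ∀ c : ℂ, T.map conj * T = c • (1 : Matrix (Fin n) (Fin n) ℂ) → 0 < c) := by
  classical
  set H : Matrix (Fin n) (Fin n) ℂ := ∑ g : G, (repMat ρ g)ᴴ * repMat ρ g with hH
  have hHi : ∀ h, (repMat ρ h)ᴴ * H * repMat ρ h = H := by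
    intro h
    rw [hH, Matrix.mul_sum, Matrix.sum_mul]
    refine Fintype.sum_equiv (Equiv.mulRight h) _ _ fun g => ?_
    rw [Equiv.coe_mulRight, repMat_mul, Matrix.conjTranspose_mul]
    simp only [Matrix.mul_assoc]
  have hHp : H.PosDef := by
    rw [hH, ← Finset.add_sum_erase _ _ (Finset.mem_univ (1 : G)), repMat_one,
      Matrix.conjTranspose_one, one_mul]
    exact Matrix.PosDef.one.add_posSemidef
      (Matrix.posSemidef_sum _ fun g _ => Matrix.posSemidef_conjTranspose_mul_self _)
  have hKp : (Hᵀ).PosDef := hHp.transpose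
  have hKu : IsUnit (Hᵀ).det := (Matrix.isUnit_iff_isUnit_det _).1 hKp.isUnit
  refine ⟨(Hᵀ)⁻¹ * B, fun g => ?_, fun hirr => ?_⟩
  · set A := repMat ρ g
    have hA : IsUnit (Aᵀ).det := by
      rw [Matrix.det_transpose]
      exact (Matrix.isUnit_iff_isUnit_det _).1
        (IsUnit.of_mul_eq_one (repMat ρ g⁻¹) (by rw [← repMat_mul, mul_inv_cancel, repMat_one]))
    have h1 : Aᵀ * Hᵀ * A.map conj = Hᵀ := by
      have := congrArg Matrix.transpose (hHi g)
      rw [Matrix.transpose_mul, Matrix.transpose_mul, ← Matrix.mul_assoc] at this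
      convert this using 2
      ext i j
      rfl
    have h2 : Aᵀ * B * A = B := hBi g
    have h3 : Aᵀ * (Hᵀ * (A.map conj * ((Hᵀ)⁻¹ * B))) = Aᵀ * (B * A) := by
      rw [← Matrix.mul_assoc Aᵀ B A, h2, ← Matrix.mul_assoc, ← Matrix.mul_assoc (Aᵀ * Hᵀ), h1,
        Matrix.mul_nonsing_inv_cancel_left _ _ hKu]
    have h4 := congrArg ((Aᵀ)⁻¹ * ·) h3
    simp only [Matrix.nonsing_inv_mul_cancel_left _ _ hA] at h4
    have h5 := congrArg ((Hᵀ)⁻¹ * ·) h4
    simp only [Matrix.nonsing_inv_mul_cancel_left _ _ hKu] at h5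
    rw [h5, Matrix.mul_assoc]
  · have hmap : ((Hᵀ)⁻¹ * B).map conj = H⁻¹ * Bᴴ := by
      have e1 : ((Hᵀ)⁻¹ * B).map conj = (((Hᵀ)⁻¹ * B)ᵀ)ᴴ := by ext i j; rfl
      rw [e1, Matrix.transpose_mul, hBt, Matrix.transpose_nonsing_inv, Matrix.transpose_transpose,
        Matrix.conjTranspose_mul, Matrix.conjTranspose_nonsing_inv, hHp.1.eq]
    have hHu : IsUnit H.det := (Matrix.isUnit_iff_isUnit_det _).1 hHp.isUnit
    obtain ⟨v, hv⟩ : ∃ v : Fin n → ℂ, B *ᵥ v ≠ 0 := by
      by_contra hno
      push Not at hno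
      exact hB (Matrix.toLin'.injective (LinearMap.ext fun v => by simp [hno v]))
    have hpos : 0 < star v ⬝ᵥ ((Bᴴ * (Hᵀ)⁻¹ * B) *ᵥ v) := by
      rw [← Matrix.mulVec_mulVec, ← Matrix.mulVec_mulVec, Matrix.dotProduct_mulVec,
        ← Matrix.star_mulVec]
      exact hKp.inv.dotProduct_mulVec_pos hv
    have key : ∀ c : ℂ, ((Hᵀ)⁻¹ * B).map conj * ((Hᵀ)⁻¹ * B) = c • (1 : Matrix (Fin n) (Fin n) ℂ) →
        Bᴴ * (Hᵀ)⁻¹ * B = c • H := by
      intro c hc
      rw [hmap] at hc
      have := congrArg (H * ·) hc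
      simp only [Matrix.mul_smul, Matrix.mul_one, Matrix.mul_assoc,
        Matrix.mul_nonsing_inv_cancel_left _ _ hHu] at this
      rw [Matrix.mul_assoc]
      exact this
    refine ⟨fun h0 => ?_, fun c hc => ?_⟩
    · rw [key 0 (by rw [h0, zero_smul]), zero_smul, Matrix.zero_mulVec, dotProduct_zero] at hpos
      exact lt_irrefl _ hpos
    · rw [key c hc, Matrix.smul_mulVec, dotProduct_smul, smul_eq_mul] at hpos
      have hv0 : v ≠ 0 := fun h => hv (by rw [h, Matrix.mulVec_zero])
      exact (pos_iff_pos_of_mul_pos hpos).2 (hHp.dotProduct_mulVec_pos hv0)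

theorem exists_real_form (ρ : Representation ℂ G (Fin n → ℂ)) (hirr : ρ.IsIrreducible)
    (h : fsInd ρ.character = 1) :
    ∃ (k : ℕ) (σ : Representation ℝ G (Fin k → ℝ)), ∀ g : G,
      ((LinearMap.trace ℝ (Fin k → ℝ) (σ g) : ℝ) : ℂ) = ρ.character g := by
  have hreal : ∀ g, conj (ρ.character g) = ρ.character g := by
    by_contra hno
    push Not at hno
    rw [fsInd_eq_zero ρ hirr hno] at h
    exact zero_ne_one h
  obtain ⟨B, hB, hBi, hBall, -⟩ := fsInd_real ρ hirr hreal
  have hBt : Bᵀ = B := by rw [hBall B hBi, h, one_smul]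
  obtain ⟨T0, hT0, hT0'⟩ := exists_T ρ hB hBi hBt
  obtain ⟨hne, hpos⟩ := hT0' hirr
  have hρ : ∀ g v, ρ g v = repMat ρ g *ᵥ v := fun g v => by rw [repMat, LinearMap.toMatrix'_mulVec]
  have hcc : ∀ X : Matrix (Fin n) (Fin n) ℂ, (X.map conj).map conj = X := fun X => by
    ext i j; simp
  have hmm : ∀ X Y : Matrix (Fin n) (Fin n) ℂ, (X * Y).map conj = X.map conj * Y.map conj :=
    fun X Y => Matrix.map_mul (f := starRingEnd ℂ)
  set X := T0.map conj * T0 with hX
  have hXc : ∀ g, X * repMat ρ g = repMat ρ g * X := by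
    intro g
    have e : T0.map conj * (repMat ρ g).map conj = repMat ρ g * T0.map conj := by
      rw [← hmm, hT0 g, hmm, hcc]
    rw [hX, Matrix.mul_assoc, hT0 g, ← Matrix.mul_assoc, e, Matrix.mul_assoc]
  obtain ⟨c, hc⟩ : ∃ c : ℂ, X = c • (1 : Matrix (Fin n) (Fin n) ℂ) := by
    haveI : Nontrivial (Fin n → ℂ) := by
      by_contra hno
      haveI := not_nontrivial_iff_subsingleton.1 hno
      exact hne (Matrix.toLin'.injective (LinearMap.ext fun v => Subsingleton.elim _ _))
    obtain ⟨c, hc⟩ := Module.End.exists_eigenvalue (Matrix.toLin' X)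
    obtain ⟨v, hv, hv0⟩ := hc.exists_hasEigenvector
    let W : Subrepresentation ρ :=
      { toSubmodule := Module.End.eigenspace (Matrix.toLin' X) c
        apply_mem_toSubmodule := fun g w hw => by
          rw [Module.End.mem_eigenspace_iff, Matrix.toLin'_apply] at hw ⊢
          rw [hρ, Matrix.mulVec_mulVec, hXc g, ← Matrix.mulVec_mulVec, hw, Matrix.mulVec_smul] }
    haveI := hirr
    rcases IsSimpleOrder.eq_bot_or_eq_top W with hW | hW
    · refine absurd ?_ hv0
      have : v ∈ W.toSubmodule := hv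
      rw [hW] at this
      exact this
    · refine ⟨c, Matrix.toLin'.injective (LinearMap.ext fun w => ?_)⟩
      have hw : w ∈ W.toSubmodule := by rw [hW]; exact Submodule.mem_top
      have := Module.End.mem_eigenspace_iff.1 hw
      rw [this]
      simp
  have hc0 := hpos c hc
  obtain ⟨hcre, hcim⟩ : 0 < c.re ∧ c.im = 0 := by
    have := Complex.lt_def.1 hc0
    exact ⟨this.1, this.2.symm⟩
  set r : ℝ := (Real.sqrt c.re)⁻¹
  set T := (r : ℂ) • T0 with hT
  have hTc : T.map conj = (r : ℂ) • T0.map conj := by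
    ext i j; simp [hT]
  have hTT : T.map conj * T = 1 := by
    rw [hTc, hT, Matrix.smul_mul, Matrix.mul_smul, smul_smul, ← hX, hc, smul_smul]
    have : (r : ℂ) * r * c = 1 := by
      rw [show c = (c.re : ℂ) from Complex.ext (by simp) (by simp [hcim]), ← Complex.ofReal_mul,
        ← Complex.ofReal_mul, Complex.ofReal_eq_one]
      show (Real.sqrt c.re)⁻¹ * (Real.sqrt c.re)⁻¹ * c.re = 1
      rw [← mul_inv, Real.mul_self_sqrt hcre.le, inv_mul_cancel₀ hcre.ne']
    rw [this, one_smul]
  have hTA : ∀ g, T * repMat ρ g = (repMat ρ g).map conj * T := by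
    intro g; rw [hT, Matrix.smul_mul, hT0 g, Matrix.mul_smul]
  let J : (Fin n → ℂ) → (Fin n → ℂ) := fun v => star (T *ᵥ v)
  have hmv : ∀ (X : Matrix (Fin n) (Fin n) ℂ) v, star (X *ᵥ v) = X.map conj *ᵥ star v := by
    intro X v
    funext i
    simp [Matrix.mulVec, dotProduct, mul_comm]
  have hJJ : ∀ v, J (J v) = v := by
    intro v
    show star (T *ᵥ star (T *ᵥ v)) = v
    rw [hmv, star_star, Matrix.mulVec_mulVec, hTT, Matrix.one_mulVec]
  have hJs : ∀ (a : ℂ) v, J (a • v) = conj a • J v := by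
    intro a v; simp [J, Matrix.mulVec_smul]
  have hJa : ∀ v w, J (v + w) = J v + J w := by
    intro v w; simp [J, Matrix.mulVec_add]
  have hJg : ∀ g v, J (ρ g v) = ρ g (J v) := by
    intro g v
    show star (T *ᵥ ρ g v) = ρ g (star (T *ᵥ v))
    rw [hρ, hρ, Matrix.mulVec_mulVec, hTA, ← Matrix.mulVec_mulVec, hmv, hcc]
  have hsr : ∀ (a : ℝ) (v : Fin n → ℂ), a • v = (a : ℂ) • v := fun a v => by
    funext i; simp
  let W : Submodule ℝ (Fin n → ℂ) :=
    { carrier := {v | J v = v}
      add_mem' := fun {v w} hv hw => by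
        show J (v + w) = v + w
        rw [hJa, hv, hw]
      zero_mem' := by show J 0 = 0; simp [J]
      smul_mem' := fun a v hv => by
        show J (a • v) = a • v
        rw [hsr, hJs, Complex.conj_ofReal, hv] }
  let k := finrank ℝ W
  let b : Module.Basis (Fin k) ℝ W := Module.finBasis ℝ W
  have hli : LinearIndependent ℂ (fun i => (b i : Fin n → ℂ)) := by
    rw [Fintype.linearIndependent_iff]
    intro z hz
    have hb : ∀ x : Fin k → ℝ, (∑ i, (x i : ℂ) • (b i : Fin n → ℂ)) = 0 → ∀ i, x i = 0 := by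
      intro x hx
      refine Fintype.linearIndependent_iff.1 b.linearIndependent x (Subtype.ext ?_)
      simp only [AddSubmonoidClass.coe_finsetSum, SetLike.val_smul, ZeroMemClass.coe_zero, hsr]
      exact hx
    have hJsum : J (∑ i, z i • (b i : Fin n → ℂ)) = ∑ i, conj (z i) • (b i : Fin n → ℂ) := by
      have hJ0 : J 0 = 0 := by simp [J]
      let Jh : (Fin n → ℂ) →+ (Fin n → ℂ) := AddMonoidHom.mk' J hJa
      show Jh _ = _
      rw [map_sum]
      refine Finset.sum_congr rfl fun i _ => ?_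
      show J (z i • (b i : Fin n → ℂ)) = _
      rw [hJs, show J (b i : Fin n → ℂ) = (b i : Fin n → ℂ) from (b i).2]
    have hz' : ∑ i, conj (z i) • (b i : Fin n → ℂ) = 0 := by
      rw [← hJsum, hz]; simp [J]
    intro i
    have h1 := hb (fun i => 2 * (z i).re) (by
      have : ∑ j, (z j • (b j : Fin n → ℂ) + conj (z j) • (b j : Fin n → ℂ)) = 0 := by
        rw [Finset.sum_add_distrib, hz, hz', add_zero]
      rw [← this]
      refine Finset.sum_congr rfl fun j _ => ?_
      rw [← add_smul, Complex.add_conj]) i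
    have h2 := hb (fun i => 2 * (z i).im) (by
      have : ∑ j, Complex.I • (conj (z j) • (b j : Fin n → ℂ) - z j • (b j : Fin n → ℂ)) = 0 := by
        rw [← Finset.smul_sum, Finset.sum_sub_distrib, hz, hz', sub_zero, smul_zero]
      rw [← this]
      refine Finset.sum_congr rfl fun j _ => ?_
      rw [← sub_smul, smul_smul]
      congr 1
      apply Complex.ext <;> simp <;> ring) i
    apply Complex.ext <;> simp at h1 h2 ⊢ <;> linarith
  have hW : ∀ v, J v = v → v ∈ Submodule.span ℂ (Set.range fun i => (b i : Fin n → ℂ)) := by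
    intro v hv
    have := congrArg Subtype.val (b.sum_repr ⟨v, hv⟩)
    simp only [AddSubmonoidClass.coe_finsetSum, SetLike.val_smul, hsr] at this
    rw [← this]
    exact Submodule.sum_mem _ fun i _ => Submodule.smul_mem _ _ (Submodule.subset_span ⟨i, rfl⟩)
  have hsp : ⊤ ≤ Submodule.span ℂ (Set.range fun i => (b i : Fin n → ℂ)) := by
    intro v _
    have e : v = (1/2 : ℂ) • (v + J v) + (-(Complex.I/2)) • (Complex.I • (v - J v)) := by
      rw [smul_smul, show -(Complex.I/2) * Complex.I = (1/2 : ℂ) by ring_nf; simp; ring]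
      module
    rw [e]
    refine add_mem (Submodule.smul_mem _ _ (hW _ ?_)) (Submodule.smul_mem _ _ (hW _ ?_))
    · rw [hJa, hJJ, add_comm]
    · have hsub : J (v - J v) = J v - v := by
        have := hJa (v - J v) (J v)
        rw [sub_add_cancel, hJJ] at this
        exact eq_sub_of_add_eq this.symm
      rw [hJs, hsub, Complex.conj_I]
      module
  let bc : Module.Basis (Fin k) ℂ (Fin n → ℂ) := Module.Basis.mk hli hsp
  have hWg : ∀ g, ∀ v ∈ W, (ρ g).restrictScalars ℝ v ∈ W := fun g v hv => by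
    show J (ρ g v) = ρ g v
    rw [hJg, show J v = v from hv]
  let σ0 : G →* Module.End ℝ W :=
    { toFun := fun g => ((ρ g).restrictScalars ℝ).restrict (hWg g)
      map_one' := by ext v; simp
      map_mul' := fun g g' => by ext v; simp }
  let e : W ≃ₗ[ℝ] (Fin k → ℝ) := b.equivFun
  refine ⟨k, (e.conjRingEquiv.toRingHom.toMonoidHom).comp σ0, fun g => ?_⟩
  show ((LinearMap.trace ℝ (Fin k → ℝ) (e.conj (σ0 g)) : ℝ) : ℂ) = _
  rw [LinearMap.trace_conj', LinearMap.trace_eq_matrix_trace ℝ b, Representation.character,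
    LinearMap.trace_eq_matrix_trace ℂ bc, Matrix.trace, Matrix.trace, Complex.ofReal_sum]
  refine Finset.sum_congr rfl fun i _ => ?_
  simp only [Matrix.diag_apply, LinearMap.toMatrix_apply]
  have e1 : ρ g (bc i) = ∑ j, ((b.repr (σ0 g (b i)) j : ℝ) : ℂ) • bc j := by
    have := congrArg Subtype.val (b.sum_repr (σ0 g (b i)))
    simp only [AddSubmonoidClass.coe_finsetSum, SetLike.val_smul, hsr] at this
    simp only [bc, Module.Basis.mk_apply]
    exact this.symm
  rw [e1, Module.Basis.repr_sum_self]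

end

/-- Let χ be an irreducible character of the finite group G. Then the Frobenius–Schur indicator of χ (the average over s ∈ G of χ(s²)) equals 1 if and only if χ is afforded by a real representation: there is a representation of G on a real coordinate space whose trace function, viewed in ℂ, is χ. -/
theorem result {G : Type*} [Group G] [Fintype G] (χ : Cfsg.IrrCharacter G) : ((Nat.card G : ℂ)⁻¹ * ∑ s : G, (χ : G → ℂ) (s * s)) = 1 ↔ ∃ (n : ℕ) (ρ : Representation ℝ G (Fin n → ℝ)), ∀ g : G, ((LinearMap.trace ℝ (Fin n → ℝ) (ρ g) : ℝ) : ℂ) = (χ : G → ℂ) g := by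
  obtain ⟨n, ρ, hirr, hχ⟩ := χ.2
  constructor
  · intro h
    rw [← hχ]
    refine exists_real_form ρ hirr ?_
    rw [hχ]
    exact h
  · rintro ⟨k, σ, hσ⟩
    let ρ' : Representation ℂ G (Fin k → ℂ) :=
      { toFun := fun g => Matrix.toLin' ((LinearMap.toMatrix' (σ g)).map Complex.ofReal)
        map_one' := by
          rw [map_one, Module.End.one_eq_id, LinearMap.toMatrix'_id, Matrix.map_one _ Complex.ofReal_zero
            Complex.ofReal_one, Matrix.toLin'_one]
          rfl
        map_mul' := fun g g' => by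
          rw [map_mul, Module.End.mul_eq_comp, LinearMap.toMatrix'_comp,
            show (LinearMap.toMatrix' (σ g) * LinearMap.toMatrix' (σ g')).map Complex.ofReal =
              (LinearMap.toMatrix' (σ g)).map Complex.ofReal * (LinearMap.toMatrix' (σ g')).map Complex.ofReal from
              Matrix.map_mul (f := Complex.ofRealHom), Matrix.toLin'_mul]
          rfl }
    have hρ' : ρ'.character = (χ : G → ℂ) := by
      funext g
      rw [← hσ g, ← trace_repMat, LinearMap.trace_eq_matrix_trace ℝ (Pi.basisFun ℝ (Fin k)),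
        LinearMap.toMatrix_eq_toMatrix']
      show (LinearMap.toMatrix' (Matrix.toLin' ((LinearMap.toMatrix' (σ g)).map Complex.ofReal))).trace = _
      rw [LinearMap.toMatrix'_toLin']
      exact (AddMonoidHom.map_trace Complex.ofRealHom.toAddMonoidHom _).symm
    have hr : ∀ g, conj ((χ : G → ℂ) g) = (χ : G → ℂ) g := fun g => by
      rw [← hσ g, Complex.conj_ofReal]
    have hk : 0 < k := by
      rcases Nat.eq_zero_or_pos k with rfl | hk
      · exfalso
        refine (charDegree_pos χ.2).ne' ?_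
        have := irr_one_eq χ.2
        rw [← hρ', Representation.char_one] at this
        simpa [hρ'] using this.symm
      · exact hk
    show fsInd (χ : G → ℂ) = 1
    rw [← hρ']
    refine fs_one_of_real ρ' hk ?_ fun g i j => ?_
    · rw [hρ', funext hr]
      exact irr_inner_self χ.2
    · show conj (LinearMap.toMatrix' (Matrix.toLin' ((LinearMap.toMatrix' (σ g)).map Complex.ofReal)) i j) =
        LinearMap.toMatrix' (Matrix.toLin' ((LinearMap.toMatrix' (σ g)).map Complex.ofReal)) i j
      rw [LinearMap.toMatrix'_toLin', Matrix.map_apply, Complex.conj_ofReal]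

end Cfsg.Agent.S4474
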