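import Cfsg.Statements.S4476
import Cfsg.Agent.Char.FrobeniusSchur
import Cfsg.Agent.Char.Classes
import Mathlib.GroupTheory.GroupAction.CardCommute
import Mathlib.Algebra.Order.Chebyshev

set_option autoImplicit false
open Cfsg

namespace Cfsg.Agent.S4476
open scoped CfsgLib.Char ComplexConjugate


/-- Let G be a finite group of even order g with exactly t involutions, and put α = (g − 1)/t (a rational number). Then (a) some non-identity element x of G has at most α² conjugates; and (b) some non-principal real-valued irreducible character of G has degree at most α. -/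
theorem result {G : Type*} [Group G] [Fintype G] (heven : Even (Nat.card G)) (t : ℕ) (ht : Nat.card {x : G // orderOf x = 2} = t) : (∃ x : G, x ≠ 1 ∧ ((Subgroup.centralizer ({x} : Set G)).index : ℚ) ≤ (((Nat.card G : ℚ) - 1) / t) ^ 2) ∧ ∃ χ : Cfsg.IrrCharacter G, (χ : G → ℂ) ≠ (fun _ => 1) ∧ (∀ g : G, ((χ : G → ℂ) g).im = 0) ∧ (Cfsg.charDegree (χ : G → ℂ) : ℚ) ≤ ((Nat.card G : ℚ) - 1) / t := by
  classical
  open CfsgLib.Char in
  · set g := Nat.card G with hg
    set R : Finset (Cfsg.IrrCharacter G) := Finset.univ.filter fun χ =>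
      (χ : G → ℂ) ≠ (fun _ => 1) ∧ ∀ x : G, ((χ : G → ℂ) x).im = 0 with hR
    let d : Cfsg.IrrCharacter G → ℕ := fun χ => Cfsg.charDegree χ.1
    have hd : ∀ χ : Cfsg.IrrCharacter G, χ.1 1 = (d χ : ℂ) := fun χ => irr_one_eq χ.2
    have hdpos : ∀ χ : Cfsg.IrrCharacter G, 0 < d χ := fun χ => charDegree_pos χ.2
    have ht1 : 0 < t := by
      obtain ⟨x, hx⟩ := exists_prime_orderOf_dvd_card' 2 (even_iff_two_dvd.1 heven)
      rw [← ht]
      haveI : Nonempty {x : G // orderOf x = 2} := ⟨⟨x, hx⟩⟩
      exact Nat.card_pos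
    have hcnt : ((1 + t : ℕ) : ℂ) = ∑ χ : Cfsg.IrrCharacter G, fsInd χ.1 * χ.1 1 := by
      have h1 : ∀ s : G, ∑ χ : Cfsg.IrrCharacter G, χ.1 (s * s) * conj (χ.1 1) = if s * s = 1 then (g : ℂ) else 0 := by
        intro s
        rw [second_orth]
        by_cases hs : s * s = 1
        · rw [if_pos (by rw [hs]), if_pos hs]
          have : Subgroup.centralizer ({s * s} : Set G) = ⊤ := by
            rw [hs]; ext; simp [Subgroup.mem_centralizer_singleton_iff]
          rw [this, Subgroup.card_top]
        · rw [if_neg (fun h => hs (isConj_one_left.1 h)), if_neg hs]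
      have h2 : (Finset.univ.filter fun s : G => s * s = 1).card = 1 + t := by
        have : (Finset.univ.filter fun s : G => s * s = 1) = insert 1 (Finset.univ.filter fun s : G => orderOf s = 2) := by
          ext s
          simp only [Finset.mem_filter, Finset.mem_univ, true_and, Finset.mem_insert]
          constructor
          · intro h
            by_cases h1 : s = 1
            · exact Or.inl h1
            · exact Or.inr (orderOf_eq_prime (by rwa [sq]) h1)
          · rintro (rfl | h)
            · simp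
            · rw [← sq, ← h]; exact pow_orderOf_eq_one s
        rw [this, Finset.card_insert_of_notMem (by simp), ← Fintype.card_subtype, Fintype.card_eq_nat_card, ht]
        omega
      rw [← h2]
      have h3 : ∀ χ : Cfsg.IrrCharacter G, fsInd χ.1 * χ.1 1 = (g : ℂ)⁻¹ * ∑ s : G, χ.1 (s * s) * conj (χ.1 1) := by
        intro χ
        rw [fsInd, mul_assoc, Finset.sum_mul]
        congr 1
        refine Finset.sum_congr rfl fun s _ => ?_
        rw [hd, map_natCast]
      rw [Finset.sum_congr rfl fun χ _ => h3 χ, ← Finset.mul_sum, Finset.sum_comm,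
        Finset.sum_congr rfl fun s _ => h1 s, ← Finset.sum_filter, Finset.sum_const, nsmul_eq_mul]
      field_simp [natCard_ne_zero G]
      rw [mul_div_cancel_right₀ _ (natCard_ne_zero G)]
    set e : Cfsg.IrrCharacter G := ⟨fun _ => 1, isIrr_one⟩ with he
    have he1 : fsInd e.1 = 1 := by
      simp [fsInd, he, natCard_ne_zero G]
    have hkey : t ≤ ∑ χ ∈ R, d χ := by
      have hre : ((1 + t : ℕ) : ℝ) ≤ 1 + ∑ χ ∈ R, (d χ : ℝ) := by
        have h := congrArg Complex.re hcnt
        rw [Complex.natCast_re, Complex.re_sum] at h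
        rw [h, ← Finset.add_sum_erase _ _ (Finset.mem_univ e), he1]
        refine add_le_add (by simp [he]) ?_
        have hsub : R ⊆ Finset.univ.erase e := fun χ hχ => by
          refine Finset.mem_erase.2 ⟨fun e' => (Finset.mem_filter.1 hχ).2.1 ?_, Finset.mem_univ _⟩
          rw [e']
        refine le_of_eq_of_le (Finset.sum_subset hsub fun χ hχ hnot => ?_).symm (Finset.sum_le_sum fun χ _ => ?_)
        · have hne : χ.1 ≠ fun _ => 1 := fun e' => (Finset.mem_erase.1 hχ).1 (Subtype.ext e')
          obtain ⟨n, ρ, hirr, hρ⟩ := χ.2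
          have : ∃ x, conj (ρ.character x) ≠ ρ.character x := by
            by_contra hh
            push Not at hh
            refine hnot (Finset.mem_filter.2 ⟨Finset.mem_univ _, hne, fun x => ?_⟩)
            rw [← hρ]; exact Complex.conj_eq_iff_im.1 (hh x)
          rw [← hρ, fsInd_eq_zero ρ hirr this]
          simp
        · rw [hd]
          obtain ⟨n, ρ, hirr, hρ⟩ := χ.2
          by_cases hreal : ∀ x, conj (ρ.character x) = ρ.character x
          · obtain ⟨B, -, -, -, h1 | h1⟩ := fsInd_real ρ hirr hreal <;> rw [hρ] at h1 <;> rw [h1] <;> simp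
          · push Not at hreal
            have h1 := fsInd_eq_zero ρ hirr hreal
            rw [hρ] at h1
            rw [h1]; simp
      push_cast at hre
      have : (t : ℝ) ≤ ((∑ χ ∈ R, d χ : ℕ) : ℝ) := by push_cast; linarith
      exact_mod_cast this
    have hsq : (∑ χ ∈ R, d χ ^ 2) + 1 ≤ g := by
      have h1 : ((∑ χ : Cfsg.IrrCharacter G, d χ ^ 2 : ℕ) : ℂ) = (g : ℂ) := by
        rw [← sum_degree_sq]; push_cast
        exact Finset.sum_congr rfl fun χ _ => by rw [hd]
      have h2 : ∑ χ : Cfsg.IrrCharacter G, d χ ^ 2 = g := by exact_mod_cast h1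
      have he' : e ∉ R := fun h => (Finset.mem_filter.1 h).2.1 rfl
      have hde : d e = 1 := by
        have : (1 : ℂ) = (d e : ℂ) := hd e
        exact_mod_cast this.symm
      rw [← h2]
      calc (∑ χ ∈ R, d χ ^ 2) + 1 = ∑ χ ∈ insert e R, d χ ^ 2 := by
            rw [Finset.sum_insert he', hde, one_pow, add_comm]
        _ ≤ _ := Finset.sum_le_sum_of_subset (Finset.subset_univ _)
    have hsqQ : ∑ χ ∈ R, (d χ : ℚ) ^ 2 ≤ (g : ℚ) - 1 := by
      have : ((∑ χ ∈ R, d χ ^ 2 : ℕ) : ℚ) + 1 ≤ (g : ℚ) := by exact_mod_cast hsq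
      push_cast at this; linarith
    have htQ : (t : ℚ) ≤ ∑ χ ∈ R, (d χ : ℚ) := by exact_mod_cast hkey
    have ht0 : (0 : ℚ) < t := by exact_mod_cast ht1
    set α : ℚ := ((g : ℚ) - 1) / t with hα
    have hRne : R.Nonempty := by
      by_contra hh
      rw [Finset.not_nonempty_iff_eq_empty] at hh
      rw [hh, Finset.sum_empty] at hkey; omega
    have hg1 : (0 : ℚ) < (g : ℚ) - 1 := by
      obtain ⟨χ, hχ⟩ := hRne
      have : 0 < ∑ χ ∈ R, d χ ^ 2 := Finset.sum_pos (fun χ _ => pow_pos (hdpos χ) 2) ⟨χ, hχ⟩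
      have : (2 : ℚ) ≤ (g : ℚ) := by exact_mod_cast (show 2 ≤ g by omega)
      linarith
    have hα0 : 0 < α := div_pos hg1 ht0
    refine ⟨?_, ?_⟩
    · by_contra hh
      push Not at hh
      have hcs : (t : ℚ) ^ 2 ≤ (R.card : ℚ) * ((g : ℚ) - 1) :=
        ((pow_le_pow_left₀ ht0.le htQ 2).trans sq_sum_le_card_mul_sum_sq).trans
          (mul_le_mul_of_nonneg_left hsqQ (by positivity))
      have hk : R.card + 1 ≤ Nat.card (ConjClasses G) := by
        rw [← card_irr_eq_card_conjClasses, Nat.card_eq_fintype_card]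
        calc R.card + 1 = (insert e R).card := (Finset.card_insert_of_notMem fun h => (Finset.mem_filter.1 h).2.1 rfl).symm
          _ ≤ _ := Finset.card_le_univ _
      have hpairs : Nat.card (ConjClasses G) * g = ∑ x : G, Nat.card (Subgroup.centralizer ({x} : Set G)) := by
        rw [hg, ← card_comm_eq_card_conjClasses_mul_card, ← Nat.card_sigma]
        refine Nat.card_congr ⟨fun p => ⟨p.1.1, p.1.2, mem_centralizer_singleton.2 p.2.eq.symm⟩,
          fun s => ⟨(s.1, s.2.1), (mem_centralizer_singleton.1 s.2.2).symm⟩, fun p => rfl, fun s => rfl⟩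
      have h1 : ∀ x ∈ (Finset.univ.erase (1 : G)), (Nat.card (Subgroup.centralizer ({x} : Set G)) : ℚ) * α ^ 2 < g := by
        intro x hx
        have h2 := hh x (Finset.ne_of_mem_erase hx)
        have h3 : ((Subgroup.centralizer ({x} : Set G)).index : ℚ) * Nat.card (Subgroup.centralizer ({x} : Set G)) = g := by
          exact_mod_cast index_mul_card_centralizer x
        rw [← h3, mul_comm]
        exact mul_lt_mul_of_pos_right h2 (by exact_mod_cast Nat.card_pos)
      have hne : (Finset.univ.erase (1 : G)).Nonempty := by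
        obtain ⟨x, hx⟩ := exists_prime_orderOf_dvd_card' 2 (even_iff_two_dvd.1 heven)
        refine ⟨x, Finset.mem_erase.2 ⟨fun e' => ?_, Finset.mem_univ _⟩⟩
        rw [e', orderOf_one] at hx; omega
      have h4 := Finset.sum_lt_sum_of_nonempty hne h1
      rw [← Finset.sum_mul, Finset.sum_const, Finset.card_erase_of_mem (Finset.mem_univ _), Finset.card_univ,
        nsmul_eq_mul, Fintype.card_eq_nat_card, Nat.cast_sub Nat.card_pos, Nat.cast_one] at h4
      have h5 : (g : ℚ) + ∑ x ∈ Finset.univ.erase (1 : G), (Nat.card (Subgroup.centralizer ({x} : Set G)) : ℚ) = (Nat.card (ConjClasses G) : ℚ) * g := by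
        have hp : (Nat.card (ConjClasses G) : ℚ) * g = ∑ x : G, (Nat.card (Subgroup.centralizer ({x} : Set G)) : ℚ) := by exact_mod_cast hpairs
        rw [hp, ← Finset.add_sum_erase _ _ (Finset.mem_univ (1 : G))]
        have : Subgroup.centralizer ({(1 : G)} : Set G) = ⊤ := by ext; simp [Subgroup.mem_centralizer_singleton_iff]
        rw [this, Subgroup.card_top]
      have hk' : (R.card : ℚ) + 1 ≤ (Nat.card (ConjClasses G) : ℚ) := by exact_mod_cast hk
      have hg0 : (0 : ℚ) < g := by linarith
      have h6 : (R.card : ℚ) * g ≤ ∑ x ∈ Finset.univ.erase (1 : G), (Nat.card (Subgroup.centralizer ({x} : Set G)) : ℚ) := by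
        nlinarith
      have h7 : (R.card : ℚ) * g * α ^ 2 < ((g : ℚ) - 1) * g :=
        lt_of_le_of_lt (mul_le_mul_of_nonneg_right h6 (sq_nonneg α)) h4
      have h8 : (R.card : ℚ) * α ^ 2 < (g : ℚ) - 1 := by
        rw [mul_assoc, mul_comm (g : ℚ), ← mul_assoc] at h7
        exact lt_of_mul_lt_mul_right h7 hg0.le
      have h9 : α ^ 2 * (t : ℚ) ^ 2 = ((g : ℚ) - 1) ^ 2 := by rw [hα]; field_simp
      nlinarith [mul_le_mul_of_nonneg_left hcs (sq_nonneg α), mul_lt_mul_of_pos_right h8 hg1]
    · by_contra hh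
      push Not at hh
      have hlt : α * ∑ χ ∈ R, (d χ : ℚ) < ∑ χ ∈ R, (d χ : ℚ) ^ 2 := by
        rw [Finset.mul_sum]
        refine Finset.sum_lt_sum_of_nonempty hRne fun χ hχ => ?_
        rw [sq]
        obtain ⟨h1, h2⟩ := (Finset.mem_filter.1 hχ).2
        exact mul_lt_mul_of_pos_right (hh χ h1 h2) (by exact_mod_cast hdpos χ)
      have : α * t = (g : ℚ) - 1 := div_mul_cancel₀ _ ht0.ne'
      nlinarith [mul_le_mul_of_nonneg_left htQ hα0.le]

end Cfsg.Agent.S4476
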