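import Cfsg.Statements.S4477
import Cfsg.Agent.Char.FrobeniusSchur
import Cfsg.Agent.Char.Linear
import Cfsg.Agent.Char.Classes
import Mathlib.GroupTheory.PGroup
import Mathlib.GroupTheory.Sylow
import Mathlib.GroupTheory.FiniteAbelian.Duality
import Mathlib.GroupTheory.Abelianization.Defs
import Mathlib.LinearAlgebra.Dimension.Constructions
import Mathlib.RingTheory.RootsOfUnity.AlgebraicallyClosed
import Mathlib.Analysis.Complex.Polynomial.Basic

set_option autoImplicit false
open Cfsg

namespace Cfsg.Agent.S4477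
open scoped CfsgLib.Char ComplexConjugate


/-- Let G be a finite 2-group whose number of involutions is congruent to 1 modulo 4. Then G is cyclic or its commutator subgroup has index 4. -/
theorem result {G : Type*} [Group G] [Finite G] (hG : IsPGroup 2 G) (ht : Nat.card {x : G // orderOf x = 2} % 4 = 1) : IsCyclic G ∨ (commutator G).index = 4 := by
  classical
  haveI := Fintype.ofFinite G
  haveI : Fact (Nat.Prime 2) := ⟨Nat.prime_two⟩
  obtain ⟨a, hGc⟩ := IsPGroup.iff_card.1 hG
  open CfsgLib.Char in
  · set t := Nat.card {x : G // orderOf x = 2} with htdef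
    let ι : (G →* ℂˣ) → Cfsg.IrrCharacter G := fun μ => ⟨fun g => (μ g : ℂ), isIrr_linear μ⟩
    have hιinj : Function.Injective ι := fun μ ν e => coe_linear_injective (congrArg Subtype.val e)
    haveI : Finite (G →* ℂˣ) := Finite.of_injective ι hιinj
    haveI := Fintype.ofFinite (G →* ℂˣ)
    let Areal : Cfsg.IrrCharacter G → Prop := fun χ => ∀ g, conj (χ.1 g) = χ.1 g
    let L : Finset (G →* ℂˣ) := Finset.univ.filter fun μ => μ * μ = 1
    let D : Finset (Cfsg.IrrCharacter G) := Finset.univ.filter fun χ => χ.1 1 = 2 ∧ Areal χ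
    -- a hom is real exactly when it squares to one
    have hreal : ∀ μ : G →* ℂˣ, Areal (ι μ) ↔ μ * μ = 1 := by
      intro μ
      have hn : ∀ g, conj (μ g : ℂ) = ((μ g)⁻¹ : ℂˣ) := fun g => by
        rw [Units.val_inv_eq_inv_val, conj_root (orderOf_pos g).ne' (linear_root μ g)]
      constructor
      · intro h
        refine MonoidHom.ext fun g => ?_
        have := (hn g).symm.trans (h g)
        rw [Units.val_inj] at this
        rw [MonoidHom.mul_apply, MonoidHom.one_apply]
        nth_rewrite 1 [← this]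
        exact inv_mul_cancel _
      · intro h g
        have := DFunLike.congr_fun h g
        rw [MonoidHom.mul_apply, MonoidHom.one_apply] at this
        show conj (μ g : ℂ) = _
        rw [hn, inv_eq_of_mul_eq_one_right this]
    have hdeg : ∀ χ : Cfsg.IrrCharacter G, ∃ j : ℕ, Cfsg.charDegree χ.1 = 2 ^ j := fun χ => by
      obtain ⟨j, -, hj⟩ := (Nat.dvd_prime_pow Nat.prime_two).1 (hGc ▸ degree_dvd_card χ.2)
      exact ⟨j, hj⟩
    have hν : ∀ χ : Cfsg.IrrCharacter G, ∃ e : ℤ, (e : ℂ) = fsInd χ.1 ∧ ((Areal χ → e = 1 ∨ e = -1) ∧ (¬ Areal χ → e = 0)) := by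
      intro χ
      obtain ⟨n, ρ, hirr, hρ⟩ := χ.2
      by_cases h : Areal χ
      · obtain ⟨B, -, -, -, h1 | h1⟩ := fsInd_real ρ hirr (fun g => by rw [hρ]; exact h g) <;> rw [hρ] at h1
        · exact ⟨1, by rw [h1]; simp, fun _ => Or.inl rfl, fun h' => absurd h h'⟩
        · exact ⟨-1, by rw [h1]; simp, fun _ => Or.inr rfl, fun h' => absurd h h'⟩
      · have h1 := fsInd_eq_zero ρ hirr (by
          by_contra hh
          push Not at hh
          exact h (fun g => by rw [← hρ]; exact hh g))
        rw [hρ] at h1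
        exact ⟨0, by rw [h1]; simp, fun h' => absurd h' h, fun _ => rfl⟩
    choose e he hereal henon using hν
    have hcnt : ((1 + t : ℕ) : ℂ) = ∑ χ : Cfsg.IrrCharacter G, fsInd χ.1 * χ.1 1 := by
      have h1 : ∀ s : G, ∑ χ : Cfsg.IrrCharacter G, χ.1 (s * s) * conj (χ.1 1) = if s * s = 1 then (Nat.card G : ℂ) else 0 := by
        intro s
        rw [second_orth]
        by_cases hs : s * s = 1
        · rw [if_pos (by rw [hs]), if_pos hs]
          have : Subgroup.centralizer ({s * s} : Set G) = ⊤ := by
            rw [hs]; ext; simp [Subgroup.mem_centralizer_singleton_iff]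
          rw [this, Subgroup.card_top]
        · rw [if_neg (fun h => hs (isConj_one_left.1 h)), if_neg hs]
      have h2 : (Finset.univ.filter fun s : G => s * s = 1).card = 1 + t := by
        have : (Finset.univ.filter fun s : G => s * s = 1) = insert 1 (Finset.univ.filter fun s : G => orderOf s = 2) := by
          ext s
          simp only [Finset.mem_filter, Finset.mem_univ, true_and, Finset.mem_insert]
          constructor
          · intro h
            by_cases h1 : s = 1
            · exact Or.inl h1
            · exact Or.inr (orderOf_eq_prime (by rwa [sq]) h1)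
          · rintro (rfl | h)
            · simp
            · rw [← sq, ← h]; exact pow_orderOf_eq_one s
        rw [this, Finset.card_insert_of_notMem (by simp), htdef, ← Fintype.card_subtype, Fintype.card_eq_nat_card]
        omega
      rw [← h2]
      have h3 : ∀ χ : Cfsg.IrrCharacter G, fsInd χ.1 * χ.1 1 = (Nat.card G : ℂ)⁻¹ * ∑ s : G, χ.1 (s * s) * conj (χ.1 1) := by
        intro χ
        rw [fsInd, mul_assoc, Finset.sum_mul]
        congr 1
        refine Finset.sum_congr rfl fun s _ => ?_
        rw [irr_one_eq χ.2, map_natCast]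
      rw [Finset.sum_congr rfl fun χ _ => h3 χ, ← Finset.mul_sum, Finset.sum_comm,
        Finset.sum_congr rfl fun s _ => h1 s, ← Finset.sum_filter, Finset.sum_const, nsmul_eq_mul,
        mul_comm (_ : ℂ) (Nat.card G : ℂ), inv_mul_cancel_left₀ (natCard_ne_zero G)]
    have hone : ∀ μ : G →* ℂˣ, μ ∈ L → e (ι μ) = 1 := by
      intro μ hμ
      have : (e (ι μ) : ℂ) = 1 := by
        rw [he]
        have hμ' := (Finset.mem_filter.1 hμ).2
        simp only [fsInd, ι]
        have : ∀ s : G, ((μ (s * s) : ℂˣ) : ℂ) = 1 := fun s => by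
          rw [map_mul, ← MonoidHom.mul_apply, hμ']; rfl
        rw [Finset.sum_congr rfl fun s _ => this s]
        simp [natCard_ne_zero G]
      exact_mod_cast this
    have hmod : ((1 + t : ℕ) : ZMod 4) = (L.card : ZMod 4) + 2 * (D.card : ZMod 4) := by
      have hz : ((1 + t : ℕ) : ℤ) = ∑ χ : Cfsg.IrrCharacter G, e χ * (Cfsg.charDegree χ.1 : ℤ) := by
        have h : ((((1 + t : ℕ) : ℤ)) : ℂ) = ((∑ χ : Cfsg.IrrCharacter G, e χ * (Cfsg.charDegree χ.1 : ℤ) : ℤ) : ℂ) := by
          rw [Int.cast_natCast, hcnt, Int.cast_sum]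
          exact Finset.sum_congr rfl fun χ _ => by rw [Int.cast_mul, he, Int.cast_natCast, irr_one_eq χ.2]
        exact_mod_cast h
      have hz4 := congrArg (fun z : ℤ => (z : ZMod 4)) hz
      simp only [Int.cast_natCast, Int.cast_sum, Int.cast_mul] at hz4
      rw [hz4, ← Finset.sum_subset (Finset.subset_univ (L.image ι ∪ D))]
      · rw [Finset.sum_union, Finset.sum_image fun a _ b _ h => hιinj h]
        · congr 1
          · rw [Finset.sum_congr rfl fun μ hμ => ?_, Finset.sum_const, nsmul_one]
            rw [hone μ hμ, charDegree_eq (χ := (ι μ).1) (n := 1) (by simp [ι])]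
            simp
          · rw [Finset.sum_congr rfl fun χ hχ => ?_, Finset.sum_const, nsmul_eq_mul, mul_comm]
            obtain ⟨h2, hr⟩ := (Finset.mem_filter.1 hχ).2
            rw [charDegree_eq (χ := χ.1) (n := 2) (by rw [h2]; norm_num)]
            rcases hereal χ hr with h | h <;> rw [h] <;> decide
        · rw [Finset.disjoint_left]
          rintro χ hχ hχD
          obtain ⟨μ, -, rfl⟩ := Finset.mem_image.1 hχ
          have := (Finset.mem_filter.1 hχD).2.1
          simp [ι] at this
      · intro χ _ hnot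
        rw [Finset.mem_union, not_or] at hnot
        by_cases hr : Areal χ
        · obtain ⟨j, hj⟩ := hdeg χ
          rcases j with _ | _ | j
          · exfalso
            obtain ⟨μ, hμ⟩ := exists_hom_of_degree_one (isCharacter_of_isIrr χ.2) (by rw [irr_one_eq χ.2, hj]; simp)
            refine hnot.1 (Finset.mem_image.2 ⟨μ, Finset.mem_filter.2 ⟨Finset.mem_univ _, (hreal μ).1 fun g => ?_⟩, Subtype.ext hμ.symm⟩)
            have := hr g
            rw [hμ] at this
            exact this
          · exact absurd (Finset.mem_filter.2 ⟨Finset.mem_univ _, by rw [irr_one_eq χ.2, hj]; norm_num, hr⟩) hnot.2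
          · rw [hj, pow_succ, pow_succ, mul_assoc]
            push_cast
            rw [show (2 : ZMod 4) ^ j * 4 = 0 from by rw [show (4 : ZMod 4) = 0 from rfl, mul_zero], mul_zero]
        · rw [henon χ hr]; simp
    -- the group of real linear characters
    let Lg : Subgroup (G →* ℂˣ) := (powMonoidHom 2).ker
    let A : Subgroup (G →* ℂˣ) := (powMonoidHom 4).ker
    have hLmem : ∀ μ, μ ∈ L ↔ μ ∈ Lg := fun μ => by simp [L, Lg, MonoidHom.mem_ker, sq]
    have hLcard : L.card = Nat.card Lg := by
      rw [Nat.card_eq_fintype_card, Fintype.card_subtype]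
      exact congrArg Finset.card (Finset.ext fun μ => by simp [hLmem])
    have hpg2 : IsPGroup 2 Lg := fun μ => ⟨1, Subtype.ext (by rw [pow_one]; exact μ.2)⟩
    have hpg4 : IsPGroup 2 A := fun μ => ⟨2, Subtype.ext (by exact μ.2)⟩
    obtain ⟨r, hr⟩ := IsPGroup.iff_card.1 hpg2
    have ht4 : ((1 + t : ℕ) : ZMod 4) = 2 := by
      rw [show 1 + t = 4 * (t / 4) + 2 by omega]
      push_cast
      rw [show (4 : ZMod 4) = 0 from rfl, zero_mul, zero_add]
    rw [ht4, hLcard, hr] at hmod
    rcases r with _ | _ | r
    · exfalso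
      have h2 : ∀ x : ZMod 4, (2 : ZMod 4) ≠ 1 + 2 * x := by decide
      exact h2 _ (by simpa using hmod)
    · -- two real linear characters: a unique maximal subgroup
      left
      have hco : ∀ M : Subgroup G, IsCoatom M → ∀ M' : Subgroup G, IsCoatom M' → M = M' := by
        have hidx : ∀ M : Subgroup G, IsCoatom M → M.index = 2 := by
          intro M hM
          obtain ⟨k, hk⟩ := IsPGroup.iff_card.1 (hG.to_subgroup M)
          have hlt : k < a := by
            by_contra hh
            refine hM.1 (Subgroup.eq_top_of_card_eq _ ?_)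
            refine le_antisymm M.card_le_card_group ?_
            rw [hGc, hk]; exact Nat.pow_le_pow_right two_pos (by omega)
          obtain ⟨K, hK, hMK⟩ := Sylow.exists_subgroup_card_pow_succ (hGc ▸ pow_dvd_pow 2 hlt) hk
          have hKt : K = ⊤ := hM.2 K (lt_of_le_of_ne hMK fun e' => by
            rw [← e', hk] at hK
            have := Nat.pow_right_injective le_rfl hK
            omega)
          rw [hKt, Subgroup.card_top, ← M.card_mul_index, hk, pow_succ] at hK
          exact Nat.eq_of_mul_eq_mul_left (pow_pos two_pos k) hK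
        intro M hM M' hM'
        by_contra hne
        let sg : ∀ M : Subgroup G, M.index = 2 → (G →* ℂˣ) := fun M hM =>
          MonoidHom.mk' (fun g => if g ∈ M then 1 else -1) fun x y => by
            have := Subgroup.mul_mem_iff_of_index_two hM (a := x) (b := y)
            by_cases h1 : x ∈ M <;> by_cases h2 : y ∈ M <;> simp [h1, h2, this]
        have hsg : ∀ (M : Subgroup G) (h : M.index = 2) (g : G), sg M h g = 1 ↔ g ∈ M := fun M h g => by
          show (if g ∈ M then (1 : ℂˣ) else -1) = 1 ↔ _
          split_ifs with hg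
          · simp [hg]
          · simp only [hg, iff_false]
            intro e'
            have : ((-1 : ℂˣ) : ℂ) = 1 := by rw [e']; rfl
            norm_num at this
        have hsgL : ∀ (M : Subgroup G) (h : M.index = 2), sg M h ∈ Lg ∧ sg M h ≠ 1 := fun M h => by
          refine ⟨MonoidHom.mem_ker.2 (MonoidHom.ext fun g => ?_), fun e' => ?_⟩
          · show (if g ∈ M then (1 : ℂˣ) else -1) ^ 2 = 1
            split_ifs <;> simp
          · refine (show M ≠ ⊤ from fun et => by simp [et] at h) (eq_top_iff.2 fun g _ => (hsg M h g).1 ?_)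
            rw [e']; rfl
        haveI : Fintype Lg := Fintype.ofFinite _
        have h3 : ({⟨1, Lg.one_mem⟩, ⟨sg M (hidx M hM), (hsgL M (hidx M hM)).1⟩, ⟨sg M' (hidx M' hM'), (hsgL M' (hidx M' hM')).1⟩} : Finset Lg).card = 3 := by
          refine Finset.card_eq_three.2 ⟨_, _, _, fun e' => (hsgL M (hidx M hM)).2 (congrArg Subtype.val e').symm,
            fun e' => (hsgL M' (hidx M' hM')).2 (congrArg Subtype.val e').symm, fun e' => hne ?_, rfl⟩
          ext g
          rw [← hsg M (hidx M hM), ← hsg M' (hidx M' hM')]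
          rw [show sg M (hidx M hM) = sg M' (hidx M' hM') from congrArg Subtype.val e']
        have := Finset.card_le_univ ({⟨1, Lg.one_mem⟩, ⟨sg M (hidx M hM), (hsgL M (hidx M hM)).1⟩, ⟨sg M' (hidx M' hM'), (hsgL M' (hidx M' hM')).1⟩} : Finset Lg)
        rw [h3, ← Nat.card_eq_fintype_card, hr] at this
        norm_num at this
      by_cases htop : ∃ M : Subgroup G, IsCoatom M
      · obtain ⟨M, hM⟩ := htop
        obtain ⟨x, hx⟩ : ∃ x, x ∉ M := by
          by_contra hh
          push Not at hh
          exact hM.1 (eq_top_iff.2 fun g _ => hh g)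
        refine ⟨x, fun g => ?_⟩
        rcases eq_top_or_exists_le_coatom (Subgroup.zpowers x) with hz | ⟨M', hM', hle⟩
        · exact Subgroup.mem_zpowers_iff.1 (hz ▸ Subgroup.mem_top g)
        · exact absurd (hco M hM M' hM' ▸ hle (Subgroup.mem_zpowers x)) hx
      · refine ⟨1, fun g => ?_⟩
        rcases eq_top_or_exists_le_coatom (Subgroup.zpowers (1 : G)) with hz | ⟨M', hM', -⟩
        · exact Subgroup.mem_zpowers_iff.1 (hz ▸ Subgroup.mem_top g)
        · exact absurd ⟨M', hM'⟩ htop
    · right
      have hm : ¬ 2 ∣ D.card := by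
        rintro ⟨k, hk⟩
        rw [hk, show r + 1 + 1 = r + 2 from rfl, pow_add] at hmod
        push_cast at hmod
        rw [← mul_assoc, show ((2 : ZMod 4) * 2) = 0 from by decide, show (4 : ZMod 4) = 0 from rfl, mul_zero, zero_mul, add_zero] at hmod
        exact absurd hmod (by decide)
      -- multiplication by linear characters
      let mulχ : (G →* ℂˣ) → Cfsg.IrrCharacter G → Cfsg.IrrCharacter G := fun μ χ =>
        ⟨fun g => (μ g : ℂ) * χ.1 g, by
          have h := irr_mul_linear χ.2 μ
          convert h using 1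
          ext g
          first | rfl | exact mul_comm _ _⟩
      have hmulD : ∀ μ ∈ Lg, ∀ χ ∈ D, mulχ μ χ ∈ D := by
        intro μ hμ χ hχ
        obtain ⟨h2, hr'⟩ := (Finset.mem_filter.1 hχ).2
        refine Finset.mem_filter.2 ⟨Finset.mem_univ _, by simp [mulχ, h2], fun g => ?_⟩
        show conj ((μ g : ℂ) * χ.1 g) = _
        have hc : conj (μ g : ℂ) = (μ g : ℂ) := (hreal μ).2 ((Finset.mem_filter.1 ((hLmem μ).2 hμ)).2) g
        rw [map_mul, hc, hr' g]
      letI : MulAction Lg D :=
        { smul := fun μ χ => ⟨mulχ μ.1 χ.1, hmulD μ.1 μ.2 χ.1 χ.2⟩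
          one_smul := fun χ => Subtype.ext (Subtype.ext (funext fun g => by
            show (((1 : Lg) : G →* ℂˣ) g : ℂ) * _ = _
            simp))
          mul_smul := fun μ ν χ => Subtype.ext (Subtype.ext (funext fun g => by
            show (((μ * ν : Lg) : G →* ℂˣ) g : ℂ) * _ = (μ.1 g : ℂ) * ((ν.1 g : ℂ) * _)
            simp [mul_assoc])) }
      have hfixne : (MulAction.fixedPoints Lg D).Nonempty := by
        refine hpg2.nonempty_fixed_point_of_prime_not_dvd_card D ?_
        rwa [Nat.card_eq_fintype_card, Fintype.card_coe]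
      let F := MulAction.fixedPoints Lg D
      have hFodd : ¬ 2 ∣ Nat.card F := by
        intro hd
        have h := hpg2.card_modEq_card_fixedPoints D
        refine hm ?_
        rw [← Fintype.card_coe, ← Nat.card_eq_fintype_card]
        exact (Nat.ModEq.dvd_iff h dvd_rfl).2 hd
      have hsq : ∀ μ ∈ A, μ⁻¹ * μ⁻¹ ∈ Lg := fun μ hμ => by
        have h4 : μ ^ 4 = 1 := hμ
        refine MonoidHom.mem_ker.2 (MonoidHom.ext fun g => ?_)
        show ((μ g)⁻¹ * (μ g)⁻¹) ^ 2 = 1
        rw [← sq, ← pow_mul, inv_pow, show μ g ^ (2 * 2) = 1 from DFunLike.congr_fun h4 g, inv_one]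
      have hA_act : ∀ μ ∈ A, ∀ χ : F, mulχ μ χ.1.1 ∈ D ∧ ∀ ν : Lg, mulχ ν.1 (mulχ μ χ.1.1) = mulχ μ χ.1.1 := by
        intro μ hμ χ
        have hfix : ∀ ν : Lg, mulχ ν.1 χ.1.1 = χ.1.1 := fun ν => congrArg Subtype.val (χ.2 ν)
        obtain ⟨h2, hr'⟩ := (Finset.mem_filter.1 χ.1.2).2
        refine ⟨Finset.mem_filter.2 ⟨Finset.mem_univ _, by simp [mulχ, h2], fun g => ?_⟩, fun ν => Subtype.ext (funext fun g => ?_)⟩
        · show conj ((μ g : ℂ) * χ.1.1.1 g) = _
          rw [map_mul, conj_root (orderOf_pos g).ne' (linear_root μ g), hr' g]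
          show (μ g : ℂ)⁻¹ * χ.1.1.1 g = (μ g : ℂ) * χ.1.1.1 g
          have h := congrArg (fun c : Cfsg.IrrCharacter G => c.1 g) (hfix ⟨_, hsq μ hμ⟩)
          simp only [mulχ, MonoidHom.mul_apply, MonoidHom.inv_apply, Units.val_mul, Units.val_inv_eq_inv_val] at h
          conv_rhs => rw [← h]
          rw [← mul_assoc, ← mul_assoc, mul_inv_cancel₀ (Units.ne_zero _), one_mul]
        · show (ν.1 g : ℂ) * ((μ g : ℂ) * χ.1.1.1 g) = (μ g : ℂ) * χ.1.1.1 g
          rw [mul_left_comm]
          exact congrArg _ (congrArg (fun c : Cfsg.IrrCharacter G => c.1 g) (hfix ν))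
      letI : MulAction A F :=
        { smul := fun μ χ => ⟨⟨mulχ μ.1 χ.1.1, (hA_act μ.1 μ.2 χ).1⟩, fun ν => Subtype.ext ((hA_act μ.1 μ.2 χ).2 ν)⟩
          one_smul := fun χ => Subtype.ext (Subtype.ext (Subtype.ext (funext fun g => by
            show (((1 : A) : G →* ℂˣ) g : ℂ) * _ = _
            simp)))
          mul_smul := fun μ ν χ => Subtype.ext (Subtype.ext (Subtype.ext (funext fun g => by
            show (((μ * ν : A) : G →* ℂˣ) g : ℂ) * _ = (μ.1 g : ℂ) * ((ν.1 g : ℂ) * _)
            simp [mul_assoc]))) }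
      obtain ⟨χ, hχ⟩ := hpg4.nonempty_fixed_point_of_prime_not_dvd_card F hFodd
      obtain ⟨h2, -⟩ := (Finset.mem_filter.1 χ.1.2).2
      let K : Subgroup G := ⨅ μ : A, (μ.1).ker
      have hvan : ∀ g, g ∉ K → χ.1.1.1 g = 0 := by
        intro g hg
        simp only [K, Subgroup.mem_iInf, MonoidHom.mem_ker, not_forall] at hg
        obtain ⟨μ, hμ⟩ := hg
        have h := congrArg (fun c : F => c.1.1.1 g) (hχ μ)
        change (μ.1 g : ℂ) * χ.1.1.1 g = χ.1.1.1 g at h
        exact (mul_left_eq_self₀.1 h).resolve_left fun e' => hμ (Units.val_eq_one.1 e')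
      have hbound : Nat.card G ≤ 4 * Nat.card K := by
        have h1 := irr_inner_self χ.1.1.2
        rw [classInner_def, inv_mul_eq_iff_eq_mul₀ (natCard_ne_zero G), mul_one] at h1
        have h2' : (Nat.card G : ℝ) = ∑ g : G, ‖χ.1.1.1 g‖ ^ 2 := by
          have := congrArg Complex.re h1
          rw [Complex.natCast_re, Complex.re_sum] at this
          rw [← this]
          exact Finset.sum_congr rfl fun g _ => by rw [Complex.mul_conj', ← Complex.ofReal_pow, Complex.ofReal_re]
        have hdeg2 : Cfsg.charDegree χ.1.1.1 = 2 := charDegree_eq (by rw [h2]; norm_num)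
        have : (Nat.card G : ℝ) ≤ 4 * (Nat.card K : ℝ) := by
          rw [h2', ← Finset.sum_filter_of_ne (p := fun g => g ∈ K) (fun g _ hne => by
            by_contra hg; exact hne (by rw [hvan g hg]; simp))]
          calc ∑ g ∈ Finset.univ.filter (fun g => g ∈ K), ‖χ.1.1.1 g‖ ^ 2
              ≤ ∑ g ∈ Finset.univ.filter (fun g => g ∈ K), (4 : ℝ) := by
                refine Finset.sum_le_sum fun g _ => ?_
                have h := char_norm_le (isCharacter_of_isIrr χ.1.1.2) g
                rw [hdeg2] at h
                push_cast at h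
                nlinarith [norm_nonneg (χ.1.1.1 g)]
            _ = 4 * (Nat.card K : ℝ) := by
                rw [Finset.sum_const, nsmul_eq_mul, mul_comm, ← Fintype.card_subtype, Fintype.card_eq_nat_card]
        exact_mod_cast this
      haveI : K.Normal := Subgroup.normal_iInf_normal fun μ => MonoidHom.normal_ker _
      have hAK : Nat.card A ≤ K.index := by
        haveI := Fintype.ofFinite (G ⧸ K)
        haveI := Fintype.ofFinite A
        have hl : ∀ μ : A, ∀ g ∈ K, μ.1 g = 1 := fun μ g hg => MonoidHom.mem_ker.1 (Subgroup.mem_iInf.1 hg μ)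
        let v : A → (G ⧸ K →* ℂ) := fun μ => (Units.coeHom ℂ).comp (QuotientGroup.lift K μ.1 (hl μ))
        have hv : Function.Injective v := fun μ ν e' => Subtype.ext (MonoidHom.ext fun g => Units.ext (DFunLike.congr_fun e' (g : G ⧸ K)))
        have hli := (linearIndependent_monoidHom (G ⧸ K) ℂ).comp v hv
        have h := hli.fintype_card_le_finrank
        rwa [Module.finrank_fintype_fun_eq_card, Fintype.card_eq_nat_card, Fintype.card_eq_nat_card, ← Subgroup.index_eq_card] at h
      have hA4 : Nat.card A ≤ 4 := by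
        refine hAK.trans (Nat.le_of_mul_le_mul_left ?_ (Nat.card_pos (α := K)))
        rw [Subgroup.card_mul_index]; rwa [mul_comm] at hbound
      have hLA : Lg ≤ A := fun μ hμ => by
        have : μ ^ 2 = 1 := hμ
        show μ ^ 4 = 1
        refine MonoidHom.ext fun g => ?_
        show μ g ^ 4 = 1
        rw [show 4 = 2 * 2 from rfl, pow_mul, show μ g ^ 2 = 1 from DFunLike.congr_fun this g, one_pow]
      have hAeq : Lg = A := Subgroup.eq_of_le_of_card_ge hLA (by
        rw [hr]; exact hA4.trans (le_trans (by norm_num) (Nat.pow_le_pow_right two_pos (show 2 ≤ r + 1 + 1 by omega))))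
      have hall : ∀ μ : G →* ℂˣ, μ ∈ Lg := by
        intro μ
        have hex : ∃ j, μ ^ 2 ^ j = 1 := ⟨a, MonoidHom.ext fun g => by
          rw [MonoidHom.pow_apply, ← map_pow, ← hGc, pow_card_eq_one', map_one]; rfl⟩
        obtain ⟨j, hj⟩ := hex
        induction j with
        | zero => rw [pow_zero, pow_one] at hj; exact hj ▸ Lg.one_mem
        | succ j ih =>
          rcases j with _ | j
          · show μ ^ 2 = 1
            simpa using hj
          · refine ih ?_
            have h4 : μ ^ 2 ^ j ∈ A := by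
              show (μ ^ 2 ^ j) ^ 4 = 1
              rw [← pow_mul, show 2 ^ j * 4 = 2 ^ (j + 1 + 1) by ring, hj]
            rw [← hAeq] at h4
            have h5 : (μ ^ 2 ^ j) ^ 2 = 1 := h4
            rwa [← pow_mul, ← pow_succ] at h5
      haveI : Finite (Abelianization G) :=
        Finite.of_surjective (Abelianization.of : G → Abelianization G) QuotientGroup.mk_surjective
      have hcardHom : Nat.card (G →* ℂˣ) = (commutator G).index := by
        rw [Nat.card_congr (Abelianization.lift (G := G) (A := ℂˣ)), CommGroup.card_monoidHom_of_hasEnoughRootsOfUnity, Subgroup.index_eq_card]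
        rfl
      have htopL : Lg = ⊤ := eq_top_iff.2 fun μ _ => hall μ
      rw [← hcardHom, ← Subgroup.card_top, ← htopL]
      refine le_antisymm ?_ ?_
      · rw [hAeq]; exact hA4
      · rw [hr]; exact le_trans (by norm_num) (Nat.pow_le_pow_right two_pos (show 2 ≤ r + 1 + 1 by omega))

end Cfsg.Agent.S4477
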