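import Cfsg.Statements.S4478
import Cfsg.Agent.Blk.SecondMain
import Cfsg.Agent.Blk.Bounds
import Cfsg.Agent.Blk.Criterion
import Cfsg.Agent.Char.FrobeniusSchur
import Cfsg.Agent.Char.Classes

set_option autoImplicit false
open Cfsg

namespace Cfsg.Agent.S4478
open CfsgLib.Char
open scoped CfsgLib.Char ComplexConjugate

theorem vanish_singular {G : Type*} [Group G] [Fintype G] {p : ℕ} [Fact p.Prime]
    (χ : Cfsg.IrrCharacter G)
    (hd : p ^ (Nat.card G).factorization p ∣ Cfsg.charDegree (χ : G → ℂ)) {g : G}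
    (hg : p ∣ orderOf g) : (χ : G → ℂ) g = 0 := by
  have hp : p.Prime := Fact.out
  obtain ⟨M, hM⟩ := CfsgLib.Blk.exists_isPModular hp
  haveI : M.IsPrime := hM.2.1.isPrime
  obtain ⟨x, hx⟩ := CfsgLib.Blk.exists_isPPart hp g
  refine CfsgLib.Blk.char_eq_zero_of_notMem_defectGroup hM χ hx fun D hD hxD => ?_
  have hB : Cfsg.IsPBlock M (Cfsg.blockOf M (χ : G → ℂ)) := CfsgLib.Blk.blockOf_isPBlock χ
  have hmem : χ ∈ Cfsg.blockOf M (χ : G → ℂ) := CfsgLib.Blk.sameBlock_refl _
  have h1 : (Cfsg.charDegree (χ : G → ℂ)).factorization p = CfsgLib.Blk.pExp p G -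
      Cfsg.blockDefect p (Cfsg.blockOf M (χ : G → ℂ)) +
      Cfsg.blockHeight p (Cfsg.blockOf M (χ : G → ℂ)) (χ : G → ℂ) :=
    CfsgLib.Blk.degExp_eq_height_add hM hB hmem
  have h2 : CfsgLib.Blk.pExp p G ≤ (Cfsg.charDegree (χ : G → ℂ)).factorization p :=
    (hp.pow_dvd_iff_le_factorization (charDegree_pos χ.2).ne').1 hd
  have h3 : Cfsg.blockDefect p (Cfsg.blockOf M (χ : G → ℂ)) ≤ CfsgLib.Blk.pExp p G :=
    CfsgLib.Blk.blockDefect_le hM _
  have hd0 : Cfsg.blockDefect p (Cfsg.blockOf M (χ : G → ℂ)) = 0 := by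
    rcases Nat.eq_zero_or_pos (Cfsg.blockHeight p (Cfsg.blockOf M (χ : G → ℂ)) (χ : G → ℂ)) with
      h0 | h0
    · omega
    · have := (CfsgLib.Blk.height_bounds hM hB hmem h0).2
      omega
  have hD1 : D = ⊥ := by
    apply Subgroup.card_eq_one.1
    rw [CfsgLib.Blk.card_defectGroup hM hB hD, hd0, pow_zero]
  rw [hD1, Subgroup.mem_bot] at hxD
  exact ((CfsgLib.Blk.isPPart_eq_one_iff hp hx).1 hxD) hg

theorem fsInd_cases {G : Type*} [Group G] [Fintype G] {χ : G → ℂ} (hχ : Cfsg.IsIrrCharacter G χ) :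
    fsInd χ = 0 ∨ fsInd χ = 1 ∨ fsInd χ = -1 := by
  obtain ⟨n, ρ, hirr, rfl⟩ := hχ
  by_cases h : ∀ g, conj (ρ.character g) = ρ.character g
  · obtain ⟨B, -, -, -, h1⟩ := fsInd_real ρ hirr h
    exact Or.inr h1
  · push Not at h
    exact Or.inl (fsInd_eq_zero ρ hirr h)


/-- Let G be a finite group of even order and χ an irreducible character of G whose degree x is divisible by the full power of 2 dividing the order of G and, for every odd prime p such that G has an element of order 2p, by the full power of p dividing the order of G. Then all involutions of G are conjugate, the centralizer of every involution has order exactly x with x coprime to its index, and the Frobenius–Schur indicator of χ equals 1. -/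
theorem result {G : Type*} [Group G] [Fintype G] (heven : Even (Nat.card G)) (χ : Cfsg.IrrCharacter G) (h2 : 2 ^ (Nat.card G).factorization 2 ∣ Cfsg.charDegree (χ : G → ℂ)) (hp : ∀ p : ℕ, p.Prime → p ≠ 2 → (∃ g : G, orderOf g = 2 * p) → p ^ (Nat.card G).factorization p ∣ Cfsg.charDegree (χ : G → ℂ)) : (∀ s t : G, orderOf s = 2 → orderOf t = 2 → IsConj s t) ∧ (∀ s : G, orderOf s = 2 → Nat.card (Subgroup.centralizer ({s} : Set G)) = Cfsg.charDegree (χ : G → ℂ) ∧ (Nat.card (Subgroup.centralizer ({s} : Set G))).Coprime (Subgroup.centralizer ({s} : Set G)).index) ∧ (Nat.card G : ℂ)⁻¹ * ∑ g : G, (χ : G → ℂ) (g * g) = 1 := by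
  classical
  haveI : Fact (Nat.Prime 2) := ⟨Nat.prime_two⟩
  set x := Cfsg.charDegree (χ : G → ℂ) with hx
  obtain ⟨s₀, hs₀⟩ := exists_prime_orderOf_dvd_card' 2 (even_iff_two_dvd.1 heven)
  have hvan : ∀ (g : G) (p : ℕ), p.Prime → p ∣ orderOf g → (p = 2 ∨ ∃ y : G, orderOf y = 2 * p) →
      (χ : G → ℂ) g = 0 := by
    intro g p hpp hdvd hbad
    haveI := Fact.mk hpp
    refine vanish_singular χ ?_ hdvd
    by_cases h2p : p = 2
    · subst h2p; exact h2
    · exact hp p hpp h2p (hbad.resolve_left h2p)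
  have hbadC : ∀ (s : G), orderOf s = 2 → ∀ p : ℕ, p.Prime →
      p ∣ Nat.card (Subgroup.centralizer ({s} : Set G)) → p = 2 ∨ ∃ y : G, orderOf y = 2 * p := by
    intro s hs p hpp hd
    by_cases h2p : p = 2
    · exact Or.inl h2p
    haveI := Fact.mk hpp
    obtain ⟨c, hc⟩ := exists_prime_orderOf_dvd_card' p hd
    refine Or.inr ⟨s * c, ?_⟩
    have hcm : Commute s (c : G) := (Subgroup.mem_centralizer_singleton_iff.1 c.2).symm
    rw [hcm.orderOf_mul_eq_mul_orderOf_of_coprime (by
      rw [hs, Subgroup.orderOf_coe, hc]; exact (Nat.coprime_primes Nat.prime_two hpp).2 (Ne.symm h2p)),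
      hs, Subgroup.orderOf_coe, hc]
  have hCvan : ∀ (s : G), orderOf s = 2 → ∀ g : Subgroup.centralizer ({s} : Set G), g ≠ 1 →
      (χ : G → ℂ) g = 0 := by
    intro s hs g hg
    obtain ⟨p, hpp, hpd⟩ := Nat.exists_prime_and_dvd (mt orderOf_eq_one_iff.1 hg)
    exact hvan g p hpp (by rwa [Subgroup.orderOf_coe])
      (hbadC s hs p hpp (hpd.trans (orderOf_dvd_natCard g)))
  have hdvdC : ∀ (s : G), orderOf s = 2 → Nat.card (Subgroup.centralizer ({s} : Set G)) ∣ x := by
    intro s hs
    haveI := Fintype.ofFinite (Subgroup.centralizer ({s} : Set G))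
    obtain ⟨m, hm⟩ := inner_char_char
      (isCharacter_restrict (Subgroup.centralizer ({s} : Set G)) (isCharacter_of_isIrr χ.2))
      isCharacter_one
    refine ⟨m, ?_⟩
    rw [classInner_def, Finset.sum_eq_single (1 : Subgroup.centralizer ({s} : Set G))
      (fun g _ hg => by rw [hCvan s hs g hg, zero_mul]) (fun h => absurd (Finset.mem_univ _) h),
      map_one, mul_one, inv_mul_eq_iff_eq_mul₀ (natCard_ne_zero _)] at hm
    have : (x : ℂ) = ((Nat.card (Subgroup.centralizer ({s} : Set G)) * m : ℕ) : ℂ) := by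
      rw [Nat.cast_mul, ← hm, hx, ← irr_one_eq χ.2]; rfl
    exact_mod_cast this
  have hx0 : 0 < x := charDegree_pos χ.2
  have hs1 : s₀ ≠ 1 := fun h => by rw [h, orderOf_one] at hs₀; omega
  have hχs : (χ : G → ℂ) s₀ = 0 := hvan s₀ 2 Nat.prime_two (by rw [hs₀]) (Or.inl rfl)
  -- the indicator sum
  set I := Finset.univ.filter (fun g : G => orderOf g = 2) with hI
  have hsum0 : ∑ g : G, (χ : G → ℂ) g = 0 := by
    have h := irr_inner_ne χ.2 isIrr_one (fun h => by rw [congrFun h s₀] at hχs; exact one_ne_zero hχs)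
    rw [classInner_def] at h
    simpa [natCard_ne_zero] using h
  have hevenvan : ∀ g : G, ¬ Odd (orderOf g) → (χ : G → ℂ) g = 0 := fun g hg =>
    hvan g 2 Nat.prime_two (even_iff_two_dvd.1 (Nat.not_odd_iff_even.1 hg)) (Or.inl rfl)
  have hsq : ∀ g : G, ¬ Odd (orderOf g) → g * g ≠ 1 → (χ : G → ℂ) (g * g) = 0 := by
    intro g hg hne
    have hev : 2 ∣ orderOf g := even_iff_two_dvd.1 (Nat.not_odd_iff_even.1 hg)
    obtain ⟨p, hpp, hpd⟩ := Nat.exists_prime_and_dvd (mt orderOf_eq_one_iff.1 hne)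
    refine hvan _ p hpp hpd ?_
    by_cases h2p : p = 2
    · exact Or.inl h2p
    have hpg : p ∣ orderOf g := hpd.trans (by
      rw [← pow_two]; exact orderOf_pow_dvd 2)
    have h2pg : 2 * p ∣ orderOf g :=
      Nat.Coprime.mul_dvd_of_dvd_of_dvd ((Nat.coprime_primes Nat.prime_two hpp).2 (Ne.symm h2p)) hev hpg
    obtain ⟨q, hq⟩ := h2pg
    refine Or.inr ⟨g ^ q, ?_⟩
    rw [orderOf_pow' _ (fun h => (orderOf_pos g).ne' (by rw [hq, h, mul_zero])), hq,
      Nat.gcd_eq_right (dvd_mul_left q _), Nat.mul_div_cancel _ (Nat.pos_of_ne_zero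
        (fun h => (orderOf_pos g).ne' (by rw [hq, h, mul_zero])))]
  have hodd : ∑ g ∈ Finset.univ.filter (fun g : G => Odd (orderOf g)), (χ : G → ℂ) (g * g) = 0 := by
    rw [← hsum0]
    symm
    rw [← Finset.sum_filter_add_sum_filter_not Finset.univ (fun g : G => Odd (orderOf g))
      (fun g => (χ : G → ℂ) g), Finset.sum_eq_zero (s := Finset.univ.filter fun g : G => ¬ Odd (orderOf g))
      (fun g hg => hevenvan g (Finset.mem_filter.1 hg).2), add_zero]
    refine Finset.sum_bij' (fun g _ => g ^ ((orderOf g + 1) / 2)) (fun g _ => g * g) ?_ ?_ ?_ ?_ ?_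
    · intro g hg
      refine Finset.mem_filter.2 ⟨Finset.mem_univ _, ?_⟩
      exact Odd.of_dvd_nat (Finset.mem_filter.1 hg).2 (orderOf_pow_dvd _)
    · intro g hg
      refine Finset.mem_filter.2 ⟨Finset.mem_univ _, ?_⟩
      exact Odd.of_dvd_nat (Finset.mem_filter.1 hg).2 (by rw [← pow_two]; exact orderOf_pow_dvd _)
    · intro g hg
      obtain ⟨a, ha⟩ := (Finset.mem_filter.1 hg).2
      rw [← pow_add, show (orderOf g + 1) / 2 + (orderOf g + 1) / 2 = orderOf g + 1 by omega,
        pow_succ, pow_orderOf_eq_one, one_mul]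
    · intro g hg
      obtain ⟨a, ha⟩ := (Finset.mem_filter.1 hg).2
      have e : orderOf (g * g) = orderOf g := by
        rw [← pow_two]
        exact Nat.Coprime.orderOf_pow (Nat.coprime_two_right.2 ⟨a, ha⟩)
      rw [e, ← pow_two, ← pow_mul, show 2 * ((orderOf g + 1) / 2) = orderOf g + 1 by omega,
        pow_succ, pow_orderOf_eq_one, one_mul]
    · intro g hg
      obtain ⟨a, ha⟩ := (Finset.mem_filter.1 hg).2
      rw [← pow_add, show (orderOf g + 1) / 2 + (orderOf g + 1) / 2 = orderOf g + 1 by omega,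
        pow_succ, pow_orderOf_eq_one, one_mul]
  have hν : fsInd (χ : G → ℂ) * (Nat.card G : ℂ) = ((x * I.card : ℕ) : ℂ) := by
    rw [fsInd, mul_comm, ← mul_assoc, mul_inv_cancel₀ (natCard_ne_zero G), one_mul,
      ← Finset.sum_filter_add_sum_filter_not Finset.univ (fun g : G => Odd (orderOf g)), hodd, zero_add,
      ← Finset.sum_subset (s₁ := I) (fun g hg => Finset.mem_filter.2 ⟨Finset.mem_univ _, by
          rw [(Finset.mem_filter.1 hg).2]; decide⟩) (fun g hg hgI => hsq g (Finset.mem_filter.1 hg).2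
          (fun h => hgI (Finset.mem_filter.2 ⟨Finset.mem_univ _, orderOf_eq_prime (by rwa [pow_two])
            (fun h1 => (Finset.mem_filter.1 hg).2 (by rw [h1, orderOf_one]; exact odd_one))⟩))),
      Finset.sum_congr rfl (g := fun _ => (x : ℂ)) (fun g hg => by
        have hg2 : g * g = 1 := by rw [← pow_two, ← (Finset.mem_filter.1 hg).2, pow_orderOf_eq_one]
        rw [hg2, hx, irr_one_eq χ.2]), Finset.sum_const, nsmul_eq_mul]
    push_cast
    ring
  have hIpos : 0 < I.card := Finset.card_pos.2 ⟨s₀, Finset.mem_filter.2 ⟨Finset.mem_univ _, hs₀⟩⟩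
  have hxI : 0 < x * I.card := Nat.mul_pos hx0 hIpos
  have hν1 : fsInd (χ : G → ℂ) = 1 := by
    rcases fsInd_cases χ.2 with h | h | h
    · rw [h, zero_mul] at hν
      exact absurd hν.symm (Nat.cast_ne_zero.2 hxI.ne')
    · exact h
    · rw [h, neg_one_mul] at hν
      have : ((x * I.card + Nat.card G : ℕ) : ℂ) = 0 := by
        push_cast at hν ⊢; linear_combination -hν
      rw [Nat.cast_eq_zero] at this
      omega
  have hcard : Nat.card G = x * I.card := by
    rw [hν1, one_mul] at hν; exact_mod_cast hν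
  have hC : ∀ s : G, orderOf s = 2 → Nat.card (Subgroup.centralizer ({s} : Set G)) = x ∧
      ∀ g ∈ I, IsConj s g := by
    intro s hs
    have hsub : Finset.univ.filter (fun g => IsConj s g) ⊆ I := by
      intro g hg
      obtain ⟨c, rfl⟩ := isConj_iff.1 (Finset.mem_filter.1 hg).2
      refine Finset.mem_filter.2 ⟨Finset.mem_univ _, ?_⟩
      rw [← hs]
      exact orderOf_injective (MulAut.conj c).toMonoidHom (MulAut.conj c).injective s
    have hle := Nat.le_of_dvd hx0 (hdvdC s hs)
    have hidx := index_mul_card_centralizer (G := G) s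
    have hle2 : (Finset.univ.filter fun g => IsConj s g).card ≤ I.card := Finset.card_le_card hsub
    rw [card_filter_isConj] at hle2
    have heq : (Subgroup.centralizer ({s} : Set G)).index = I.card := by
      refine le_antisymm hle2 ?_
      by_contra hlt
      push Not at hlt
      have : (Subgroup.centralizer ({s} : Set G)).index * Nat.card (Subgroup.centralizer ({s} : Set G)) <
          I.card * x := Nat.mul_lt_mul_of_lt_of_le hlt hle hx0
      rw [hidx, hcard, mul_comm] at this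
      exact lt_irrefl _ this
    refine ⟨?_, fun g hg => ?_⟩
    · rw [heq, hcard, mul_comm] at hidx
      exact Nat.eq_of_mul_eq_mul_right hIpos hidx
    · have := Finset.eq_of_subset_of_card_le hsub (by rw [card_filter_isConj, heq])
      rw [← this] at hg
      exact (Finset.mem_filter.1 hg).2
  refine ⟨fun s t hs ht => (hC s hs).2 t (Finset.mem_filter.2 ⟨Finset.mem_univ _, ht⟩),
    fun s hs => ⟨(hC s hs).1, ?_⟩, hν1⟩
  refine Nat.coprime_of_dvd fun p hpp hd1 hd2 => ?_
  have hfull : p ^ (Nat.card G).factorization p ∣ x := by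
    by_cases h2p : p = 2
    · subst h2p; exact h2
    · exact hp p hpp h2p ((hbadC s hs p hpp hd1).resolve_left h2p)
  have h3 : p ^ ((Nat.card G).factorization p + 1) ∣ Nat.card G := by
    conv_rhs => rw [← Subgroup.card_mul_index (Subgroup.centralizer ({s} : Set G))]
    rw [pow_succ, (hC s hs).1]
    exact Nat.mul_dvd_mul hfull hd2
  exact Nat.pow_succ_factorization_not_dvd Nat.card_pos.ne' hpp h3

end Cfsg.Agent.S4478
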