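import Cfsg.Statements.S4479
import Cfsg.Agent.Blk.KleinFour

set_option autoImplicit false
open Cfsg

namespace Cfsg.Agent.S4479
open scoped CfsgLib.Char ComplexConjugate


/-- An order formula from the principal 2-block. Let G be a finite group of order 4·g₀ with g₀ odd having no normal 2-complement (no normal subgroup of order g₀); let P be a Sylow 2-subgroup, J an involution of P, and fix a maximal ideal M of the algebraic integers containing 2. Suppose the principal 2-block consists of the principal character and three further distinct characters χ₁, χ₂, χ₃ of degrees x₁, x₂, x₃, with χ_i(J) = ε_i = ±1. Then, writing c(J) and c(P) for the orders of the centralizers of J and of P, the order of G equals 8·α·c(J)³/c(P)² with α = x₁x₂x₃ / ((x₁ + ε₁)(x₂ + ε₂)(x₃ + ε₃)). -/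
theorem result {G : Type*} [Group G] [Finite G] (M : Ideal Cfsg.AlgInt) (hM : Cfsg.IsPModular 2 M) (g₀ : ℕ) (hg₀ : Odd g₀) (hG : Nat.card G = 4 * g₀) (hnc : ¬ ∃ N : Subgroup G, N.Normal ∧ Nat.card N = g₀) (P : Sylow 2 G) (J : G) (hJ : J ∈ (P : Subgroup G)) (hJ2 : orderOf J = 2) (χ₁ χ₂ χ₃ : Cfsg.IrrCharacter G) (ε₁ ε₂ ε₃ : ℤ) (hB : Cfsg.principalBlock M G = {χ : Cfsg.IrrCharacter G | (χ : G → ℂ) = (fun _ => 1) ∨ χ = χ₁ ∨ χ = χ₂ ∨ χ = χ₃}) (hdist : (χ₁ : G → ℂ) ≠ (fun _ => 1) ∧ (χ₂ : G → ℂ) ≠ (fun _ => 1) ∧ (χ₃ : G → ℂ) ≠ (fun _ => 1) ∧ χ₁ ≠ χ₂ ∧ χ₁ ≠ χ₃ ∧ χ₂ ≠ χ₃) (hε : (ε₁ = 1 ∨ ε₁ = -1) ∧ (ε₂ = 1 ∨ ε₂ = -1) ∧ (ε₃ = 1 ∨ ε₃ = -1)) (hval : (χ₁ : G → ℂ) J = ε₁ ∧ (χ₂ : G → ℂ) J = ε₂ ∧ (χ₃ : G → ℂ) J = ε₃) : (Nat.card G : ℚ) = 8 * (((Cfsg.charDegree (χ₁ : G → ℂ) : ℚ) * Cfsg.charDegree (χ₂ : G → ℂ) * Cfsg.charDegree (χ₃ : G → ℂ)) / ((Cfsg.charDegree (χ₁ : G →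 ℂ) + ε₁) * (Cfsg.charDegree (χ₂ : G → ℂ) + ε₂) * (Cfsg.charDegree (χ₃ : G → ℂ) + ε₃))) * (Nat.card (Subgroup.centralizer ({J} : Set G)) : ℚ) ^ 3 / (Nat.card (Subgroup.centralizer ((P : Subgroup G) : Set G)) : ℚ) ^ 2 := by
  classical
  open CfsgLib.Blk CfsgLib.KleinFour CfsgLib.Char in
  · haveI : M.IsMaximal := hM.2.1
    haveI : Fact (Nat.Prime 2) := ⟨Nat.prime_two⟩
    haveI := Fintype.ofFinite G
    obtain ⟨hP, hexp, hone⟩ := setup P hg₀ hG hnc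
    have hJ1 : J ≠ 1 := (orderOf_eq_two_iff'.1 hJ2).2
    let T : Cfsg.IrrCharacter G := ⟨fun _ => 1, isIrr_one⟩
    have hT : ∀ χ : Cfsg.IrrCharacter G, (χ : G → ℂ) = (fun _ => 1) ↔ χ = T := fun χ => ⟨fun h => Subtype.ext h, fun h => congrArg Subtype.val h⟩
    obtain ⟨hd1, hd2, hd3, hd12, hd13, hd23⟩ := hdist
    have hset : (Finset.univ.filter fun χ : Cfsg.IrrCharacter G => χ ∈ Cfsg.principalBlock M G) = {T, χ₁, χ₂, χ₃} := by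
      ext χ
      simp [hB, hT]
    have hsum : ∀ f : Cfsg.IrrCharacter G → ℂ, (∑ χ : Cfsg.IrrCharacter G, if χ ∈ Cfsg.principalBlock M G then f χ else 0) = f T + f χ₁ + f χ₂ + f χ₃ := by
      intro f
      have h1 : T ≠ χ₁ := fun h => hd1 ((hT _).2 h.symm)
      have h2 : T ≠ χ₂ := fun h => hd2 ((hT _).2 h.symm)
      have h3 : T ≠ χ₃ := fun h => hd3 ((hT _).2 h.symm)
      rw [← Finset.sum_filter, hset, Finset.sum_insert (by simp [h1, h2, h3]), Finset.sum_insert (by simp [hd12, hd13]), Finset.sum_pair hd23]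
      ring
    have horth := block_orth (a := (1 : G)) (b := J) hM (isPBlock_principalBlock (M := M) (G := G)) (isPPart_one_of_regular (by simp))
      (isPPart_self ⟨1, by rw [hJ2, pow_one]⟩ Nat.prime_two) (fun h => hJ1 (isConj_one_right.1 h))
    rw [finsum_mem_eq_sum_ite] at horth
    have hf := order_formula P hP hexp hone hM hJ hJ2
    rw [hsum] at hf horth
    simp only [T, hval.1, hval.2.1, hval.2.2, irr_one_eq χ₁.2, irr_one_eq χ₂.2, irr_one_eq χ₃.2, map_intCast, one_mul, mul_one, div_one, map_one] at hf horth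
    set x₁ := Cfsg.charDegree (χ₁ : G → ℂ) with hx₁
    set x₂ := Cfsg.charDegree (χ₂ : G → ℂ) with hx₂
    set x₃ := Cfsg.charDegree (χ₃ : G → ℂ) with hx₃
    have hpos : ∀ χ : Cfsg.IrrCharacter G, (Cfsg.charDegree (χ : G → ℂ) : ℂ) ≠ 0 := fun χ => by
      rw [← irr_one_eq χ.2]; exact irr_one_ne_zero χ.2
    have q1 : (x₁ : ℂ) ≠ 0 := hpos χ₁
    have q2 : (x₂ : ℂ) ≠ 0 := hpos χ₂
    have q3 : (x₃ : ℂ) ≠ 0 := hpos χ₃
    set cJ := Nat.card (Subgroup.centralizer ({J} : Set G))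
    set cP := Nat.card (Subgroup.centralizer ((P : Subgroup G) : Set G))
    have hcP : (cP : ℂ) ≠ 0 := Nat.cast_ne_zero.2 Nat.card_pos.ne'
    have hcJ : (cJ : ℂ) ≠ 0 := Nat.cast_ne_zero.2 Nat.card_pos.ne'
    have he : ∀ e : ℤ, (e = 1 ∨ e = -1) → (e : ℂ) * e = 1 := by rintro e (rfl | rfl) <;> norm_num
    have e1 := he ε₁ hε.1
    have e2 := he ε₂ hε.2.1
    have e3 := he ε₃ hε.2.2
    have hprod : ((x₁ : ℂ) + ε₁) * (x₂ + ε₂) * (x₃ + ε₃) = x₁ * x₂ * x₃ * (1 + ε₁ * ε₁ * ε₁ / x₁ + ε₂ * ε₂ * ε₂ / x₂ + ε₃ * ε₃ * ε₃ / x₃) := by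
      rw [e1, e2, e3]
      field_simp
      linear_combination (ε₁ : ℂ) * ε₂ * ε₃ * horth - (x₁ : ℂ) * ε₂ * ε₃ * e1 - (x₂ : ℂ) * ε₁ * ε₃ * e2 - (x₃ : ℂ) * ε₁ * ε₂ * e3
    set S := (1 + (ε₁ : ℂ) * ε₁ * ε₁ / x₁ + (ε₂ : ℂ) * ε₂ * ε₂ / x₂ + (ε₃ : ℂ) * ε₃ * ε₃ / x₃) with hS
    have hS0 : S ≠ 0 := fun h => by
      rw [h, mul_zero, zero_mul] at hf
      exact mul_ne_zero (by norm_num) (pow_ne_zero 3 hcJ) hf.symm
    have hgoal : (Nat.card G : ℂ) = 8 * ((x₁ : ℂ) * x₂ * x₃ / ((x₁ + ε₁) * (x₂ + ε₂) * (x₃ + ε₃))) * (cJ : ℂ) ^ 3 / (cP : ℂ) ^ 2 := by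
      rw [hprod]
      field_simp
      linear_combination hf
    apply Rat.cast_injective (α := ℂ)
    push_cast
    exact hgoal

end Cfsg.Agent.S4479
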