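import Cfsg.Statements.S4480
import Cfsg.Agent.Blk.KleinFour
import Cfsg.Agent.Blk.RealBlock
import Cfsg.Agent.Char.FrobeniusSchur

set_option autoImplicit false
set_option linter.style.haveILetI false
open Cfsg

namespace Cfsg.Agent.S4480
open CfsgLib.Char CfsgLib.Blk
open scoped ComplexConjugate CfsgLib.Char

universe u

theorem parity {G : Type u} [Group G] [Finite G] {χ : G → ℂ} (hχ : Cfsg.IsCharacter G χ) {t : G} (ht : t * t = 1) :
    ∃ k : ℤ, χ t = ((Cfsg.charDegree χ : ℤ) + 2 * k : ℤ) := by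
  obtain ⟨d, ρ, rfl⟩ := hχ
  obtain ⟨ζ, hζ, -, hsum, -⟩ := exists_roots ρ t
  obtain ⟨c, hc⟩ : orderOf t ∣ 2 := orderOf_dvd_of_pow_eq_one (by rw [pow_two, ht])
  have h : ∀ i, ∃ n : ℤ, ζ i = ((1 + 2 * n : ℤ) : ℂ) := fun i => by
    have h2 : ζ i * ζ i = 1 := by rw [← pow_two, hc, pow_mul, hζ, one_pow]
    rcases mul_self_eq_one_iff.1 h2 with h | h
    · exact ⟨0, by simp [h]⟩
    · exact ⟨-1, by rw [h]; norm_num⟩
  choose n hn using h
  refine ⟨∑ i, n i, ?_⟩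
  rw [hsum, charDegree_eq (n := Module.finrank ℂ (Fin d → ℂ)) (Representation.char_one ρ),
    Finset.sum_congr rfl fun i _ => hn i, ← Int.cast_sum, Finset.sum_add_distrib, ← Finset.mul_sum]
  simp

theorem indicator_of_odd {G : Type u} [Group G] [Fintype G] {χ : G → ℂ} (hχ : Cfsg.IsIrrCharacter G χ)
    (hodd : Odd (Cfsg.charDegree χ)) :
    ((∀ g, conj (χ g) = χ g) → fsInd χ = 1) ∧ (¬ (∀ g, conj (χ g) = χ g) → fsInd χ = 0) := by
  obtain ⟨n, ρ, hirr, rfl⟩ := hχ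
  refine ⟨fun h => fsInd_odd ρ hirr h ?_, fun h => fsInd_eq_zero ρ hirr (not_forall.1 h)⟩
  rwa [charDegree_eq (n := n) (by simp [Representation.char_one])] at hodd

open Classical in
/-- the block sum of indicators twisted by an involution in exponent two Sylow -/
theorem indicator_sum {G : Type u} [Group G] [Fintype G] (P : Sylow 2 G) {M : Ideal Cfsg.AlgInt} (hM : Cfsg.IsPModular 2 M)
    (hexp : ∀ x ∈ (P : Subgroup G), x * x = 1) {J : G} (hJ2 : orderOf J = 2) :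
    ∑ χ : Cfsg.IrrCharacter G, (if χ ∈ Cfsg.principalBlock M G then
      fsInd (χ : G → ℂ) * conj ((χ : G → ℂ) J) else 0) = 0 := by
  haveI : M.IsMaximal := hM.2.1
  haveI : Fact (Nat.Prime 2) := ⟨Nat.prime_two⟩
  have hJ1 : J ≠ 1 := fun h => by simp [h] at hJ2
  have hreg : ∀ y : G, ¬ 2 ∣ orderOf (y * y) := by
    intro y h
    have h4 : 2 * 2 ∣ orderOf y := by
      rw [← pow_two, orderOf_pow] at h
      by_cases h2 : 2 ∣ orderOf y
      · rw [Nat.gcd_eq_right h2] at h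
        obtain ⟨c, hc⟩ := h2
        rw [hc, Nat.mul_div_cancel_left _ two_pos] at h
        exact hc ▸ Nat.mul_dvd_mul_left 2 h
      · rw [Nat.Coprime.gcd_eq_one ((Nat.prime_two.coprime_iff_not_dvd.2 h2).symm), Nat.div_one] at h
        exact absurd h h2
    have hz := orderOf_pow_orderOf_div (orderOf_pos y).ne' h4
    set z := y ^ (orderOf y / (2 * 2)) with hzdef
    obtain ⟨Q, hQ⟩ := (IsPGroup.of_card (n := 2) (by rw [Nat.card_zpowers, hz, pow_two]) :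
      IsPGroup 2 (Subgroup.zpowers z)).exists_le_sylow
    obtain ⟨a, ha⟩ := MulAction.exists_smul_eq G Q P
    have hmem : a * z * a⁻¹ ∈ (P : Subgroup G) := by
      rw [← ha]
      exact Subgroup.smul_mem_pointwise_smul z (MulAut.conj a) _ (hQ (Subgroup.mem_zpowers z))
    have h1 := hexp _ hmem
    rw [show a * z * a⁻¹ * (a * z * a⁻¹) = a * (z * z) * a⁻¹ by group, conj_eq_one_iff, ← pow_two] at h1
    have := orderOf_dvd_of_pow_eq_one h1
    rw [hz] at this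
    exact absurd (Nat.le_of_dvd two_pos this) (by norm_num)
  have h0 : ∀ y : G, ∑ χ : Cfsg.IrrCharacter G, (if χ ∈ Cfsg.principalBlock M G then
      (χ : G → ℂ) (y * y) * conj ((χ : G → ℂ) J) else 0) = 0 := fun y => by
    rw [← finsum_mem_eq_sum_ite]
    exact block_orth hM (isPBlock_principalBlock (M := M) (G := G)) (isPPart_one_of_regular (hreg y))
      (isPPart_self ⟨1, by rw [hJ2, pow_one]⟩ Nat.prime_two) fun h => hJ1 (isConj_one_right.1 h)
  calc _ = ∑ χ : Cfsg.IrrCharacter G, (Nat.card G : ℂ)⁻¹ * ∑ y : G, (if χ ∈ Cfsg.principalBlock M G then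
      (χ : G → ℂ) (y * y) * conj ((χ : G → ℂ) J) else 0) := by
        refine Finset.sum_congr rfl fun χ _ => ?_
        by_cases h : χ ∈ Cfsg.principalBlock M G
        · simp only [if_pos h, fsInd, ← Finset.sum_mul]; ring
        · simp [h]
    _ = (Nat.card G : ℂ)⁻¹ * ∑ y : G, ∑ χ : Cfsg.IrrCharacter G, (if χ ∈ Cfsg.principalBlock M G then
      (χ : G → ℂ) (y * y) * conj ((χ : G → ℂ) J) else 0) := by rw [← Finset.mul_sum, Finset.sum_comm]
    _ = 0 := by simp [h0]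

theorem arith (G' cJ cP x : ℕ) (hx : Odd x) (hcP : 0 < cP) (hPJ : cP ∣ cJ) (hJG : cJ ∣ G') (hcJ : 0 < cJ)
    (h : G' * (1 + x) ^ 2 * cP ^ 2 = 4 * cJ ^ 3 * x * (2 * x + 1)) :
    ∃ m : ℕ, 4 * cJ = m * cP * (2 * x + 1 + 1) ∧ 8 * G' = m ^ 3 * cP * ((2 * x + 1) ^ 3 - (2 * x + 1)) := by
  obtain ⟨n, rfl⟩ := hPJ
  obtain ⟨K, rfl⟩ := hJG
  obtain ⟨j, hj⟩ := hx
  have hn : 0 < n := Nat.pos_of_mul_pos_left hcJ
  have hK : K * (j + 1) ^ 2 = n ^ 2 * (x * (2 * x + 1)) := by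
    refine mul_left_cancel₀ (show 4 * (cP * n) * cP ^ 2 ≠ 0 by positivity) ?_
    subst hj
    calc _ = cP * n * K * (1 + (2 * j + 1)) ^ 2 * cP ^ 2 := by ring
      _ = 4 * (cP * n) ^ 3 * (2 * j + 1) * (2 * (2 * j + 1) + 1) := h
      _ = _ := by ring
  have c1 : (j + 1).Coprime x := by
    refine Nat.coprime_of_dvd' fun k hk h1 h2 => ?_
    subst hj
    have h3 : k ∣ 2 * (j + 1) := Dvd.dvd.mul_left h1 2
    rw [show 2 * (j + 1) = 2 * j + 1 + 1 by ring] at h3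
    exact (Nat.dvd_add_right h2).1 h3
  have c2 : (j + 1).Coprime (2 * x + 1) := by
    refine Nat.coprime_of_dvd' fun k hk h1 h2 => ?_
    subst hj
    have h3 : k ∣ 4 * (j + 1) := Dvd.dvd.mul_left h1 4
    rw [show 4 * (j + 1) = 2 * (2 * j + 1) + 1 + 1 by ring] at h3
    exact (Nat.dvd_add_right h2).1 h3
  have hd : j + 1 ∣ n := (Nat.pow_dvd_pow_iff (n := 2) two_ne_zero).1
    ((Nat.Coprime.pow_left 2 (c1.mul_right c2)).dvd_of_dvd_mul_right (hK ▸ dvd_mul_left _ _))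
  obtain ⟨m, rfl⟩ := hd
  have hK' : K = m ^ 2 * (x * (2 * x + 1)) :=
    mul_left_cancel₀ (show (j + 1) ^ 2 ≠ 0 by positivity) (by rw [mul_comm, hK]; ring)
  refine ⟨m, ?_, ?_⟩
  · subst hj; ring
  · rw [show (2 * x + 1) ^ 3 = (2 * x + 1) + 4 * (x * (2 * x + 1) * (x + 1)) by ring, Nat.add_sub_cancel_left]
    subst hK' hj
    ring


/-- Same setting as the Klein-four order formula: G of order 4·g₀ (g₀ odd) with no normal 2-complement, P a Sylow 2-subgroup, J an involution of P, M over 2, principal 2-block {1, χ₁, χ₂, χ₃} with χ_i(J) = ε_i = ±1. Suppose ε₁ε₂ε₃ = −1 and ε₃ = −1, and put q = x₃ = χ₃(1). Then there is a natural number m with 4·c(J) = m·c(P)·(q + 1), and the order of G equals (m³·c(P)/4)·(q³ − q)/2, that is 8·#G = m³·c(P)·(q³ − q). -/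
theorem result {G : Type*} [Group G] [Finite G] (M : Ideal Cfsg.AlgInt) (hM : Cfsg.IsPModular 2 M) (g₀ : ℕ) (hg₀ : Odd g₀) (hG : Nat.card G = 4 * g₀) (hnc : ¬ ∃ N : Subgroup G, N.Normal ∧ Nat.card N = g₀) (P : Sylow 2 G) (J : G) (hJ : J ∈ (P : Subgroup G)) (hJ2 : orderOf J = 2) (χ₁ χ₂ χ₃ : Cfsg.IrrCharacter G) (ε₁ ε₂ ε₃ : ℤ) (hB : Cfsg.principalBlock M G = {χ : Cfsg.IrrCharacter G | (χ : G → ℂ) = (fun _ => 1) ∨ χ = χ₁ ∨ χ = χ₂ ∨ χ = χ₃}) (hdist : (χ₁ : G → ℂ) ≠ (fun _ => 1) ∧ (χ₂ : G → ℂ) ≠ (fun _ => 1) ∧ (χ₃ : G → ℂ) ≠ (fun _ => 1) ∧ χ₁ ≠ χ₂ ∧ χ₁ ≠ χ₃ ∧ χ₂ ≠ χ₃) (hε : (ε₁ = 1 ∨ ε₁ = -1) ∧ (ε₂ = 1 ∨ ε₂ = -1) ∧ (ε₃ = 1 ∨ ε₃ = -1)) (hval : (χ₁ : G → ℂ) J = ε₁ ∧ (χ₂ : G → ℂ) J = ε₂ ∧ (χ₃ : G → ℂ) J = ε₃) (hprod : ε₁ * ε₂ * ε₃ = -1) (hε₃ : ε₃ = -1) : ∃ m : ℕ, 4 * Nat.card (Subgroup.centralizer ({J} : Set G)) = m * Nat.card (Subgroup.centralizer ((P : Subgroup G) : Set G)) * (Cfsg.charDegree (χ₃ : G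 → ℂ) + 1) ∧ 8 * Nat.card G = m ^ 3 * Nat.card (Subgroup.centralizer ((P : Subgroup G) : Set G)) * (Cfsg.charDegree (χ₃ : G → ℂ) ^ 3 - Cfsg.charDegree (χ₃ : G → ℂ)) := by
  classical
  open CfsgLib.KleinFour in
  · haveI : M.IsMaximal := hM.2.1
    haveI : Fact (Nat.Prime 2) := ⟨Nat.prime_two⟩
    haveI := Fintype.ofFinite G
    obtain ⟨hP, hexp, hone⟩ := setup P hg₀ hG hnc
    have hJ1 : J ≠ 1 := (orderOf_eq_two_iff'.1 hJ2).2
    have hJJ : J * J = 1 := (orderOf_eq_two_iff'.1 hJ2).1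
    let T : Cfsg.IrrCharacter G := ⟨fun _ => 1, isIrr_one⟩
    have hT : ∀ χ : Cfsg.IrrCharacter G, (χ : G → ℂ) = (fun _ => 1) ↔ χ = T := fun χ => ⟨fun h => Subtype.ext h, fun h => congrArg Subtype.val h⟩
    obtain ⟨hd1, hd2, hd3, hd12, hd13, hd23⟩ := hdist
    have hset : (Finset.univ.filter fun χ : Cfsg.IrrCharacter G => χ ∈ Cfsg.principalBlock M G) = {T, χ₁, χ₂, χ₃} := by
      ext χ
      simp [hB, hT]
    have hsum : ∀ f : Cfsg.IrrCharacter G → ℂ, (∑ χ : Cfsg.IrrCharacter G, if χ ∈ Cfsg.principalBlock M G then f χ else 0) = f T + f χ₁ + f χ₂ + f χ₃ := by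
      intro f
      have h1 : T ≠ χ₁ := fun h => hd1 ((hT _).2 h.symm)
      have h2 : T ≠ χ₂ := fun h => hd2 ((hT _).2 h.symm)
      have h3 : T ≠ χ₃ := fun h => hd3 ((hT _).2 h.symm)
      rw [← Finset.sum_filter, hset, Finset.sum_insert (by simp [h1, h2, h3]), Finset.sum_insert (by simp [hd12, hd13]), Finset.sum_pair hd23]
      ring
    have horth := block_orth (a := (1 : G)) (b := J) hM (isPBlock_principalBlock (M := M) (G := G)) (isPPart_one_of_regular (by simp))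
      (isPPart_self ⟨1, by rw [hJ2, pow_one]⟩ Nat.prime_two) (fun h => hJ1 (isConj_one_right.1 h))
    rw [finsum_mem_eq_sum_ite] at horth
    have hf := order_formula P hP hexp hone hM hJ hJ2
    rw [hsum] at hf horth
    simp only [T, hval.1, hval.2.1, hval.2.2, irr_one_eq χ₁.2, irr_one_eq χ₂.2, irr_one_eq χ₃.2, map_intCast, one_mul, mul_one, div_one, map_one] at hf horth
    have horthZ : (1 : ℤ) + (Cfsg.charDegree (χ₁ : G → ℂ) : ℤ) * ε₁ + (Cfsg.charDegree (χ₂ : G → ℂ) : ℤ) * ε₂ + (Cfsg.charDegree (χ₃ : G → ℂ) : ℤ) * ε₃ = 0 := by exact_mod_cast horth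
    have hε12 : ε₁ = 1 ∧ ε₂ = 1 := by
      rcases hε.1 with e1 | e1 <;> rcases hε.2.1 with e2 | e2 <;> rw [e1, e2, hε₃] at horthZ hprod <;>
        first | exact ⟨e1, e2⟩ | (exfalso; have := charDegree_pos χ₁.2; have := charDegree_pos χ₂.2; have := charDegree_pos χ₃.2; omega)
    obtain ⟨he1, he2⟩ := hε12
    subst he1 he2 hε₃
    have hx3 : Cfsg.charDegree (χ₃ : G → ℂ) = 1 + Cfsg.charDegree (χ₁ : G → ℂ) + Cfsg.charDegree (χ₂ : G → ℂ) := by omega
    have hpar : ∀ (χ : Cfsg.IrrCharacter G) (e : ℤ), (χ : G → ℂ) J = e → (e = 1 ∨ e = -1) → Odd (Cfsg.charDegree (χ : G → ℂ)) := fun χ e h1 h2 => by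
      obtain ⟨k, hk⟩ := parity (isCharacter_of_isIrr χ.2) hJJ
      rw [h1] at hk
      have hk' : e = (Cfsg.charDegree (χ : G → ℂ) : ℤ) + 2 * k := Int.cast_injective hk
      rw [Nat.odd_iff]; omega
    have o1 := hpar χ₁ _ hval.1 (Or.inl rfl)
    have o2 := hpar χ₂ _ hval.2.1 (Or.inl rfl)
    have o3 := hpar χ₃ _ hval.2.2 (Or.inr rfl)
    -- conjugation permutes the block
    have hTconj : conjIrr T = T := Subtype.ext (funext fun g => map_one _)
    have hcl : ∀ χ : Cfsg.IrrCharacter G, χ ∈ Cfsg.principalBlock M G → conjIrr χ ∈ Cfsg.principalBlock M G := fun χ h => by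
      have h1 := sameBlock_conjIrr (M := M) (χ := T) (ψ := χ) h
      rw [hTconj] at h1
      exact h1
    have hmem : ∀ χ : Cfsg.IrrCharacter G, χ ∈ Cfsg.principalBlock M G ↔ χ = T ∨ χ = χ₁ ∨ χ = χ₂ ∨ χ = χ₃ := fun χ => by
      rw [hB]; simp [hT]
    have hcv : ∀ (χ : Cfsg.IrrCharacter G) (e : ℤ), (χ : G → ℂ) J = e → (conjIrr χ : G → ℂ) J = e := fun χ e h => by
      show conj ((χ : G → ℂ) J) = e
      rw [h, map_intCast]
    have hne : ∀ χ ψ : Cfsg.IrrCharacter G, (χ : G → ℂ) J = (1 : ℤ) → (ψ : G → ℂ) J = (-1 : ℤ) → χ ≠ ψ := fun χ ψ a b h => by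
      rw [h, b] at a; norm_num at a
    have hTv : (T : G → ℂ) J = (1 : ℤ) := by simp [T]
    have hr3 : conjIrr χ₃ = χ₃ := by
      rcases (hmem _).1 (hcl χ₃ ((hmem _).2 (by tauto))) with h | h | h | h
      · exact absurd h.symm (hne _ _ hTv (hcv _ _ hval.2.2))
      · exact absurd h.symm (hne _ _ hval.1 (hcv _ _ hval.2.2))
      · exact absurd h.symm (hne _ _ hval.2.1 (hcv _ _ hval.2.2))
      · exact h
    have hfs := indicator_sum P hM hexp hJ2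
    rw [hsum] at hfs
    simp only [hval.1, hval.2.1, hval.2.2, hTv, map_intCast] at hfs
    rw [(indicator_of_odd (χ := (T : G → ℂ)) T.2 (by simp [T, Cfsg.charDegree])).1 (fun g => map_one _),
      (indicator_of_odd χ₃.2 o3).1 (fun g => congrFun (congrArg Subtype.val hr3) g)] at hfs
    push_cast at hfs
    have hc12 : conjIrr χ₁ = χ₂ := by
      have hr : ¬ ∀ g, conj ((χ₁ : G → ℂ) g) = (χ₁ : G → ℂ) g := fun h => by
        rw [(indicator_of_odd χ₁.2 o1).1 h] at hfs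
        by_cases h2 : ∀ g, conj ((χ₂ : G → ℂ) g) = (χ₂ : G → ℂ) g
        · rw [(indicator_of_odd χ₂.2 o2).1 h2] at hfs; norm_num at hfs
        · rw [(indicator_of_odd χ₂.2 o2).2 h2] at hfs; norm_num at hfs
      rcases (hmem _).1 (hcl χ₁ ((hmem _).2 (by tauto))) with h | h | h | h
      · exact absurd ((hT χ₁).2 (by rw [← conjIrr_conjIrr χ₁, h, hTconj])) hd1
      · exact absurd (fun g => congrFun (congrArg Subtype.val h) g) hr
      · exact h
      · exact absurd h (hne _ _ (hcv _ _ hval.1) hval.2.2)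
    have hx12 : Cfsg.charDegree (χ₂ : G → ℂ) = Cfsg.charDegree (χ₁ : G → ℂ) := by
      refine charDegree_eq ?_
      rw [← hc12]
      show conj ((χ₁ : G → ℂ) 1) = _
      rw [irr_one_eq χ₁.2, map_natCast]
    set x := Cfsg.charDegree (χ₁ : G → ℂ) with hxdef
    have hx3' : Cfsg.charDegree (χ₃ : G → ℂ) = 2 * x + 1 := by omega
    have hx0 : (x : ℂ) ≠ 0 := by exact_mod_cast (charDegree_pos χ₁.2).ne'
    have hx0' : (2 * (x : ℂ) + 1) ≠ 0 := by exact_mod_cast Nat.succ_ne_zero (2 * x)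
    rw [hx12, hx3'] at hf
    push_cast at hf
    set cJ := Nat.card (Subgroup.centralizer ({J} : Set G)) with hcJ
    set cP := Nat.card (Subgroup.centralizer ((P : Subgroup G) : Set G)) with hcP
    have hN : Nat.card G * (1 + x) ^ 2 * cP ^ 2 = 4 * cJ ^ 3 * x * (2 * x + 1) := by
      have : (Nat.card G : ℂ) * (1 + x) ^ 2 * (cP : ℂ) ^ 2 = 4 * (cJ : ℂ) ^ 3 * x * (2 * x + 1) := by
        field_simp at hf
        have hdiv : (x : ℂ) / ((x : ℂ) * 2 + 1) * ((x : ℂ) * 2 + 1) = x := div_mul_cancel₀ _ (by rwa [mul_comm])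
        linear_combination ((2 * (x : ℂ) + 1) / 2) * hf + ((Nat.card G : ℂ) * (cP : ℂ) ^ 2 / 2) * hdiv
      exact_mod_cast this
    rw [hx3']
    refine arith _ cJ cP x o1 Nat.card_pos (Subgroup.card_dvd_of_le ?_) (Subgroup.card_subgroup_dvd_card _) Nat.card_pos hN
    intro g hg
    exact Subgroup.mem_centralizer_singleton_iff.2 (hg J hJ).symm

end Cfsg.Agent.S4480
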