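import Cfsg.Statements.S4481
import Cfsg.Agent.Blk.KleinFour
import Cfsg.Agent.Inv.DihedralFusion
import Cfsg.Agent.Char.Galois

set_option autoImplicit false
set_option linter.style.haveILetI false
open Cfsg

namespace Cfsg.Agent.S4481
open CfsgLib.Char CfsgLib.Blk CfsgLib.Inv
open scoped ComplexConjugate CfsgLib.Char Pointwise

universe u

/-- The dihedral shape seen from the generator of the cyclic part. -/
structure Shape {G : Type u} [Group G] (P : Subgroup G) (σ : G) (h : ℕ) : Prop where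
  hmem : σ ∈ P
  hord : orderOf σ = 2 * h
  hpow : ∃ e : ℕ, h = 2 ^ (e + 1)
  hcard : Nat.card P = 2 * (2 * h)
  hcase : ∀ g ∈ P, g ∈ Subgroup.zpowers σ ∨ (g * g = 1 ∧ g * σ * g⁻¹ = σ⁻¹)
  hflip : ∃ y ∈ P, y * σ * y⁻¹ = σ⁻¹

theorem Shape.of_dihedral {G : Type u} [Group G] [Finite G] (P : Sylow 2 G) (n : ℕ) (hn : 3 ≤ n)
    (hP : Nonempty ((P : Subgroup G) ≃* DihedralGroup (2 ^ (n - 1)))) (σ : G) (hσ : σ ∈ (P : Subgroup G))
    (hσo : orderOf σ = 2 ^ (n - 1)) : Shape (P : Subgroup G) σ (2 ^ (n - 2)) := by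
  obtain ⟨e⟩ := hP
  obtain ⟨d, hd, ⟨D⟩⟩ := DData.of_equiv (Nat.le_self_pow (by omega) 2) P.2 e
  have hd' : n - 1 = d + 1 := Nat.pow_right_injective le_rfl hd
  have hxo : orderOf D.x = 2 ^ (n - 1) := by rw [D.order_x, hd']
  set σ' : (P : Subgroup G) := ⟨σ, hσ⟩ with hσ'
  have hσo' : orderOf σ' = 2 ^ (n - 1) := by rw [hσ', Subgroup.orderOf_mk, hσo]
  obtain ⟨i, hi⟩ : ∃ i : ℤ, σ' = D.x ^ i := by
    rcases D.cases σ' with h | ⟨i, hi⟩
    · exact h
    · exfalso
      have := D.out_order i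
      rw [← hi, hσo', hd'] at this
      have h4 : 2 ^ 2 ≤ 2 ^ (d + 1) := Nat.pow_le_pow_right two_pos (by omega)
      omega
  have hz : Subgroup.zpowers σ' = Subgroup.zpowers D.x := by
    refine Subgroup.eq_of_le_of_card_ge (Subgroup.zpowers_le.2 ⟨i, hi.symm⟩) ?_
    rw [Nat.card_zpowers, Nat.card_zpowers, hxo, hσo']
  have key : ∀ j : ℤ, D.x ^ j * D.y * σ' * (D.x ^ j * D.y)⁻¹ = σ'⁻¹ := fun j => by
    rw [hi, D.conj_pow_out, zpow_neg]
  refine ⟨hσ, ?_, ⟨n - 3, by congr 1; omega⟩, ?_, ?_, ⟨(D.y : G), D.y.2, ?_⟩⟩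
  · rw [hσo, ← pow_succ']; congr 1; omega
  · rw [D.card_eq, ← pow_succ', ← pow_succ']; congr 1; omega
  · intro g hg
    rcases D.cases ⟨g, hg⟩ with ⟨j, hj⟩ | ⟨j, hj⟩
    · left
      have : (⟨g, hg⟩ : (P : Subgroup G)) ∈ Subgroup.zpowers σ' := by rw [hz]; exact ⟨j, hj.symm⟩
      obtain ⟨l, hl⟩ := this
      exact ⟨l, congrArg Subtype.val hl⟩
    · right
      have h1 : (⟨g, hg⟩ : (P : Subgroup G)) * ⟨g, hg⟩ = 1 := by rw [hj]; exact D.out_mul_self j
      have h2 : (⟨g, hg⟩ : (P : Subgroup G)) * σ' * (⟨g, hg⟩ : (P : Subgroup G))⁻¹ = σ'⁻¹ := by rw [hj]; exact key j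
      exact ⟨congrArg Subtype.val h1, congrArg Subtype.val h2⟩
  · have h2 := key 0
    rw [zpow_zero, one_mul] at h2
    exact congrArg Subtype.val h2

variable {G : Type u} [Group G] [Finite G] {P : Sylow 2 G} {σ : G} {h : ℕ}

theorem Shape.two_le (Q : Shape (P : Subgroup G) σ h) : 2 ≤ h := by
  obtain ⟨e, rfl⟩ := Q.hpow
  exact Nat.le_self_pow (by omega) 2

theorem Shape.pow_mem (Q : Shape (P : Subgroup G) σ h) (l : ℕ) : σ ^ l ∈ (P : Subgroup G) :=
  (P : Subgroup G).pow_mem Q.hmem l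

theorem Shape.pow_ne_one (Q : Shape (P : Subgroup G) σ h) {l : ℕ} (hl : 0 < l) (hl' : l < 2 * h) :
    σ ^ l ≠ 1 := pow_ne_one_of_lt_orderOf hl.ne' (Q.hord ▸ hl')

theorem Shape.sq_ne_one (Q : Shape (P : Subgroup G) σ h) {l : ℕ} (hl : 0 < l) (hl' : l < 2 * h)
    (hlh : l ≠ h) : σ ^ l * σ ^ l ≠ 1 := by
  rw [← pow_add]
  intro he
  obtain ⟨c, hc⟩ := Q.hord ▸ orderOf_dvd_of_pow_eq_one he
  match c with
  | 0 => omega
  | 1 => omega
  | c + 2 =>
    have : 2 * h * 2 ≤ 2 * h * (c + 2) := Nat.mul_le_mul_left _ (by omega)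
    omega

theorem Shape.exists_two_pow (Q : Shape (P : Subgroup G) σ h) (l : ℕ) :
    ∃ k : ℕ, orderOf (σ ^ l) = 2 ^ k := by
  obtain ⟨k, hk⟩ := P.2 ⟨σ ^ l, Q.pow_mem l⟩
  haveI : Fact (Nat.Prime 2) := ⟨Nat.prime_two⟩
  obtain ⟨j, -, hj⟩ := (Nat.dvd_prime_pow Nat.prime_two).1
    (orderOf_dvd_of_pow_eq_one (congrArg Subtype.val hk))
  exact ⟨j, hj⟩

theorem Shape.conj_inv (Q : Shape (P : Subgroup G) σ h) {l : ℕ} (hl : l ≤ 2 * h) :
    IsConj (σ ^ l) (σ ^ (2 * h - l)) := by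
  obtain ⟨y, -, hy⟩ := Q.hflip
  refine isConj_iff.2 ⟨y, ?_⟩
  rw [← conj_pow, hy, inv_pow, inv_eq_iff_mul_eq_one, ← pow_add, show l + (2 * h - l) = orderOf σ by rw [Q.hord]; omega,
    pow_orderOf_eq_one]

/-- A `2`-element of `P` commuting with a power of order at least four lies in the cyclic part. -/
theorem Shape.mem_cyc (Q : Shape (P : Subgroup G) σ h) {g w : G} (hg : g ∈ (P : Subgroup G))
    (hw : w ∈ Subgroup.zpowers σ) (hw2 : w * w ≠ 1) (hgw : g * w = w * g) : g ∈ Subgroup.zpowers σ := by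
  rcases Q.hcase g hg with h1 | ⟨-, h2⟩
  · exact h1
  exfalso
  obtain ⟨j, rfl⟩ := hw
  have h3 : g * σ ^ j * g⁻¹ = (σ ^ j)⁻¹ := by rw [← conj_zpow, h2, inv_zpow]
  rw [hgw, mul_inv_cancel_right] at h3
  exact hw2 (mul_eq_one_iff_eq_inv.2 h3)

theorem Shape.mem_cyc_of_ord (Q : Shape (P : Subgroup G) σ h) {g : G} (hg : g ∈ (P : Subgroup G))
    (h2 : g * g ≠ 1) : g ∈ Subgroup.zpowers σ :=
  (Q.hcase g hg).resolve_right fun h => h2 h.1

/-- Two-subgroups centralizing a power of order at least four are cyclic. -/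
theorem Shape.card_le (Q : Shape (P : Subgroup G) σ h) {w : G} (hw2 : w * w ≠ 1) {T : Subgroup G}
    (hT : IsPGroup 2 T) (hwT : w ∈ T) (hTw : ∀ t ∈ T, t * w = w * t) :
    IsCyclic T ∧ Nat.card T ≤ 2 * h := by
  haveI : Fact (Nat.Prime 2) := ⟨Nat.prime_two⟩
  obtain ⟨R, hR⟩ := hT.exists_le_sylow
  obtain ⟨a, ha⟩ := MulAction.exists_smul_eq G R P
  have hmem : ∀ t ∈ T, a * t * a⁻¹ ∈ (P : Subgroup G) := fun t ht => by
    rw [← ha]; exact Subgroup.smul_mem_pointwise_smul t (MulAut.conj a) _ (hR ht)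
  have hw2' : a * w * a⁻¹ * (a * w * a⁻¹) ≠ 1 := by
    rw [show a * w * a⁻¹ * (a * w * a⁻¹) = a * (w * w) * a⁻¹ by group, Ne, conj_eq_one_iff]
    exact hw2
  let f : T →* Subgroup.zpowers σ := ((MulAut.conj a).toMonoidHom.comp T.subtype).codRestrict _ fun t =>
    Q.mem_cyc (hmem t t.2) (Q.mem_cyc_of_ord (hmem w hwT) hw2') hw2' (by
      show a * (t : G) * a⁻¹ * (a * w * a⁻¹) = a * w * a⁻¹ * (a * (t : G) * a⁻¹)
      calc a * (t : G) * a⁻¹ * (a * w * a⁻¹) = a * ((t : G) * w) * a⁻¹ := by group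
        _ = a * (w * (t : G)) * a⁻¹ := by rw [hTw t t.2]
        _ = _ := by group)
  have hf : Function.Injective f := fun x y hxy =>
    Subtype.ext ((MulAut.conj a).injective (congrArg Subtype.val hxy))
  refine ⟨isCyclic_of_injective f hf, ?_⟩
  refine (Nat.card_le_card_of_injective f hf).trans ?_
  rw [Nat.card_zpowers, Q.hord]

theorem Shape.compl_pow (Q : Shape (P : Subgroup G) σ h) {l : ℕ} (hl : 0 < l) (hl' : l < 2 * h)
    (hlh : l ≠ h) : ∃ N : Subgroup (Subgroup.centralizer ({σ ^ l} : Set G)),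
      N.Normal ∧ ¬ 2 ∣ Nat.card N ∧ N.index = 2 * h := by
  haveI : Fact (Nat.Prime 2) := ⟨Nat.prime_two⟩
  set C := Subgroup.centralizer ({σ ^ l} : Set G) with hC
  have hle : Subgroup.zpowers σ ≤ C := Subgroup.zpowers_le.2
    (Subgroup.mem_centralizer_singleton_iff.2 ((Commute.refl σ).pow_right l).eq)
  obtain ⟨e, he⟩ := Q.hpow
  have hZ : IsPGroup 2 ((Subgroup.zpowers σ).subgroupOf C) :=
    IsPGroup.of_card (n := e + 2) (by
      rw [Nat.card_congr (Subgroup.subgroupOfEquivOfLe hle).toEquiv, Nat.card_zpowers, Q.hord, he, ← pow_succ'])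
  obtain ⟨T, hT⟩ := hZ.exists_le_sylow
  have hTm : Subgroup.zpowers σ ≤ (T : Subgroup C).map C.subtype := fun x hx =>
    ⟨⟨x, hle hx⟩, hT (Subgroup.mem_subgroupOf.2 hx), rfl⟩
  obtain ⟨hcyc, hcard⟩ := Q.card_le (Q.sq_ne_one hl hl' hlh) (T.2.map C.subtype)
    (hTm ((Subgroup.zpowers σ).pow_mem (Subgroup.mem_zpowers σ) l))
    (by rintro _ ⟨t, -, rfl⟩; exact Subgroup.mem_centralizer_singleton_iff.1 t.2)
  have eT := Subgroup.equivMapOfInjective (T : Subgroup C) C.subtype C.subtype_injective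
  have hcT : Nat.card (T : Subgroup C) = 2 * h := by
    refine le_antisymm (le_of_eq_of_le (Nat.card_congr eT.toEquiv) hcard) ?_
    rw [Nat.card_congr eT.toEquiv, ← Q.hord, ← Nat.card_zpowers]
    exact Subgroup.card_le_of_le hTm
  haveI := hcyc
  obtain ⟨N, h1, h2, h3, -⟩ := exists_complement_of_cyclic_sylow T (isCyclic_of_surjective eT.symm.toMonoidHom eT.symm.surjective)
    (even_iff_two_dvd.2 ((dvd_mul_right 2 h).trans (hcT ▸ Subgroup.card_subgroup_dvd_card _)))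
  exact ⟨N, h1, h2, h3.trans hcT⟩

theorem Shape.fusion (Q : Shape (P : Subgroup G) σ h) {l m : ℕ} (hm : 0 < m) (hm' : m < 2 * h)
    (hmh : m ≠ h) (hlm : IsConj (σ ^ l) (σ ^ m)) : σ ^ m = σ ^ l ∨ σ ^ m = (σ ^ l)⁻¹ := by
  haveI : Fact (Nat.Prime 2) := ⟨Nat.prime_two⟩
  set C := Subgroup.centralizer ({σ ^ m} : Set G) with hC
  obtain ⟨g, hg⟩ := isConj_iff.1 hlm
  have hle : Subgroup.zpowers σ ≤ C := Subgroup.zpowers_le.2
    (Subgroup.mem_centralizer_singleton_iff.2 ((Commute.refl σ).pow_right m).eq)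
  have hgle : Subgroup.zpowers (g * σ * g⁻¹) ≤ C := Subgroup.zpowers_le.2
    (Subgroup.mem_centralizer_singleton_iff.2 (by
      rw [← hg]
      have hc := ((Commute.refl σ).pow_right l).eq
      calc g * σ * g⁻¹ * (g * σ ^ l * g⁻¹) = g * (σ * σ ^ l) * g⁻¹ := by group
        _ = g * (σ ^ l * σ) * g⁻¹ := by rw [hc]
        _ = _ := by group))
  obtain ⟨e, he⟩ := Q.hpow
  have hord : ∀ w : G, orderOf w = 2 * h → ∀ hw : Subgroup.zpowers w ≤ C, IsPGroup 2 ((Subgroup.zpowers w).subgroupOf C) :=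
    fun w hw hwC => IsPGroup.of_card (n := e + 2) (by
      rw [Nat.card_congr (Subgroup.subgroupOfEquivOfLe hwC).toEquiv, Nat.card_zpowers, hw, he, ← pow_succ'])
  have hgo : orderOf (g * σ * g⁻¹) = 2 * h := by
    rw [show g * σ * g⁻¹ = MulAut.conj g σ from rfl, MulEquiv.orderOf_eq, Q.hord]
  obtain ⟨T, hT⟩ := (hord σ Q.hord hle).exists_le_sylow
  obtain ⟨T', hT'⟩ := (hord _ hgo hgle).exists_le_sylow
  obtain ⟨c, hc⟩ := MulAction.exists_smul_eq C T' T
  have hcσ : (c : G) * (g * σ * g⁻¹) * (c : G)⁻¹ ∈ (T : Subgroup C).map C.subtype := by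
    refine ⟨c * ⟨_, hgle (Subgroup.mem_zpowers _)⟩ * c⁻¹, ?_, rfl⟩
    rw [← hc]
    exact Subgroup.smul_mem_pointwise_smul _ (MulAut.conj c) _ (hT' (Subgroup.mem_subgroupOf.2 (Subgroup.mem_zpowers _)))
  have hTm : Subgroup.zpowers σ ≤ (T : Subgroup C).map C.subtype := fun x hx =>
    ⟨⟨x, hle hx⟩, hT (Subgroup.mem_subgroupOf.2 hx), rfl⟩
  obtain ⟨-, hcard⟩ := Q.card_le (Q.sq_ne_one hm hm' hmh) (T.2.map C.subtype)
    (hTm ((Subgroup.zpowers σ).pow_mem (Subgroup.mem_zpowers σ) m))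
    (by rintro _ ⟨t, -, rfl⟩; exact Subgroup.mem_centralizer_singleton_iff.1 t.2)
  rw [← Subgroup.eq_of_le_of_card_ge hTm (by rw [Nat.card_zpowers, Q.hord]; exact hcard)] at hcσ
  set k := (c : G) * g with hk
  have hkσ : k * σ * k⁻¹ ∈ Subgroup.zpowers σ := by
    rw [hk, show (c : G) * g * σ * ((c : G) * g)⁻¹ = (c : G) * (g * σ * g⁻¹) * (c : G)⁻¹ by group]
    exact hcσ
  have hkm : k * σ ^ l * k⁻¹ = σ ^ m := by
    rw [hk, show (c : G) * g * σ ^ l * ((c : G) * g)⁻¹ = (c : G) * (g * σ ^ l * g⁻¹) * (c : G)⁻¹ by group, hg,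
      Subgroup.mem_centralizer_singleton_iff.1 c.2, mul_inv_cancel_right]
  have hpm : k * σ * k⁻¹ = σ ∨ k * σ * k⁻¹ = σ⁻¹ := by
    set a := (orderOf k).factorization 2
    set b := orderOf k / 2 ^ a with hb
    have hcop : (2 ^ a).Coprime b := (Nat.coprime_ordCompl Nat.prime_two (orderOf_pos k).ne').pow_left a
    have hab : 2 ^ a * b = orderOf k := Nat.ordProj_mul_ordCompl_eq_self _ 2
    obtain ⟨s, hs⟩ : ∃ s : ℤ, ∃ r : ℤ, s * (2 ^ a : ℕ) + r * (b : ℕ) = 1 :=
      ⟨Nat.gcdA (2 ^ a) b, Nat.gcdB (2 ^ a) b, by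
        have := Nat.gcd_eq_gcd_ab (2 ^ a) b
        rw [hcop] at this; push_cast at this ⊢; linarith⟩
    obtain ⟨r, hr⟩ := hs
    set u := (k ^ (2 ^ a)) ^ s
    set v := (k ^ b) ^ r
    have hkuv : k = v * u := by
      simp only [u, v]
      rw [← zpow_natCast, ← zpow_mul, ← zpow_natCast, ← zpow_mul, ← zpow_add,
        show (b : ℤ) * r + ((2 ^ a : ℕ) : ℤ) * s = 1 by linarith, zpow_one]
    have hbodd : Odd (orderOf u) := by
      have h1 : orderOf u ∣ b := by
        refine orderOf_dvd_of_pow_eq_one ?_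
        simp only [u]
        rw [← zpow_natCast, ← zpow_mul, mul_comm s, zpow_mul, zpow_natCast, ← pow_mul, hab,
          pow_orderOf_eq_one, one_zpow]
      exact (Nat.coprime_two_left.1 (Nat.coprime_ordCompl Nat.prime_two (orderOf_pos k).ne')).of_dvd_nat h1
    have hkN : k ∈ Subgroup.normalizer (Subgroup.zpowers σ : Set G) := by
      rw [Subgroup.mem_normalizer_iff_map_conj_eq]
      refine Subgroup.eq_of_le_of_card_ge ?_ ?_
      · rw [MonoidHom.map_zpowers]; exact Subgroup.zpowers_le.2 hkσ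
      · exact (Subgroup.card_map_of_injective (MulAut.conj k).injective).ge
    have huN : u ∈ Subgroup.normalizer (Subgroup.zpowers σ : Set G) := _root_.zpow_mem (_root_.pow_mem hkN _) _
    have hvN : v ∈ Subgroup.normalizer (Subgroup.zpowers σ : Set G) := _root_.zpow_mem (_root_.pow_mem hkN _) _
    have hu : Commute u σ := commute_of_cyclic_two hbodd (e + 2) σ (by rw [Q.hord, he, ← pow_succ'])
      ((Subgroup.mem_normalizer_iff.1 huN σ).1 (Subgroup.mem_zpowers σ))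
    have hvp : IsPGroup 2 (Subgroup.zpowers v) := by
      have h1 : orderOf v ∣ 2 ^ a := by
        refine orderOf_dvd_of_pow_eq_one ?_
        simp only [v]
        rw [← zpow_natCast, ← zpow_mul, mul_comm r, zpow_mul, zpow_natCast, ← pow_mul, mul_comm b, hab,
          pow_orderOf_eq_one, one_zpow]
      obtain ⟨j, -, hj⟩ := (Nat.dvd_prime_pow Nat.prime_two).1 h1
      exact IsPGroup.of_card (n := j) (by rw [Nat.card_zpowers, hj])
    have hσp : IsPGroup 2 (Subgroup.zpowers σ) :=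
      IsPGroup.of_card (n := e + 2) (by rw [Nat.card_zpowers, Q.hord, he, ← pow_succ'])
    obtain ⟨R, hR⟩ := (hvp.to_sup_of_normal_right' hσp (Subgroup.zpowers_le.2 hvN)).exists_le_sylow
    obtain ⟨w, hw⟩ := MulAction.exists_smul_eq G R P
    have hm2 : ∀ t ∈ Subgroup.zpowers v ⊔ Subgroup.zpowers σ, w * t * w⁻¹ ∈ (P : Subgroup G) := fun t ht => by
      rw [← hw]; exact Subgroup.smul_mem_pointwise_smul t (MulAut.conj w) _ (hR ht)
    have hσw : w * σ * w⁻¹ ∈ Subgroup.zpowers σ := by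
      refine Q.mem_cyc_of_ord (hm2 σ (Subgroup.mem_sup_right (Subgroup.mem_zpowers σ))) ?_
      rw [show w * σ * w⁻¹ * (w * σ * w⁻¹) = w * (σ * σ) * w⁻¹ by group, Ne, conj_eq_one_iff, ← pow_two]
      exact Q.pow_ne_one two_pos (by have := Q.two_le; omega)
    obtain ⟨j, hj⟩ := hσw
    rcases Q.hcase _ (hm2 v (Subgroup.mem_sup_left (Subgroup.mem_zpowers v))) with ⟨i, hi⟩ | ⟨-, hi⟩
    · left
      have hcv : Commute v σ := by
        have h1 : Commute (w * v * w⁻¹) (w * σ * w⁻¹) := by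
          rw [← hi, ← hj]; exact (Commute.refl σ).zpow_zpow i j
        exact (Commute.conj_iff w).1 h1
      rw [hkuv, (hcv.mul_left hu).eq, mul_inv_cancel_right]
    · right
      have h1 : w * v * w⁻¹ * (w * σ * w⁻¹) * (w * v * w⁻¹)⁻¹ = (w * σ * w⁻¹)⁻¹ := by
        rw [← hj, ← conj_zpow, hi, inv_zpow]
      have h2 : v * σ * v⁻¹ = σ⁻¹ := by
        apply (MulAut.conj w).injective
        simp only [MulAut.conj_apply]
        calc w * (v * σ * v⁻¹) * w⁻¹ = w * v * w⁻¹ * (w * σ * w⁻¹) * (w * v * w⁻¹)⁻¹ := by group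
          _ = _ := h1
          _ = _ := by group
      rw [hkuv, mul_inv_rev, show v * u * σ * (u⁻¹ * v⁻¹) = v * (u * σ * u⁻¹) * v⁻¹ by group,
        hu.eq, mul_inv_cancel_right, h2]
  rcases hpm with h1 | h1
  · left; rw [← hkm, ← conj_pow, h1]
  · right; rw [← hkm, ← conj_pow, h1, inv_pow]

theorem Shape.z_comm (Q : Shape (P : Subgroup G) σ h) {g : G} (hg : g ∈ (P : Subgroup G)) :
    g * σ ^ h = σ ^ h * g := by
  rcases Q.hcase g hg with ⟨j, rfl⟩ | ⟨-, h2⟩
  · exact (((Commute.refl σ).zpow_left j).pow_right h).eq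
  · have h3 : g * σ ^ h * g⁻¹ = σ ^ h := by
      rw [← conj_pow, h2, inv_pow, inv_eq_iff_mul_eq_one, ← pow_add, ← two_mul, ← Q.hord, pow_orderOf_eq_one]
    exact mul_inv_eq_iff_eq_mul.1 h3

theorem Shape.compl_center (Q : Shape (P : Subgroup G) σ h) :
    ∃ N : Subgroup (Subgroup.centralizer ({σ ^ h} : Set G)),
      N.Normal ∧ ¬ 2 ∣ Nat.card N ∧ N.index = 2 * (2 * h) := by
  haveI : Fact (Nat.Prime 2) := ⟨Nat.prime_two⟩
  set z := σ ^ h with hzdef
  set C := Subgroup.centralizer ({z} : Set G) with hC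
  have hle : (P : Subgroup G) ≤ C := fun g hg => Subgroup.mem_centralizer_singleton_iff.2 (Q.z_comm hg)
  let T : Sylow 2 C := P.subtype hle
  have hTe : (T : Subgroup C) = (P : Subgroup G).subgroupOf C := rfl
  obtain ⟨y, hyP, hy⟩ := Q.hflip
  obtain ⟨e, he⟩ := Q.hpow
  have eT : (T : Subgroup C) ≃* (P : Subgroup G) := Subgroup.subgroupOfEquivOfLe hle
  let σT : (T : Subgroup C) := ⟨⟨σ, hle Q.hmem⟩, Subgroup.mem_subgroupOf.2 Q.hmem⟩
  let yT : (T : Subgroup C) := ⟨⟨y, hle hyP⟩, Subgroup.mem_subgroupOf.2 hyP⟩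
  have hynot : y ∉ Subgroup.zpowers σ := fun ⟨j, hj⟩ => by
    have h1 : Commute y σ := hj ▸ (Commute.refl σ).zpow_left j
    rw [h1.eq, mul_inv_cancel_right, ← mul_eq_one_iff_eq_inv, ← pow_two] at hy
    exact Q.pow_ne_one two_pos (by have := Q.two_le; omega) hy
  have hy2 : y * y = 1 := ((Q.hcase y hyP).resolve_left hynot).1
  let D : DData (T : Subgroup C) (e + 1) :=
    { x := σT
      y := yT
      card_eq := by rw [Nat.card_congr eT.toEquiv, Q.hcard, he, ← pow_succ', ← pow_succ']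
      order_x := by
        rw [← Subgroup.orderOf_coe, ← Subgroup.orderOf_coe]
        show orderOf σ = _
        rw [Q.hord, he, ← pow_succ']
      order_y := by
        rw [← Subgroup.orderOf_coe, ← Subgroup.orderOf_coe]
        show orderOf y = _
        refine orderOf_eq_prime (by rw [pow_two, hy2]) fun hy1 => hynot ?_
        rw [hy1]; exact one_mem _
      rel := Subtype.ext (Subtype.ext hy)
      y_not_mem := fun ⟨j, hj⟩ => hynot ⟨j, congrArg (fun w : (T : Subgroup C) => ((w : C) : G)) hj⟩ }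
  have hDz : (((D.z : (T : Subgroup C)) : C) : G) = z := by
    show σ ^ ((2 : ℤ) ^ (e + 1)) = σ ^ h
    rw [he, ← zpow_natCast]; push_cast; rfl
  have hF : CfsgLib.Solv.FrobCond 2 C := by
    refine frobCond_of_not_fused T D fun U hUT hU => ?_
    obtain ⟨i, rfl⟩ := klein_le_eq T D hU hUT
    rintro ⟨g, hg, hodd, hgc⟩
    apply hgc
    have hgz : g * ((D.z : (T : Subgroup C)) : C) * g⁻¹ = ((D.z : (T : Subgroup C)) : C) := by
      apply Subtype.ext
      show (g : G) * (((D.z : (T : Subgroup C)) : C) : G) * (g : G)⁻¹ = _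
      rw [hDz, Subgroup.mem_centralizer_singleton_iff.1 g.2, mul_inv_cancel_right]
    set z' : C := ((D.z : (T : Subgroup C)) : C) with hz'
    set u : C := ((D.x ^ i * D.y : (T : Subgroup C)) : C) with hu
    have hfour : ∀ w ∈ dsub T D i (e + 1), w = 1 ∨ w = z' ∨ w = u ∨ w = z' * u := by
      rintro _ ⟨v, hv, rfl⟩
      rcases D.four_mem i hv with rfl | rfl | rfl | rfl <;> simp [hz', hu]
    have hu_ne : u ≠ z' ∧ u ≠ 1 := by
      constructor
      · intro hh
        have e1 : D.x ^ i * D.y = D.z := Subtype.ext (show u = z' from hh)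
        exact D.out_not_mem i (e1 ▸ Subgroup.zpow_mem_zpowers _ _)
      · intro hh
        have e1 : D.x ^ i * D.y = 1 := Subtype.ext (show u = ((1 : (T : Subgroup C)) : C) from hh)
        exact D.out_not_mem i (e1 ▸ one_mem _)
    have himg := (Subgroup.mem_normalizer_iff.1 hg u).1 (four_elem_mem T D i).2
    have hsq : Commute (g * g) u := by
      have hgg : g * g * u * (g * g)⁻¹ = g * (g * u * g⁻¹) * g⁻¹ := by group
      refine (mul_inv_eq_iff_eq_mul.1 ?_ : g * g * u = u * (g * g))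
      rw [hgg]
      rcases hfour _ himg with h1 | h1 | h1 | h1
      · exact absurd (conj_eq_one_iff.1 h1) hu_ne.2
      · exfalso
        refine hu_ne.1 ?_
        exact mul_left_cancel (mul_right_cancel (h1.trans hgz.symm))
      · rw [h1, h1]
      · rw [h1, show g * (z' * u) * g⁻¹ = g * z' * g⁻¹ * (g * u * g⁻¹) by group, hgz, h1, ← mul_assoc,
          show z' * z' = 1 from congrArg Subtype.val D.z_mul_self, one_mul]
    have hgu : Commute g u := by
      obtain ⟨j, hj⟩ := hodd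
      have h1 : g = (g * g) ^ (j + 1) := by
        rw [← pow_two, ← pow_mul, show 2 * (j + 1) = orderOf g + 1 by omega, pow_succ, pow_orderOf_eq_one, one_mul]
      rw [h1]; exact hsq.pow_left _
    have hgz' : Commute g z' := mul_inv_eq_iff_eq_mul.1 hgz
    refine Subgroup.mem_centralizer_iff.2 fun w hw => ?_
    rcases hfour w hw with rfl | rfl | rfl | rfl
    · simp
    · exact hgz'.eq.symm
    · exact hgu.eq.symm
    · exact (hgz'.mul_right hgu).eq.symm
  obtain ⟨S, N, hN, hNS⟩ := CfsgLib.Solv.hnpc_iff_frobCond.2 hF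
  have hcS : Nat.card (S : Subgroup C) = 2 * (2 * h) := by
    rw [S.card_eq_multiplicity, ← T.card_eq_multiplicity, Nat.card_congr eT.toEquiv, Q.hcard]
  refine ⟨N, hN, ?_, hNS.symm.index_eq_card.trans hcS⟩
  intro h2
  have h3 := hNS.card_mul
  rw [S.card_eq_multiplicity] at h3
  have := Nat.pow_succ_factorization_not_dvd (Nat.card_pos (α := C)).ne' Nat.prime_two
  apply this
  rw [pow_succ']
  calc 2 * 2 ^ (Nat.card C).factorization 2 ∣ Nat.card N * 2 ^ (Nat.card C).factorization 2 := Nat.mul_dvd_mul_right h2 _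
    _ = Nat.card C := h3

open Finset in
theorem unit_entries {ι : Type*} [DecidableEq ι] (S : Finset ι) (v : ι → ℤ) (k : ℕ) (hk : k ≤ 3)
    (hs : ∑ χ ∈ S, v χ * v χ = k) :
    (∀ χ ∈ S, v χ = 0 ∨ v χ = 1 ∨ v χ = -1) ∧ (S.filter fun χ => v χ ≠ 0).card = k := by
  have h1 : ∀ χ ∈ S, v χ = 0 ∨ v χ = 1 ∨ v χ = -1 := fun χ hχ => by
    have hle : v χ * v χ ≤ 3 := by
      have := Finset.single_le_sum (fun i _ => mul_self_nonneg (v i)) hχ
      rw [hs] at this
      exact this.trans (by exact_mod_cast hk)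
    have h2 : v χ ≤ 1 := by nlinarith
    have h3 : -1 ≤ v χ := by nlinarith
    omega
  refine ⟨h1, ?_⟩
  have h2 : ∑ χ ∈ S, v χ * v χ = ∑ χ ∈ S, if v χ ≠ 0 then (1 : ℤ) else 0 :=
    Finset.sum_congr rfl fun χ hχ => by rcases h1 χ hχ with h | h | h <;> simp [h]
  rw [h2, Finset.sum_boole] at hs
  exact_mod_cast hs

/-- The labelling of the block. -/
def Labels {ι : Type*} (S : Finset ι) (T : ι) (E : ι → ℕ → ℤ) (h : ℕ) : Prop :=
    ∃ (a c d : ι) (b : Fin (h - 1) → ι) (s t u : ℤ), (s = 1 ∨ s = -1) ∧ (t = 1 ∨ t = -1) ∧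
      (u = 1 ∨ u = -1) ∧ Function.Injective b ∧ a ∈ S ∧ c ∈ S ∧ d ∈ S ∧ (∀ i, b i ∈ S) ∧
      a ≠ T ∧ c ≠ T ∧ d ≠ T ∧ a ≠ c ∧ a ≠ d ∧ c ≠ d ∧
      (∀ i, b i ≠ T ∧ b i ≠ a ∧ b i ≠ c ∧ b i ≠ d) ∧
      (∀ χ ∈ S, χ = T ∨ χ = a ∨ χ = c ∨ χ = d ∨ ∃ i, χ = b i) ∧
      (∀ j, 1 ≤ j → j ≤ h → E a j = s ∧ E c j = (if j = h then t else 0) ∧
        E d j = (if j = h then u else 0) ∧
        ∀ i : Fin (h - 1), E (b i) j = if j = (i : ℕ) + 1 then -s else 0)

open Finset in
theorem comb {ι : Type*} [DecidableEq ι] (S : Finset ι) (T : ι) (x : ι → ℤ) (E : ι → ℕ → ℤ) (h : ℕ)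
    (hh : 2 ≤ h) (hh3 : h ≠ 3) (hx : ∀ χ ∈ S, 0 < x χ) (hTE : ∀ j, 1 ≤ j → j ≤ h → E T j = 0)
    (hdeg : ∀ j, 1 ≤ j → j ≤ h → ∑ χ ∈ S, E χ j * x χ = 1)
    (hip : ∀ i j, 1 ≤ i → i ≤ h → 1 ≤ j → j ≤ h →
      ∑ χ ∈ S, E χ i * E χ j = if i = j then (if i = h then 3 else 2) else 1)
    (hsupp : ∀ χ ∈ S, χ ≠ T → ∃ j, 1 ≤ j ∧ j ≤ h ∧ E χ j ≠ 0) :
    Labels S T E h := by
  have hbound : ∀ i : Fin (h - 1), 1 ≤ (i : ℕ) + 1 ∧ (i : ℕ) + 1 ≤ h ∧ (i : ℕ) + 1 ≠ h := fun i =>
    ⟨by omega, by have := i.2; omega, by have := i.2; omega⟩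
  -- the small supports
  have hpair : ∀ i : Fin (h - 1), ∃ P M : ι, P ∈ S ∧ M ∈ S ∧ P ≠ M ∧ E P (i + 1) = 1 ∧ E M (i + 1) = -1 ∧
      ∀ χ ∈ S, E χ (i + 1) ≠ 0 → χ = P ∨ χ = M := by
    intro i
    obtain ⟨h1, h2, h3⟩ := hbound i
    have hs := hip _ _ h1 h2 h1 h2
    rw [if_pos rfl, if_neg h3] at hs
    obtain ⟨hv, hc⟩ := unit_entries S (fun χ => E χ ((i : ℕ) + 1)) 2 (by norm_num) (by exact_mod_cast hs)
    obtain ⟨p, q, hpq, hF⟩ := Finset.card_eq_two.1 hc
    have hall : ∀ χ ∈ S, E χ ((i : ℕ) + 1) ≠ 0 → χ = p ∨ χ = q := fun χ hχ hne => by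
      have : χ ∈ S.filter fun χ => E χ ((i : ℕ) + 1) ≠ 0 := mem_filter.2 ⟨hχ, hne⟩
      rw [hF] at this
      simpa using this
    have hp : p ∈ S.filter fun χ => E χ ((i : ℕ) + 1) ≠ 0 := by rw [hF]; simp
    have hq : q ∈ S.filter fun χ => E χ ((i : ℕ) + 1) ≠ 0 := by rw [hF]; simp
    have hd := hdeg _ h1 h2
    rw [← Finset.sum_filter_of_ne (p := fun χ => E χ ((i : ℕ) + 1) ≠ 0) (fun χ _ h h0 => h (by rw [h0, zero_mul])),
      hF, Finset.sum_pair hpq] at hd
    obtain ⟨hpS, hp0⟩ := mem_filter.1 hp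
    obtain ⟨hqS, hq0⟩ := mem_filter.1 hq
    have := hx p hpS
    have := hx q hqS
    rcases (hv p hpS).resolve_left hp0 with e1 | e1 <;> rcases (hv q hqS).resolve_left hq0 with e2 | e2 <;>
      rw [e1, e2] at hd
    · omega
    · exact ⟨p, q, hpS, hqS, hpq, e1, e2, hall⟩
    · exact ⟨q, p, hqS, hpS, hpq.symm, e2, e1, fun χ a b => (hall χ a b).symm⟩
    · omega
  choose P M hPS hMS hPM hP1 hM1 hall using hpair
  have hval : ∀ j, 1 ≤ j → j ≤ h → ∀ χ ∈ S, E χ j = 0 ∨ E χ j = 1 ∨ E χ j = -1 := by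
    intro j hj hj' χ hχ
    have hs := hip j j hj hj' hj hj'
    rw [if_pos rfl] at hs
    split_ifs at hs with hjh
    · exact (unit_entries S (fun χ => E χ j) 3 le_rfl (by exact_mod_cast hs)).1 χ hχ
    · exact (unit_entries S (fun χ => E χ j) 2 (by norm_num) (by exact_mod_cast hs)).1 χ hχ
  have hrow : ∀ (i : Fin (h - 1)) (j : ℕ), 1 ≤ j → j ≤ h → j ≠ (i : ℕ) + 1 →
      E (P i) j - E (M i) j = 1 := by
    intro i j hj hj' hne
    have hs := hip _ j (hbound i).1 (hbound i).2.1 hj hj'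
    rw [if_neg hne.symm, ← Finset.sum_subset (s₁ := {P i, M i}) (by simp [Finset.insert_subset_iff, hPS, hMS])
      (fun χ hχ hn => ?_), Finset.sum_pair (hPM i), hP1, hM1] at hs
    · linarith
    · have h0 : E χ ((i : ℕ) + 1) = 0 := by
        by_contra h0
        simp only [Finset.mem_insert, Finset.mem_singleton] at hn
        exact hn (hall i χ hχ h0)
      rw [h0, zero_mul]
  have hdi : ∀ i k : Fin (h - 1), i ≠ k → (P i = P k ∧ M i ≠ M k) ∨ (P i ≠ P k ∧ M i = M k) := by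
    intro i k hik
    have hne : (k : ℕ) + 1 ≠ (i : ℕ) + 1 := fun e => hik (Fin.ext (by omega))
    have hr := hrow i _ (hbound k).1 (hbound k).2.1 hne
    by_cases hp : P i = P k
    · refine Or.inl ⟨hp, fun hm => ?_⟩
      rw [hp, hm, hP1, hM1] at hr; omega
    · refine Or.inr ⟨hp, ?_⟩
      by_contra hm
      have a1 : E (P i) ((k : ℕ) + 1) ≤ 0 := by
        rcases hval _ (hbound k).1 (hbound k).2.1 _ (hPS i) with e | e | e
        · omega
        · rcases hall k _ (hPS i) (by omega) with r | r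
          · exact absurd r hp
          · rw [r, hM1] at e; omega
        · omega
      have a2 : 0 ≤ E (M i) ((k : ℕ) + 1) := by
        rcases hval _ (hbound k).1 (hbound k).2.1 _ (hMS i) with e | e | e
        · omega
        · omega
        · rcases hall k _ (hMS i) (by omega) with r | r
          · rw [r, hP1] at e; omega
          · exact absurd r hm
      omega
  haveI : Nonempty (Fin (h - 1)) := ⟨⟨0, by omega⟩⟩
  let o : Fin (h - 1) := ⟨0, by omega⟩
  -- common point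
  obtain ⟨a, b, s, hs, haS, hbS, hba, hb, hEa, hEb, hsup⟩ : ∃ (a : ι) (b : Fin (h - 1) → ι) (s : ℤ),
      (s = 1 ∨ s = -1) ∧ a ∈ S ∧ (∀ i, b i ∈ S) ∧ (∀ i, b i ≠ a) ∧ Function.Injective b ∧
      (∀ i : Fin (h - 1), E a (i + 1) = s) ∧ (∀ i : Fin (h - 1), E (b i) (i + 1) = -s) ∧
      ∀ (i : Fin (h - 1)), ∀ χ ∈ S, E χ (i + 1) ≠ 0 → χ = a ∨ χ = b i := by
    by_cases hP : ∀ i k, P i = P k
    · refine ⟨P o, M, 1, Or.inl rfl, hPS o, hMS, fun i => hP o i ▸ (hPM i).symm, fun i k e => ?_,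
        fun i => hP o i ▸ hP1 i, fun i => hM1 i, fun i χ a b => hP o i ▸ hall i χ a b⟩
      by_contra hne
      rcases hdi i k hne with ⟨-, r⟩ | ⟨r, -⟩
      · exact r e
      · exact r (hP i k)
    · push Not at hP
      obtain ⟨i₀, k₀, hne⟩ := hP
      have hik : i₀ ≠ k₀ := fun e => hne (e ▸ rfl)
      have hm0 : M i₀ = M k₀ := ((hdi i₀ k₀ hik).resolve_left fun r => hne r.1).2
      have hM : ∀ r, M r = M i₀ := by
        intro r
        by_contra hr
        have h1 : r ≠ i₀ := fun e => hr (e ▸ rfl)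
        have h2 : r ≠ k₀ := fun e => hr (e ▸ hm0.symm)
        have e1 := ((hdi r i₀ h1).resolve_right fun q => hr q.2).1
        have e2 := ((hdi r k₀ h2).resolve_right fun q => hr (q.2.trans hm0.symm)).1
        exact hne (e1.symm.trans e2)
      refine ⟨M i₀, P, -1, Or.inr rfl, hMS _, hPS, fun i => hM i ▸ hPM i, fun i k e => ?_,
        fun i => hM i ▸ hM1 i, fun i => by rw [hP1]; norm_num, fun i χ a b => hM i ▸ (hall i χ a b).symm⟩
      by_contra hne'
      rcases hdi i k hne' with ⟨-, r⟩ | ⟨r, -⟩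
      · exact r ((hM i).trans (hM k).symm)
      · exact r e
  have hsum : ∀ (i : Fin (h - 1)), E a h - E (b i) h = s := by
    intro i
    have h2 := hip _ h (hbound i).1 (hbound i).2.1 (by omega) le_rfl
    rw [if_neg (hbound i).2.2, ← Finset.sum_subset (s₁ := {a, b i}) (by simp [Finset.insert_subset_iff, haS, hbS])
      (fun χ hχ hn => ?_), Finset.sum_pair (hba i).symm, hEa, hEb] at h2
    · rcases hs with rfl | rfl <;> linarith
    · have h0 : E χ ((i : ℕ) + 1) = 0 := by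
        by_contra h0
        simp only [Finset.mem_insert, Finset.mem_singleton] at hn
        exact hn (hsup i χ hχ h0)
      rw [h0, zero_mul]
  -- the big support
  have hs3 := hip h h (by omega) le_rfl (by omega) le_rfl
  rw [if_pos rfl, if_pos rfl] at hs3
  obtain ⟨hv3, hc3⟩ := unit_entries S (fun χ => E χ h) 3 le_rfl (by exact_mod_cast hs3)
  set F := S.filter fun χ => E χ h ≠ 0 with hF
  suffices key : ∀ (a : ι) (b : Fin (h - 1) → ι) (s : ℤ), (s = 1 ∨ s = -1) → a ∈ S → (∀ i, b i ∈ S) →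
      (∀ i, b i ≠ a) → Function.Injective b → (∀ i : Fin (h - 1), E a (i + 1) = s) →
      (∀ i : Fin (h - 1), E (b i) (i + 1) = -s) →
      (∀ (i : Fin (h - 1)), ∀ χ ∈ S, E χ (i + 1) ≠ 0 → χ = a ∨ χ = b i) →
      E a h = s → (∀ i, E (b i) h = 0) → Labels S T E h by
    by_cases hgood : E a h = s
    · exact key a b s hs haS hbS hba hb hEa hEb hsup hgood fun i => by have := hsum i; omega
    have hbv : ∀ i, E (b i) h = -s ∧ E a h = 0 := fun i => by
      have := hsum i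
      have := hv3 a haS
      have := hv3 _ (hbS i)
      rcases hs with rfl | rfl <;> omega
    rcases eq_or_ne h 2 with h2 | h2
    · haveI : Subsingleton (Fin (h - 1)) := ⟨fun p q => Fin.ext (by omega)⟩
      refine key (b o) (fun _ => a) (-s) (by omega) (hbS o) (fun _ => haS) (fun _ => (hba o).symm)
        (fun p q _ => Subsingleton.elim p q) (fun i => Subsingleton.elim i o ▸ hEb i)
        (fun i => by rw [hEa, neg_neg]) (fun i χ p q => ?_) (hbv o).1 (fun _ => (hbv o).2)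
      exact Subsingleton.elim i o ▸ (hsup i χ p q).symm
    exfalso
    have hsub : Finset.univ.image b ⊆ F := by
      intro χ hχ
      obtain ⟨i, -, rfl⟩ := Finset.mem_image.1 hχ
      exact mem_filter.2 ⟨hbS i, by rw [(hbv i).1]; omega⟩
    have hcard : (Finset.univ.image b).card = h - 1 := by
      rw [Finset.card_image_of_injective _ hb, Finset.card_univ, Fintype.card_fin]
    have hle := Finset.card_le_card hsub
    rw [hcard, hc3] at hle
    have heq : Finset.univ.image b = F := Finset.eq_of_subset_of_card_le hsub (by rw [hcard, hc3]; omega)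
    have hd := hdeg h (by omega) le_rfl
    rw [← Finset.sum_filter_of_ne (p := fun χ => E χ h ≠ 0) (fun χ _ h h0 => h (by rw [h0, zero_mul])),
      ← hF, ← heq, Finset.sum_image hb.injOn, Finset.sum_congr rfl fun i _ => by rw [(hbv i).1],
      ← Finset.mul_sum] at hd
    have h3 : (3 : ℤ) ≤ ∑ i : Fin (h - 1), x (b i) := by
      calc (3 : ℤ) = ∑ _i : Fin (h - 1), (1 : ℤ) := by simp; omega
        _ ≤ _ := Finset.sum_le_sum fun i _ => hx _ (hbS i)
    rcases hs with rfl | rfl <;> linarith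
  intro a b s hs haS hbS hba hb hEa hEb hsup hgood hb0
  have haF : a ∈ F := mem_filter.2 ⟨haS, by rw [hgood]; omega⟩
  obtain ⟨c, d, hcd, hFe⟩ := Finset.card_eq_two.1 (show (F.erase a).card = 2 by rw [Finset.card_erase_of_mem haF, hc3])
  have hcm : c ≠ a ∧ c ∈ S ∧ E c h ≠ 0 := by
    have : c ∈ F.erase a := by rw [hFe]; simp
    simpa [hF] using this
  have hdm : d ≠ a ∧ d ∈ S ∧ E d h ≠ 0 := by
    have : d ∈ F.erase a := by rw [hFe]; simp
    simpa [hF] using this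
  have hbc : ∀ (i) (χ), E χ h ≠ 0 → b i ≠ χ := fun i χ hne e => hne (e ▸ hb0 i)
  have hzero : ∀ (χ : ι), χ ∈ S → χ ≠ a → (∀ i, b i ≠ χ) → ∀ j, 1 ≤ j → j ≤ h → j ≠ h → E χ j = 0 := by
    intro χ hχ hχa hχb j hj hj' hjh
    by_contra h0
    have e : ((⟨j - 1, by omega⟩ : Fin (h - 1)) : ℕ) + 1 = j := by simp; omega
    rcases hsup ⟨j - 1, by omega⟩ χ hχ (by rwa [e]) with r | r
    · exact hχa r
    · exact hχb _ r.symm
  refine ⟨a, c, d, b, s, E c h, E d h, hs, (hv3 c hcm.2.1).resolve_left hcm.2.2, (hv3 d hdm.2.1).resolve_left hdm.2.2,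
    hb, haS, hcm.2.1, hdm.2.1, hbS, ?_, ?_, ?_, hcm.1.symm, hdm.1.symm, hcd, fun i => ⟨?_, hba i, hbc i c hcm.2.2, hbc i d hdm.2.2⟩, ?_, ?_⟩
  · rintro rfl; have := hTE h (by omega) le_rfl; omega
  · rintro rfl; exact hcm.2.2 (hTE h (by omega) le_rfl)
  · rintro rfl; exact hdm.2.2 (hTE h (by omega) le_rfl)
  · intro e
    have := hTE _ (hbound i).1 (hbound i).2.1
    rw [← e, hEb] at this; omega
  · intro χ hχ
    by_cases hχT : χ = T
    · exact Or.inl hχT
    obtain ⟨j, hj, hj', hne⟩ := hsupp χ hχ hχT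
    right
    by_cases hjh : j = h
    · subst hjh
      by_cases hχa : χ = a
      · exact Or.inl hχa
      have : χ ∈ F.erase a := Finset.mem_erase.2 ⟨hχa, mem_filter.2 ⟨hχ, hne⟩⟩
      rw [hFe] at this
      simp only [Finset.mem_insert, Finset.mem_singleton] at this
      tauto
    · have e : ((⟨j - 1, by omega⟩ : Fin (h - 1)) : ℕ) + 1 = j := by simp; omega
      rcases hsup ⟨j - 1, by omega⟩ χ hχ (by rwa [e]) with r | r
      · exact Or.inl r
      · exact Or.inr (Or.inr (Or.inr ⟨_, r⟩))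
  · intro j hj hj'
    by_cases hjh : j = h
    · subst hjh
      refine ⟨hgood, (if_pos rfl).symm, (if_pos rfl).symm, fun i => ?_⟩
      rw [hb0, if_neg (Ne.symm (hbound i).2.2)]
    · refine ⟨?_, ?_, ?_, fun i => ?_⟩
      · have e : ((⟨j - 1, by omega⟩ : Fin (h - 1)) : ℕ) + 1 = j := by simp; omega
        rw [← hEa ⟨j - 1, by omega⟩, e]
      · rw [if_neg hjh, hzero c hcm.2.1 hcm.1 (fun i => hbc i c hcm.2.2) j hj hj' hjh]
      · rw [if_neg hjh, hzero d hdm.2.1 hdm.1 (fun i => hbc i d hdm.2.2) j hj hj' hjh]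
      · split_ifs with hji
        · rw [hji, hEb]
        · by_contra h0
          have e : ((⟨j - 1, by omega⟩ : Fin (h - 1)) : ℕ) + 1 = j := by simp; omega
          rcases hsup ⟨j - 1, by omega⟩ (b i) (hbS i) (by rwa [e]) with r | r
          · exact hba i r
          · have := congrArg (fun v : Fin (h - 1) => (v : ℕ)) (hb r)
            simp at this; omega

theorem geom {N : ℕ} {w : ℂ} (hw : w ^ N = 1) :
    ∑ l ∈ Finset.range N, w ^ l = if w = 1 then (N : ℂ) else 0 := by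
  split_ifs with h
  · simp [h]
  · rw [geom_sum_eq h, hw, sub_self, zero_div]

theorem exists_mult {χ : G → ℂ} (hχ : IsCharacter G χ) {N : ℕ} (hN : orderOf σ = N) {ξ : ℂ} (hξ : ξ ^ N = 1) (j : ℕ) :
    ∃ k : ℤ, (k : ℂ) * N = ∑ l ∈ Finset.range N, χ (σ ^ l) * (ξ ^ (j * l) - 1) := by
  classical
  obtain ⟨d, ρ, rfl⟩ := hχ
  obtain ⟨r, hr, hpow, -, -⟩ := exists_roots ρ σ
  refine ⟨∑ i, ((if r i * ξ ^ j = 1 then (1 : ℤ) else 0) - (if r i = 1 then 1 else 0)), ?_⟩
  calc _ = ∑ i, ((∑ l ∈ Finset.range N, (r i * ξ ^ j) ^ l) - ∑ l ∈ Finset.range N, r i ^ l) := by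
        rw [Int.cast_sum, Finset.sum_mul]
        refine Finset.sum_congr rfl fun i _ => ?_
        rw [geom (by rw [mul_pow, ← hN, hr, one_mul, hN, ← pow_mul, mul_comm, pow_mul, hξ, one_pow]),
          geom (by rw [← hN, hr])]
        split_ifs <;> simp
    _ = _ := by
        rw [Finset.sum_sub_distrib, Finset.sum_comm, Finset.sum_comm (s := Finset.univ), ← Finset.sum_sub_distrib]
        refine Finset.sum_congr rfl fun l _ => ?_
        rw [hpow, mul_sub, mul_one, Finset.sum_mul]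
        congr 1
        exact Finset.sum_congr rfl fun i _ => by rw [mul_pow, pow_mul]



/-- The principal 2-block of a group with dihedral Sylow 2-subgroups. Let G be a finite group whose Sylow 2-subgroup P is dihedral of order 2^n ≥ 8, let σ be an element of P of order 2^(n−1), ζ a primitive 2^(n−1)-th root of unity, and M a maximal ideal of the algebraic integers containing 2. Then the principal 2-block consists of exactly 3 + 2^(n−2) irreducible characters, which can be labelled 1, χ₁, χ₂, χ₃ and χ^(j) for 1 ≤ j ≤ 2^(n−2) − 1 (all distinct), with signs δ₁, δ₂, δ₃ such that for 0 < λ < 2^(n−1): χ₁(σ^λ) = δ₁, χ₂(σ^λ) = δ₂(−1)^(λ+1), χ₃(σ^λ) = δ₃(−1)^(λ+1) and χ^(j)(σ^λ) = δ₁(ζ^(jλ) + ζ^(−jλ)); and for every element ρ of odd order and every j: 1 + δ₁χ₁(ρ) = −δ₂χ₂(ρ) − δ₃χ₃(ρ) = δ₁χ^(j)(ρ). -/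
theorem result {G : Type*} [Group G] [Finite G] (M : Ideal Cfsg.AlgInt) (hM : Cfsg.IsPModular 2 M) (n : ℕ) (hn : 3 ≤ n) (P : Sylow 2 G) (hP : Nonempty ((P : Subgroup G) ≃* DihedralGroup (2 ^ (n - 1)))) (σ : G) (hσ : σ ∈ (P : Subgroup G)) (hσo : orderOf σ = 2 ^ (n - 1)) (ζ : ℂ) (hζ : IsPrimitiveRoot ζ (2 ^ (n - 1))) : Nat.card (Cfsg.principalBlock M G) = 3 + 2 ^ (n - 2) ∧ ∃ (χ₁ χ₂ χ₃ : Cfsg.IrrCharacter G) (χ' : Fin (2 ^ (n - 2) - 1) → Cfsg.IrrCharacter G) (δ₁ δ₂ δ₃ : ℤ), (δ₁ = 1 ∨ δ₁ = -1) ∧ (δ₂ = 1 ∨ δ₂ = -1) ∧ (δ₃ = 1 ∨ δ₃ = -1) ∧ Function.Injective χ' ∧ (χ₁ : G → ℂ) ≠ (fun _ => 1) ∧ (χ₂ : G → ℂ) ≠ (fun _ => 1) ∧ (χ₃ : G → ℂ) ≠ (fun _ => 1) ∧ χ₁ ≠ χ₂ ∧ χ₁ ≠ χ₃ ∧ χ₂ ≠ χ₃ ∧ (∀ j, χ' j ≠ χ₁ ∧ χ' j ≠ χ₂ ∧ χ' j ≠ χ₃ ∧ (χ' j : G → ℂ) ≠ (fun _ => 1)) ∧ Cfsg.principalBlock M G = {χ : Cfsg.IrrCharacter G | (χ : G → ℂ) = (fun _ => 1) ∨ χ = χ₁ ∨ χ = χ₂ ∨ χ = χ₃ ∨ ∃ j, χ = χ' j} ∧ (∀ l : ℕ, 0 < l → l < 2 ^ (n - 1) → (χ₁ : G → ℂ) (σ ^ l) =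 δ₁ ∧ (χ₂ : G → ℂ) (σ ^ l) = δ₂ * (-1) ^ (l + 1) ∧ (χ₃ : G → ℂ) (σ ^ l) = δ₃ * (-1) ^ (l + 1) ∧ ∀ j : Fin (2 ^ (n - 2) - 1), (χ' j : G → ℂ) (σ ^ l) = δ₁ * (ζ ^ (((j : ℕ) + 1) * l) + (ζ ^ (((j : ℕ) + 1) * l))⁻¹)) ∧ ∀ ρ : G, Odd (orderOf ρ) → ∀ j : Fin (2 ^ (n - 2) - 1), 1 + δ₁ * (χ₁ : G → ℂ) ρ = -δ₂ * (χ₂ : G → ℂ) ρ - δ₃ * (χ₃ : G → ℂ) ρ ∧ 1 + δ₁ * (χ₁ : G → ℂ) ρ = δ₁ * (χ' j : G → ℂ) ρ := by
  classical
  haveI : M.IsMaximal := hM.2.1
  haveI : Fact (Nat.Prime 2) := ⟨Nat.prime_two⟩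
  haveI := Fintype.ofFinite G
  have Q := Shape.of_dihedral P n hn hP σ hσ hσo
  obtain ⟨e, he⟩ := Q.hpow
  set h := 2 ^ (n - 2) with hh
  have hN : 2 ^ (n - 1) = 2 * h := by rw [← hσo, Q.hord]
  rw [hN] at hζ ⊢
  have h2 := Q.two_le
  have hh3 : h ≠ 3 := by
    intro h3; rw [he] at h3
    have : Even (2 ^ (e + 1)) := Nat.even_pow.2 ⟨even_two, by omega⟩
    rw [h3] at this; exact absurd this (by decide)
  set ξ := ζ⁻¹ with hξdef
  have hζN : ζ ^ (2 * h) = 1 := hζ.pow_eq_one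
  have hξN : ξ ^ (2 * h) = 1 := by rw [hξdef, inv_pow, hζN, inv_one]
  have hζ0 : ζ ≠ 0 := hζ.ne_zero (by omega)
  have hζξ : ζ * ξ = 1 := mul_inv_cancel₀ hζ0
  have hconjξ : conj ξ = ζ := by rw [conj_root (by omega) hξN, hξdef, inv_inv]
  have hrefl : ∀ {w v : ℂ}, w ^ (2 * h) = 1 → w * v = 1 → ∀ j l, l ≤ 2 * h → w ^ (j * (2 * h - l)) = v ^ (j * l) := by
    intro w v hw hwv j l hl
    calc w ^ (j * (2 * h - l)) = w ^ (j * (2 * h - l)) * (w * v) ^ (j * l) := by rw [hwv, one_pow, mul_one]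
      _ = w ^ (j * (2 * h - l) + j * l) * v ^ (j * l) := by rw [mul_pow, pow_add, mul_assoc]
      _ = _ := by rw [← Nat.mul_add, Nat.sub_add_cancel hl, mul_comm j, pow_mul, hw, one_pow, one_mul]
  -- the block
  set S : Finset (Cfsg.IrrCharacter G) := Finset.univ.filter (· ∈ Cfsg.principalBlock M G) with hS
  have hmemS : ∀ χ, χ ∈ S ↔ χ ∈ Cfsg.principalBlock M G := fun χ => by simp [hS]
  let T : Cfsg.IrrCharacter G := ⟨fun _ => 1, isIrr_one⟩
  have hTS : T ∈ S := (hmemS T).2 one_mem_principalBlock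
  have hBlk := isPBlock_principalBlock (M := M) (G := G)
  have hpart : ∀ l, Cfsg.IsPPart 2 (σ ^ l) (σ ^ l) := fun l => isPPart_self (Q.exists_two_pow l) Nat.prime_two
  have hdiag : ∀ l, 0 < l → l < 2 * h → ∑ χ ∈ S, (χ : G → ℂ) (σ ^ l) * conj ((χ : G → ℂ) (σ ^ l)) =
      if l = h then ((2 * (2 * h) : ℕ) : ℂ) else ((2 * h : ℕ) : ℂ) := by
    intro l hl hl'
    split_ifs with hlh
    · subst hlh
      obtain ⟨Nz, hNn, hNo, hNi⟩ := Q.compl_center
      haveI := hNn
      rw [hS, Finset.sum_filter, ← hNi]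
      exact principal_column_sum (z := σ ^ h) hM (Q.exists_two_pow h) _ rfl Nz hNo ⟨e + 3, by rw [hNi, he, ← pow_succ', ← pow_succ']⟩
    · obtain ⟨Nz, hNn, hNo, hNi⟩ := Q.compl_pow hl hl' hlh
      haveI := hNn
      rw [hS, Finset.sum_filter, ← hNi]
      exact principal_column_sum (z := σ ^ l) hM (Q.exists_two_pow l) _ rfl Nz hNo ⟨e + 2, by rw [hNi, he, ← pow_succ']⟩
  have hG : ∀ l m, 0 < l → l < 2 * h → 0 < m → m < 2 * h →
      ∑ χ ∈ S, (χ : G → ℂ) (σ ^ l) * conj ((χ : G → ℂ) (σ ^ m)) =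
        ((2 * h : ℕ) : ℂ) * ((if m = l then 1 else 0) + if m = 2 * h - l then 1 else 0) := by
    intro l m hl hl' hm hm'
    have hr : ∀ χ : Cfsg.IrrCharacter G, (χ : G → ℂ) (σ ^ (2 * h - l)) = (χ : G → ℂ) (σ ^ l) := fun χ =>
      (classFun_isConj (classFun_of_irr χ.2) (Q.conj_inv hl'.le)).symm
    by_cases h1 : m = l
    · subst h1
      rw [hdiag m hl hl']
      by_cases h2 : m = h
      · rw [if_pos h2, if_pos rfl, if_pos (by omega)]; push_cast; ring
      · rw [if_neg h2, if_pos rfl, if_neg (by omega)]; ring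
    by_cases h2 : m = 2 * h - l
    · subst h2
      rw [if_neg h1, if_pos rfl]
      simp only [hr]
      rw [hdiag l hl hl', if_neg (by omega)]; ring
    rw [if_neg h1, if_neg h2, add_zero, mul_zero]
    have hnc : ¬ IsConj (σ ^ l) (σ ^ m) := by
      intro hc
      by_cases hmh : m = h
      · obtain ⟨c, hc'⟩ := isConj_iff.1 hc
        refine Q.sq_ne_one hl hl' (by omega) ?_
        rw [← conj_eq_one_iff (a := c), show c * (σ ^ l * σ ^ l) * c⁻¹ = c * σ ^ l * c⁻¹ * (c * σ ^ l * c⁻¹) by group, hc', hmh,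
          ← pow_add, ← two_mul, ← Q.hord, pow_orderOf_eq_one]
      · rcases Q.fusion hm hm' hmh hc with h3 | h3
        · exact h1 (pow_injOn_Iio_orderOf (by simpa [Q.hord] using hm') (by simpa [Q.hord] using hl') h3)
        · have h4 : (σ ^ l)⁻¹ = σ ^ (2 * h - l) := by
            rw [inv_eq_iff_mul_eq_one, ← pow_add, show l + (2 * h - l) = orderOf σ by rw [Q.hord]; omega, pow_orderOf_eq_one]
          exact h2 (pow_injOn_Iio_orderOf (by simpa [Q.hord] using hm') (by simp [Q.hord]; omega) (h3.trans h4))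
    have := block_orth hM hBlk (hpart l) (hpart m) hnc
    rw [finsum_mem_eq_sum_ite, ← Finset.sum_filter] at this
    rw [← this]
  -- the multiplicity differences
  choose D hD using fun (χ : Cfsg.IrrCharacter G) (j : ℕ) => exists_mult (isCharacter_of_isIrr χ.2) Q.hord hξN j
  have hNc : ((2 * h : ℕ) : ℂ) ≠ 0 := Nat.cast_ne_zero.2 (by omega)
  have hprim : ∀ i, i < 2 * h → ξ ^ i = 1 → i = 0 := fun i hi h1 => by
    by_contra h0
    exact hζ.inv.pow_ne_one_of_pos_of_lt h0 hi h1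
  have hgeo : ∀ w : ℂ, w ^ (2 * h) = 1 → ∑ l ∈ Finset.range (2 * h), w ^ l = if w = 1 then ((2 * h : ℕ) : ℂ) else 0 :=
    fun w hw => geom hw
  have hpN : ∀ {w : ℂ}, w ^ (2 * h) = 1 → ∀ i, (w ^ i) ^ (2 * h) = 1 := fun hw i => by
    rw [← pow_mul, mul_comm, pow_mul, hw, one_pow]
  have hD0 : ∀ χ, D χ 0 = 0 := fun χ => by
    have h1 := hD χ 0
    simp only [zero_mul, pow_zero, sub_self, mul_zero, Finset.sum_const_zero] at h1
    exact_mod_cast (mul_eq_zero.1 h1).resolve_right hNc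
  have hDT : ∀ j, 1 ≤ j → j < 2 * h → D T j = -1 := fun j hj hj' => by
    have h1 := hD T j
    simp only [T, one_mul, Finset.sum_sub_distrib, pow_mul] at h1
    rw [hgeo _ (hpN hξN j), if_neg (fun hc => by have := hprim j hj' hc; omega), Finset.sum_const, Finset.card_range,
      nsmul_one, zero_sub] at h1
    exact_mod_cast (mul_right_cancel₀ hNc (h1.trans (neg_one_mul _).symm) : (D T j : ℂ) = -1)
  have hDD : ∀ i j, 1 ≤ i → i ≤ h → 1 ≤ j → j ≤ h →
      ∑ χ ∈ S, D χ i * D χ j = (if i = j then (if i = h then 2 else 1) else 0) + 2 := by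
    intro i j hi hi' hj hj'
    have key : ((∑ χ ∈ S, D χ i * D χ j : ℤ) : ℂ) * (((2 * h : ℕ) : ℂ) * ((2 * h : ℕ) : ℂ)) =
        (((if i = j then (if i = h then 2 else 1) else 0) + 2 : ℤ) : ℂ) * (((2 * h : ℕ) : ℂ) * ((2 * h : ℕ) : ℂ)) := by
      calc _ = ∑ χ ∈ S, ((D χ i : ℂ) * ((2 * h : ℕ) : ℂ)) * conj ((D χ j : ℂ) * ((2 * h : ℕ) : ℂ)) := by
            rw [Int.cast_sum, Finset.sum_mul]
            refine Finset.sum_congr rfl fun χ _ => ?_
            rw [map_mul, map_intCast, map_natCast]; push_cast; ring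
        _ = ∑ l ∈ Finset.range (2 * h), ∑ m ∈ Finset.range (2 * h), (ξ ^ (i * l) - 1) * (ζ ^ (j * m) - 1) *
              ∑ χ ∈ S, (χ : G → ℂ) (σ ^ l) * conj ((χ : G → ℂ) (σ ^ m)) := by
            simp only [hD, map_sum, map_mul, map_sub, map_one, map_pow, hconjξ, Finset.sum_mul_sum]
            rw [Finset.sum_comm]
            refine Finset.sum_congr rfl fun l _ => ?_
            rw [Finset.sum_comm]
            refine Finset.sum_congr rfl fun m _ => ?_
            rw [Finset.mul_sum]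
            exact Finset.sum_congr rfl fun χ _ => by ring
        _ = ∑ l ∈ Finset.range (2 * h), ((2 * h : ℕ) : ℂ) * ((ξ ^ (i * l) - 1) * ((ζ ^ (j * l) - 1) + (ξ ^ (j * l) - 1))) := by
            refine Finset.sum_congr rfl fun l hl => ?_
            rw [Finset.mem_range] at hl
            rcases Nat.eq_zero_or_pos l with rfl | hl0
            · simp
            rw [Finset.sum_congr rfl (g := fun m => (if m = l then ((2 * h : ℕ) : ℂ) * ((ξ ^ (i * l) - 1) * (ζ ^ (j * m) - 1)) else 0) +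
              if m = 2 * h - l then ((2 * h : ℕ) : ℂ) * ((ξ ^ (i * l) - 1) * (ζ ^ (j * m) - 1)) else 0) fun m hm => ?_,
              Finset.sum_add_distrib, Finset.sum_ite_eq', Finset.sum_ite_eq', if_pos (Finset.mem_range.2 hl),
              if_pos (Finset.mem_range.2 (by omega)), hrefl hζN hζξ j l hl.le]
            · ring
            · rcases Nat.eq_zero_or_pos m with rfl | hm0
              · rw [mul_zero, pow_zero, sub_self]; simp
              rw [hG l m hl0 hl hm0 (Finset.mem_range.1 hm)]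
              split_ifs <;> ring
        _ = ∑ l ∈ Finset.range (2 * h), ((2 * h : ℕ) : ℂ) * ((ξ ^ i * ζ ^ j) ^ l + (ξ ^ i * ξ ^ j) ^ l - (ξ ^ i) ^ l - (ξ ^ i) ^ l - (ζ ^ j) ^ l - (ξ ^ j) ^ l + 2) := by
            refine Finset.sum_congr rfl fun l _ => ?_
            simp only [mul_pow, ← pow_mul]; ring
        _ = _ := by
            rw [← Finset.mul_sum]
            simp only [Finset.sum_add_distrib, Finset.sum_sub_distrib]
            rw [hgeo _ (by rw [mul_pow, hpN hξN, hpN hζN, one_mul]), hgeo _ (by rw [mul_pow, hpN hξN, hpN hξN, one_mul]),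
              hgeo _ (hpN hξN i), hgeo _ (hpN hζN j), hgeo _ (hpN hξN j), Finset.sum_const, Finset.card_range, nsmul_eq_mul]
            have e1 : ξ ^ i * ζ ^ j = 1 ↔ i = j := by
              constructor
              · intro h1
                refine hζ.pow_inj (by omega) (by omega) ?_
                calc ζ ^ i = ζ ^ i * (ξ ^ i * ζ ^ j) := by rw [h1, mul_one]
                  _ = (ζ * ξ) ^ i * ζ ^ j := by rw [mul_pow, mul_assoc]
                  _ = ζ ^ j := by rw [hζξ, one_pow, one_mul]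
              · rintro rfl; rw [← mul_pow, mul_comm, hζξ, one_pow]
            have e2 : ξ ^ i * ξ ^ j = 1 ↔ i = j ∧ i = h := by
              rw [← pow_add]
              constructor
              · intro h1
                by_contra h2
                have := hprim (i + j) (by omega) h1
                omega
              · rintro ⟨rfl, rfl⟩; rw [← two_mul, hξN]
            have e3 : ξ ^ i ≠ 1 := fun h1 => by have := hprim i (by omega) h1; omega
            have e4 : ζ ^ j ≠ 1 := hζ.pow_ne_one_of_pos_of_lt (by omega) (by omega)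
            have e5 : ξ ^ j ≠ 1 := fun h1 => by have := hprim j (by omega) h1; omega
            simp only [e1, e2, if_neg e3, if_neg e4, if_neg e5]
            rcases eq_or_ne i j with rfl | hij
            · by_cases hih : i = h <;> simp [hih] <;> ring
            · simp [hij]; ring
    exact Int.cast_injective (mul_right_cancel₀ (mul_ne_zero hNc hNc) key)
  have hDreg : ∀ (ρ : G), Odd (orderOf ρ) → ∀ j, ∑ χ ∈ S, (D χ j : ℂ) * (χ : G → ℂ) ρ = 0 := by
    intro ρ hρ j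
    refine mul_right_cancel₀ hNc ?_
    rw [Finset.sum_mul, zero_mul]
    calc ∑ χ ∈ S, (D χ j : ℂ) * (χ : G → ℂ) ρ * ((2 * h : ℕ) : ℂ)
        = ∑ l ∈ Finset.range (2 * h), (ξ ^ (j * l) - 1) * ∑ χ ∈ S, (χ : G → ℂ) ρ * (χ : G → ℂ) (σ ^ l) := by
          refine Eq.trans (b := ∑ χ ∈ S, ∑ l ∈ Finset.range (2 * h), (ξ ^ (j * l) - 1) * ((χ : G → ℂ) ρ * (χ : G → ℂ) (σ ^ l))) (Finset.sum_congr rfl fun χ _ => ?_)
            (Finset.sum_comm.trans (Finset.sum_congr rfl fun l _ => (Finset.mul_sum _ _ _).symm))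
          · rw [mul_right_comm, hD, Finset.sum_mul]
            exact Finset.sum_congr rfl fun l _ => by ring
      _ = 0 := by
          refine Finset.sum_eq_zero fun l hl => ?_
          rw [Finset.mem_range] at hl
          rcases Nat.eq_zero_or_pos l with rfl | hl0
          · simp
          have hne : σ ^ (2 * h - l) ≠ 1 := Q.pow_ne_one (by omega) (by omega)
          have h0 := block_orth (a := ρ) (b := σ ^ (2 * h - l)) hM hBlk (isPPart_one_of_regular hρ.not_two_dvd_nat)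
            (hpart _) fun hc => hne (isConj_one_right.1 hc)
          rw [finsum_mem_eq_sum_ite, ← Finset.sum_filter] at h0
          refine mul_eq_zero_of_right _ (Eq.trans ?_ h0)
          refine Finset.sum_congr (by ext; simp [hS]) fun χ _ => ?_
          congr 1
          rw [← char_conj_eq (isCharacter_of_isIrr χ.2)]
          refine congrArg (χ : G → ℂ) ?_
          rw [eq_inv_iff_mul_eq_one, ← pow_add, show l + (2 * h - l) = orderOf σ by rw [Q.hord]; omega, pow_orderOf_eq_one]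
  have hsym : ∀ χ, ∀ j, 0 < j → j < 2 * h → D χ (2 * h - j) = D χ j := by
    intro χ j hj hj'
    refine Int.cast_injective (α := ℂ) (mul_right_cancel₀ hNc ((hD χ _).trans (Eq.trans ?_ (hD χ j).symm)))
    refine Finset.sum_nbij' (fun l => (2 * h - l) % (2 * h)) (fun l => (2 * h - l) % (2 * h)) ?_ ?_ ?_ ?_ ?_
    · intro l _; exact Finset.mem_coe.2 (Finset.mem_range.2 (Nat.mod_lt _ (by omega)))
    · intro l _; exact Finset.mem_coe.2 (Finset.mem_range.2 (Nat.mod_lt _ (by omega)))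
    all_goals intro l hl; simp only [Finset.mem_coe, Finset.mem_range] at hl
    all_goals rcases Nat.eq_zero_or_pos l with rfl | hl0
    all_goals first
      | simp
      | (rw [Nat.mod_eq_of_lt (show 2 * h - l < 2 * h by omega), Nat.mod_eq_of_lt] <;> omega)
      | skip
    rw [Nat.mod_eq_of_lt (show 2 * h - l < 2 * h by omega), classFun_isConj (classFun_of_irr χ.2) (Q.conj_inv hl.le),
      hrefl hξN (by rw [mul_comm]; exact hζξ) j l hl.le, mul_comm (2 * h - j) l, hrefl hξN (by rw [mul_comm]; exact hζξ) l j hj'.le, mul_comm l j]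
  have hrec : ∀ χ : Cfsg.IrrCharacter G, ∀ m, 0 < m → m < 2 * h →
      (χ : G → ℂ) (σ ^ m) = ∑ j ∈ Finset.range (2 * h), (D χ j : ℂ) * ζ ^ (j * m) := by
    intro χ m hm hm'
    refine mul_right_cancel₀ hNc ?_
    rw [Finset.sum_mul]
    calc (χ : G → ℂ) (σ ^ m) * ((2 * h : ℕ) : ℂ)
        = ∑ l ∈ Finset.range (2 * h), (χ : G → ℂ) (σ ^ l) * ∑ j ∈ Finset.range (2 * h), ((ξ ^ l * ζ ^ m) ^ j - (ζ ^ m) ^ j) := by
          rw [Finset.sum_congr rfl (g := fun l => if l = m then (χ : G → ℂ) (σ ^ l) * ((2 * h : ℕ) : ℂ) else 0) fun l hl => ?_,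
            Finset.sum_ite_eq', if_pos (Finset.mem_range.2 hm')]
          rw [Finset.mem_range] at hl
          rw [Finset.sum_sub_distrib, hgeo _ (by rw [mul_pow, hpN hξN, hpN hζN, one_mul]), hgeo _ (hpN hζN m),
            if_neg (hζ.pow_ne_one_of_pos_of_lt hm.ne' hm'), sub_zero]
          have e1 : ξ ^ l * ζ ^ m = 1 ↔ l = m := by
            constructor
            · intro h1
              refine hζ.pow_inj hl hm' ?_
              calc ζ ^ l = ζ ^ l * (ξ ^ l * ζ ^ m) := by rw [h1, mul_one]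
                _ = (ζ * ξ) ^ l * ζ ^ m := by rw [mul_pow, mul_assoc]
                _ = ζ ^ m := by rw [hζξ, one_pow, one_mul]
            · rintro rfl; rw [← mul_pow, mul_comm, hζξ, one_pow]
          simp only [e1]
          split_ifs <;> simp
      _ = ∑ j ∈ Finset.range (2 * h), ∑ l ∈ Finset.range (2 * h), (χ : G → ℂ) (σ ^ l) * (ξ ^ (j * l) - 1) * ζ ^ (j * m) := by
          rw [Finset.sum_comm]
          refine Finset.sum_congr rfl fun l _ => ?_
          rw [Finset.mul_sum]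
          refine Finset.sum_congr rfl fun j _ => ?_
          rw [mul_pow, ← pow_mul, ← pow_mul, mul_comm l j, mul_comm m j]; ring
      _ = _ := by
          refine Finset.sum_congr rfl fun j _ => ?_
          rw [← Finset.sum_mul, ← hD]; ring
  -- no zero at the central involution
  have hz0 : ∀ χ ∈ S, (χ : G → ℂ) (σ ^ h) ≠ 0 := by
    intro χ hχ h0
    have h1 := mem_blockOf.1 ((hmemS χ).1 hχ) (σ ^ h)
    simp only [centralChar, h0, mul_zero, zero_div, sub_zero, mul_one, div_one] at h1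
    rw [natCast_memLocalIdeal_iff hM] at h1
    refine P.not_dvd_index (h1.trans (Subgroup.index_dvd_of_le fun w hw => ?_))
    exact Subgroup.mem_centralizer_singleton_iff.2 (Q.z_comm hw)
  -- labelling
  set E : Cfsg.IrrCharacter G → ℕ → ℤ := fun χ j => D χ j + if χ = T then 1 else 0 with hE
  have hEsum : ∀ j, ∀ f : Cfsg.IrrCharacter G → ℤ, ∑ χ ∈ S, E χ j * f χ = (∑ χ ∈ S, D χ j * f χ) + f T := by
    intro j f
    simp only [hE, add_mul, ite_mul, one_mul, zero_mul, Finset.sum_add_distrib, Finset.sum_ite_eq', if_pos hTS]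
  have hEreg : ∀ (ρ : G), Odd (orderOf ρ) → ∀ j, ∑ χ ∈ S, (E χ j : ℂ) * (χ : G → ℂ) ρ = 1 := by
    intro ρ hρ j
    have := hDreg ρ hρ j
    simp only [hE, Int.cast_add, add_mul, Finset.sum_add_distrib, this, Int.cast_ite, Int.cast_one, Int.cast_zero,
      ite_mul, one_mul, zero_mul, Finset.sum_ite_eq', if_pos hTS, zero_add]
    rfl
  obtain ⟨a, c, d, b, s, t, u, hs, ht, hu, hbi, haS, hcS, hdS, hbS, haT, hcT, hdT, hac, had, hcd, hbne, hcov, hval⟩ :=
    comb S T (fun χ => (Cfsg.charDegree (χ : G → ℂ) : ℤ)) E h h2 hh3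
      (fun χ _ => by exact_mod_cast charDegree_pos χ.2)
      (fun j hj hj' => by simp only [hE, if_pos, hDT j hj (by omega)]; norm_num)
      (fun j hj hj' => by
        have h1 := hEreg 1 (by simp) j
        refine Int.cast_injective (α := ℂ) ?_
        push_cast
        rw [← h1]
        exact Finset.sum_congr rfl fun χ _ => by rw [irr_one_eq χ.2])
      (fun i j hi hi' hj hj' => by
        have e1 := hEsum i (fun χ => E χ j)
        rw [e1]
        simp only [hE, if_pos, hDT j hj (by omega), mul_add, Finset.sum_add_distrib, mul_ite, mul_one, mul_zero,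
          Finset.sum_ite_eq', if_pos hTS, hDT i hi (by omega), hDD i j hi hi' hj hj']
        split_ifs <;> norm_num)
      (fun χ hχ hne => by
        by_contra hall
        push Not at hall
        refine hz0 χ hχ ?_
        rw [hrec χ h (by omega) (by omega)]
        refine Finset.sum_eq_zero fun j hj => ?_
        rw [Finset.mem_range] at hj
        have hj0 : D χ j = 0 := by
          rcases Nat.eq_zero_or_pos j with rfl | hj0
          · exact hD0 χ
          by_cases hjh : j ≤ h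
          · simpa [hE, hne] using hall j hj0 hjh
          · rw [← hsym χ j hj0 hj]; simpa [hE, hne] using hall (2 * h - j) (by omega) (by omega)
        rw [hj0]; simp)
  have hEv : ∀ χ, χ ≠ T → ∀ g : ℕ → ℤ, (∀ j, 1 ≤ j → j ≤ h → E χ j = g j) →
      ∀ j, 0 < j → j < 2 * h → D χ j = g (if j ≤ h then j else 2 * h - j) := by
    intro χ hne g hg j hj hj'
    split_ifs with hjh
    · rw [← hg j hj hjh]; simp [hE, hne]
    · rw [← hg (2 * h - j) (by omega) (by omega), ← hsym χ j hj hj']; simp [hE, hne]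
  have hζh : ζ ^ h = -1 := by
    have h1 : ζ ^ h * ζ ^ h = 1 := by rw [← pow_add, ← two_mul, hζN]
    exact (mul_self_eq_one_iff.1 h1).resolve_left (hζ.pow_ne_one_of_pos_of_lt (by omega) (by omega))
  have hgeo0 : ∀ m, 0 < m → m < 2 * h → ∑ j ∈ Finset.range (2 * h), ζ ^ (j * m) = 0 := fun m hm hm' => by
    simp only [mul_comm _ m, pow_mul]
    rw [hgeo _ (hpN hζN m), if_neg (hζ.pow_ne_one_of_pos_of_lt hm.ne' hm')]
  have hva : ∀ m, 0 < m → m < 2 * h → (a : G → ℂ) (σ ^ m) = ((-s : ℤ) : ℂ) := by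
    intro m hm hm'
    rw [hrec a m hm hm', Finset.sum_congr rfl (g := fun j => (s : ℂ) * ζ ^ (j * m) + if j = 0 then -(s : ℂ) else 0) fun j hj => ?_,
      Finset.sum_add_distrib, ← Finset.mul_sum, hgeo0 m hm hm', Finset.sum_ite_eq', if_pos (Finset.mem_range.2 (by omega))]
    · push_cast; ring
    · rcases Nat.eq_zero_or_pos j with rfl | hj0
      · rw [hD0]; simp
      · rw [hEv a haT (fun _ => s) (fun i hi hi' => (hval i hi hi').1) j hj0 (Finset.mem_range.1 hj), if_neg hj0.ne', add_zero]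
  have hvc : ∀ (χ : Cfsg.IrrCharacter G) (r : ℤ), χ ≠ T → (∀ j, 1 ≤ j → j ≤ h → E χ j = if j = h then r else 0) →
      ∀ m, 0 < m → m < 2 * h → (χ : G → ℂ) (σ ^ m) = (r : ℂ) * (-1) ^ m := by
    intro χ r hne hr m hm hm'
    rw [hrec χ m hm hm', Finset.sum_eq_single h]
    · rw [hEv χ hne _ hr h (by omega) (by omega), if_pos le_rfl, if_pos rfl, pow_mul, hζh]
    · intro j hj hjh
      rw [Finset.mem_range] at hj
      rcases Nat.eq_zero_or_pos j with rfl | hj0
      · rw [hD0]; simp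
      · rw [hEv χ hne _ hr j hj0 hj]
        split_ifs <;> first | omega | simp
    · intro hn; exact absurd (Finset.mem_range.2 (by omega)) hn
  have hvb : ∀ i : Fin (h - 1), ∀ m, 0 < m → m < 2 * h →
      (b i : G → ℂ) (σ ^ m) = ((-s : ℤ) : ℂ) * (ζ ^ (((i : ℕ) + 1) * m) + (ζ ^ (((i : ℕ) + 1) * m))⁻¹) := by
    intro i m hm hm'
    have hi := i.2
    set k := (i : ℕ) + 1 with hk
    rw [hrec (b i) m hm hm', Finset.sum_congr rfl (g := fun j => (if j = k then ((-s : ℤ) : ℂ) * ζ ^ (j * m) else 0) +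
      if j = 2 * h - k then ((-s : ℤ) : ℂ) * ζ ^ (j * m) else 0) fun j hj => ?_, Finset.sum_add_distrib,
      Finset.sum_ite_eq', Finset.sum_ite_eq', if_pos (Finset.mem_range.2 (by omega)), if_pos (Finset.mem_range.2 (by omega)),
      mul_comm (2 * h - k) m, hrefl hζN hζξ m k (by omega), mul_comm m k, hξdef, inv_pow]
    · ring
    · rw [Finset.mem_range] at hj
      rcases Nat.eq_zero_or_pos j with rfl | hj0
      · rw [hD0, if_neg (by omega), if_neg (by omega)]; simp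
      · rw [hEv (b i) (hbne i).1 (fun l => if l = k then -s else 0) (fun l hl hl' => (hval l hl hl').2.2.2 i) j hj0 hj]
        split_ifs <;> first | omega | simp
  have hsum : ∀ (ρ : G) (j : ℕ), 1 ≤ j → j ≤ h → Odd (orderOf ρ) →
      (s : ℂ) * (a : G → ℂ) ρ + ((if j = h then (t : ℂ) * (c : G → ℂ) ρ + (u : ℂ) * (d : G → ℂ) ρ else 0) +
        ∑ i : Fin (h - 1), if j = (i : ℕ) + 1 then -(s : ℂ) * (b i : G → ℂ) ρ else 0) = 1 := by
    intro ρ j hj hj' hρ
    have hSe : S = insert T (insert a (insert c (insert d (Finset.univ.image b)))) := by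
      refine Finset.ext fun χ => ⟨fun hχ => ?_, fun hχ => ?_⟩
      · rcases hcov χ hχ with rfl | rfl | rfl | rfl | ⟨i, rfl⟩ <;> simp
      · simp only [Finset.mem_insert, Finset.mem_image, Finset.mem_univ, true_and] at hχ
        rcases hχ with rfl | rfl | rfl | rfl | ⟨i, rfl⟩
        exacts [hTS, haS, hcS, hdS, hbS i]
    have h1 := hEreg ρ hρ j
    rw [hSe, Finset.sum_insert (by simp [haT.symm, hcT.symm, hdT.symm, fun i => (hbne i).1]),
      Finset.sum_insert (by simp [hac, had, fun i => (hbne i).2.1]),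
      Finset.sum_insert (by simp [hcd, fun i => (hbne i).2.2.1]),
      Finset.sum_insert (by simp [fun i => (hbne i).2.2.2]), Finset.sum_image hbi.injOn] at h1
    obtain ⟨va, vc, vd, vb⟩ := hval j hj hj'
    rw [va, vc, vd, show E T j = 0 by simp only [hE, if_pos, hDT j hj (by omega)]; norm_num] at h1
    simp only [vb] at h1
    rw [← h1]
    split_ifs with hjh <;> simp [ite_mul] <;> ring
  refine ⟨?_, a, c, d, b, -s, -t, -u, by omega, by omega, by omega, hbi, ?_, ?_, ?_, hac, had, hcd,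
    fun i => ⟨(hbne i).2.1, (hbne i).2.2.1, (hbne i).2.2.2, fun hc => (hbne i).1 (Subtype.ext hc)⟩, ?_, ?_, ?_⟩
  · rw [Nat.card_eq_fintype_card, Fintype.card_subtype]
    have hSe : S = insert T (insert a (insert c (insert d (Finset.univ.image b)))) := by
      refine Finset.ext fun χ => ⟨fun hχ => ?_, fun hχ => ?_⟩
      · rcases hcov χ hχ with rfl | rfl | rfl | rfl | ⟨i, rfl⟩ <;> simp
      · simp only [Finset.mem_insert, Finset.mem_image, Finset.mem_univ, true_and] at hχ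
        rcases hχ with rfl | rfl | rfl | rfl | ⟨i, rfl⟩
        exacts [hTS, haS, hcS, hdS, hbS i]
    show S.card = 3 + h
    rw [hSe, Finset.card_insert_of_notMem (by simp [haT.symm, hcT.symm, hdT.symm, fun i => (hbne i).1]),
      Finset.card_insert_of_notMem (by simp [hac, had, fun i => (hbne i).2.1]),
      Finset.card_insert_of_notMem (by simp [hcd, fun i => (hbne i).2.2.1]),
      Finset.card_insert_of_notMem (by simp [fun i => (hbne i).2.2.2]),
      Finset.card_image_of_injective _ hbi, Finset.card_univ, Fintype.card_fin]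
    omega
  · exact fun hc => haT (Subtype.ext hc)
  · exact fun hc => hcT (Subtype.ext hc)
  · exact fun hc => hdT (Subtype.ext hc)
  · refine Set.ext fun χ => ⟨fun hχ => ?_, fun hχ => ?_⟩
    · rcases hcov χ ((hmemS χ).2 hχ) with r | r | r | r | r
      · exact Or.inl (congrArg Subtype.val r)
      exacts [Or.inr (Or.inl r), Or.inr (Or.inr (Or.inl r)), Or.inr (Or.inr (Or.inr (Or.inl r))), Or.inr (Or.inr (Or.inr (Or.inr r)))]
    · rw [← hmemS]
      rcases hχ with r | rfl | rfl | rfl | ⟨i, rfl⟩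
      · rw [show χ = T from Subtype.ext r]; exact hTS
      exacts [haS, hcS, hdS, hbS i]
  · intro l hl hl'
    refine ⟨hva l hl hl', ?_, ?_, fun i => hvb i l hl hl'⟩
    · rw [hvc c t hcT (fun j hj hj' => (hval j hj hj').2.1) l hl hl']; push_cast; ring
    · rw [hvc d u hdT (fun j hj hj' => (hval j hj hj').2.2.1) l hl hl']; push_cast; ring
  · intro ρ hρ i
    have hi := i.2
    have e1 := hsum ρ h (by omega) le_rfl hρ
    have e2 := hsum ρ ((i : ℕ) + 1) (by omega) (by omega) hρ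
    rw [if_pos rfl, Finset.sum_eq_zero (fun k _ => if_neg (by have := k.2; omega))] at e1
    rw [if_neg (show (i : ℕ) + 1 ≠ h by omega), Finset.sum_eq_single i (fun k _ hk => if_neg (fun hc => hk (Fin.ext (by omega))))
      (fun hn => absurd (Finset.mem_univ i) hn), if_pos rfl] at e2
    push_cast
    exact ⟨by linear_combination (-1 : ℂ) * e1, by linear_combination (-1 : ℂ) * e2⟩

end Cfsg.Agent.S4481
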