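import Cfsg.Statements.S4482
import Cfsg.Agent.S4481
import Cfsg.Agent.Blk.Sections
import Cfsg.Agent.Inv.Dihedral

set_option autoImplicit false
set_option linter.style.haveILetI false
open Cfsg

namespace Cfsg.Agent.S4482
open CfsgLib.Char CfsgLib.Blk
open scoped CfsgLib.Char
open Cfsg.Agent.S4481 (Shape)
set_option maxHeartbeats 1600000

universe u

variable {G : Type u} [Group G] [Finite G] {P : Sylow 2 G} {σ : G} {h : ℕ}

theorem cast_int {a b c : ℕ} {d : ℤ} (h : (a : ℤ) * ((b : ℤ) - d) ^ 2 = 2 * (c : ℤ) ^ 2 * b * (b + d)) :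
    (a : ℚ) * ((b : ℚ) - d) ^ 2 = 2 * (c : ℚ) ^ 2 * b * (b + d) := by exact_mod_cast h

theorem cast_mul_eq {a b c : ℕ} (h : a * b = c) : (a : ℚ) * b = c := by exact_mod_cast h

/-- values of principal block characters on a section -/
theorem apply_section (Q : Shape (P : Subgroup G) σ h) {M : Ideal Cfsg.AlgInt} (hM : Cfsg.IsPModular 2 M)
    {χ : Cfsg.IrrCharacter G} (hχ : χ ∈ Cfsg.principalBlock M G) {m : ℕ} (hm : 0 < m) (hm' : m < 2 * h)
    {v : G} (hv : v * σ ^ m = σ ^ m * v) (hreg : ¬ 2 ∣ orderOf v) :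
    (χ : G → ℂ) (σ ^ m * v) = (χ : G → ℂ) (σ ^ m) := by
  haveI : M.IsMaximal := hM.2.1
  haveI : Fact (Nat.Prime 2) := ⟨Nat.prime_two⟩
  obtain ⟨e, he⟩ := Q.hpow
  obtain ⟨N, hNn, hN, hidx⟩ : ∃ N : Subgroup (Subgroup.centralizer ({σ ^ m} : Set G)), N.Normal ∧ ¬ 2 ∣ Nat.card N ∧ ∃ k : ℕ, N.index = 2 ^ k := by
    by_cases hmh : m = h
    · subst hmh
      obtain ⟨N, a, b, c⟩ := Q.compl_center
      exact ⟨N, a, b, e + 3, by rw [c, he, ← pow_succ', ← pow_succ']⟩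
    · obtain ⟨N, a, b, c⟩ := Q.compl_pow hm hm' hmh
      exact ⟨N, a, b, e + 2, by rw [c, he, ← pow_succ']⟩
  haveI := hNn
  have hvC : v ∈ Subgroup.centralizer ({σ ^ m} : Set G) := Subgroup.mem_centralizer_singleton_iff.2 hv
  exact principal_apply_mul_eq hM (Q.exists_two_pow m) N hN (v := ⟨v, hvC⟩)
    ((regular_iff_mem_complement N hN hidx _).1 (by rwa [Subgroup.orderOf_mk])) hχ

/-- retraction of the centralizer of the central involution onto the Sylow subgroup -/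
theorem exists_retraction (Q : Shape (P : Subgroup G) σ h) :
    ∃ π : (Subgroup.centralizer ({σ ^ h} : Set G)) →* (P : Subgroup G),
      (∀ (u : G) (hu : u ∈ (P : Subgroup G)) (hc : u ∈ Subgroup.centralizer ({σ ^ h} : Set G)), π ⟨u, hc⟩ = ⟨u, hu⟩) ∧
      ∀ g, π g = 1 → ¬ 2 ∣ orderOf g := by
  haveI : Fact (Nat.Prime 2) := ⟨Nat.prime_two⟩
  obtain ⟨V, hVn, hV, hidx⟩ := Q.compl_center
  haveI := hVn
  have hle : (P : Subgroup G) ≤ Subgroup.centralizer ({σ ^ h} : Set G) := fun g hg => Subgroup.mem_centralizer_singleton_iff.2 (Q.z_comm hg)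
  let φ : (P : Subgroup G) →* _ ⧸ V := (QuotientGroup.mk' V).comp (Subgroup.inclusion hle)
  have hφ : Function.Bijective φ := by
    rw [Nat.bijective_iff_injective_and_card]
    refine ⟨?_, by rw [Q.hcard, ← hidx]; rfl⟩
    rw [injective_iff_map_eq_one]
    intro w hw
    have h1 : Subgroup.inclusion hle w ∈ V := (QuotientGroup.eq_one_iff _).1 hw
    obtain ⟨k, hk⟩ := P.2 w
    obtain ⟨j, -, hj⟩ := (Nat.dvd_prime_pow Nat.prime_two).1 (orderOf_dvd_of_pow_eq_one hk)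
    have h2 := regular_of_mem (p := 2) hV h1
    rw [← Subgroup.orderOf_coe, Subgroup.coe_inclusion, Subgroup.orderOf_coe, hj] at h2
    rcases Nat.eq_zero_or_pos j with rfl | hj0
    · rwa [pow_zero, orderOf_eq_one_iff] at hj
    · exact absurd (dvd_pow_self 2 hj0.ne') h2
  let e := MulEquiv.ofBijective φ hφ
  refine ⟨e.symm.toMonoidHom.comp (QuotientGroup.mk' V), fun u hu hc => ?_, fun g hg => ?_⟩
  · show e.symm (QuotientGroup.mk' V ⟨u, hc⟩) = _
    rw [MulEquiv.symm_apply_eq]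
    rfl
  · refine regular_of_mem hV ((QuotientGroup.eq_one_iff g).1 ?_)
    have : e.symm (QuotientGroup.mk' V g) = 1 := hg
    rw [← map_one e.symm] at this
    exact e.symm.injective this



/-- An order formula for groups with dihedral Sylow 2-subgroups and one class of involutions. Let G be a finite group whose Sylow 2-subgroup P = ⟨σ, τ⟩ is dihedral of order 2^n ≥ 8 (σ of order 2^(n−1), τ an involution inverting σ), let J be the central involution σ^(2^(n−2)), and suppose J, τ and στ are conjugate in G. Fix M over 2 and let χ₁ be an irreducible character in the principal 2-block taking one constant value δ₁ = ±1 at every non-identity power of σ, with χ₁ ≠ 1. Then, with x₁ = χ₁(1) and c(·) denoting orders of centralizers, x₁ ≠ δ₁ and #G · (x₁ − δ₁)² = 2·x₁(x₁ + δ₁)·c(J)³·(1/c(J, τ) + 1/c(J, στ))², where c(J, y) is the order of the joint centralizer of J and y. -/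
theorem result {G : Type*} [Group G] [Finite G] (M : Ideal Cfsg.AlgInt) (hM : Cfsg.IsPModular 2 M) (n : ℕ) (hn : 3 ≤ n) (P : Sylow 2 G) (σ τ : G) (hσ : σ ∈ (P : Subgroup G)) (hτ : τ ∈ (P : Subgroup G)) (hσo : orderOf σ = 2 ^ (n - 1)) (hτo : orderOf τ = 2) (hrel : τ * σ * τ⁻¹ = σ⁻¹) (hgen : Subgroup.closure ({σ, τ} : Set G) = (P : Subgroup G)) (hconj : IsConj (σ ^ (2 ^ (n - 2))) τ ∧ IsConj (σ ^ (2 ^ (n - 2))) (σ * τ)) (χ₁ : Cfsg.IrrCharacter G) (hχ₁ : χ₁ ∈ Cfsg.principalBlock M G) (h1 : (χ₁ : G → ℂ) ≠ (fun _ => 1)) (δ₁ : ℤ) (hδ₁ : δ₁ = 1 ∨ δ₁ = -1) (hval : ∀ l : ℕ, 0 < l → l < 2 ^ (n - 1) → (χ₁ : G → ℂ) (σ ^ l) = δ₁) : (Cfsg.charDegree (χ₁ : G → ℂ) : ℤ) ≠ δ₁ ∧ (Nat.card G : ℚ) * ((Cfsg.charDegree (χ₁ : G → ℂ) : ℚ) - δ₁) ^ 2 = 2 * (Cfsg.charDegree (χ₁ : G → ℂ) : ℚ) * ((Cfsg.charDegree (χ₁ : G → ℂ) : ℚ) + δ₁) * (Nat.card (Subgroup.centralizer ({σ ^ (2 ^ (n - 2))} : Set G)) : ℚ) ^ 3 * (1 / (Nat.card (Subgroup.centralizer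 ({σ ^ (2 ^ (n - 2)), τ} : Set G)) : ℚ) + 1 / (Nat.card (Subgroup.centralizer ({σ ^ (2 ^ (n - 2)), σ * τ} : Set G)) : ℚ)) ^ 2 := by
  classical
  haveI : M.IsMaximal := hM.2.1
  haveI : Fact (Nat.Prime 2) := ⟨Nat.prime_two⟩
  haveI := Fintype.ofFinite G
  have hτ2 : τ * τ = 1 := by rw [← pow_two, ← hτo, pow_orderOf_eq_one]
  have hN4 : 4 ≤ 2 ^ (n - 1) := le_trans (by norm_num) (Nat.pow_le_pow_right two_pos (show 2 ≤ n - 1 by omega))
  have hστ2 : σ * τ * (σ * τ) = 1 := by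
    rw [show σ * τ * (σ * τ) = σ * (τ * σ * τ⁻¹) * (τ * τ) by group, hrel, hτ2, mul_inv_cancel, one_mul]
  have hne2 : σ * σ ≠ 1 := by
    rw [← pow_two]; exact pow_ne_one_of_lt_orderOf two_ne_zero (by omega)
  have hστ1 : σ * τ ≠ 1 := fun hc => hne2 (by
    rw [eq_inv_of_mul_eq_one_left hc, inv_eq_of_mul_eq_one_right hτ2, hτ2])
  have hP : Nonempty ((P : Subgroup G) ≃* DihedralGroup (2 ^ (n - 1))) := by
    obtain ⟨f⟩ := CfsgLib.Inv.dihedral_equiv (x := σ * τ) (y := τ) (orderOf_eq_prime (by rw [pow_two, hστ2]) hστ1) hτo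
    rw [mul_assoc, hτ2, mul_one, hσo] at f
    have : Subgroup.closure ({σ * τ, τ} : Set G) = (P : Subgroup G) := by
      rw [← hgen]
      refine le_antisymm ?_ ?_ <;> rw [Subgroup.closure_le] <;> intro v hv <;>
        simp only [Set.mem_insert_iff, Set.mem_singleton_iff] at hv <;> rcases hv with hv | hv <;> rw [hv]
      · exact mul_mem (Subgroup.subset_closure (by simp)) (Subgroup.subset_closure (by simp))
      · exact Subgroup.subset_closure (by simp)
      · have h1 : σ * τ * τ ∈ Subgroup.closure ({σ * τ, τ} : Set G) :=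
          mul_mem (Subgroup.subset_closure (by simp)) (Subgroup.subset_closure (by simp))
        rw [mul_assoc, hτ2, mul_one] at h1
        exact h1
      · exact Subgroup.subset_closure (by simp)
    exact ⟨(MulEquiv.subgroupCongr this.symm).trans f⟩
  have Q := Cfsg.Agent.S4481.Shape.of_dihedral P n hn hP σ hσ hσo
  set N := 2 ^ (n - 1) with hNdef
  set h := 2 ^ (n - 2) with hhdef
  have hN : N = 2 * h := by rw [← hσo, Q.hord]
  have h2 := Q.two_le
  set ζ := Complex.exp (2 * Real.pi * Complex.I / (N : ℕ)) with hζdef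
  have hζ : IsPrimitiveRoot ζ N := Complex.isPrimitiveRoot_exp N (by omega)
  have hζ0 : ζ ≠ 0 := hζ.ne_zero (by omega)
  obtain ⟨-, A, B₂, B₃, E, δ, δ₂, δ₃, hδ, hδ₂, hδ₃, -, -, -, -, -, -, -, -, hset, hvals, hrho⟩ :=
    Cfsg.Agent.S4481.result M hM n hn P hP σ hσ hσo ζ hζ
  have hA : χ₁ = A ∧ δ₁ = δ := by
    have hm := hχ₁
    rw [hset] at hm
    rcases hm with r | r | r | r | ⟨j, r⟩
    · exact absurd r h1
    · refine ⟨r, Int.cast_injective (α := ℂ) ?_⟩
      rw [← hval 1 one_pos (by omega), r, (hvals 1 one_pos (by omega)).1]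
    · exfalso
      have e1 := hval 1 one_pos (by omega)
      have e2 := hval 2 two_pos (by omega)
      rw [r, (hvals 1 one_pos (by omega)).2.1] at e1
      rw [r, (hvals 2 two_pos (by omega)).2.1, ← e1] at e2
      rcases hδ₂ with rfl | rfl <;> norm_num at e2
    · exfalso
      have e1 := hval 1 one_pos (by omega)
      have e2 := hval 2 two_pos (by omega)
      rw [r, (hvals 1 one_pos (by omega)).2.2.1] at e1
      rw [r, (hvals 2 two_pos (by omega)).2.2.1, ← e1] at e2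
      rcases hδ₃ with rfl | rfl <;> norm_num at e2
    · exfalso
      have e1 := hval h (by omega) (by omega)
      have hneg : ζ ^ h = -1 := by
        have h1 : ζ ^ h * ζ ^ h = 1 := by rw [← pow_add, ← two_mul, ← hN, hζ.pow_eq_one]
        exact (mul_self_eq_one_iff.1 h1).resolve_left (hζ.pow_ne_one_of_pos_of_lt (by omega) (by omega))
      rw [r, (hvals h (by omega) (by omega)).2.2.2 j, mul_comm _ h, pow_mul, hneg] at e1
      rcases neg_one_pow_eq_or ℂ ((j : ℕ) + 1) with hp | hp <;> rw [hp] at e1 <;>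
        rcases hδ with rfl | rfl <;> rcases hδ₁ with rfl | rfl <;> norm_num at e1
  obtain ⟨rfl, rfl⟩ := hA
  have hE0 : 0 < 2 ^ (n - 2) - 1 := by omega
  set j₀ : Fin (2 ^ (n - 2) - 1) := ⟨0, hE0⟩ with hj₀
  have hmemE : E j₀ ∈ Cfsg.principalBlock M G := by
    rw [hset]; exact Or.inr (Or.inr (Or.inr (Or.inr ⟨j₀, rfl⟩)))
  have hvA : ∀ m, 0 < m → m < N → (χ₁ : G → ℂ) (σ ^ m) = δ₁ := fun m a b => hval m a b
  have hvE : ∀ m, 0 < m → m < N → (E j₀ : G → ℂ) (σ ^ m) = δ₁ * (ζ ^ (m : ℤ) + ζ ^ (-(m : ℤ))) := fun m a b => by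
    rw [(hvals m a b).2.2.2 j₀, hj₀, zpow_neg, zpow_natCast, zero_add, one_mul]
  set x := Cfsg.charDegree (χ₁ : G → ℂ) with hx
  set xe := Cfsg.charDegree (E j₀ : G → ℂ) with hxe
  have hdd : (δ₁ : ℂ) * δ₁ = 1 := by rcases hδ₁ with rfl | rfl <;> norm_num
  let Φ : G → ℂ := fun g => -1 - (δ₁ : ℂ) * (χ₁ : G → ℂ) g + (δ₁ : ℂ) * (E j₀ : G → ℂ) g
  have hΦcl : ∀ g c : G, Φ (c * g * c⁻¹) = Φ g := fun g c => by
    simp only [Φ, classFun_of_irr χ₁.2 g c, classFun_of_irr (E j₀).2 g c]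
  have hΦodd : ∀ g : G, ¬ 2 ∣ orderOf g → Φ g = 0 := fun g hg => by
    have := (hrho g (Nat.not_even_iff_odd.1 fun he => hg (even_iff_two_dvd.1 he)) j₀).2
    simp only [Φ]; linear_combination -this
  have hexe : (xe : ℂ) = δ₁ + x := by
    have := (hrho 1 (by simp) j₀).2
    rw [irr_one_eq χ₁.2, irr_one_eq (E j₀).2] at this
    linear_combination -(δ₁ : ℂ) * this + ((x : ℂ) - xe) * hdd
  -- the centralizer of the central involution
  set z := σ ^ h with hz
  set C := Subgroup.centralizer ({z} : Set G) with hCdef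
  obtain ⟨π, hπ, hπker⟩ := exists_retraction Q
  have hPC : (P : Subgroup G) ≤ C := fun g hg => Subgroup.mem_centralizer_singleton_iff.2 (Q.z_comm hg)
  have hτnot : τ ∉ Subgroup.zpowers σ := fun ⟨j, hj⟩ => by
    have h1 : Commute τ σ := hj ▸ (Commute.refl σ).zpow_left j
    rw [h1.eq, mul_inv_cancel_right, ← mul_eq_one_iff_eq_inv] at hrel
    exact hne2 hrel
  have hflip : ∀ j : ℤ, τ * σ ^ j * τ⁻¹ = σ ^ (-j) := fun j => by
    rw [← conj_zpow, hrel, inv_zpow, zpow_neg]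
  have hswap : ∀ j : ℤ, σ ^ j * τ = τ * σ ^ (-j) := fun j => by
    have h3 := mul_inv_eq_iff_eq_mul.1 (hflip (-j))
    rw [neg_neg] at h3
    exact h3.symm
  have hcase : ∀ u : (P : Subgroup G), ∃ i : ℤ, (u : G) = σ ^ i ∨ (u : G) = τ * σ ^ i := by
    rintro ⟨u, hu⟩
    show ∃ i : ℤ, u = σ ^ i ∨ u = τ * σ ^ i
    rw [← hgen] at hu
    induction hu using Subgroup.closure_induction with
    | mem v hv =>
      simp only [Set.mem_insert_iff, Set.mem_singleton_iff] at hv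
      rcases hv with hv | hv
      · exact ⟨1, Or.inl (hv.trans (zpow_one _).symm)⟩
      · exact ⟨0, Or.inr (by simp [hv])⟩
    | one => exact ⟨0, Or.inl (zpow_zero _).symm⟩
    | mul v w _ _ hv hw =>
      obtain ⟨i, rfl | rfl⟩ := hv <;> obtain ⟨k, rfl | rfl⟩ := hw
      · exact ⟨i + k, Or.inl (zpow_add σ i k).symm⟩
      · exact ⟨-i + k, Or.inr (by rw [← mul_assoc, hswap, mul_assoc, ← zpow_add])⟩
      · exact ⟨i + k, Or.inr (by rw [mul_assoc, ← zpow_add])⟩
      · exact ⟨-i + k, Or.inl (by rw [mul_assoc, ← mul_assoc (σ ^ i), hswap, ← mul_assoc, ← mul_assoc, hτ2, one_mul, ← zpow_add])⟩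
    | inv v _ hv =>
      obtain ⟨i, rfl | rfl⟩ := hv
      · exact ⟨-i, Or.inl (zpow_neg σ i).symm⟩
      · exact ⟨i, Or.inr (by rw [mul_inv_rev, inv_eq_of_mul_eq_one_right hτ2, ← zpow_neg, hswap, neg_neg])⟩
  have hnot : ∀ i : ℤ, τ * σ ^ i ∉ Subgroup.zpowers σ := fun i hc =>
    hτnot ((Subgroup.mul_mem_cancel_right _ (Subgroup.zpow_mem_zpowers σ i)).1 hc)
  choose ex hex using hcase
  have hσζ : ∀ i j : ℤ, σ ^ i = σ ^ j → ζ ^ i = ζ ^ j := fun i j hij => by
    have h1 : (N : ℤ) ∣ i - j := by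
      rw [← hσo]; refine orderOf_dvd_iff_zpow_eq_one.2 ?_
      rw [zpow_sub, hij, mul_inv_cancel]
    have h3 : ζ ^ (i - j) = 1 := (hζ.zpow_eq_one_iff_dvd (i - j)).2 h1
    rw [zpow_sub₀ hζ0, div_eq_one_iff_eq (zpow_ne_zero _ hζ0)] at h3
    exact h3
  have hnat : ∀ i : ℤ, ∃ m, m < N ∧ σ ^ i = σ ^ m ∧ ζ ^ i = ζ ^ (m : ℤ) := fun i => by
    refine ⟨(i % (N : ℤ)).toNat, ?_, ?_⟩
    · have := Int.emod_lt_of_pos i (show (0 : ℤ) < N by omega); omega
    · have e1 : σ ^ i = σ ^ ((i % (N : ℤ)).toNat) := by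
        rw [← zpow_natCast, Int.toNat_of_nonneg (Int.emod_nonneg _ (by omega)), ← hσo, zpow_mod_orderOf]
      exact ⟨e1, hσζ _ _ (e1.trans (zpow_natCast _ _).symm)⟩
  have hconjσ : ∀ (c : (P : Subgroup G)) (i : ℤ), (c : G) * σ ^ i * (c : G)⁻¹ = σ ^ i ∨ (c : G) * σ ^ i * (c : G)⁻¹ = σ ^ (-i) := by
    intro c i
    rcases Q.hcase c c.2 with ⟨j, hj⟩ | ⟨-, h3⟩
    · left
      rw [← hj]; group
    · right
      rw [← conj_zpow, h3, inv_zpow, zpow_neg]
  have hPsyl : ∀ g : C, (∃ k : ℕ, orderOf g = 2 ^ k) → ∃ c : C, ((c * g * c⁻¹ : C) : G) ∈ (P : Subgroup G) := by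
    rintro g ⟨k, hk⟩
    obtain ⟨R, hR⟩ := (IsPGroup.of_card (n := k) (by rw [Nat.card_zpowers, hk]) : IsPGroup 2 (Subgroup.zpowers g)).exists_le_sylow
    obtain ⟨c, hc⟩ := MulAction.exists_smul_eq C R (P.subtype hPC)
    refine ⟨c, ?_⟩
    have : c * g * c⁻¹ ∈ (P.subtype hPC : Subgroup C) := by
      rw [← hc]
      exact Subgroup.smul_mem_pointwise_smul g (MulAut.conj c) _ (hR (Subgroup.mem_zpowers g))
    exact Subgroup.mem_subgroupOf.1 this
  have hπP : ∀ g : C, (g : G) ∈ (P : Subgroup G) → (π g : G) = g := fun g hg => by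
    rw [show π g = ⟨(g : G), hg⟩ from hπ g hg g.2]
  have hΦval : ∀ (g : C) (i : ℤ), (π g : G) = σ ^ i → Φ g = ζ ^ i + ζ ^ (-i) - 2 := by
    intro g i hi
    obtain ⟨m, hmN, hσm, hζm⟩ := hnat i
    rcases Nat.eq_zero_or_pos m with rfl | hm
    · rw [hΦodd (g : G) (by rw [Subgroup.orderOf_coe]; exact hπker g (Subtype.ext (by rw [hi, hσm]; simp))), zpow_neg, hζm]
      norm_num
    obtain ⟨v, hpv, hcomm, hpp, hvr⟩ := ppOf_spec (p := 2) g
    set p := ppOf 2 g with hp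
    have hπv : π v = 1 := by
      obtain ⟨k, hk⟩ := P.2 (π v)
      obtain ⟨j, -, hj⟩ := (Nat.dvd_prime_pow Nat.prime_two).1 (orderOf_dvd_of_pow_eq_one hk)
      have h1 := orderOf_map_dvd π v
      rw [hj] at h1
      rcases Nat.eq_zero_or_pos j with rfl | hj0
      · rwa [pow_zero, orderOf_eq_one_iff] at hj
      · exact absurd ((dvd_pow_self 2 hj0.ne').trans h1) hvr
    obtain ⟨c, hc⟩ := hPsyl p hpp
    have hu : ((c * p * c⁻¹ : C) : G) = σ ^ i ∨ ((c * p * c⁻¹ : C) : G) = σ ^ (-i) := by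
      rw [← hπP _ hc, map_mul, map_mul, map_inv]
      have : (π p : G) = σ ^ i := by rw [← hi, ← hpv, map_mul, hπv, mul_one]
      push_cast
      rw [this]
      exact hconjσ (π c) i
    obtain ⟨m', hm'0, hm'N, hu', hζm'⟩ : ∃ m', 0 < m' ∧ m' < N ∧ ((c * p * c⁻¹ : C) : G) = σ ^ m' ∧ ζ ^ i + ζ ^ (-i) = ζ ^ (m' : ℤ) + ζ ^ (-(m' : ℤ)) := by
      rcases hu with hu | hu
      · exact ⟨m, hm, hmN, hu.trans hσm, by simp only [zpow_neg, hζm]⟩
      · refine ⟨N - m, by omega, by omega, ?_, ?_⟩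
        · rw [hu, zpow_neg, hσm, inv_eq_iff_mul_eq_one, ← pow_add, show m + (N - m) = orderOf σ by rw [hσo]; omega, pow_orderOf_eq_one]
        · have : ζ ^ ((N - m : ℕ) : ℤ) = ζ ^ (-i) := by
            rw [zpow_neg, hζm, zpow_natCast, zpow_natCast]
            refine eq_inv_of_mul_eq_one_left ?_
            rw [← pow_add, show N - m + m = N by omega, hζ.pow_eq_one]
          rw [zpow_neg ζ ((N - m : ℕ) : ℤ), this, zpow_neg, inv_inv, add_comm]
    have hgc : ((c * g * c⁻¹ : C) : G) = σ ^ m' * ((c * v * c⁻¹ : C) : G) := by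
      rw [← hu', ← Subgroup.coe_mul]
      congr 1
      rw [← hpv]; group
    have hcv : ((c * v * c⁻¹ : C) : G) * σ ^ m' = σ ^ m' * ((c * v * c⁻¹ : C) : G) := by
      rw [← hu', ← Subgroup.coe_mul, ← Subgroup.coe_mul]
      congr 1
      calc c * v * c⁻¹ * (c * p * c⁻¹) = c * (v * p) * c⁻¹ := by group
        _ = c * (p * v) * c⁻¹ := by rw [hcomm.eq]
        _ = _ := by group
    have hcvr : ¬ 2 ∣ orderOf ((c * v * c⁻¹ : C) : G) := by
      rw [Subgroup.orderOf_coe, show c * v * c⁻¹ = MulAut.conj c v from rfl, MulEquiv.orderOf_eq]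
      exact hvr
    rw [← hΦcl (g : G) (c : G), show (c : G) * g * (c : G)⁻¹ = ((c * g * c⁻¹ : C) : G) from rfl, hgc]
    simp only [Φ]
    rw [apply_section Q hM hχ₁ hm'0 (by omega) hcv hcvr, apply_section Q hM hmemE hm'0 (by omega) hcv hcvr,
      hvA m' hm'0 hm'N, hvE m' hm'0 hm'N]
    linear_combination ((ζ ^ (m' : ℤ) + ζ ^ (-(m' : ℤ))) - 1) * hdd - hζm'
  -- the involutions outside the cyclic part
  let I : Finset C := Finset.univ.filter fun a => a * a = 1 ∧ (π a : G) ∉ Subgroup.zpowers σ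
  have hIex : ∀ a ∈ I, (π a : G) = τ * σ ^ ex (π a) := fun a ha =>
    (hex (π a)).resolve_left fun hc => (Finset.mem_filter.1 ha).2.2 (hc ▸ Subgroup.zpow_mem_zpowers σ _)
  let σC : C := ⟨σ, hPC hσ⟩
  have hσCπ : (π σC : G) = σ := hπP σC hσ
  have hzero : ∑ a ∈ I, ζ ^ ex (π a) = 0 := by
    have hb : ∑ a ∈ I, ζ ^ ex (π a) = ∑ a ∈ I, ζ ^ (-2 : ℤ) * ζ ^ ex (π a) := by
      symm
      refine Finset.sum_bij (fun a _ => σC * a * σC⁻¹) ?_ ?_ ?_ ?_
      · intro a ha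
        obtain ⟨-, ha2, hanot⟩ := Finset.mem_filter.1 ha
        refine Finset.mem_filter.2 ⟨Finset.mem_univ _, ?_, ?_⟩
        · rw [show σC * a * σC⁻¹ * (σC * a * σC⁻¹) = σC * (a * a) * σC⁻¹ by group, ha2]; group
        · simp only [map_mul, map_inv, Subgroup.coe_mul, Subgroup.coe_inv, hσCπ]
          intro hc
          refine hanot ?_
          have := mul_mem (mul_mem (inv_mem (Subgroup.mem_zpowers σ)) hc) (Subgroup.mem_zpowers σ)
          simpa [mul_assoc] using this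
      · intro a _ b _ hab
        exact mul_left_cancel (mul_right_cancel hab)
      · intro b hb
        obtain ⟨-, hb2, hbnot⟩ := Finset.mem_filter.1 hb
        refine ⟨σC⁻¹ * b * σC, Finset.mem_filter.2 ⟨Finset.mem_univ _, ?_, ?_⟩, by group⟩
        · rw [show σC⁻¹ * b * σC * (σC⁻¹ * b * σC) = σC⁻¹ * (b * b) * σC by group, hb2]; group
        · simp only [map_mul, map_inv, Subgroup.coe_mul, Subgroup.coe_inv, hσCπ]
          intro hc
          refine hbnot ?_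
          have := mul_mem (mul_mem (Subgroup.mem_zpowers σ) hc) (inv_mem (Subgroup.mem_zpowers σ))
          simpa [mul_assoc] using this
      · intro a ha
        rw [← zpow_add₀ hζ0]
        have he := hIex a ha
        have hI' : (π (σC * a * σC⁻¹) : G) = τ * σ ^ (-2 + ex (π a)) := by
          simp only [map_mul, map_inv, Subgroup.coe_mul, Subgroup.coe_inv, hσCπ, he]
          calc σ * (τ * σ ^ ex (π a)) * σ⁻¹ = σ ^ (1 : ℤ) * τ * σ ^ ex (π a) * σ ^ (-1 : ℤ) := by group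
            _ = τ * σ ^ (-1 : ℤ) * σ ^ ex (π a) * σ ^ (-1 : ℤ) := by rw [hswap]
            _ = _ := by group
        rcases hex (π (σC * a * σC⁻¹)) with hc | hc
        · exact absurd (hI'.symm.trans hc ▸ Subgroup.zpow_mem_zpowers σ _) (hnot _)
        · exact hσζ _ _ (mul_left_cancel (hI'.symm.trans hc))
    rw [← Finset.mul_sum] at hb
    have h3 : (1 - ζ ^ (-2 : ℤ)) * ∑ a ∈ I, ζ ^ ex (π a) = 0 := by linear_combination hb
    refine (mul_eq_zero.1 h3).resolve_left fun hc => ?_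
    have h4 : ζ ^ (-2 : ℤ) = 1 := (sub_eq_zero.1 hc).symm
    rw [hζ.zpow_eq_one_iff_dvd, dvd_neg] at h4
    have := Int.le_of_dvd two_pos h4
    omega
  have hpairs : ∑ a ∈ I, ∑ b ∈ I, Φ ((a * b : C) : G) = -2 * (I.card : ℂ) * I.card := by
    calc _ = ∑ a ∈ I, ∑ b ∈ I, (ζ ^ (-ex (π a)) * ζ ^ ex (π b) + ζ ^ ex (π a) * ζ ^ (-ex (π b)) - 2) := by
          refine Finset.sum_congr rfl fun a ha => Finset.sum_congr rfl fun b hb => ?_
          rw [hΦval _ (-ex (π a) + ex (π b)) ?_]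
          · rw [← zpow_add₀ hζ0, ← zpow_add₀ hζ0, neg_add, neg_neg]
          · rw [map_mul, Subgroup.coe_mul, hIex a ha, hIex b hb, ← mul_assoc, mul_assoc τ, hswap, ← mul_assoc, hτ2, one_mul, zpow_add]
      _ = (∑ a ∈ I, ζ ^ (-ex (π a))) * (∑ b ∈ I, ζ ^ ex (π b)) + (∑ a ∈ I, ζ ^ ex (π a)) * (∑ b ∈ I, ζ ^ (-ex (π b))) - 2 * (I.card : ℂ) * I.card := by
          simp only [Finset.sum_mul_sum, Finset.sum_sub_distrib, Finset.sum_add_distrib, Finset.sum_const, nsmul_eq_mul]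
          ring
      _ = _ := by rw [hzero]; ring
  -- involutions of C
  have hcyc2 : ∀ i : ℤ, σ ^ i * σ ^ i = 1 → σ ^ i = 1 ∨ σ ^ i = z := fun i hi => by
    obtain ⟨m, hmN, hm, -⟩ := hnat i
    rw [hm] at hi ⊢
    rcases Nat.eq_zero_or_pos m with rfl | hm0
    · exact Or.inl (pow_zero σ)
    · by_cases hmh : m = h
      · exact Or.inr (by rw [hmh])
      · exact absurd hi (Q.sq_ne_one hm0 (by omega) hmh)
  have hz2 : z * z = 1 := by rw [hz, ← pow_add, ← two_mul, ← Q.hord, pow_orderOf_eq_one]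
  let zC : C := ⟨z, hPC (Q.pow_mem h)⟩
  have hinv : ∀ s : C, s * s = 1 → s ≠ 1 → (π s : G) ∈ Subgroup.zpowers σ → s = zC := by
    intro s hs hs1 ⟨i, hi⟩
    have hodd : ∀ t : C, π t = 1 → t * t = 1 → t = 1 := fun t ht ht2 => by
      have h1 : orderOf t ∣ 2 := orderOf_dvd_of_pow_eq_one (by rw [pow_two, ht2])
      rcases (Nat.dvd_prime Nat.prime_two).1 h1 with h3 | h3
      · exact orderOf_eq_one_iff.1 h3
      · exact absurd (dvd_of_eq h3.symm) (hπker t ht)
    have hi2 : σ ^ i * σ ^ i = 1 := by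
      rw [show σ ^ i = (π s : G) from hi, ← Subgroup.coe_mul, ← map_mul, hs, map_one, Subgroup.coe_one]
    rcases hcyc2 i hi2 with h3 | h3
    · exact absurd (hodd s (Subtype.ext (hi.symm.trans h3)) hs) hs1
    · have hcm : Commute s zC := Subtype.ext (Subgroup.mem_centralizer_singleton_iff.1 s.2)
      have hzz : zC * zC = 1 := Subtype.ext hz2
      have h4 : s * zC = 1 := by
        refine hodd _ (Subtype.ext ?_) ?_
        · rw [map_mul, Subgroup.coe_mul, hπP zC (Q.pow_mem h), ← show σ ^ i = (π s : G) from hi, h3]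
          exact hz2
        · rw [mul_assoc, ← mul_assoc zC, ← hcm.eq, mul_assoc s zC, hzz, mul_one, hs]
      rw [eq_inv_of_mul_eq_one_left h4]
      exact inv_eq_of_mul_eq_one_right hzz
  let τC : C := ⟨τ, hPC hτ⟩
  let ρC : C := ⟨σ * τ, hPC (mul_mem hσ hτ)⟩
  have hcls : ∀ a ∈ I, IsConj τC a ∨ IsConj ρC a := by
    intro a ha
    obtain ⟨-, ha2, hanot⟩ := Finset.mem_filter.1 ha
    have ha1 : a ≠ 1 := fun hc => hanot (by rw [hc, map_one]; exact one_mem _)
    obtain ⟨c, hc⟩ := hPsyl a ⟨1, by rw [pow_one]; exact orderOf_eq_prime (by rw [pow_two, ha2]) ha1⟩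
    obtain ⟨i, hi⟩ : ∃ i : ℤ, ((c * a * c⁻¹ : C) : G) = σ ^ i * τ := by
      rcases hex ⟨_, hc⟩ with h3 | h3
      · exfalso
        obtain ⟨k, e1⟩ : ∃ k : ℤ, (π (c * a * c⁻¹) : G) = σ ^ k := ⟨_, (hπP _ hc).trans h3⟩
        simp only [map_mul, map_inv, Subgroup.coe_mul, Subgroup.coe_inv] at e1
        refine hanot ?_
        have e2 : (π a : G) = ((π c : (P : Subgroup G)) : G)⁻¹ * σ ^ k * ((π c : (P : Subgroup G)) : G) := by
          rw [← e1]; group
        have h4 := hconjσ (π c)⁻¹ k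
        rw [Subgroup.coe_inv, inv_inv] at h4
        rw [e2]
        rcases h4 with h4 | h4 <;> rw [h4] <;> exact Subgroup.zpow_mem_zpowers σ _
      · exact ⟨-ex ⟨_, hc⟩, h3.trans (by rw [hswap, neg_neg])⟩
    have hback : IsConj (c * a * c⁻¹) a := isConj_iff.2 ⟨c⁻¹, by group⟩
    rcases Int.even_or_odd i with ⟨k, rfl⟩ | ⟨k, rfl⟩
    · refine Or.inl (IsConj.trans (isConj_iff.2 ⟨σC ^ k, Subtype.ext ?_⟩) hback)
      simp only [Subgroup.coe_mul, Subgroup.coe_inv, Subgroup.coe_zpow, hi, σC, τC]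
      rw [← zpow_neg, mul_assoc, show τ * σ ^ (-k) = σ ^ k * τ from (hswap k).symm, ← mul_assoc, ← zpow_add]
    · refine Or.inr (IsConj.trans (isConj_iff.2 ⟨σC ^ k, Subtype.ext ?_⟩) hback)
      simp only [Subgroup.coe_mul, Subgroup.coe_inv, Subgroup.coe_zpow, hi, σC, ρC]
      rw [← zpow_neg, mul_assoc, mul_assoc σ, show τ * σ ^ (-k) = σ ^ k * τ from (hswap k).symm, ← mul_assoc, ← mul_assoc,
        ← zpow_add_one, ← zpow_add]
      congr 2
      ring
  have hclsI : ∀ a : C, (IsConj τC a ∨ IsConj ρC a) → a ∈ I ∧ IsConj z (a : G) := by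
    intro a ha
    have key : ∀ w : C, w * w = 1 → (π w : G) ∉ Subgroup.zpowers σ → IsConj z (w : G) → IsConj w a → a ∈ I ∧ IsConj z (a : G) := by
      intro w hw2 hwnot hwz hwa
      obtain ⟨c, rfl⟩ := isConj_iff.1 hwa
      refine ⟨Finset.mem_filter.2 ⟨Finset.mem_univ _, ?_, ?_⟩, hwz.trans (isConj_iff.2 ⟨(c : G), rfl⟩)⟩
      · rw [show c * w * c⁻¹ * (c * w * c⁻¹) = c * (w * w) * c⁻¹ by group, hw2]; group
      · intro hc
        simp only [map_mul, map_inv, Subgroup.coe_mul, Subgroup.coe_inv] at hc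
        obtain ⟨j, hj⟩ := hc
        refine hwnot ?_
        have e2 : (π w : G) = ((π c : (P : Subgroup G)) : G)⁻¹ * σ ^ j * ((π c : (P : Subgroup G)) : G) := by
          rw [show σ ^ j = _ from hj]; group
        have h4 := hconjσ (π c)⁻¹ j
        rw [Subgroup.coe_inv, inv_inv] at h4
        rw [e2]
        rcases h4 with h4 | h4 <;> rw [h4] <;> exact Subgroup.zpow_mem_zpowers σ _
    rcases ha with ha | ha
    · exact key τC (Subtype.ext hτ2) (by rw [hπP τC hτ]; exact hτnot) hconj.1 ha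
    · refine key ρC (Subtype.ext hστ2) ?_ hconj.2 ha
      rw [hπP ρC (mul_mem hσ hτ)]
      exact fun hc => hτnot ((Subgroup.mul_mem_cancel_left _ (Subgroup.mem_zpowers σ)).1 hc)
  have hdisj : ¬ IsConj τC ρC := by
    intro hc
    obtain ⟨c, hc⟩ := isConj_iff.1 hc
    have e1 : (π c : G) * τ * (π c : G)⁻¹ = σ * τ := by
      have := congrArg (fun t : C => (π t : G)) hc
      simpa [hπP τC hτ, hπP ρC (mul_mem hσ hτ)] using this
    have hk : ∀ k : ℤ, σ ^ k = σ → ¬ Even k := fun k hk hev => by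
      have h1 : (N : ℤ) ∣ k - 1 := by
        rw [← hσo]; exact orderOf_dvd_iff_zpow_eq_one.2 (by rw [zpow_sub, hk, zpow_one, mul_inv_cancel])
      have h3 : (2 : ℤ) ∣ N := by rw [hN]; push_cast; exact dvd_mul_right 2 _
      have := h3.trans h1
      obtain ⟨r, hr⟩ := hev
      omega
    rcases hex (π c) with h3 | h3 <;> rw [h3] at e1
    · refine hk (ex (π c) + ex (π c)) ?_ ⟨_, rfl⟩
      rw [← zpow_neg, mul_assoc, ← hswap, ← mul_assoc, ← zpow_add] at e1
      exact mul_right_cancel e1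
    · refine hk (-ex (π c) + -ex (π c)) ?_ ⟨_, rfl⟩
      refine mul_right_cancel (b := τ) (Eq.trans ?_ e1)
      rw [mul_inv_rev, inv_eq_of_mul_eq_one_right hτ2, ← zpow_neg, show τ * σ ^ ex (π c) = σ ^ (-ex (π c)) * τ by rw [hswap, neg_neg],
        mul_assoc (σ ^ (-ex (π c))) τ τ, hτ2, mul_one, ← mul_assoc, ← zpow_add]
  -- sizes of the classes
  have hsize : ∀ (w : G) (hw : w ∈ C), (Finset.univ.filter fun a : C => IsConj (⟨w, hw⟩ : C) a).card *
      Nat.card (Subgroup.centralizer ({z, w} : Set G)) = Nat.card C := by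
    intro w hw
    have h3 := index_mul_card_centralizer (⟨w, hw⟩ : C)
    rw [← card_isConj] at h3
    rw [← h3, Nat.card_eq_fintype_card (α := {a : C // IsConj (⟨w, hw⟩ : C) a}), Fintype.card_subtype]
    congr 1
    refine Nat.card_congr
      { toFun := fun g => ⟨⟨(g : G), Subgroup.mem_centralizer_singleton_iff.2 (g.2 z (by simp)).symm⟩,
          Subgroup.mem_centralizer_singleton_iff.2 (Subtype.ext (g.2 w (by simp)).symm)⟩
        invFun := fun g => ⟨g.1.1, fun v hv => ?_⟩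
        left_inv := fun _ => rfl
        right_inv := fun _ => rfl }
    rcases hv with rfl | hv
    · exact (Subgroup.mem_centralizer_singleton_iff.1 g.1.2).symm
    · rw [Set.mem_singleton_iff.1 hv]
      exact (congrArg Subtype.val (Subgroup.mem_centralizer_singleton_iff.1 g.2)).symm
  have hIcard : I.card = (Finset.univ.filter fun a : C => IsConj τC a).card + (Finset.univ.filter fun a : C => IsConj ρC a).card := by
    rw [← Finset.card_union_of_disjoint]
    · congr 1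
      ext a
      simp only [Finset.mem_union, Finset.mem_filter, Finset.mem_univ, true_and]
      exact ⟨fun ha => hcls a ha, fun ha => (hclsI a ha).1⟩
    · rw [Finset.disjoint_filter]
      exact fun a _ ha hb => hdisj (ha.trans hb.symm)
  -- pairs of involutions conjugate to z
  let K := Finset.univ.filter fun s : G => IsConj z s
  have hK : (K.card : ℂ) = (C.index : ℂ) := by
    rw [Nat.cast_inj, ← card_isConj, Nat.card_eq_fintype_card, Fintype.card_subtype]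
  have hKinv : ∀ s ∈ K, s * s = 1 ∧ s ≠ 1 := fun s hs => by
    obtain ⟨c, rfl⟩ := isConj_iff.1 (Finset.mem_filter.1 hs).2
    refine ⟨by rw [show c * z * c⁻¹ * (c * z * c⁻¹) = c * (z * z) * c⁻¹ by group, hz2]; group, fun hc => ?_⟩
    exact Q.pow_ne_one (show 0 < h by omega) (by omega) (conj_eq_one_iff.1 hc)
  have hsum : ∀ χ : Cfsg.IrrCharacter G, ∑ a ∈ K, ∑ b ∈ K, (χ : G → ℂ) (a * b) =
      (C.index : ℂ) * (C.index : ℂ) * ((χ : G → ℂ) z * (χ : G → ℂ) z / (χ : G → ℂ) 1) := by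
    intro χ
    rw [Finset.sum_comm]
    have e1 : ∀ b : G, ∑ a ∈ K, (χ : G → ℂ) (a * b) = (C.index : ℂ) * (χ : G → ℂ) z * (χ : G → ℂ) b / (χ : G → ℂ) 1 := fun b => by
      rw [Finset.sum_filter]; exact sum_class_translate χ.2 z b
    simp only [e1]
    rw [← Finset.sum_div, ← Finset.mul_sum, Finset.sum_congr rfl (g := fun _ => (χ : G → ℂ) z)
      fun b hb => (classFun_isConj (classFun_of_irr χ.2) (Finset.mem_filter.1 hb).2).symm,
      Finset.sum_const, nsmul_eq_mul, hK]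
    ring
  have hzE : (E j₀ : G → ℂ) z = -2 * δ₁ := by
    have hneg : ζ ^ h = -1 := by
      have h1 : ζ ^ h * ζ ^ h = 1 := by rw [← pow_add, ← two_mul, ← hN, hζ.pow_eq_one]
      exact (mul_self_eq_one_iff.1 h1).resolve_left (hζ.pow_ne_one_of_pos_of_lt (by omega) (by omega))
    rw [hz, hvE h (by omega) (by omega), zpow_neg, zpow_natCast, hneg]
    norm_num; ring
  have hT0 : ∑ a ∈ K, ∑ b ∈ K, Φ (a * b) =
      (C.index : ℂ) * (C.index : ℂ) * (-1 - (δ₁ : ℂ) / x + 4 * (δ₁ : ℂ) / xe) := by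
    simp only [Φ, Finset.sum_add_distrib, Finset.sum_sub_distrib, ← Finset.mul_sum, hsum, Finset.sum_const, nsmul_eq_mul,
      hzE, irr_one_eq χ₁.2, irr_one_eq (E j₀).2, hK]
    rw [show (χ₁ : G → ℂ) z = δ₁ from hvA h (by omega) (by omega)]
    linear_combination ((C.index : ℂ) * C.index * (4 * δ₁ / xe - δ₁ / x)) * hdd
  -- fibering over the involution in the cyclic group of the product
  let zt : G → G := fun g => g ^ (orderOf g / 2)
  have hzt : ∀ g : G, 2 ∣ orderOf g → orderOf (zt g) = 2 := fun g hg => orderOf_pow_orderOf_div (orderOf_pos g).ne' hg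
  let D := (K ×ˢ K).filter fun q : G × G => 2 ∣ orderOf (q.1 * q.2)
  have hT1 : ∑ a ∈ K, ∑ b ∈ K, Φ (a * b) = ∑ q ∈ D, Φ (q.1 * q.2) := by
    rw [← Finset.sum_product' (f := fun a b => Φ (a * b)), Finset.sum_filter_of_ne]
    exact fun q _ hne => by_contra fun hc => hne (hΦodd _ hc)
  have hztK : ∀ q ∈ D, zt (q.1 * q.2) ∈ K := by
    intro q hq
    have h3 := hzt _ (Finset.mem_filter.1 hq).2
    obtain ⟨R, hR⟩ := (IsPGroup.of_card (n := 1) (by rw [Nat.card_zpowers, h3, pow_one]) :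
      IsPGroup 2 (Subgroup.zpowers (zt (q.1 * q.2)))).exists_le_sylow
    obtain ⟨c, hc⟩ := MulAction.exists_smul_eq G R P
    set s := zt (q.1 * q.2) with hs
    have hm : c * s * c⁻¹ ∈ (P : Subgroup G) := by
      rw [← hc]; exact Subgroup.smul_mem_pointwise_smul s (MulAut.conj c) _ (hR (Subgroup.mem_zpowers s))
    have hs2 : s * s = 1 := by rw [← pow_two, ← h3, pow_orderOf_eq_one]
    have hcs : c * s * c⁻¹ * (c * s * c⁻¹) = 1 := by
      rw [show c * s * c⁻¹ * (c * s * c⁻¹) = c * (s * s) * c⁻¹ by group, hs2]; group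
    have hs1 : c * s * c⁻¹ ≠ 1 := fun hc1 => by
      rw [conj_eq_one_iff.1 hc1, orderOf_one] at h3; norm_num at h3
    refine Finset.mem_filter.2 ⟨Finset.mem_univ _, IsConj.trans ?_ (isConj_iff.2 ⟨c⁻¹, by group⟩ : IsConj (c * s * c⁻¹) s)⟩
    let w : C := ⟨c * s * c⁻¹, hPC hm⟩
    by_cases hwc : (π w : G) ∈ Subgroup.zpowers σ
    · rw [show c * s * c⁻¹ = z from congrArg Subtype.val (hinv w (Subtype.ext hcs) (fun hw => hs1 (congrArg Subtype.val hw)) hwc)]
    · exact (hclsI w (hcls w (Finset.mem_filter.2 ⟨Finset.mem_univ _, Subtype.ext hcs, hwc⟩))).2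
  have hfib : ∀ s ∈ K, ∑ q ∈ D.filter (fun q => zt (q.1 * q.2) = s), Φ (q.1 * q.2) =
      ∑ q ∈ D.filter (fun q => zt (q.1 * q.2) = z), Φ (q.1 * q.2) := by
    intro s hs
    obtain ⟨c, hc⟩ := isConj_iff.1 (Finset.mem_filter.1 hs).2
    have hord : ∀ d g : G, orderOf (d * g * d⁻¹) = orderOf g := fun d g => MulEquiv.orderOf_eq (MulAut.conj d) g
    have hztc : ∀ d g : G, zt (d * g * d⁻¹) = d * zt g * d⁻¹ := fun d g => by
      simp only [zt, hord, conj_pow]
    have hKc : ∀ d a : G, a ∈ K → d * a * d⁻¹ ∈ K := fun d a ha =>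
      Finset.mem_filter.2 ⟨Finset.mem_univ _, (Finset.mem_filter.1 ha).2.trans (isConj_iff.2 ⟨d, rfl⟩)⟩
    symm
    refine Finset.sum_bij (fun q _ => (c * q.1 * c⁻¹, c * q.2 * c⁻¹)) ?_ ?_ ?_ ?_
    · intro q hq
      obtain ⟨hqD, hqz⟩ := Finset.mem_filter.1 hq
      obtain ⟨hqK, hq2⟩ := Finset.mem_filter.1 hqD
      have e : c * q.1 * c⁻¹ * (c * q.2 * c⁻¹) = c * (q.1 * q.2) * c⁻¹ := by group
      refine Finset.mem_filter.2 ⟨Finset.mem_filter.2 ⟨Finset.mem_product.2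
        ⟨hKc c _ (Finset.mem_product.1 hqK).1, hKc c _ (Finset.mem_product.1 hqK).2⟩, ?_⟩, ?_⟩
      · rw [e, hord]; exact hq2
      · rw [e, hztc, hqz, hc]
    · rintro ⟨a, b⟩ - ⟨a', b'⟩ - h3
      simp only [Prod.mk.injEq, mul_left_inj, mul_right_inj] at h3
      simp [h3.1, h3.2]
    · intro q hq
      obtain ⟨hqD, hqz⟩ := Finset.mem_filter.1 hq
      obtain ⟨hqK, hq2⟩ := Finset.mem_filter.1 hqD
      refine ⟨(c⁻¹ * q.1 * c⁻¹⁻¹, c⁻¹ * q.2 * c⁻¹⁻¹), ?_, by simp [mul_assoc]⟩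
      have e : c⁻¹ * q.1 * c⁻¹⁻¹ * (c⁻¹ * q.2 * c⁻¹⁻¹) = c⁻¹ * (q.1 * q.2) * c⁻¹⁻¹ := by group
      refine Finset.mem_filter.2 ⟨Finset.mem_filter.2 ⟨Finset.mem_product.2
        ⟨hKc _ _ (Finset.mem_product.1 hqK).1, hKc _ _ (Finset.mem_product.1 hqK).2⟩, ?_⟩, ?_⟩
      · rw [e, hord]; exact hq2
      · rw [e, hztc, hqz, ← hc]; group
    · intro q _
      rw [show c * q.1 * c⁻¹ * (c * q.2 * c⁻¹) = c * (q.1 * q.2) * c⁻¹ by group, hΦcl]
  have hT2 : ∑ q ∈ D.filter (fun q => zt (q.1 * q.2) = z), Φ (q.1 * q.2) = ∑ a ∈ I, ∑ b ∈ I, Φ ((a * b : C) : G) := by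
    rw [← Finset.sum_product' (f := fun a b : C => Φ ((a * b : C) : G)),
      ← Finset.sum_filter_of_ne (s := I ×ˢ I) (p := fun q : C × C => 2 ∣ orderOf ((q.1 * q.2 : C) : G))
        (fun q _ hne => by_contra fun hc => hne (hΦodd _ hc))]
    symm
    refine Finset.sum_bij (fun q _ => ((q.1 : G), (q.2 : G))) ?_ ?_ ?_ ?_
    · intro q hq
      obtain ⟨hqI, hq2⟩ := Finset.mem_filter.1 hq
      obtain ⟨h3, h4⟩ := Finset.mem_product.1 hqI
      refine Finset.mem_filter.2 ⟨Finset.mem_filter.2 ⟨Finset.mem_product.2 ⟨Finset.mem_filter.2 ⟨Finset.mem_univ _, (hclsI _ (hcls _ h3)).2⟩,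
        Finset.mem_filter.2 ⟨Finset.mem_univ _, (hclsI _ (hcls _ h4)).2⟩⟩, hq2⟩, ?_⟩
      have h5 := hzt _ hq2
      let s : C := (q.1 * q.2) ^ (orderOf ((q.1 * q.2 : C) : G) / 2)
      have hsc : (s : G) = zt ((q.1 * q.2 : C) : G) := Subgroup.coe_pow C _ _
      have hs2 : s * s = 1 := Subtype.ext (by
        rw [Subgroup.coe_mul, hsc, ← pow_two, ← h5, pow_orderOf_eq_one]; rfl)
      have hs1 : s ≠ 1 := fun hc => by
        rw [← hsc, hc, Subgroup.coe_one, orderOf_one] at h5; norm_num at h5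
      have hsp : (π s : G) ∈ Subgroup.zpowers σ := by
        rw [map_pow, Subgroup.coe_pow, map_mul, Subgroup.coe_mul, hIex _ h3, hIex _ h4, ← mul_assoc, mul_assoc τ, hswap, ← mul_assoc, hτ2, one_mul]
        exact pow_mem (mul_mem (Subgroup.zpow_mem_zpowers σ _) (Subgroup.zpow_mem_zpowers σ _)) _
      have h6 := congrArg Subtype.val (hinv s hs2 hs1 hsp)
      rw [hsc] at h6
      exact h6
    · intro a _ b _ h3
      simp only [Prod.mk.injEq] at h3
      exact Prod.ext (Subtype.ext h3.1) (Subtype.ext h3.2)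
    · intro q hq
      obtain ⟨hqD, hqz⟩ := Finset.mem_filter.1 hq
      obtain ⟨hqK, hq2⟩ := Finset.mem_filter.1 hqD
      obtain ⟨haK, hbK⟩ := Finset.mem_product.1 hqK
      obtain ⟨haa, ha1⟩ := hKinv _ haK
      obtain ⟨hbb, hb1⟩ := hKinv _ hbK
      have hainv : q.1 * (q.1 * q.2) * q.1⁻¹ = (q.1 * q.2)⁻¹ := by
        rw [mul_inv_rev, inv_eq_of_mul_eq_one_right haa, inv_eq_of_mul_eq_one_right hbb, ← mul_assoc q.1 q.1, haa, one_mul]
      have haC : q.1 ∈ C := by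
        refine Subgroup.mem_centralizer_singleton_iff.2 (mul_inv_eq_iff_eq_mul.1 ?_)
        rw [← hqz]
        simp only [zt]
        rw [← conj_pow, hainv, inv_pow]
        refine inv_eq_of_mul_eq_one_right ?_
        rw [show (q.1 * q.2) ^ (orderOf (q.1 * q.2) / 2) = z from hqz]; exact hz2
      have hgC : q.1 * q.2 ∈ C := by
        refine Subgroup.mem_centralizer_singleton_iff.2 ?_
        rw [← hqz]; exact ((Commute.refl (q.1 * q.2)).pow_right _).eq
      have hbC : q.2 ∈ C := by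
        have := C.mul_mem (C.inv_mem haC) hgC
        rwa [inv_mul_cancel_left] at this
      have hne : ∀ a b : G, a * a = 1 → b * b = 1 → a ≠ 1 → b ≠ 1 → a = z → ∀ hb : b ∈ C, zt (a * b) = z → False := by
        intro a b haa hbb ha1 hb1 haz hb hzab
        have hcm : b * z = z * b := Subgroup.mem_centralizer_singleton_iff.1 hb
        have hab2 : (a * b) ^ 2 = 1 := by
          rw [haz, pow_two, mul_assoc, ← mul_assoc b z b, hcm, mul_assoc z b b, hbb, mul_one, hz2]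
        have hd := orderOf_dvd_of_pow_eq_one hab2
        rcases (Nat.dvd_prime Nat.prime_two).1 hd with h5 | h5 <;> simp only [zt, h5] at hzab
        · rw [show 1 / 2 = 0 from rfl, pow_zero] at hzab
          exact Q.pow_ne_one (show 0 < h by omega) (by omega) hzab.symm
        · rw [show 2 / 2 = 1 from rfl, pow_one, haz] at hzab
          exact hb1 (mul_eq_left.1 hzab)
      let a' : C := ⟨q.1, haC⟩
      let b' : C := ⟨q.2, hbC⟩
      have hmem : ∀ w : C, (w : G) * w = 1 → (w : G) ≠ 1 → (w : G) ≠ z → w ∈ I := fun w h3 h4 h5 =>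
        Finset.mem_filter.2 ⟨Finset.mem_univ _, Subtype.ext h3, fun hc =>
          h5 (congrArg Subtype.val (hinv w (Subtype.ext h3) (fun hw => h4 (congrArg Subtype.val hw)) hc))⟩
      refine ⟨(a', b'), Finset.mem_filter.2 ⟨Finset.mem_product.2 ⟨hmem a' haa ha1 fun hc => hne q.1 q.2 haa hbb ha1 hb1 hc hbC hqz,
        hmem b' hbb hb1 fun hc => hne q.2 q.1 hbb haa hb1 ha1 hc haC ?_⟩, hq2⟩, rfl⟩
      rw [show q.2 * q.1 = q.1 * q.2 from ?_]
      · exact hqz
      · have := Subgroup.mem_centralizer_singleton_iff.1 haC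
        rw [show q.2 = z from hc]; exact this.symm
    · intro q _; rfl
  have hmain : (C.index : ℂ) * (-1 - (δ₁ : ℂ) / x + 4 * (δ₁ : ℂ) / xe) = -2 * (I.card : ℂ) * I.card := by
    have hi0 : (C.index : ℂ) ≠ 0 := Nat.cast_ne_zero.2 Subgroup.index_ne_zero_of_finite
    refine mul_left_cancel₀ hi0 ?_
    rw [← mul_assoc, ← hT0, hT1, ← Finset.sum_fiberwise_of_maps_to (g := fun q : G × G => zt (q.1 * q.2)) hztK,
      Finset.sum_congr rfl hfib, Finset.sum_const, nsmul_eq_mul, hT2, hpairs, hK]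
  have hxC : (x : ℂ) ≠ 0 := Nat.cast_ne_zero.2 (charDegree_pos χ₁.2).ne'
  have hxeC : (xe : ℂ) ≠ 0 := Nat.cast_ne_zero.2 (charDegree_pos (E j₀).2).ne'
  have hint : (C.index : ℤ) * ((x : ℤ) - δ₁) ^ 2 = 2 * (I.card : ℤ) ^ 2 * x * (x + δ₁) := by
    refine Int.cast_injective (α := ℂ) ?_
    push_cast
    have e : (-1 - (δ₁ : ℂ) / x + 4 * (δ₁ : ℂ) / xe) * ((x : ℂ) * xe) = -(x : ℂ) * xe - δ₁ * xe + 4 * δ₁ * x := by
      field_simp
    have h3 : (C.index : ℂ) * (-1 - (δ₁ : ℂ) / x + 4 * (δ₁ : ℂ) / xe) * ((x : ℂ) * xe) = -2 * (I.card : ℂ) * I.card * ((x : ℂ) * xe) := by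
      rw [hmain]
    rw [mul_assoc, e, hexe] at h3
    linear_combination -h3
  have hIpos : 0 < I.card := by
    rw [hIcard]
    exact Nat.add_pos_left (Finset.card_pos.2 ⟨τC, Finset.mem_filter.2 ⟨Finset.mem_univ _, IsConj.refl _⟩⟩) _
  refine ⟨fun hc => ?_, ?_⟩
  · have hp : (0 : ℤ) < (x : ℤ) := Int.natCast_pos.2 (charDegree_pos χ₁.2)
    rw [← hc, sub_self, zero_pow two_ne_zero, mul_zero] at hint
    have hi : (0 : ℤ) < (I.card : ℤ) := Int.natCast_pos.2 hIpos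
    exact (mul_pos (mul_pos (mul_pos two_pos (pow_pos hi 2)) hp) (add_pos hp hp)).ne hint
  have hG : (Nat.card G : ℚ) = (C.index : ℚ) * (Nat.card C : ℚ) := (cast_mul_eq C.index_mul_card).symm
  have s1 : ((Finset.univ.filter fun a : C => IsConj τC a).card : ℚ) * (Nat.card (Subgroup.centralizer ({z, τ} : Set G)) : ℚ) = Nat.card C :=
    cast_mul_eq (hsize τ (hPC hτ))
  have s2 : ((Finset.univ.filter fun a : C => IsConj ρC a).card : ℚ) * (Nat.card (Subgroup.centralizer ({z, σ * τ} : Set G)) : ℚ) = Nat.card C :=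
    cast_mul_eq (hsize (σ * τ) (hPC (mul_mem hσ hτ)))
  have c1 : (Nat.card (Subgroup.centralizer ({z, τ} : Set G)) : ℚ) ≠ 0 := Nat.cast_ne_zero.2 Nat.card_pos.ne'
  have c2 : (Nat.card (Subgroup.centralizer ({z, σ * τ} : Set G)) : ℚ) ≠ 0 := Nat.cast_ne_zero.2 Nat.card_pos.ne'
  have hI : (I.card : ℚ) = (Nat.card C : ℚ) * (1 / (Nat.card (Subgroup.centralizer ({z, τ} : Set G)) : ℚ) + 1 / (Nat.card (Subgroup.centralizer ({z, σ * τ} : Set G)) : ℚ)) := by
    rw [hIcard, Nat.cast_add, mul_add]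
    congr 1
    · rw [← s1, mul_one_div, mul_div_cancel_right₀ _ c1]
    · rw [← s2, mul_one_div, mul_div_cancel_right₀ _ c2]
  have hq : (C.index : ℚ) * ((x : ℚ) - δ₁) ^ 2 = 2 * (I.card : ℚ) ^ 2 * x * (x + δ₁) := cast_int hint
  rw [hG]
  calc (C.index : ℚ) * (Nat.card C : ℚ) * ((x : ℚ) - δ₁) ^ 2 = (Nat.card C : ℚ) * ((C.index : ℚ) * ((x : ℚ) - δ₁) ^ 2) := by ring
    _ = _ := by rw [hq, hI]; ring

end Cfsg.Agent.S4482
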