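import Cfsg.Statements.S4483
import Cfsg.Agent.Blk.RealBlock
import Cfsg.Agent.Blk.Bounds

set_option autoImplicit false
open Cfsg

namespace Cfsg.Agent.S4483

/-- Let G be a finite group of order 2^n·g₀ with g₀ odd, and M a maximal ideal of the algebraic integers containing 2. Every real-valued irreducible character of G of odd degree lies in the principal 2-block; consequently G has at most 2^(2n) real-valued irreducible characters of odd degree. -/
theorem result {G : Type*} [Group G] [Finite G] (M : Ideal Cfsg.AlgInt) (hM : Cfsg.IsPModular 2 M) : (∀ χ : Cfsg.IrrCharacter G, (∀ g : G, ((χ : G → ℂ) g).im = 0) → Odd (Cfsg.charDegree (χ : G → ℂ)) → χ ∈ Cfsg.principalBlock M G) ∧ Nat.card {χ : Cfsg.IrrCharacter G // (∀ g : G, ((χ : G → ℂ) g).im = 0) ∧ Odd (Cfsg.charDegree (χ : G → ℂ))} ≤ 2 ^ (2 * (Nat.card G).factorization 2) := by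
  classical
  haveI := hM.2.1.isPrime
  haveI := Fact.mk Nat.prime_two
  have h1 : ∀ χ : Cfsg.IrrCharacter G, (∀ g : G, ((χ : G → ℂ) g).im = 0) →
      Odd (Cfsg.charDegree (χ : G → ℂ)) → χ ∈ Cfsg.principalBlock M G := fun χ hreal hodd => by
    refine CfsgLib.Blk.mem_principal_of_real hM hodd ?_
    rw [show CfsgLib.Blk.conjIrr χ = χ from
      Subtype.ext (funext fun g => Complex.conj_eq_iff_im.mpr (hreal g))]
    exact CfsgLib.Blk.sameBlock_refl _
  refine ⟨h1, ?_⟩
  refine le_trans ?_ ((CfsgLib.Blk.card_block_le hM CfsgLib.Blk.isPBlock_principalBlock).trans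
    (Nat.pow_le_pow_right (by norm_num) (Nat.mul_le_mul_left 2 (CfsgLib.Blk.blockDefect_le hM _))))
  exact Nat.card_le_card_of_injective (fun χ => ⟨χ.1, h1 χ.1 χ.2.1 χ.2.2⟩)
    fun a b h => Subtype.ext (congrArg (fun x => x.1) h)

end Cfsg.Agent.S4483
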