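import Cfsg.Statements.S4486
import Cfsg.Agent.Char.CCSylowMain
-- import your own Cfsg.Agent.* helpers here

set_option autoImplicit false
open Cfsg
open scoped ComplexConjugate CfsgLib.Char

namespace Cfsg.Agent.S4486

/-- Let G be a finite group and p a prime dividing its order such that every non-identity element of a Sylow p-subgroup P has the same centralizer as P; let p^n be the order of P. If G has a non-principal irreducible character χ of degree x with x² < p^n − 1, then either G has a proper normal subgroup containing P, or G has a normal subgroup of index p^n and x = 1. -/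
theorem result {G : Type*} [Group G] [Finite G] (p : ℕ) (hp : p.Prime) (hpG : p ∣ Nat.card G) (P : Sylow p G) (hstar : ∀ x ∈ (P : Subgroup G), x ≠ 1 → Subgroup.centralizer ({x} : Set G) = Subgroup.centralizer ((P : Subgroup G) : Set G)) (n : ℕ) (hn : Nat.card P = p ^ n) (χ : Cfsg.IrrCharacter G) (h1 : (χ : G → ℂ) ≠ fun _ => 1) (hdeg : Cfsg.charDegree (χ : G → ℂ) ^ 2 + 1 < p ^ n) : (∃ K : Subgroup G, K.Normal ∧ K ≠ ⊤ ∧ (P : Subgroup G) ≤ K) ∨ ((∃ N : Subgroup G, N.Normal ∧ N.index = p ^ n) ∧ Cfsg.charDegree (χ : G → ℂ) = 1) := by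
  classical
  open CfsgLib.Char CfsgLib.CCSylow in
  · haveI := Fact.mk hp
    haveI := Fintype.ofFinite G
    have hall := hall_of_star P hstar
    have hq1 : 1 < Nat.card P := by
      have h := P.dvd_card_of_dvd_card hpG
      exact lt_of_lt_of_le hp.one_lt (Nat.le_of_dvd Nat.card_pos h)
    haveI : Nontrivial (P : Subgroup G) := Finite.one_lt_card_iff_nontrivial.1 hq1
    obtain ⟨K, hKn, hK, -⟩ := exists_kernel (isCharacter_of_isIrr χ.2)
    haveI := hKn
    have hKtop : K ≠ ⊤ := by
      intro h
      have hconst : ∀ g, (χ : G → ℂ) g = (χ : G → ℂ) 1 := fun g => (hK g).1 (h ▸ Subgroup.mem_top g)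
      have := irr_inner_ne χ.2 isIrr_one h1
      simp [classInner_def, hconst, natCard_ne_zero, irr_one_ne_zero χ.2] at this
    by_cases hPK : (P : Subgroup G) ≤ K
    · exact Or.inl ⟨K, hKn, hKtop, hPK⟩
    -- the quotient by the kernel
    let f : G →* G ⧸ K := QuotientGroup.mk' K
    have hf : Function.Surjective f := QuotientGroup.mk'_surjective K
    have hfK : ∀ g, f g = 1 ↔ g ∈ K := fun g => QuotientGroup.eq_one_iff g
    haveI := Fintype.ofFinite (G ⧸ K)
    obtain ⟨χ', hχ', hcomp⟩ := irr_descend f hf χ.2 (fun k hk => (hK k).1 ((hfK k).1 hk))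
    have hχ'1 : χ' 1 = (χ : G → ℂ) 1 := by rw [← hcomp, Function.comp_apply, map_one]
    -- when the product is everything
    have hfull : (P : Subgroup G) ⊔ K = ⊤ → charDegree (χ : G → ℂ) = 1 := by
      intro h
      have hrep : ∀ y : G ⧸ K, ∃ a ∈ (P : Subgroup G), f a = y := by
        intro y
        obtain ⟨g, rfl⟩ := hf y
        obtain ⟨a, ha, k, hk, rfl⟩ := Subgroup.mem_sup_of_normal_right.1 (h ▸ Subgroup.mem_top g : g ∈ (P : Subgroup G) ⊔ K)
        exact ⟨a, ha, by rw [map_mul, (hfK k).2 hk, mul_one]⟩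
      have h1' : χ' 1 = 1 := irr_degree_one_of_comm (fun u v => by
        obtain ⟨a, ha, rfl⟩ := hrep u
        obtain ⟨b, hb, rfl⟩ := hrep v
        rw [← map_mul, ← map_mul, comm_P P hall a ha b hb]) hχ'
      exact charDegree_eq (by rw [← hχ'1, h1']; simp)
    have hPKne : (P : Subgroup G) ≤ (P : Subgroup G) ⊔ K := le_sup_left
    have halt : ((P : Subgroup G) ⊔ K).Normal → (∃ K' : Subgroup G, K'.Normal ∧ K' ≠ ⊤ ∧ (P : Subgroup G) ≤ K') ∨
        (P : Subgroup G) ⊔ K = ⊤ := by
      intro h
      rcases eq_or_ne ((P : Subgroup G) ⊔ K) ⊤ with e | e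
      · exact Or.inr e
      · exact Or.inl ⟨_, h, e, le_sup_left⟩
    -- transfer
    have hcompl : charDegree (χ : G → ℂ) = 1 → ∃ M : Subgroup G, M.Normal ∧ M.index = p ^ n := by
      intro hx
      have hNC : Subgroup.normalizer ((P : Subgroup G) : Set G) ≤ Subgroup.centralizer ((P : Subgroup G) : Set G) := by
        intro x hx'
        by_contra hxC
        obtain ⟨μ, hμ⟩ := exists_hom_of_degree_one (isCharacter_of_isIrr χ.2)
          (by rw [irr_one_eq χ.2, hx, Nat.cast_one])
        refine hPK fun t ht => ?_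
        let F : ↥(P : Subgroup G) → ↥(P : Subgroup G) := fun z => ⟨x⁻¹ * z * x * (z : G)⁻¹, mul_mem (by
          have := (Subgroup.mem_normalizer_iff.1 (inv_mem hx') (z : G)).1 z.2
          simpa using this) (inv_mem z.2)⟩
        have hinj : Function.Injective F := by
          intro y z h
          have h' : x⁻¹ * (y : G) * x * (y : G)⁻¹ = x⁻¹ * (z : G) * x * (z : G)⁻¹ := congrArg Subtype.val h
          by_contra hne
          refine hxC ?_
          rw [← hall P ((z : G)⁻¹ * y) (mul_mem (inv_mem z.2) y.2) (fun e => hne (Subtype.ext (inv_mul_eq_one.1 e).symm)),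
            Subgroup.mem_centralizer_singleton_iff]
          have e3 : x⁻¹ * (y : G) * x = x⁻¹ * (z : G) * x * (z : G)⁻¹ * y := by rw [← h']; group
          calc x * ((z : G)⁻¹ * y) = x * ((x⁻¹ * (z : G) * x)⁻¹ * (x⁻¹ * (z : G) * x * (z : G)⁻¹ * y)) := by group
            _ = x * ((x⁻¹ * (z : G) * x)⁻¹ * (x⁻¹ * (y : G) * x)) := by rw [e3]
            _ = (z : G)⁻¹ * y * x := by group
        obtain ⟨z, hz⟩ := (Finite.injective_iff_bijective.1 hinj).surjective ⟨t, ht⟩
        refine (hK t).2 ?_
        have : t = x⁻¹ * (z : G) * x * (z : G)⁻¹ := (congrArg Subtype.val hz).symm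
        rw [hμ, this]
        simp only [map_mul, map_inv, map_one]
        rw [mul_comm (μ x)⁻¹ (μ (z : G))]
        simp
      refine ⟨(MonoidHom.transferSylow P hNC).ker, inferInstance, ?_⟩
      rw [(MonoidHom.ker_transferSylow_isComplement' P hNC).symm.index_eq_card]
      exact hn
    have hfinish : ((P : Subgroup G) ⊔ K).Normal →
        (∃ K' : Subgroup G, K'.Normal ∧ K' ≠ ⊤ ∧ (P : Subgroup G) ≤ K') ∨
          ((∃ N : Subgroup G, N.Normal ∧ N.index = p ^ n) ∧ charDegree (χ : G → ℂ) = 1) := fun h => by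
      rcases halt h with h' | h'
      · exact Or.inl h'
      · exact Or.inr ⟨hcompl (hfull h'), hfull h'⟩
    refine hfinish ?_
    by_cases hD : (P : Subgroup G) ⊓ K = ⊥
    · -- the hypothesis passes to the quotient
      let P' : Sylow p (G ⧸ K) := P.mapSurjective hf
      have hinjP : ∀ a ∈ (P : Subgroup G), f a = 1 → a = 1 := fun a ha h => by
        have : a ∈ (P : Subgroup G) ⊓ K := ⟨ha, (hfK a).1 h⟩
        rwa [hD, Subgroup.mem_bot] at this
      have hstar' : ∀ u ∈ (P' : Subgroup (G ⧸ K)), u ≠ 1 →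
          Subgroup.centralizer ({u} : Set (G ⧸ K)) = Subgroup.centralizer ((P' : Subgroup (G ⧸ K)) : Set (G ⧸ K)) := by
        rintro _ ⟨a, ha, rfl⟩ hu
        have ha1 : a ≠ 1 := fun e => hu (by rw [e, map_one])
        refine le_antisymm (fun v hv => Subgroup.mem_centralizer_iff.2 ?_) fun v hv => ?_
        · rintro _ ⟨b, hb, rfl⟩
          obtain ⟨g, rfl⟩ := hf v
          rw [Subgroup.mem_centralizer_singleton_iff] at hv
          set M := (P : Subgroup G) ⊔ K with hMdef
          have hzM : g * a * g⁻¹ ∈ M := by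
            have hk : g * a * g⁻¹ * a⁻¹ ∈ K := (hfK _).1 (by
              simp only [map_mul, map_inv]
              rw [hv]; group)
            have := Subgroup.mul_mem M (Subgroup.mem_sup_right hk) (Subgroup.mem_sup_left ha : a ∈ M)
            simpa using this
          obtain ⟨k₀, hk₀⟩ := order_of_mem P hall ha
          have hzp : IsPGroup p (Subgroup.zpowers (⟨_, hzM⟩ : M)) := IsPGroup.of_card (n := k₀) (by
            rw [Nat.card_zpowers, Subgroup.orderOf_mk, ← hk₀]
            exact MulEquiv.orderOf_eq (MulAut.conj g) a)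
          obtain ⟨R, hR⟩ := hzp.exists_le_sylow
          obtain ⟨m, hm⟩ := MulAction.exists_smul_eq M R (P.subtype (le_sup_left : (P : Subgroup G) ≤ M))
          have hin : m * ⟨_, hzM⟩ * m⁻¹ ∈ ((P.subtype (le_sup_left : (P : Subgroup G) ≤ M) : Sylow p M) : Subgroup M) := by
            rw [← hm, Sylow.coe_subgroup_smul, Subgroup.mem_pointwise_smul_iff_inv_smul_mem]
            simpa [MulAut.smul_def, mul_assoc] using hR (Subgroup.mem_zpowers (⟨_, hzM⟩ : M))
          have hin' : (m : G) * (g * a * g⁻¹) * (m : G)⁻¹ ∈ (P : Subgroup G) := hin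
          obtain ⟨c, hc, k, hk, hck⟩ := Subgroup.mem_sup_of_normal_right.1 m.2
          have hk2 : k * (g * a * g⁻¹) * k⁻¹ ∈ (P : Subgroup G) := by
            have := mul_mem (mul_mem (inv_mem hc) hin') hc
            rw [← hck] at this
            simpa [mul_assoc] using this
          have hfix : k * (g * a * g⁻¹) * k⁻¹ = a := by
            refine eq_of_mul_inv_eq_one (hinjP _ (mul_mem hk2 (inv_mem ha)) ?_)
            simp only [map_mul, map_inv, (hfK k).2 hk]
            rw [hv]; group
          have hcent : k * g ∈ Subgroup.centralizer ({a} : Set G) := by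
            rw [Subgroup.mem_centralizer_singleton_iff]
            calc k * g * a = k * (g * a * g⁻¹) * k⁻¹ * (k * g) := by group
              _ = a * (k * g) := by rw [hfix]
          rw [hall P a ha ha1] at hcent
          have := congrArg f (Subgroup.mem_centralizer_iff.1 hcent b hb)
          simpa [(hfK k).2 hk] using this
        · exact Subgroup.mem_centralizer_singleton_iff.2 (Subgroup.mem_centralizer_iff.1 hv _ ⟨a, ha, rfl⟩).symm
      have hcard : Nat.card P' = Nat.card P := by
        refine (Nat.card_congr (Equiv.ofBijective (fun a : (P : Subgroup G) => (⟨f a, a, a.2, rfl⟩ : P'))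
          ⟨fun a b h => ?_, fun b => ?_⟩)).symm
        · have h' : f a = f b := congrArg Subtype.val h
          refine Subtype.ext (eq_of_mul_inv_eq_one (hinjP _ (mul_mem a.2 (inv_mem b.2)) ?_))
          rw [map_mul, map_inv, h', mul_inv_cancel]
        · obtain ⟨a, ha, e⟩ := b.2
          exact ⟨⟨a, ha⟩, Subtype.ext e⟩
      haveI : ((P' : Sylow p (G ⧸ K)) : Subgroup (G ⧸ K)).Normal := by
        refine main p (Nat.card (G ⧸ K)) (G ⧸ K) P' le_rfl (hall_of_star P' hstar') χ' (isCharacter_of_isIrr hχ') ?_
          (charDegree (χ : G → ℂ)) (by rw [hχ'1, irr_one_eq χ.2]) (by rw [hcard, hn]; omega)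
        intro y hy
        obtain ⟨g, rfl⟩ := hf y
        refine (hfK g).2 ((hK g).2 ?_)
        rw [← hcomp]
        simpa using hy
      have e : (P : Subgroup G) ⊔ K = (P' : Subgroup (G ⧸ K)).comap f := by
        rw [show (P' : Subgroup (G ⧸ K)) = (P : Subgroup G).map f from rfl, Subgroup.comap_map_eq,
          show f.ker = K from QuotientGroup.ker_mk' K]
      rw [e]; infer_instance
    · -- Frattini argument inside the kernel
      have hDp : IsPGroup p ((P : Subgroup G).subgroupOf K) :=
        P.isPGroup'.comap_of_injective K.subtype K.subtype_injective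
      obtain ⟨R, hR⟩ := hDp.exists_le_sylow
      obtain ⟨Q, hQ⟩ := (R.isPGroup'.map K.subtype).exists_le_sylow
      obtain ⟨y, hy, hy1⟩ := (Subgroup.bot_or_exists_ne_one _).resolve_left hD
      have hyR : y ∈ (R : Subgroup K).map K.subtype := ⟨⟨y, hy.2⟩, hR (Subgroup.mem_subgroupOf.2 hy.1), rfl⟩
      have hQP : (Q : Subgroup G) ≤ (P : Subgroup G) := by
        intro z hz
        have hzC : z ∈ Subgroup.centralizer ((P : Subgroup G) : Set G) := by
          rw [← hall P y hy.1 hy1, hall Q y (hQ hyR) hy1]
          exact P_le_C Q hall hz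
        exact pmem P hall (C_le_N P hzC) (order_of_mem Q hall hz)
      have hRP : (R : Subgroup K).map K.subtype ≤ (P : Subgroup G) := hQ.trans hQP
      have hnorm : Subgroup.normalizer (((R : Subgroup K).map K.subtype : Subgroup G) : Set G) ≤
          Subgroup.normalizer ((P : Subgroup G) : Set G) := fun g hg =>
        ti P hall hy.1 hy1 (hRP ((Subgroup.mem_normalizer_iff.1 hg y).1 hyR))
      have htop : Subgroup.normalizer ((P : Subgroup G) : Set G) ⊔ K = ⊤ :=
        top_le_iff.1 (le_trans (Sylow.normalizer_sup_eq_top R).ge (sup_le_sup_right hnorm K))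
      refine Subgroup.normalizer_eq_top_iff.1 (top_le_iff.1 (htop ▸ sup_le ?_ ?_))
      · intro g hg
        refine Subgroup.mem_normalizer_iff.2 fun z => ?_
        have key : ∀ h ∈ Subgroup.normalizer ((P : Subgroup G) : Set G), ∀ z ∈ (P : Subgroup G) ⊔ K,
            h * z * h⁻¹ ∈ (P : Subgroup G) ⊔ K := by
          intro h hh z hz
          obtain ⟨c, hc, k, hk, rfl⟩ := Subgroup.mem_sup_of_normal_right.1 hz
          rw [show h * (c * k) * h⁻¹ = h * c * h⁻¹ * (h * k * h⁻¹) by group]
          exact Subgroup.mul_mem _ (Subgroup.mem_sup_left ((Subgroup.mem_normalizer_iff.1 hh c).1 hc))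
            (Subgroup.mem_sup_right (hKn.conj_mem k hk h))
        refine ⟨key g hg z, fun hz => ?_⟩
        have := key g⁻¹ (inv_mem hg) _ hz
        simpa [mul_assoc] using this
      · exact le_sup_right.trans Subgroup.le_normalizer

end Cfsg.Agent.S4486
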