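import Cfsg.Statements.S4487
import Cfsg.Agent.Blk.NormalP
import Cfsg.Agent.Blk.MinMax
import Cfsg.Agent.Fus.CoreBasic

set_option autoImplicit false
open Cfsg

namespace Cfsg.Agent.S4487
open scoped CfsgLib.Char


/-- Let G be a finite group and p a prime such that G has no non-trivial normal subgroup of order prime to p and C_G(O_p(G)) ≤ O_p(G). Then G has a single p-block: any two irreducible characters lie in the same block relative to every maximal ideal M of the algebraic integers containing p. -/
theorem result {G : Type*} [Group G] [Finite G] (p : ℕ) [Fact p.Prime] (M : Ideal Cfsg.AlgInt) (hM : Cfsg.IsPModular p M) (hcore : Cfsg.pPrimeCore p G = ⊥) (hconstr : Subgroup.centralizer ((Cfsg.pCore p G) : Set G) ≤ Cfsg.pCore p G) (χ ψ : Cfsg.IrrCharacter G) : Cfsg.SameBlock M (χ : G → ℂ) (ψ : G → ℂ) := by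
  classical
  haveI := hM.2.1.isPrime
  open CfsgLib.Blk CfsgLib.Char in
  · haveI := CfsgLib.Fus.normal_pCore (G := G) p
    have hP : IsPGroup p (Cfsg.pCore p G) := CfsgLib.Fus.isPGroup_pCore
    have key : ∀ (θ : Cfsg.IrrCharacter G) (g : G), ¬ p ∣ orderOf g → g ≠ 1 → red M (centralChar (θ : G → ℂ) g) = 0 := by
      intro θ g hg hg1
      by_contra hne
      have hC := mem_centralizer_of_centralChar hM (Cfsg.pCore p G) hP θ.2 g
        (fun h => hne ((red_eq_zero_iff (centralChar_mem θ.2 g)).2 h))
      obtain ⟨k, hk⟩ := IsPGroup.iff_orderOf.1 hP ⟨g, hconstr hC⟩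
      rw [Subgroup.orderOf_mk] at hk
      rcases Nat.eq_zero_or_pos k with rfl | hk0
      · exact hg1 (orderOf_eq_one_iff.1 (by simpa using hk))
      · exact hg (hk ▸ dvd_pow_self p hk0.ne')
    refine sameBlock_of_regular hM fun g hg => ?_
    by_cases hg1 : g = 1
    · subst hg1
      rw [centralChar_one (irr_one_ne_zero χ.2), centralChar_one (irr_one_ne_zero ψ.2)]
    · rw [key χ g hg hg1, key ψ g hg hg1]

end Cfsg.Agent.S4487
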