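import Cfsg.Statements.S4490
import Cfsg.Agent.Blk.RealBlock
import Cfsg.Agent.Blk.Defect

set_option autoImplicit false
open Cfsg

namespace Cfsg.Agent.S4490
open scoped CfsgLib.Char


/-- Let G be a finite group and M a maximal ideal of the algebraic integers containing 2. Every 2-block B of G whose defect groups are the Sylow 2-subgroups of G (a block of full defect) and which is not the principal block is different from its complex-conjugate block, the block formed by the complex conjugates of the members of B. -/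
theorem result {G : Type*} [Group G] [Finite G] (M : Ideal Cfsg.AlgInt) (hM : Cfsg.IsPModular 2 M) (B : Set (Cfsg.IrrCharacter G)) (hB : Cfsg.IsPBlock M B) (P : Sylow 2 G) (hfull : Cfsg.IsDefectGroup 2 M B (P : Subgroup G)) (hnp : B ≠ Cfsg.principalBlock M G) : {ψ : Cfsg.IrrCharacter G | ∃ χ ∈ B, (ψ : G → ℂ) = fun g => (starRingEnd ℂ) ((χ : G → ℂ) g)} ≠ B := by
  classical
  haveI := hM.2.1.isPrime
  intro hBc
  obtain ⟨χ, hχ, h0⟩ := CfsgLib.Blk.exists_height_zero hM hB
  have hcard := CfsgLib.Blk.card_defectGroup hM hB hfull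
  rw [Sylow.card_eq_multiplicity] at hcard
  have hd : (Nat.card G).factorization 2 = Cfsg.blockDefect 2 B :=
    Nat.pow_right_injective le_rfl hcard
  have hdeg := CfsgLib.Blk.degExp_eq_height_add hM hB hχ
  rw [h0, add_zero, CfsgLib.Blk.pExp, hd, Nat.sub_self] at hdeg
  have hodd : Odd (Cfsg.charDegree (χ : G → ℂ)) := by
    rw [Nat.odd_iff, ← Nat.two_dvd_ne_zero]
    intro h2
    have := (Nat.Prime.dvd_iff_one_le_factorization Nat.prime_two
      (CfsgLib.Char.charDegree_pos χ.2).ne').1 h2
    change 1 ≤ CfsgLib.Blk.degExp 2 (χ : G → ℂ) at this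
    omega
  have hcmem : CfsgLib.Blk.conjIrr χ ∈ B := by
    rw [← hBc]
    exact ⟨χ, hχ, rfl⟩
  have hpr := CfsgLib.Blk.mem_principal_of_real hM hodd
    (CfsgLib.Blk.sameBlock_of_mem hB hχ hcmem)
  exact hnp (CfsgLib.Blk.eq_of_mem_of_mem hB CfsgLib.Blk.isPBlock_principalBlock hχ hpr)

end Cfsg.Agent.S4490
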