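import Cfsg.Statements.S4713
import Cfsg.Agent.Char.GlauberApp
import Cfsg.Agent.Char.GlauberSolv
import Cfsg.Agent.Char.ExtMore
import Cfsg.Agent.Solv.PLengthOne
import Cfsg.Agent.Perm.HallHigman

set_option autoImplicit false
open Cfsg

namespace Cfsg.Agent.S4713

open CfsgLib.Char

universe u

theorem dvd_of_constituent {G : Type u} [Group G] [Fintype G] {N : Subgroup G} [N.Normal]
    [Fintype N] (χ : IrrCharacter G) (θ : IrrCharacter N)
    (hc : classInner (fun n : N => (χ : G → ℂ) n) (θ : N → ℂ) ≠ 0) :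
    ∃ k : ℕ, charDegree (χ : G → ℂ) = charDegree (θ : N → ℂ) * k := by
  obtain ⟨m, hm⟩ := inner_char_irr (isCharacter_restrict N (isCharacter_of_isIrr χ.2)) θ.2
  have h := degree_clifford χ.2 θ.2 hc
  rw [hm, irr_one_eq χ.2, irr_one_eq θ.2] at h
  refine ⟨m * (inertia (θ : N → ℂ)).index, ?_⟩
  have : (charDegree (χ : G → ℂ) : ℂ) =
      ((charDegree (θ : N → ℂ) * (m * (inertia (θ : N → ℂ)).index) : ℕ) : ℂ) := by
    rw [h]; push_cast; ring
  exact_mod_cast this

theorem exists_over {G : Type u} [Group G] [Fintype G] (N : Subgroup G) [N.Normal] [Fintype N]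
    (θ : IrrCharacter N) :
    ∃ χ : IrrCharacter G, classInner (fun n : N => (χ : G → ℂ) n) (θ : N → ℂ) ≠ 0 := by
  obtain ⟨χ, hχ⟩ := exists_constituent (isCharacter_indFun N (isCharacter_of_isIrr θ.2)) fun e => by
    have h := congrFun e 1
    rw [indFun_one, Pi.zero_apply, mul_eq_zero] at h
    rcases h with h | h
    · exact N.index_ne_zero_of_finite (by exact_mod_cast h)
    · exact irr_one_ne_zero θ.2 h
  refine ⟨χ, fun h0 => hχ ?_⟩
  rw [CfsgLib.Char.frobenius N (θ : N → ℂ) (classFun_of_irr χ.2), ← classInner_conj, h0, map_zero]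

theorem sylow_normal_of_degrees {p : ℕ} [Fact p.Prime] : ∀ (n : ℕ) {G : Type u} [Group G] [Finite G],
    Nat.card G = n → IsPSolvable p G → (∀ χ : IrrCharacter G, ¬ p ∣ charDegree (χ : G → ℂ)) →
    ∀ P : Sylow p G, (P : Subgroup G).Normal := by
  intro n
  induction n using Nat.strong_induction_on with
  | _ n ih =>
  intro G _ _ hn hsolv h P
  classical
  haveI := Fintype.ofFinite G
  have hp : p.Prime := Fact.out
  rcases subsingleton_or_nontrivial G with hs | hs
  · rw [Subsingleton.elim (P : Subgroup G) ⊥]; infer_instance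
  -- quotients by non-trivial normal subgroups
  have hquot : ∀ N : Subgroup G, N.Normal → N ≠ ⊥ → ((P : Subgroup G) ⊔ N).Normal := by
    intro N hN hne
    haveI := hN
    haveI := Fintype.ofFinite (G ⧸ N)
    have hlt : Nat.card (G ⧸ N) < n := by
      rw [← hn, ← Subgroup.index_eq_card, ← N.card_mul_index]
      exact lt_mul_left N.index_ne_zero_of_finite.bot_lt (N.one_lt_card_iff_ne_bot.mpr hne)
    have hq := ih _ hlt rfl (CfsgLib.Perm.isPSolvable_quotient hsolv N) (fun χ => by
      have h1 := h ⟨_, irr_comp (QuotientGroup.mk' N) (QuotientGroup.mk'_surjective N) χ.2⟩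
      simpa [charDegree] using h1) (P.mapSurjective (QuotientGroup.mk'_surjective N))
    haveI : ((P : Subgroup G).map (QuotientGroup.mk' N)).Normal := hq
    have := Subgroup.Normal.comap (f := QuotientGroup.mk' N) this
    rwa [Subgroup.comap_map_eq, QuotientGroup.ker_mk'] at this
  by_cases hQ : pCore p G = ⊥
  swap
  · haveI := CfsgLib.Solv.pCore_normal G p
    have h1 := hquot _ inferInstance hQ
    rwa [sup_eq_left.mpr (CfsgLib.Solv.pCore_le_sylow P)] at h1
  set N := pPrimeCore p G with hNdef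
  have hNne : N ≠ ⊥ := CfsgLib.Solv.PLen.pPrimeCore_ne_bot_of_pCore_eq_bot hsolv hQ
  haveI hNn : N.Normal := CfsgLib.Solv.pPrimeCore_normal G p
  set M : Subgroup G := (P : Subgroup G) ⊔ N
  haveI hMn : M.Normal := hquot N hNn hNne
  haveI := Fintype.ofFinite M
  haveI := Fintype.ofFinite N
  have hNM : N ≤ M := le_sup_right
  haveI hNM' : (N.subgroupOf M).Normal := hNn.subgroupOf M
  haveI := Fintype.ofFinite (N.subgroupOf M)
  let e : N.subgroupOf M ≃* N := Subgroup.subgroupOfEquivOfLe hNM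
  have hnorm : ∀ s ∈ (P : Subgroup G), ∀ g ∈ N, s * g * s⁻¹ ∈ N := fun s _ g hg => hNn.conj_mem g hg s
  have hNp : ¬ p ∣ Nat.card N := CfsgLib.Solv.not_dvd_card_pPrimeCore
  -- `P` fixes every character of `N`
  have hinv : ∀ θ : IrrCharacter N, AutInv (actHom N (P : Subgroup G) hnorm).range (θ : N → ℂ) := by
    intro θ
    rw [autInv_actHom]
    intro s hs g g' hg'
    let θ' : IrrCharacter (N.subgroupOf M) := ⟨_, irr_mulEquiv e θ.2⟩
    obtain ⟨ψ, hψ⟩ := exists_over (N.subgroupOf M) θ'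
    obtain ⟨χ, hχ⟩ := exists_over M ψ
    obtain ⟨k, hk⟩ := dvd_of_constituent χ ψ hχ
    obtain ⟨m, hm⟩ := inner_char_irr (isCharacter_restrict (N.subgroupOf M) (isCharacter_of_isIrr ψ.2)) θ'.2
    have hd := degree_clifford ψ.2 θ'.2 hψ
    rw [hm, irr_one_eq ψ.2, irr_one_eq θ'.2] at hd
    set T := inertia (θ' : N.subgroupOf M → ℂ)
    have hTd : ¬ p ∣ T.index := fun hdiv => h χ (by
      rw [hk]
      refine Dvd.dvd.mul_right ?_ _
      have : charDegree (ψ : M → ℂ) = m * T.index * charDegree (θ' : N.subgroupOf M → ℂ) := by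
        exact_mod_cast hd
      rw [this]
      exact (hdiv.mul_left _).mul_right _)
    have hNT : N.subgroupOf M ≤ T := le_inertia (classFun_of_irr θ'.2)
    have hpow : T.index ∣ (N.subgroupOf M).index := Subgroup.index_dvd_of_le hNT
    have hidx : ∃ j, (N.subgroupOf M).index = p ^ j := by
      have h1 : (N.subgroupOf M).index = N.relIndex ((P : Subgroup G) ⊔ N) := rfl
      rw [h1, Subgroup.relIndex_sup_right]
      obtain ⟨j, hj⟩ := IsPGroup.iff_card.1 P.isPGroup'
      obtain ⟨i, -, hi⟩ := (Nat.dvd_prime_pow hp).1 (hj ▸ Subgroup.relIndex_dvd_card N (P : Subgroup G))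
      exact ⟨i, hi⟩
    obtain ⟨j, hj⟩ := hidx
    obtain ⟨i, -, hi⟩ := (Nat.dvd_prime_pow hp).1 (hj ▸ hpow)
    have hT1 : T = ⊤ := by
      rw [← Subgroup.index_eq_one]
      rcases Nat.eq_zero_or_pos i with rfl | hi0
      · rw [hi, pow_zero]
      · exact absurd (hi ▸ dvd_pow_self p hi0.ne') hTd
    have h2 := congrFun (mem_inertia.mp (hT1 ▸ Subgroup.mem_top (⟨s, le_sup_left (b := N) hs⟩ : M) :
      (⟨s, le_sup_left (b := N) hs⟩ : M) ∈ T)) (e.symm g)
    simp only [conjN, θ', Function.comp_apply, MulEquiv.apply_symm_apply] at h2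
    refine Eq.trans (congrArg (θ : N → ℂ) (Subtype.ext ?_)) h2
    simp [e, hg', Subgroup.subgroupOfEquivOfLe]
  set A := (actHom N (P : Subgroup G) hnorm).range
  have hAp : IsPGroup p A := P.isPGroup'.of_surjective _ (actHom N (P : Subgroup G) hnorm).rangeRestrict_surjective
  obtain ⟨j, hj⟩ := IsPGroup.iff_card.1 hAp
  have hcop : (Nat.card N).Coprime (Nat.card A) := by
    rw [hj]; exact ((hp.coprime_iff_not_dvd.mpr hNp).symm).pow_right j
  haveI : Group.IsNilpotent A := hAp.isNilpotent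
  obtain ⟨h1, h2⟩ := card_inv_irr_and_classes _ A rfl inferInstance hcop
  have hall : ∀ K : ConjClasses N, ClassFixed A K := by
    have h3 : Nat.card {χ : IrrCharacter N // AutInv A (χ : N → ℂ)} = Nat.card (IrrCharacter N) :=
      Nat.card_congr (Equiv.subtypeUnivEquiv hinv)
    rw [h1, ← h2, card_irr_eq_card_conjClasses] at h3
    intro K
    obtain ⟨K', hK'⟩ := ((Nat.bijective_iff_injective_and_card (Subtype.val :
      {K : ConjClasses N // ClassFixed A K} → ConjClasses N)).mpr ⟨Subtype.val_injective, h3⟩).2 K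
    exact hK' ▸ K'.2
  -- the fixed points meet every class, so they are everything
  haveI := Fintype.ofFinite (fixedSub A)
  have hfix : fixedSub A = ⊤ := by
    haveI : Fintype (N ⧸ fixedSub A) := Fintype.ofFinite _
    haveI : ∀ g : N, Fintype (MulAction.fixedBy (N ⧸ fixedSub A) g) := fun g => Fintype.ofFinite _
    haveI : Fintype (MulAction.orbitRel.Quotient N (N ⧸ fixedSub A)) := Fintype.ofFinite _
    haveI : Subsingleton (MulAction.orbitRel.Quotient N (N ⧸ fixedSub A)) :=
      MulAction.pretransitive_iff_subsingleton_quotient N _ |>.mp inferInstance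
    have hsum := MulAction.sum_card_fixedBy_eq_card_orbits_mul_card_group N (N ⧸ fixedSub A)
    have hle : ∀ g : N, 1 ≤ Fintype.card (MulAction.fixedBy (N ⧸ fixedSub A) g) := by
      intro g
      obtain ⟨c, hc⟩ := exists_fixed_in_class hAp hNp (K := ConjClasses.mk g)
        (fun σ hσ => hall _ σ hσ)
      obtain ⟨u, hu⟩ := isConj_iff.mp (ConjClasses.mk_eq_mk_iff_isConj.mp hc)
      refine Fintype.card_pos_iff.mpr ⟨⟨QuotientGroup.mk u, ?_⟩⟩
      show g • (QuotientGroup.mk u : N ⧸ fixedSub A) = QuotientGroup.mk u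
      rw [MulAction.Quotient.smul_mk, QuotientGroup.eq, smul_eq_mul, ← hu]
      have : (u * (c : N) * u⁻¹ * u)⁻¹ * u = (c : N)⁻¹ := by group
      rw [this]
      exact inv_mem c.2
    have hcard : Fintype.card (MulAction.orbitRel.Quotient N (N ⧸ fixedSub A)) ≤ 1 :=
      Fintype.card_le_one_iff_subsingleton.mpr inferInstance
    by_contra hne
    have hlt : ∑ _g : N, 1 < ∑ g : N, Fintype.card (MulAction.fixedBy (N ⧸ fixedSub A) g) := by
      refine Finset.sum_lt_sum (fun g _ => hle g) ⟨1, Finset.mem_univ _, ?_⟩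
      have he : Nat.card (MulAction.fixedBy (N ⧸ fixedSub A) (1 : N)) = Nat.card (N ⧸ fixedSub A) :=
        Nat.card_congr (Equiv.subtypeUnivEquiv fun x => one_smul N x)
      rw [← Nat.card_eq_fintype_card, he, ← Subgroup.index_eq_card]
      exact Subgroup.one_lt_index_of_ne_top hne
    rw [hsum, Finset.sum_const, Finset.card_univ, smul_eq_mul, mul_one] at hlt
    have h5 := Nat.mul_le_mul_right (Fintype.card N) hcard
    rw [one_mul] at h5
    exact absurd (hlt.trans_le h5) (lt_irrefl _)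
  -- hence `N` centralizes `P` and `P` is normal in `M`
  have hcomm : ∀ g ∈ N, ∀ s ∈ (P : Subgroup G), g * s = s * g := by
    intro g hg s hs
    have h3 : (⟨g, hg⟩ : N) ∈ fixedSub A := by rw [hfix]; exact Subgroup.mem_top _
    have h4 := congrArg Subtype.val (h3 (actHom N (P : Subgroup G) hnorm ⟨s, hs⟩) ⟨⟨s, hs⟩, rfl⟩)
    exact (mul_inv_eq_iff_eq_mul.mp (h4 : s * g * s⁻¹ = g)).symm
  have hMnorm : M ≤ Subgroup.normalizer ((P : Subgroup G) : Set G) := by
    refine sup_le Subgroup.le_normalizer fun g hg => Subgroup.mem_normalizer_iff.mpr fun x => ?_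
    constructor
    · intro hx
      rwa [hcomm g hg x hx, mul_inv_cancel_right]
    · intro hx
      have h3 := hcomm g hg _ hx
      have : g * x * g⁻¹ = x := mul_left_cancel (a := g) (by rw [h3]; group)
      rwa [this] at hx
  constructor
  intro x hx g
  set R : Subgroup G := (P : Subgroup G).map (MulAut.conj g).toMonoidHom
  have hRM : R ≤ M := by
    rintro _ ⟨y, hy, rfl⟩
    exact hMn.conj_mem y (le_sup_left (b := N) hy) g
  have hRp : IsPGroup p R := P.isPGroup'.map _
  have hsup := IsPGroup.to_sup_of_normal_right' hRp P.isPGroup' (hRM.trans hMnorm)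
  have hmax := P.is_maximal' hsup le_sup_right
  have : g * x * g⁻¹ ∈ R ⊔ (P : Subgroup G) := Subgroup.mem_sup_left ⟨x, hx, rfl⟩
  rwa [hmax] at this

/-- Let p be a prime and G a finite p-solvable group. Then G has a normal abelian Sylow p-subgroup if and only if the degree of every irreducible character of G is prime to p. -/
theorem result {G : Type*} [Group G] [Finite G] (p : ℕ) [Fact p.Prime] (hsolv : Cfsg.IsPSolvable p G) (P : Sylow p G) : ((P : Subgroup G).Normal ∧ IsMulCommutative P) ↔ ∀ χ : Cfsg.IrrCharacter G, ¬ p ∣ Cfsg.charDegree (χ : G → ℂ) := by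
  classical
  haveI := Fintype.ofFinite G
  have hp : p.Prime := Fact.out
  constructor
  · rintro ⟨hN, hab⟩ χ hdvd
    obtain ⟨n, ρ, hirr, hρ⟩ := χ.2
    haveI := hirr
    haveI := hN
    have hd := finrank_dvd_index ρ (P : Subgroup G) fun a ha b hb =>
      congrArg Subtype.val (hab.is_comm.comm ⟨a, ha⟩ ⟨b, hb⟩)
    have hn : charDegree (χ : G → ℂ) = n := by
      have h1 := irr_one_eq χ.2
      rw [← hρ, Representation.char_one, Module.finrank_fin_fun] at h1
      rw [← hρ]; exact_mod_cast h1.symm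
    exact P.not_dvd_index (hdvd.trans (hn ▸ by simpa using hd))
  intro h
  have hPn := sylow_normal_of_degrees (Nat.card G) rfl hsolv h P
  refine ⟨hPn, ⟨⟨fun a b => ?_⟩⟩⟩
  haveI := Fintype.ofFinite (P : Subgroup G)
  haveI := hPn
  refine mul_inv_eq_one.mp (Subtype.ext ?_)
  rw [OneMemClass.coe_one]
  rw [← isConj_one_right (a := ((a * b * (b * a)⁻¹ : (P : Subgroup G)) : G)), isConj_comm, isConj_iff_irr]
  intro χ
  have hres := congrFun (classFun_eq_sum (classFun_of_char (isCharacter_restrict (P : Subgroup G)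
    (isCharacter_of_isIrr χ.2))))
  rw [show (χ : G → ℂ) 1 = (fun n : (P : Subgroup G) => (χ : G → ℂ) n) 1 from rfl]
  refine (hres _).trans (Eq.trans ?_ (hres 1).symm)
  simp only [Finset.sum_apply, Pi.smul_apply, smul_eq_mul]
  refine Finset.sum_congr rfl fun θ _ => ?_
  by_cases hc : classInner (fun n : (P : Subgroup G) => (χ : G → ℂ) n) (θ : ↥(P : Subgroup G) → ℂ) = 0
  · simp [hc]
  obtain ⟨k, hk⟩ := dvd_of_constituent χ θ hc
  obtain ⟨j, hj⟩ := IsPGroup.iff_card.1 P.isPGroup'
  obtain ⟨i, -, hi⟩ := (Nat.dvd_prime_pow hp).1 (hj ▸ degree_dvd_card θ.2)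
  rcases Nat.eq_zero_or_pos i with rfl | hi0
  · obtain ⟨μ, hμ⟩ := exists_hom_of_degree_one (isCharacter_of_isIrr θ.2)
      (by rw [irr_one_eq θ.2, hi]; simp)
    congr 1
    rw [hμ]
    simp only
    congr 1
    simp [mul_comm (μ a) (μ b)]
  · exact absurd ((hi ▸ dvd_pow_self p hi0.ne').trans ⟨_, hk⟩) (h χ)

end Cfsg.Agent.S4713
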