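import Cfsg.Statements.S4493
import Cfsg.Agent.S4713
import Cfsg.Agent.Solv.PSolvableOfSolvable

set_option autoImplicit false
open Cfsg

namespace Cfsg.Agent.S4493

/-- Let G be a finite solvable group and p a prime. Then G has a normal abelian Sylow p-subgroup if and only if no irreducible character degree of G is divisible by p. -/
theorem result {G : Type*} [Group G] [Finite G] (hsolv : Group.IsSolvable G) (p : ℕ) (hp : p.Prime) : (∃ P : Subgroup G, P.Normal ∧ (∀ x ∈ P, ∀ y ∈ P, x * y = y * x) ∧ IsPGroup p P ∧ ¬ p ∣ P.index) ↔ ∀ χ : Cfsg.IrrCharacter G, ¬ p ∣ Cfsg.charDegree (χ : G → ℂ) := by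
  haveI := Fact.mk hp
  haveI := hsolv
  have hps := CfsgLib.Solv.isPSolvable_of_isSolvable p G
  obtain ⟨S⟩ : Nonempty (Sylow p G) := inferInstance
  constructor
  · rintro ⟨P, hPn, hPc, hPp, hPi⟩
    have hS : ((hPp.toSylow hPi : Sylow p G) : Subgroup G) = P := rfl
    refine (Cfsg.Agent.S4713.result p hps (hPp.toSylow hPi)).1 ⟨hPn, ?_⟩
    exact ⟨⟨fun a b => Subtype.ext (hPc a a.2 b b.2)⟩⟩
  · intro h
    obtain ⟨hn, hc⟩ := (Cfsg.Agent.S4713.result p hps S).2 h
    haveI := hn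
    refine ⟨S, hn, fun x hx y hy => ?_, S.2, S.not_dvd_index⟩
    exact congrArg Subtype.val (mul_comm' (⟨x, hx⟩ : (S : Subgroup G)) ⟨y, hy⟩)

end Cfsg.Agent.S4493
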