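import Cfsg.Statements.S4495
import Cfsg.Agent.Char.Classes
import Mathlib.GroupTheory.Transfer
import Mathlib.GroupTheory.Sylow
import Mathlib.GroupTheory.PGroup

set_option autoImplicit false
open Cfsg

namespace Cfsg.Agent.S4495

/-- Let the finite group G contain an element x of prime order p with C_G(x) = ⟨x⟩, and let t be the number of conjugacy classes of elements of order p. If t ≠ p − 1 then the commutator subgroup has index at most (p − 1)/t; if t = p − 1 it has index exactly p. -/
theorem result {G : Type*} [Group G] [Finite G] (p : ℕ) (hp : p.Prime) (x : G) (hx : orderOf x = p) (hC : Subgroup.centralizer ({x} : Set G) = Subgroup.zpowers x) (t : ℕ) (ht : Nat.card {C : ConjClasses G // ∃ g ∈ C.carrier, orderOf g = p} = t) : (t ≠ p - 1 → (commutator G).index * t ≤ p - 1) ∧ (t = p - 1 → (commutator G).index = p) := by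
  classical
  haveI : Fact p.Prime := ⟨hp⟩
  haveI := Fintype.ofFinite G
  set P₀ := Subgroup.zpowers x with hP₀
  have hP₀c : Nat.card P₀ = p := by rw [hP₀, Nat.card_zpowers, hx]
  have hpg : IsPGroup p P₀ := IsPGroup.of_card (n := 1) (by rw [hP₀c, pow_one])
  obtain ⟨S, hS⟩ := hpg.exists_le_sylow
  have hxS : x ∈ (S : Subgroup G) := hS (Subgroup.mem_zpowers x)
  have hSeq : (S : Subgroup G) = P₀ := by
    refine le_antisymm ?_ hS
    haveI : Nontrivial (S : Subgroup G) :=
      (Subgroup.nontrivial_iff_ne_bot _).2 fun e => by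
        rw [e, Subgroup.mem_bot] at hxS
        rw [hxS, orderOf_one] at hx
        exact hp.one_lt.ne hx
    haveI := S.isPGroup'.center_nontrivial
    obtain ⟨z, hz⟩ := exists_ne (1 : Subgroup.center (S : Subgroup G))
    set z' : G := ((z : (S : Subgroup G)) : G) with hz'
    have hzc : ∀ s ∈ (S : Subgroup G), s * z' = z' * s := fun s hs =>
      congrArg Subtype.val (Subgroup.mem_center_iff.1 z.2 ⟨s, hs⟩)
    have hzP : z' ∈ P₀ := hC ▸ Subgroup.mem_centralizer_singleton_iff.2 (hzc x hxS).symm
    have hgen : Subgroup.zpowers z' = P₀ := by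
      refine Subgroup.eq_of_le_of_card_ge (Subgroup.zpowers_le.2 hzP) ?_
      have hd := Subgroup.orderOf_dvd_natCard P₀ hzP
      rw [hP₀c] at hd
      rcases (Nat.dvd_prime hp).1 hd with e | e
      · exact absurd (Subtype.ext (Subtype.ext (orderOf_eq_one_iff.1 e))) hz
      · rw [hP₀c, Nat.card_zpowers, e]
    intro s hs
    rw [← hC, Subgroup.mem_centralizer_singleton_iff]
    obtain ⟨i, hi⟩ := Subgroup.mem_zpowers_iff.1 (hgen ▸ Subgroup.mem_zpowers x : x ∈ Subgroup.zpowers z')
    rw [← hi]
    exact ((show Commute s z' from hzc s hs).zpow_right i).eq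
  set N := Subgroup.normalizer (P₀ : Set G) with hN
  have hPN : P₀ ≤ N := Subgroup.le_normalizer
  have hgenP : ∀ g : G, g ∈ P₀ → g ≠ 1 → Subgroup.zpowers g = P₀ := by
    intro g hg hg1
    refine Subgroup.eq_of_le_of_card_ge (Subgroup.zpowers_le.2 hg) ?_
    have hd := Subgroup.orderOf_dvd_natCard P₀ hg
    rw [hP₀c] at hd
    rcases (Nat.dvd_prime hp).1 hd with e | e
    · exact absurd (orderOf_eq_one_iff.1 e) hg1
    · rw [hP₀c, Nat.card_zpowers, e]
  set e := P₀.relIndex N with he
  have hNcard : p * e = Nat.card N := by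
    rw [← hP₀c, he, Subgroup.relIndex, ← (P₀.subgroupOf N).card_mul_index,
      Nat.card_congr (Subgroup.subgroupOfEquivOfLe hPN).toEquiv]
  -- each class of elements of order `p` meets `P₀` in `e` elements
  have hfib : ∀ g ∈ P₀, g ≠ 1 → (Finset.univ.filter fun y : G => y ∈ P₀ ∧ IsConj g y).card = e := by
    intro g hg hg1
    have hsub : (Finset.univ.filter fun y : G => y ∈ P₀ ∧ IsConj g y) = (Finset.univ.filter fun n : G => n ∈ N).image (fun n => n * g * n⁻¹) := by
      ext y
      simp only [Finset.mem_filter, Finset.mem_univ, true_and, Finset.mem_image]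
      constructor
      · rintro ⟨hy, hgy⟩
        obtain ⟨c, hc⟩ := isConj_iff.1 hgy
        refine ⟨c, ?_, hc⟩
        have hy1 : y ≠ 1 := fun e' => hg1 (isConj_one_left.1 (e' ▸ hgy))
        rw [hN, Subgroup.mem_normalizer_iff]
        intro w
        rw [← hgenP g hg hg1]
        have hmap : (Subgroup.zpowers g).map (MulAut.conj c).toMonoidHom = Subgroup.zpowers g := by
          rw [MonoidHom.map_zpowers]
          show Subgroup.zpowers (c * g * c⁻¹) = _
          rw [hc, hgenP y hy hy1, hgenP g hg hg1]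
        conv_rhs => rw [← hmap, Subgroup.mem_map]
        exact ⟨fun hw => ⟨w, hw, rfl⟩, fun ⟨w', hw', e'⟩ => by
          have : w' = w := (MulAut.conj c).injective e'
          exact this ▸ hw'⟩
      · rintro ⟨n, hn, rfl⟩
        rw [hN, Subgroup.mem_normalizer_iff] at hn
        exact ⟨(hn g).1 hg, isConj_iff.2 ⟨n, rfl⟩⟩
    have hCg : ∀ n : G, n * g * n⁻¹ = g ↔ n ∈ P₀ := by
      intro n
      rw [mul_inv_eq_iff_eq_mul]
      constructor
      · intro h
        rw [← hC, Subgroup.mem_centralizer_singleton_iff]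
        obtain ⟨i, hi⟩ := Subgroup.mem_zpowers_iff.1 (hgenP g hg hg1 ▸ Subgroup.mem_zpowers x : x ∈ Subgroup.zpowers g)
        rw [← hi]
        exact ((show Commute n g from h).zpow_right i).eq
      · intro hn
        obtain ⟨i, hi⟩ := Subgroup.mem_zpowers_iff.1 (hgenP g hg hg1 ▸ hn : n ∈ Subgroup.zpowers g)
        rw [← hi]; exact ((Commute.refl g).zpow_left i).eq
    have hfibre : ∀ y ∈ (Finset.univ.filter fun n : G => n ∈ N).image (fun n => n * g * n⁻¹),
        ((Finset.univ.filter fun n : G => n ∈ N).filter fun n => n * g * n⁻¹ = y).card = p := by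
      intro y hy
      obtain ⟨n, hn, rfl⟩ := Finset.mem_image.1 hy
      rw [← hP₀c, Nat.card_eq_fintype_card, Fintype.card_subtype]
      have hnN : n ∈ N := (Finset.mem_filter.1 hn).2
      refine Finset.card_bij' (fun m _ => n⁻¹ * m) (fun m _ => n * m) ?_ ?_ ?_ ?_
      · intro m hm
        simp only [Finset.mem_filter, Finset.mem_univ, true_and] at hm ⊢
        rw [← hCg]
        calc n⁻¹ * m * g * (n⁻¹ * m)⁻¹ = n⁻¹ * (m * g * m⁻¹) * n := by group
          _ = g := by rw [hm.2]; group
      · intro m hm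
        simp only [Finset.mem_filter, Finset.mem_univ, true_and] at hm ⊢
        refine ⟨N.mul_mem hnN (hPN hm), ?_⟩
        calc n * m * g * (n * m)⁻¹ = n * (m * g * m⁻¹) * n⁻¹ := by group
          _ = n * g * n⁻¹ := by rw [(hCg m).2 hm]
      · intro m _; exact mul_inv_cancel_left n m
      · intro m _; exact inv_mul_cancel_left n m
    have h1 := Finset.card_eq_sum_card_image (fun n => n * g * n⁻¹) (Finset.univ.filter fun n : G => n ∈ N)
    rw [Finset.sum_const_nat hfibre, ← hsub, ← Fintype.card_subtype, Fintype.card_eq_nat_card] at h1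
    have h2 : Nat.card {n : G // n ∈ N} = p * e := hNcard.symm
    rw [h2, mul_comm] at h1
    exact (Nat.eq_of_mul_eq_mul_right hp.pos h1).symm
  have hte : t * e = p - 1 := by
    haveI : Fintype (ConjClasses G) := Fintype.ofFinite _
    let T : Finset (ConjClasses G) := Finset.univ.filter fun C => ∃ g ∈ C.carrier, orderOf g = p
    have hT : T.card = t := by
      rw [← ht, Nat.card_eq_fintype_card, Fintype.card_subtype]
    have hA : ((Finset.univ.filter fun y : G => y ∈ P₀).erase 1).card = p - 1 := by
      rw [Finset.card_erase_of_mem (Finset.mem_filter.2 ⟨Finset.mem_univ _, P₀.one_mem⟩), ← Fintype.card_subtype,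
        Fintype.card_eq_nat_card]
      show Nat.card P₀ - 1 = p - 1
      rw [hP₀c]
    rw [← hA, ← hT]
    have hmaps : ∀ y ∈ (Finset.univ.filter fun y : G => y ∈ P₀).erase 1, ConjClasses.mk y ∈ T := by
      intro y hy
      obtain ⟨hy1, hy'⟩ := Finset.mem_erase.1 hy
      have hyP := (Finset.mem_filter.1 hy').2
      refine Finset.mem_filter.2 ⟨Finset.mem_univ _, y, ConjClasses.mem_carrier_mk, ?_⟩
      rw [← Nat.card_zpowers, hgenP y hyP hy1, hP₀c]
    rw [Finset.card_eq_sum_card_fiberwise hmaps]
    rw [Finset.sum_const_nat]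
    intro C hC'
    obtain ⟨g₀, hg₀, hord⟩ := (Finset.mem_filter.1 hC').2
    obtain ⟨S', hS'⟩ := (IsPGroup.of_card (n := 1) (by rw [Nat.card_zpowers, hord, pow_one]) : IsPGroup p (Subgroup.zpowers g₀)).exists_le_sylow
    obtain ⟨a, ha⟩ := MulAction.exists_smul_eq G S' S
    have hgP : a * g₀ * a⁻¹ ∈ P₀ := by
      rw [← hSeq, ← ha]
      exact ⟨g₀, hS' (Subgroup.mem_zpowers g₀), rfl⟩
    have hg1 : a * g₀ * a⁻¹ ≠ 1 := by
      intro e'
      rw [conj_eq_one_iff] at e'
      rw [e', orderOf_one] at hord
      exact hp.one_lt.ne hord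
    rw [← hfib _ hgP hg1]
    refine congrArg Finset.card (Finset.ext fun y => ?_)
    have hCy : C = ConjClasses.mk (a * g₀ * a⁻¹) := by
      rw [← ConjClasses.mem_carrier_iff_mk_eq.1 hg₀]
      exact ConjClasses.mk_eq_mk_iff_isConj.2 (isConj_iff.2 ⟨a, rfl⟩)
    simp only [Finset.mem_filter, Finset.mem_erase, Finset.mem_univ, true_and, hCy, ConjClasses.mk_eq_mk_iff_isConj]
    exact ⟨fun h => ⟨h.1.2, h.2.symm⟩, fun h => ⟨⟨fun e' => hg1 (isConj_one_left.1 (e' ▸ h.2)), h.1⟩, h.2.symm⟩⟩
  -- the commutator index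
  set q := (commutator G).index with hq
  have hmod : ∀ c y : G, c * y * c⁻¹ * y⁻¹ ∈ commutator G := fun c y =>
    Subgroup.commutator_mem_commutator (Subgroup.mem_top c) (Subgroup.mem_top y)
  by_cases hpq : p ∣ q
  · have hnot : ∀ y ∈ P₀, y ∈ commutator G → y = 1 := by
      intro y hy hy'
      by_contra hy1
      have hle : P₀ ≤ commutator G := hgenP y hy hy1 ▸ Subgroup.zpowers_le.2 hy'
      have h1 := Subgroup.index_dvd_of_le hle
      rw [← hSeq] at h1
      exact S.not_dvd_index (hpq.trans h1)
    have he1 : e = 1 := by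
      rw [he, Subgroup.relIndex_eq_one]
      intro n hn
      rw [← hC, Subgroup.mem_centralizer_singleton_iff, ← mul_inv_eq_iff_eq_mul, ← mul_inv_eq_one]
      rw [hN, Subgroup.mem_normalizer_iff] at hn
      exact hnot _ (P₀.mul_mem ((hn x).1 (Subgroup.mem_zpowers x)) (P₀.inv_mem (Subgroup.mem_zpowers x))) (hmod n x)
    have hqp : q ≤ p := by
      have h1 : (Subgroup.centralizer ({x} : Set G)).index ≤ Nat.card (commutator G) := by
        rw [← CfsgLib.Char.card_isConj]
        refine Nat.card_le_card_of_injective (fun y => (⟨y.1 * x⁻¹, ?_⟩ : commutator G)) ?_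
        · obtain ⟨c, hc⟩ := isConj_iff.1 y.2
          rw [← hc]; exact hmod c x
        · intro y y' h
          exact Subtype.ext (mul_right_cancel (congrArg Subtype.val h))
      have h2 := Subgroup.index_mul_card (Subgroup.centralizer ({x} : Set G))
      have h3 := Subgroup.index_mul_card (commutator G)
      rw [hC, hP₀c] at h2
      rw [hC] at h1
      rw [← hq] at h3
      refine Nat.le_of_mul_le_mul_right ?_ (Nat.card_pos (α := commutator G))
      rw [h3, ← h2, mul_comm]
      exact Nat.mul_le_mul_left p h1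
    have hqeq : q = p := le_antisymm hqp (Nat.le_of_dvd (Nat.pos_of_ne_zero (Subgroup.FiniteIndex.index_ne_zero (H := commutator G))) hpq)
    rw [he1, mul_one] at hte
    exact ⟨fun h => absurd hte h, fun _ => hqeq⟩
  · have hxd : x ∈ commutator G := by
      rw [← QuotientGroup.eq_one_iff, ← orderOf_eq_one_iff]
      have h1 : orderOf (x : G ⧸ commutator G) ∣ p := hx ▸ orderOf_map_dvd (QuotientGroup.mk' (commutator G)) x
      have h2 : orderOf (x : G ⧸ commutator G) ∣ q := by
        rw [hq, Subgroup.index_eq_card]; exact orderOf_dvd_natCard _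
      exact Nat.eq_one_of_dvd_coprimes (hp.coprime_iff_not_dvd.2 hpq) h1 h2
    have hle : P₀ ≤ commutator G := Subgroup.zpowers_le.2 hxd
    have hfr : N ⊔ commutator G = ⊤ := by
      have h1 : Subgroup.normalizer ((S : Subgroup G) : Set G) ⊔ commutator G = ⊤ := Sylow.normalizer_sup_eq_top' S (hSeq ▸ hle)
      rw [hSeq] at h1
      exact h1
    have hqe : q ∣ e := by
      have h1 : q = (commutator G).relIndex N := by
        rw [hq, ← Subgroup.relIndex_top_right, ← hfr, Subgroup.relIndex_sup_right]
      rw [h1, he]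
      exact Subgroup.relIndex_dvd_of_le_left N hle
    have hepos : 0 < e := by
      rcases Nat.eq_zero_or_pos e with e0 | e0
      · rw [e0, mul_zero] at hte; have := hp.two_le; omega
      · exact e0
    refine ⟨fun _ => ?_, fun h => ?_⟩
    · rw [← hte, mul_comm t e]
      exact Nat.mul_le_mul_right t (Nat.le_of_dvd hepos hqe)
    · exfalso
      rw [h] at hte
      have he1 : e = 1 := Nat.eq_of_mul_eq_mul_left (show 0 < p - 1 by have := hp.two_le; omega) (by rw [hte, mul_one])
      have hNP : N ≤ P₀ := by rwa [he, Subgroup.relIndex_eq_one] at he1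
      have hSC : Subgroup.normalizer ((S : Subgroup G) : Set G) ≤ Subgroup.centralizer ((S : Subgroup G) : Set G) := by
        rw [hSeq]
        intro n hn
        refine Subgroup.mem_centralizer_iff.2 fun y hy => ?_
        obtain ⟨i, hi⟩ := Subgroup.mem_zpowers_iff.1 (hNP hn)
        obtain ⟨j, hj⟩ := Subgroup.mem_zpowers_iff.1 (show y ∈ Subgroup.zpowers x from hy)
        rw [← hi, ← hj]; exact zpow_mul_comm x j i
      set K := (MonoidHom.transferSylow S hSC).ker
      have hK : K.IsComplement' (S : Subgroup G) := MonoidHom.ker_transferSylow_isComplement' S hSC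
      have hab : commutator G ≤ K := by
        refine (Subgroup.Normal.quotient_commutative_iff_commutator_le (N := K)).1 ?_
        haveI : IsCyclic (G ⧸ K) := isCyclic_of_prime_card (p := p) (by
          rw [← Subgroup.index_eq_card, hK.symm.index_eq_card, hSeq, hP₀c])
        exact ⟨⟨fun a b => (IsCyclic.commGroup (α := G ⧸ K)).mul_comm a b⟩⟩
      exact hpq (by
        have h1 := Subgroup.index_dvd_of_le hab
        rwa [hK.symm.index_eq_card, hSeq, hP₀c, ← hq] at h1)

end Cfsg.Agent.S4495
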