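import Cfsg.Statements.S4497
import Cfsg.Agent.Char.SelfCentPrime
-- import your own Cfsg.Agent.* helpers here

set_option autoImplicit false
open Cfsg

namespace Cfsg.Agent.S4497

/-- Let the finite group G contain an element x of prime order p with C_G(x) = ⟨x⟩, let t be the number of conjugacy classes of elements of order p, and let S* = O_{p′}(G) be the largest normal subgroup of order prime to p. Then S* ≤ G′; if t ≠ p − 1 the quotient G′/S* is simple (in particular non-trivial); if t = p − 1 then G′ = S*. -/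
theorem result {G : Type*} [Group G] [Finite G] (p : ℕ) (hp : p.Prime) (x : G) (hx : orderOf x = p) (hC : Subgroup.centralizer ({x} : Set G) = Subgroup.zpowers x) (t : ℕ) (ht : Nat.card {C : ConjClasses G // ∃ g ∈ C.carrier, orderOf g = p} = t) : Cfsg.pPrimeCore p G ≤ commutator G ∧ (t ≠ p - 1 → ∀ h : ((Cfsg.pPrimeCore p G).subgroupOf (commutator G)).Normal, IsSimpleGroup (↥(commutator G) ⧸ (Cfsg.pPrimeCore p G).subgroupOf (commutator G))) ∧ (t = p - 1 → commutator G = Cfsg.pPrimeCore p G) := by
  haveI := Fact.mk hp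
  haveI := CfsgLib.Solv.pPrimeCore_normal G p
  refine ⟨CfsgLib.Char.SelfCentPrime.core_le_commutator hp hx hC, fun htp h => ?_,
    fun htp => CfsgLib.Char.SelfCentPrime.commutator_eq_core hp hx hC ht htp⟩
  haveI := h
  have hxG := (CfsgLib.Char.SelfCentPrime.mem_commutator hp hx hC ht htp).1
  set K' := (Cfsg.pPrimeCore p G).subgroupOf (commutator G) with hK'
  have hxK : (⟨x, hxG⟩ : commutator G) ∉ K' := fun hh =>
    CfsgLib.Solv.not_dvd_card_pPrimeCore (p := p) (G := G)
      ((dvd_of_eq hx.symm).trans (Subgroup.orderOf_dvd_natCard _ (Subgroup.mem_subgroupOf.1 hh)))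
  haveI : Nontrivial (↥(commutator G) ⧸ K') :=
    ⟨⟨(⟨x, hxG⟩ : commutator G), 1, fun e => hxK ((QuotientGroup.eq_one_iff _).1 e)⟩⟩
  refine ⟨fun Mq hMq => ?_⟩
  haveI := hMq
  set M := Mq.comap (QuotientGroup.mk' K') with hM
  haveI : M.Normal := Subgroup.Normal.comap hMq _
  have hback : M.map (QuotientGroup.mk' K') = Mq :=
    Subgroup.map_comap_eq_self_of_surjective (QuotientGroup.mk'_surjective K') Mq
  by_cases hd : p ∣ Nat.card M
  · right
    rw [← hback, CfsgLib.Char.SelfCentPrime.eq_commutator_of_dvd hp hx hC ht htp hd]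
    exact Subgroup.map_top_of_surjective _ (QuotientGroup.mk'_surjective K')
  · left
    rw [← hback, Subgroup.map_eq_bot_iff, QuotientGroup.ker_mk']
    have h1 : M.map (commutator G).subtype ≤ Cfsg.pPrimeCore p G ⊓ commutator G := by
      rw [← CfsgLib.Solv.map_pPrimeCore_subtype_eq_inf]
      exact Subgroup.map_mono
        (CfsgLib.Solv.le_pPrimeCore ((hp.coprime_iff_not_dvd.2 hd).symm))
    intro g hg
    exact Subgroup.mem_subgroupOf.2 (h1 ⟨g, hg, rfl⟩).1

end Cfsg.Agent.S4497
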