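import Cfsg.Statements.S4498
import Cfsg.Agent.Blk.Orth
import Cfsg.Agent.Blk.Regular

set_option autoImplicit false
open Cfsg

namespace Cfsg.Agent.S4498
open scoped CfsgLib.Char ComplexConjugate


/-- Let p and q be distinct primes dividing the order of the finite group G, and suppose G has no element of order p·q. Fix maximal ideals M_p over p and M_q over q of the algebraic integers. Then the principal p-block and the principal q-block of G have a non-principal irreducible character in common. -/
theorem result {G : Type*} [Group G] [Finite G] (p q : ℕ) [Fact p.Prime] [Fact q.Prime] (hpq : p ≠ q) (hp : p ∣ Nat.card G) (hq : q ∣ Nat.card G) (hno : ∀ g : G, orderOf g ≠ p * q) (Mp Mq : Ideal Cfsg.AlgInt) (hMp : Cfsg.IsPModular p Mp) (hMq : Cfsg.IsPModular q Mq) : ∃ χ : Cfsg.IrrCharacter G, (χ : G → ℂ) ≠ (fun _ => 1) ∧ χ ∈ Cfsg.principalBlock Mp G ∧ χ ∈ Cfsg.principalBlock Mq G := by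
  classical
  haveI := Fintype.ofFinite G
  haveI := hMp.2.1.isPrime
  haveI := hMq.2.1.isPrime
  open CfsgLib.Blk CfsgLib.Char in
  · have hpp : p.Prime := Fact.out
    have hqq : q.Prime := Fact.out
    obtain ⟨x, hx⟩ := exists_prime_orderOf_dvd_card' p hp
    obtain ⟨y, hy⟩ := exists_prime_orderOf_dvd_card' q hq
    have hxp : IsPPart p x x := ⟨1, mul_one x, Commute.one_right x, ⟨1, by rw [hx, pow_one]⟩, by simpa using hpp.ne_one⟩
    have hyp : IsPPart q y y := ⟨1, mul_one y, Commute.one_right y, ⟨1, by rw [hy, pow_one]⟩, by simpa using hqq.ne_one⟩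
    by_contra hnone
    push Not at hnone
    let Fp : G → ℂ := fun g => ∑ᶠ χ ∈ Cfsg.principalBlock Mp G, (χ : G → ℂ) g * conj ((χ : G → ℂ) x)
    let Fq : G → ℂ := fun g => ∑ᶠ χ ∈ Cfsg.principalBlock Mq G, (χ : G → ℂ) g * conj ((χ : G → ℂ) y)
    have hFp : ∀ g, Fp g ≠ 0 → p ∣ orderOf g := by
      intro g hne
      by_contra hd
      refine hne (block_orth hMp isPBlock_principalBlock (isPPart_one_of_regular hd) hxp fun hc => ?_)
      rw [isConj_one_right] at hc
      rw [hc, orderOf_one] at hx
      exact hpp.ne_one hx.symm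
    have hFq : ∀ g, Fq g ≠ 0 → q ∣ orderOf g := by
      intro g hne
      by_contra hd
      refine hne (block_orth hMq isPBlock_principalBlock (isPPart_one_of_regular hd) hyp fun hc => ?_)
      rw [isConj_one_right] at hc
      rw [hc, orderOf_one] at hy
      exact hqq.ne_one hy.symm
    have h0 : classInner Fp Fq = 0 := by
      rw [classInner_def]
      refine mul_eq_zero_of_right _ (Finset.sum_eq_zero fun g _ => ?_)
      by_contra hne
      obtain ⟨hgp, hgq⟩ := mul_ne_zero_iff.1 hne
      rw [map_ne_zero] at hgq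
      have hd : p * q ∣ orderOf g := ((Nat.coprime_primes hpp hqq).2 hpq).mul_dvd_of_dvd_of_dvd (hFp g hgp) (hFq g hgq)
      exact hno (g ^ (orderOf g / (p * q))) (orderOf_pow_orderOf_div (orderOf_pos g).ne' hd)
    have hexp : ∀ (A : Set (Cfsg.IrrCharacter G)) (z : G), (fun g => ∑ᶠ χ ∈ A, (χ : G → ℂ) g * conj ((χ : G → ℂ) z)) =
        ∑ χ : Cfsg.IrrCharacter G, (if χ ∈ A then conj (χ.1 z) else 0) • χ.1 := by
      intro A z
      ext g
      rw [finsum_mem_eq_sum_ite, Finset.sum_apply]
      refine Finset.sum_congr rfl fun χ _ => ?_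
      split_ifs <;> simp [mul_comm]
    rw [show Fp = _ from hexp _ x, show Fq = _ from hexp _ y, classInner_sum_left] at h0
    simp only [classInner_smul_left, classInner_sum_right, classInner_smul_right, irrChar_inner, mul_ite, mul_one, mul_zero,
      Finset.sum_ite_eq, Finset.mem_univ, if_true] at h0
    rw [Finset.sum_eq_single (⟨_, isIrr_one⟩ : Cfsg.IrrCharacter G)] at h0
    · rw [if_pos one_mem_principalBlock, if_pos one_mem_principalBlock] at h0
      simp at h0
    · intro χ _ hne
      by_cases h1 : χ ∈ Cfsg.principalBlock Mp G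
      · simp [hnone χ (fun e => hne (Subtype.ext e)) h1]
      · simp [h1]
    · intro h; exact absurd (Finset.mem_univ _) h

end Cfsg.Agent.S4498
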