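import Cfsg.Statements.S4499
import Cfsg.Agent.Blk.Bounds

set_option autoImplicit false
open Cfsg

namespace Cfsg.Agent.S4499

/-- Let G be a finite group whose order has p-part p^a (a ≥ 1), and fix a maximal ideal M of the algebraic integers containing p. If the degree of one irreducible character of a p-block B is divisible by p^(a−1), then the degree of every irreducible character in B is divisible by p^(a−1) (so B has defect at most 1). -/
theorem result {G : Type*} [Group G] [Finite G] (p : ℕ) [Fact p.Prime] (M : Ideal Cfsg.AlgInt) (hM : Cfsg.IsPModular p M) (hpa : p ∣ Nat.card G) (B : Set (Cfsg.IrrCharacter G)) (hB : Cfsg.IsPBlock M B) (χ : Cfsg.IrrCharacter G) (hχ : χ ∈ B) (hdiv : p ^ ((Nat.card G).factorization p - 1) ∣ Cfsg.charDegree (χ : G → ℂ)) (ψ : Cfsg.IrrCharacter G) (hψ : ψ ∈ B) : p ^ ((Nat.card G).factorization p - 1) ∣ Cfsg.charDegree (ψ : G → ℂ) := by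
  classical
  haveI := hM.2.1.isPrime
  have hd := CfsgLib.Blk.blockDefect_le (p := p) hM B
  have key : ∀ x : Cfsg.IrrCharacter G, x ∈ B → (Cfsg.charDegree (x : G → ℂ)).factorization p =
      (Nat.card G).factorization p - Cfsg.blockDefect p B + Cfsg.blockHeight p B (x : G → ℂ) :=
    fun x hx => CfsgLib.Blk.degExp_eq_height_add hM hB hx
  have hpos := fun x : Cfsg.IrrCharacter G => CfsgLib.Char.charDegree_pos x.2
  rw [(Fact.out : p.Prime).pow_dvd_iff_le_factorization (hpos χ).ne'] at hdiv
  rw [(Fact.out : p.Prime).pow_dvd_iff_le_factorization (hpos ψ).ne']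
  rw [key χ hχ] at hdiv
  rw [key ψ hψ]
  rcases Nat.eq_zero_or_pos (Cfsg.blockHeight p B (χ : G → ℂ)) with h0 | h0
  · omega
  · have := (CfsgLib.Blk.height_bounds hM hB hχ h0).2
    have hd' : Cfsg.blockDefect p B ≤ (Nat.card G).factorization p := hd
    omega

end Cfsg.Agent.S4499
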