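import Cfsg.Statements.S4500
import Cfsg.Agent.Blk.Bounds
import Cfsg.Agent.Blk.Criterion
import Cfsg.Agent.Blk.Regular
import Cfsg.Agent.Char.Burnside
import Cfsg.Agent.Char.PPrimeDegree

set_option autoImplicit false
open Cfsg

namespace Cfsg.Agent.S4500
open CfsgLib.Char in
theorem key {G : Type*} [Group G] [Finite G] [Nontrivial G] (p q r a b c : ℕ) (hp : p.Prime)
    (hq : q.Prime) (hr : r.Prime) (hpr : p ≠ r) (ha : a ≤ 2)
    (hG : Nat.card G = p ^ a * q ^ b * r ^ c) (hpq : p ≠ q) :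
    ∃ χ : Cfsg.IrrCharacter G, (χ : G → ℂ) ≠ (fun _ => 1) ∧
      ∃ k : ℕ, Cfsg.charDegree (χ : G → ℂ) = q ^ k := by
  classical
  haveI := Fintype.ofFinite G
  rcases Nat.eq_zero_or_pos a with rfl | ha0
  · have hs := solvable_of_card_two_primes q r b c hq hr (by rw [hG]; simp)
    obtain ⟨x, hx⟩ := SetLike.exists_not_mem_of_ne_top (commutator G)
      (Group.IsSolvable.commutator_lt_top_of_nontrivial (G := G)).ne rfl
    obtain ⟨μ, hμ⟩ := exists_linear_ne_one hx
    refine ⟨⟨_, isIrr_linear μ⟩, fun h => hμ (Units.ext ?_), 0, ?_⟩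
    · simpa using congrFun h x
    · rw [pow_zero]
      exact charDegree_eq (by simp)
  haveI := Fact.mk hp
  obtain ⟨M, hM⟩ := CfsgLib.Blk.exists_isPModular hp
  haveI : M.IsPrime := hM.2.1.isPrime
  have hpG : p ∣ Nat.card G :=
    hG ▸ dvd_mul_of_dvd_left (dvd_mul_of_dvd_left (dvd_pow_self p ha0.ne') _) _
  have hB : IsPBlock M (principalBlock M G) := CfsgLib.Blk.isPBlock_principalBlock
  have hfac : (Nat.card G).factorization p = a := by
    rw [hG, Nat.factorization_mul (mul_ne_zero (pow_ne_zero _ hp.ne_zero) (pow_ne_zero _ hq.ne_zero))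
      (pow_ne_zero _ hr.ne_zero), Nat.factorization_mul (pow_ne_zero _ hp.ne_zero)
      (pow_ne_zero _ hq.ne_zero), hp.factorization_pow, hq.factorization_pow, hr.factorization_pow]
    simp [hpq.symm, hpr.symm]
  have hnp : ∀ χ ∈ principalBlock M G, ¬ p ∣ charDegree (χ : G → ℂ) := by
    intro χ hχ hd
    have h1 : 1 ≤ (charDegree (χ : G → ℂ)).factorization p :=
      (hp.pow_dvd_iff_le_factorization (charDegree_pos χ.2).ne').1 (by simpa using hd)
    have h0 : sInf ((fun ψ : IrrCharacter G => (charDegree (ψ : G → ℂ)).factorization p) ''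
        principalBlock M G) = 0 := by
      refine Nat.sInf_eq_zero.2 (Or.inl ⟨_, CfsgLib.Blk.one_mem_principalBlock, ?_⟩)
      show (charDegree (fun _ : G => (1 : ℂ))).factorization p = 0
      rw [charDegree_eq (χ := fun _ : G => (1 : ℂ)) (n := 1) (by simp)]
      simp
    have := (CfsgLib.Blk.height_bounds (p := p) hM hB hχ
      (by rw [blockHeight, h0]; omega)).2
    rw [blockHeight, blockDefect, h0, hfac] at this
    omega
  obtain ⟨v, hv⟩ := exists_prime_orderOf_dvd_card' p hpG
  have hsum := CfsgLib.Blk.blockCoeff_eq_zero_of_singular (p := p) hM hB (v := v) (by rw [hv])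
  rw [blockCoeff, mul_eq_zero, finsum_mem_eq_finite_toFinset_sum _ (Set.toFinite _)] at hsum
  replace hsum := hsum.resolve_left (inv_ne_zero (Nat.cast_ne_zero.2 Nat.card_pos.ne'))
  set one : IrrCharacter G := ⟨_, isIrr_one⟩ with hone
  have hmem : one ∈ (Set.toFinite (principalBlock M G)).toFinset := by
    simpa using CfsgLib.Blk.one_mem_principalBlock
  by_cases hex : ∃ χ ∈ principalBlock M G, χ ≠ one ∧ ¬ r ∣ charDegree (χ : G → ℂ)
  · obtain ⟨χ, hχ, hne, hr'⟩ := hex
    refine ⟨χ, fun h => hne (Subtype.ext h), ?_⟩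
    have hd := degree_dvd_card χ.2
    rw [hG] at hd
    have hd1 : charDegree (χ : G → ℂ) ∣ q ^ b := by
      refine (Nat.Coprime.dvd_of_dvd_mul_left ?_ (Nat.Coprime.dvd_of_dvd_mul_right ?_ hd))
      · exact ((Nat.Coprime.pow_right _ ((hp.coprime_iff_not_dvd.2 (hnp χ hχ)).symm)))
      · exact ((Nat.Coprime.pow_right _ ((hr.coprime_iff_not_dvd.2 hr').symm)))
    obtain ⟨k, -, hk⟩ := (Nat.dvd_prime_pow hq).1 hd1
    exact ⟨k, hk⟩
  · exfalso
    push Not at hex
    rw [← Finset.add_sum_erase _ _ hmem] at hsum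
    have hone1 : (one : G → ℂ) 1 = 1 := rfl
    have hone2 : (one : G → ℂ) v = 1 := rfl
    simp only [hone1, hone2, map_one, one_mul] at hsum
    have hint : IsIntegral ℤ ((1 : ℕ) / (r : ℕ) : ℂ) := by
      have hr0 : (r : ℂ) ≠ 0 := by exact_mod_cast hr.ne_zero
      have : ((1 : ℕ) / (r : ℕ) : ℂ) = - ∑ χ ∈ (Set.toFinite (principalBlock M G)).toFinset.erase
          one, ((charDegree (χ : G → ℂ) / r : ℕ) : ℂ) * (starRingEnd ℂ) ((χ : G → ℂ) v) := by
        field_simp
        rw [Finset.mul_sum]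
        have e : ∀ χ ∈ (Set.toFinite (principalBlock M G)).toFinset.erase one,
            (χ : G → ℂ) 1 * (starRingEnd ℂ) ((χ : G → ℂ) v) =
            ((charDegree (χ : G → ℂ) / r : ℕ) : ℂ) * (starRingEnd ℂ) ((χ : G → ℂ) v) * r := by
          intro χ hχ
          rw [Finset.mem_erase, Set.Finite.mem_toFinset] at hχ
          rw [irr_one_eq χ.2, Nat.cast_div (hex χ hχ.2 hχ.1) hr0]
          field_simp
        rw [Finset.sum_congr rfl e, ← Finset.sum_mul, mul_comm _ (r : ℂ), Finset.mul_sum] at hsum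
        push_cast
        linear_combination hsum
      rw [this]
      refine (IsIntegral.sum _ fun χ _ => ?_).neg
      rw [← char_conj_eq (isCharacter_of_isIrr χ.2)]
      exact (_root_.isIntegral_natCast _).mul (char_isIntegral (isCharacter_of_isIrr χ.2) _)
    have := dvd_of_isIntegral_div hr.ne_zero hint
    exact hr.ne_one (Nat.dvd_one.1 this)


/-- Let G be a non-trivial finite group of order p^a · q^b · r^c with p, q, r distinct primes and a ≤ 2. Then G has a non-principal irreducible character whose degree is a power of q, and a non-principal irreducible character whose degree is a power of r; the power may be the zeroth, so a non-principal linear character serves for both. -/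
theorem result {G : Type*} [Group G] [Finite G] [Nontrivial G] (p q r a b c : ℕ) (hp : p.Prime) (hq : q.Prime) (hr : r.Prime) (hpq : p ≠ q) (hpr : p ≠ r) (hqr : q ≠ r) (ha : a ≤ 2) (hG : Nat.card G = p ^ a * q ^ b * r ^ c) : (∃ χ : Cfsg.IrrCharacter G, (χ : G → ℂ) ≠ (fun _ => 1) ∧ ∃ k : ℕ, Cfsg.charDegree (χ : G → ℂ) = q ^ k) ∧ ∃ χ : Cfsg.IrrCharacter G, (χ : G → ℂ) ≠ (fun _ => 1) ∧ ∃ k : ℕ, Cfsg.charDegree (χ : G → ℂ) = r ^ k := by
  refine ⟨key p q r a b c hp hq hr hpr ha hG hpq, key p r q a c b hp hr hq hpq ha ?_ hpr⟩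
  rw [hG]; ring

end Cfsg.Agent.S4500
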