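import Cfsg.Statements.S4505
import Cfsg.Agent.Blk.RegExpand

set_option autoImplicit false
open Cfsg

namespace Cfsg.Agent.S4505
open scoped CfsgLib.Char


/-- Let G be a finite group, p a prime and M a maximal ideal of the algebraic integers containing p. For every σ, the number of p-blocks of defect exactly σ is at most the number of conjugacy classes of p-regular elements whose centralizer has order divisible by p^σ but not by p^(σ+1). -/
theorem result {G : Type*} [Group G] [Finite G] (p : ℕ) [Fact p.Prime] (M : Ideal Cfsg.AlgInt) (hM : Cfsg.IsPModular p M) (σ : ℕ) : Nat.card {B : Set (Cfsg.IrrCharacter G) // Cfsg.IsPBlock M B ∧ Cfsg.blockDefect p B = σ} ≤ Nat.card {C : ConjClasses G // ∃ g : G, ConjClasses.mk g = C ∧ ¬ p ∣ orderOf g ∧ (Nat.card (Subgroup.centralizer ({g} : Set G))).factorization p = σ} := by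
  classical
  haveI := hM.2.1.isPrime
  haveI := Fintype.ofFinite G
  haveI : Fintype (ConjClasses G) := Fintype.ofFinite _
  have hout : ∀ g : G, IsConj (ConjClasses.mk g).out g := fun g =>
    ConjClasses.mk_eq_mk_iff_isConj.1 (Quotient.out_eq _)
  set β := {B : Set (Cfsg.IrrCharacter G) // Cfsg.IsPBlock M B ∧ Cfsg.blockDefect p B = σ}
  set γ := {C : ConjClasses G // ∃ g : G, ConjClasses.mk g = C ∧ ¬ p ∣ orderOf g ∧
    (Nat.card (Subgroup.centralizer ({g} : Set G))).factorization p = σ}
  haveI : Fintype β := Fintype.ofFinite _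
  let v : β → γ → CfsgLib.Blk.Res M := fun B C =>
    IsLocalRing.residue (CfsgLib.Blk.locRing M) ((CfsgLib.Blk.blockIdem hM B.2.1).coeff C.1.out)
  have hli : LinearIndependent (CfsgLib.Blk.Res M) v := by
    rw [Fintype.linearIndependent_iff]
    intro c hc B₀
    choose r hr using fun B : β => IsLocalRing.residue_surjective (R := CfsgLib.Blk.locRing M) (c B)
    obtain ⟨χ, hχ, -⟩ := CfsgLib.Blk.exists_height_zero hM B₀.2.1
    let y := ∑ B : β, r B • CfsgLib.Blk.blockIdem hM B.2.1
    have hy : CfsgLib.Blk.IsClassCoeff y :=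
      CfsgLib.Blk.isClassCoeff_sum _ _ fun B _ => (CfsgLib.Blk.isClassCoeff_blockIdem hM B.2.1).smul _
    have h1 : CfsgLib.Blk.omegaBar (χ : G → ℂ) y = c B₀ := by
      rw [CfsgLib.Blk.omegaBar, CfsgLib.Blk.omega_sum]
      simp only [CfsgLib.Blk.omega_smul, CfsgLib.Blk.omega_blockIdem]
      rw [Finset.sum_eq_single B₀]
      · rw [if_pos hχ, mul_one, CfsgLib.Blk.red_coe]; exact hr B₀
      · intro B _ hB
        rw [if_neg fun h => hB (Subtype.ext (CfsgLib.Blk.eq_of_mem_of_mem B.2.1 B₀.2.1 h hχ)), mul_zero]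
      · simp
    rw [← h1]
    refine CfsgLib.Blk.omegaBar_eq_zero_of_support χ.2 hy fun g hg => ?_
    simp only [y, MonoidAlgebra.coeff_sum, Finsupp.finset_sum_apply, map_sum, MonoidAlgebra.coeff_smul,
      Finsupp.smul_apply, smul_eq_mul, map_mul, hr]
    by_cases hx : ¬ p ∣ orderOf g ∧ (Nat.card (Subgroup.centralizer ({g} : Set G))).factorization p = σ
    · have h2 := congrFun hc ⟨ConjClasses.mk g, g, rfl, hx⟩
      simp only [Finset.sum_apply, Pi.smul_apply, smul_eq_mul, Pi.zero_apply, v] at h2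
      refine Eq.trans (Finset.sum_congr rfl fun B _ => ?_) h2
      obtain ⟨t, ht⟩ := isConj_iff.1 (hout g)
      congr 2
      nth_rw 1 [← ht]
      exact CfsgLib.Blk.isClassCoeff_blockIdem hM B.2.1 _ _
    · refine Finset.sum_eq_zero fun B _ => ?_
      have h3 : Cfsg.MemLocalIdeal M (Cfsg.blockCoeff B.1 g) := by
        by_contra z
        exact hx (B₀.2.2 ▸ CfsgLib.Blk.card_centralizer_of_support hM B₀.2.1 hχ B.2.1
          (B.2.2.trans B₀.2.2.symm) hg z)
      rw [CfsgLib.Blk.red_blockCoeff, (CfsgLib.Blk.red_eq_zero_iff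
        (CfsgLib.Blk.blockCoeff_mem hM B.2.1 _)).2 h3, mul_zero]
  haveI : Fintype γ := Fintype.ofFinite _
  have := hli.fintype_card_le_finrank
  rw [Module.finrank_pi] at this
  rwa [Nat.card_eq_fintype_card, Nat.card_eq_fintype_card]

end Cfsg.Agent.S4505
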