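import Cfsg.Statements.S4508
import Cfsg.Agent.Char.SelfCentPrime
import Cfsg.Agent.Blk.ExcSylow
-- import your own Cfsg.Agent.* helpers here

set_option autoImplicit false
open Cfsg

namespace Cfsg.Agent.S4508

section
open scoped ComplexConjugate

variable {G : Type*} [Group G] [Finite G]

theorem sum_invariants {n : ℕ} (ρ : Representation ℂ G (Fin n → ℂ)) (H : Subgroup G) [Fintype H] :
    ∃ a : ℕ, a ≤ n ∧ ∑ u : H, ρ.character (u : G) = (Nat.card H : ℂ) * a ∧
      (a = 0 → ∑ u : H, ρ (u : G) = 0) ∧ (a = n → ∀ u ∈ H, ρ u = 1) := by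
  classical
  have hc0 : (Nat.card H : ℂ) ≠ 0 := Nat.cast_ne_zero.2 Nat.card_pos.ne'
  let W : Submodule ℂ (Fin n → ℂ) := ⨅ u : H, LinearMap.ker (ρ (u : G) - 1)
  have hW : ∀ v, v ∈ W ↔ ∀ u : H, ρ (u : G) v = v := fun v => by
    simp [W, Submodule.mem_iInf, sub_eq_zero]
  set T := ∑ u : H, ρ (u : G) with hT
  have hfix : ∀ v, T v ∈ W := by
    intro v
    rw [hW]
    intro w
    rw [hT, LinearMap.sum_apply, map_sum]
    refine Fintype.sum_equiv (Equiv.mulLeft w) _ _ fun u => ?_
    rw [← Module.End.mul_apply, ← map_mul]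
    rfl
  have hproj : LinearMap.IsProj W ((Nat.card H : ℂ)⁻¹ • T) := by
    refine ⟨fun v => Submodule.smul_mem _ _ (hfix v), fun v hv => ?_⟩
    rw [LinearMap.smul_apply, hT, LinearMap.sum_apply, Finset.sum_congr rfl fun u _ => (hW v).1 hv u,
      Finset.sum_const, Finset.card_univ, ← Nat.cast_smul_eq_nsmul ℂ, smul_smul,
      Fintype.card_eq_nat_card, inv_mul_cancel₀ hc0, one_smul]
  refine ⟨Module.finrank ℂ W, ?_, ?_, ?_, ?_⟩
  · simpa using Submodule.finrank_le W
  · have h := hproj.trace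
    rw [map_smul, smul_eq_mul, hT, map_sum] at h
    show ∑ u : H, LinearMap.trace ℂ _ (ρ (u : G)) = _
    rw [← h, ← mul_assoc, mul_inv_cancel₀ hc0, one_mul]
  · intro h
    refine LinearMap.ext fun v => ?_
    have h2 := hfix v
    rw [Submodule.finrank_eq_zero.1 h, Submodule.mem_bot] at h2
    simpa using h2
  · intro h u hu
    have hWt : W = ⊤ := Submodule.eq_top_of_finrank_eq (by simpa using h)
    refine LinearMap.ext fun v => ?_
    have hv : v ∈ W := hWt ▸ Submodule.mem_top
    simpa using (hW v).1 hv ⟨u, hu⟩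

/-- A derived group in the kernel forces degree one. -/
theorem degree_one {n : ℕ} (ρ : Representation ℂ G (Fin n → ℂ)) [hirr : ρ.IsIrreducible]
    (h : ∀ g ∈ commutator G, ρ g = 1) : n = 1 := by
  classical
  haveI := Fintype.ofFinite G
  have hsc : ∀ g, ∃ c : ℂ, ‖c‖ = 1 ∧ ρ.character g = c * n := by
    intro g
    obtain ⟨c, hc⟩ := CfsgLib.Char.schur_scalar ρ (ρ g) (fun k v => by
      have h1 : ρ (g * k) = ρ (k * g) := by
        have : g * k = (g * k * g⁻¹ * k⁻¹) * (k * g) := by group
        rw [this, map_mul, h _ (by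
          rw [← commutatorElement_def]
          exact Subgroup.commutator_mem_commutator (Subgroup.mem_top g) (Subgroup.mem_top k)), one_mul]
      rw [map_mul, map_mul] at h1
      exact LinearMap.congr_fun h1 v)
    have hn0 : 0 < n := by simpa using CfsgLib.Char.finrank_pos_of_irreducible ρ
    have hpw : (c • (LinearMap.id : (Fin n → ℂ) →ₗ[ℂ] (Fin n → ℂ))) ^ orderOf g = 1 := by
      rw [← hc, ← map_pow, pow_orderOf_eq_one, map_one]
    refine ⟨c, CfsgLib.Char.norm_root (orderOf_pos g).ne' ?_, ?_⟩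
    · rw [← Module.End.one_eq_id, smul_pow, one_pow] at hpw
      have h1 := congrFun (LinearMap.congr_fun hpw (fun _ => (1 : ℂ))) ⟨0, hn0⟩
      simpa using h1
    · show LinearMap.trace ℂ _ (ρ g) = _
      rw [hc, map_smul, LinearMap.trace_id, smul_eq_mul]
      simp
  have h1 := CfsgLib.Char.irr_inner_self (χ := ρ.character) ⟨n, ρ, hirr, rfl⟩
  rw [CfsgLib.Char.classInner_def] at h1
  have h2 : ∀ g : G, ρ.character g * conj (ρ.character g) = (n : ℂ) ^ 2 := by
    intro g
    obtain ⟨c, hc, e⟩ := hsc g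
    rw [e, map_mul, Complex.conj_natCast]
    have : c * conj c = 1 := by rw [Complex.mul_conj']; simp [hc]
    linear_combination (n : ℂ) ^ 2 * this
  rw [Finset.sum_congr rfl fun g _ => h2 g, Finset.sum_const, Finset.card_univ, nsmul_eq_mul,
    Fintype.card_eq_nat_card, ← mul_assoc, inv_mul_cancel₀ (Nat.cast_ne_zero.2 Nat.card_pos.ne'),
    one_mul] at h1
  have : n ^ 2 = 1 := by exact_mod_cast h1
  exact (Nat.pow_eq_one.1 this).resolve_right (by norm_num)

theorem sum_split {M : Type*} [AddCommMonoid M] (H : Subgroup G) [Fintype H] [DecidableEq H]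
    (f : G → M) : ∑ u : H, f u = f 1 + ∑ u ∈ (Finset.univ : Finset H).erase 1, f u := by
  rw [← Finset.add_sum_erase _ _ (Finset.mem_univ (1 : H))]
  rfl

theorem prod_roots {e : ℕ} (he0 : 0 < e) (he : Even e) :
    ∏ η ∈ Polynomial.nthRootsFinset e (1 : ℂ), η = -1 := by
  classical
  set s := Polynomial.nthRootsFinset e (1 : ℂ) with hs
  have hm1 : (-1 : ℂ) ∈ s := by rw [hs, Polynomial.mem_nthRootsFinset he0, he.neg_one_pow]
  rw [← Finset.mul_prod_erase s _ hm1]
  have : ∏ η ∈ s.erase (-1), η = 1 := by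
    refine Finset.prod_involution (fun a _ => a⁻¹) ?_ ?_ ?_ ?_
    · intro a ha
      rw [Finset.mem_erase, hs, Polynomial.mem_nthRootsFinset he0] at ha
      refine mul_inv_cancel₀ fun h0 => ?_
      rw [h0, zero_pow he0.ne'] at ha
      exact zero_ne_one ha.2
    · intro a ha ha1 hh
      rw [Finset.mem_erase, hs, Polynomial.mem_nthRootsFinset he0] at ha
      have ha0 : a ≠ 0 := fun h0 => by rw [h0, zero_pow he0.ne'] at ha; exact zero_ne_one ha.2
      have h2 : a * a = 1 := by
        nth_rewrite 2 [← hh]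
        exact mul_inv_cancel₀ ha0
      rcases mul_self_eq_one_iff.1 h2 with h3 | h3
      · exact ha1 h3
      · exact ha.1 h3
    · intro a ha
      rw [Finset.mem_erase, hs, Polynomial.mem_nthRootsFinset he0] at ha ⊢
      exact ⟨fun h => ha.1 (by rw [← inv_inv a, h]; norm_num), by rw [inv_pow, ha.2, inv_one]⟩
    · intro a _; exact inv_inv a
  rw [this, mul_one]

end

end Cfsg.Agent.S4508

namespace Cfsg.Agent.S4508

set_option maxHeartbeats 1600000 in
/-- Let the finite group G contain an element x of prime order p with C_G(x) = ⟨x⟩, and let t be the number of conjugacy classes of elements of order p. If G has an irreducible character of degree p − 1, then t is even or the commutator subgroup has even index. -/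
theorem result {G : Type*} [Group G] [Finite G] (p : ℕ) (hp : p.Prime) (x : G) (hx : orderOf x = p) (hC : Subgroup.centralizer ({x} : Set G) = Subgroup.zpowers x) (t : ℕ) (ht : Nat.card {C : ConjClasses G // ∃ g ∈ C.carrier, orderOf g = p} = t) (χ : Cfsg.IrrCharacter G) (hχ : Cfsg.charDegree (χ : G → ℂ) + 1 = p) : Even t ∨ Even (commutator G).index := by
  classical
  haveI := Fact.mk hp
  letI := @CfsgLib.Char.fintypeIrrCharacter G _ _
  obtain ⟨χf, n, ρ, hirr, rfl⟩ := χ
  haveI := hirr
  have hdeg : Cfsg.charDegree ρ.character = n :=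
    CfsgLib.Char.charDegree_eq (by rw [Representation.char_one]; simp)
  rw [show ((⟨ρ.character, ⟨n, ρ, hirr, rfl⟩⟩ : Cfsg.IrrCharacter G) : G → ℂ) = ρ.character from rfl,
    hdeg] at hχ
  rcases hp.eq_two_or_odd' with hp2 | hpodd
  · right
    have hte := CfsgLib.Char.SelfCentPrime.t_mul_e hp hx hC ht
    have htp : t = p - 1 := by
      have := Nat.dvd_one.1 (Dvd.intro (CfsgLib.Char.SelfCentPrime.e x)
        (hte.trans (by rw [hp2])) : t ∣ 1)
      omega
    rw [(Cfsg.Agent.S4495.result p hp x hx hC t ht).2 htp, hp2]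
    exact even_two
  by_cases htev : Even t
  · exact Or.inl htev
  right
  have hte := CfsgLib.Char.SelfCentPrime.t_mul_e hp hx hC ht
  set e := CfsgLib.Char.SelfCentPrime.e x with he
  have hp3 : 3 ≤ p := by
    have := hp.two_le
    rcases hpodd with ⟨k, hk⟩
    omega
  have heev : Even e := by
    have h1 : Even (t * e) := by rw [hte]; exact Nat.Odd.sub_odd hpodd odd_one
    exact (Nat.even_mul.1 h1).resolve_left htev
  have he2 : 2 ≤ e := by
    rcases Nat.eq_zero_or_pos e with e0 | e0
    · rw [e0, mul_zero] at hte; omega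
    · rcases heev with ⟨k, hk⟩; omega
  haveI := Fintype.ofFinite G
  obtain ⟨P, hP⟩ := CfsgLib.Char.SelfCentPrime.exists_sylow hp hx hC
  haveI : Fintype ↥(P : Subgroup G) := Fintype.ofFinite _
  have hPc : Nat.card (P : Subgroup G) = p := by
    rw [hP, CfsgLib.Char.SelfCentPrime.card_zpowers hx]
  have hgenP : ∀ y ∈ (P : Subgroup G), y ≠ 1 →
      Subgroup.centralizer ({y} : Set G) = (P : Subgroup G) := fun y hy hy1 => by
    rw [hP] at hy ⊢; exact CfsgLib.Char.SelfCentPrime.centralizer_eq hp hx hC hy hy1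
  have hcard1 : ((Finset.univ : Finset ↥(P : Subgroup G)).erase 1).card = p - 1 := by
    rw [Finset.card_erase_of_mem (Finset.mem_univ _), Finset.card_univ, Fintype.card_eq_nat_card, hPc]
  -- a constant value on the non-identity elements
  have hconst : ∀ c : ℤ, (∀ y ∈ (P : Subgroup G), y ≠ 1 → ρ.character y = (c : ℂ)) →
      ∑ u : (P : Subgroup G), ρ (u : G) = 0 ∧ c = -1 := by
    intro c hc
    obtain ⟨a, han, hsum, ha0, haN⟩ := sum_invariants ρ (P : Subgroup G)
    rw [sum_split (P : Subgroup G) ρ.character, Finset.sum_congr rfl fun (u : ↥(P : Subgroup G)) hu =>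
      hc u u.2 (fun e1 => (Finset.mem_erase.1 hu).1 (Subtype.ext e1)), Finset.sum_const, hcard1, hPc,
      Representation.char_one, nsmul_eq_mul] at hsum
    have hn1 : p - 1 = n := by omega
    rw [hn1] at hsum
    simp only [Module.finrank_fintype_fun_eq_card, Fintype.card_fin] at hsum
    have hZ : (n : ℤ) * (1 + c) = (p : ℤ) * a := by
      have : (n : ℂ) * (1 + c) = (p : ℂ) * a := by rw [← hsum]; ring
      exact_mod_cast this
    have hpn : (n : ℤ) = (p : ℤ) - 1 := by omega
    have hd : (p : ℤ) ∣ (1 + c) :=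
      ⟨(1 + c) - a, by linear_combination -hZ + (1 + c) * hpn⟩
    obtain ⟨k, hk⟩ := hd
    have hak : (a : ℤ) = n * k := by
      have h2 : (p : ℤ) * a = p * (n * k) := by rw [← hZ, hk]; ring
      exact mul_left_cancel₀ (by omega) h2
    have hn0 : (0 : ℤ) < n := by omega
    have hk0 : 0 ≤ k := by
      by_contra hneg
      have h3 : (n : ℤ) * k ≤ n * (-1) := mul_le_mul_of_nonneg_left (by omega) hn0.le
      omega
    have hk1 : k ≤ 1 := by
      by_contra hneg
      have h3 : (n : ℤ) * 2 ≤ n * k := mul_le_mul_of_nonneg_left (by omega) hn0.le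
      omega
    rcases (show k = 0 ∨ k = 1 by omega) with rfl | rfl
    · exact ⟨ha0 (by simpa using hak), by omega⟩
    · exfalso
      have hker : x ∈ ρ.asGroupHom.ker ∧ ∀ g ∈ ρ.asGroupHom.ker, ρ g = 1 := by
        have h4 : ∀ g, g ∈ ρ.asGroupHom.ker ↔ ρ g = 1 := fun g => by
          rw [MonoidHom.mem_ker, Units.ext_iff]; rfl
        exact ⟨(h4 x).2 (haN (by simpa using hak) x (hP ▸ Subgroup.mem_zpowers x)),
          fun g => (h4 g).1⟩
      have hle := CfsgLib.Char.SelfCentPrime.commutator_le_of_dvd hp hx hC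
        ((dvd_of_eq hx.symm).trans (Subgroup.orderOf_dvd_natCard _ hker.1))
      have := degree_one ρ fun g hg => hker.2 g (hle hg)
      omega
  -- no invariants under the Sylow subgroup
  have hzero : ∑ u : (P : Subgroup G), ρ (u : G) = 0 := by
    obtain ⟨a, han, hsum, -, -⟩ := sum_invariants ρ (P : Subgroup G)
    by_cases ht1 : t = 1
    · -- one class: rational value
      rw [ht1, Nat.card_eq_one_iff_unique] at ht
      have hconj : ∀ y ∈ (P : Subgroup G), y ≠ 1 → ρ.character y = ρ.character x := by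
        intro y hy hy1
        have hyo : orderOf y = p := by
          rw [hP] at hy
          rw [← Nat.card_zpowers, CfsgLib.Char.SelfCentPrime.gen hp hx hy hy1,
            CfsgLib.Char.SelfCentPrime.card_zpowers hx]
        have := ht.1.elim ⟨ConjClasses.mk y, y, ConjClasses.mem_carrier_mk, hyo⟩
          ⟨ConjClasses.mk x, x, ConjClasses.mem_carrier_mk, hx⟩
        obtain ⟨g, hg⟩ := isConj_iff.1 (ConjClasses.mk_eq_mk_iff_isConj.1 (congrArg Subtype.val this))
        rw [← hg, Representation.char_conj]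
      rw [sum_split (P : Subgroup G) ρ.character, Finset.sum_congr rfl fun (u : ↥(P : Subgroup G)) hu =>
        hconj u u.2 (fun e1 => (Finset.mem_erase.1 hu).1 (Subtype.ext e1)), Finset.sum_const, hcard1,
        hPc, Representation.char_one, nsmul_eq_mul] at hsum
      simp only [Module.finrank_fintype_fun_eq_card, Fintype.card_fin] at hsum
      rw [show p - 1 = n by omega] at hsum
      have hn0 : (n : ℂ) ≠ 0 := Nat.cast_ne_zero.2 (by omega)
      obtain ⟨c, hc⟩ := CfsgLib.Char.exists_int_of_isIntegral_rat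
        (CfsgLib.Char.char_isIntegral ⟨n, ρ, rfl⟩ x) (((p : ℚ) * a - n) / n) (by
          push_cast
          rw [eq_div_iff hn0]
          linear_combination hsum)
      exact (hconst c fun y hy hy1 => (hconj y hy hy1).trans hc).1
    -- at least three classes: exceptional characters
    have ht3 : 3 ≤ t := by
      rcases Nat.eq_zero_or_pos t with t0 | t0
      · rw [t0, zero_mul] at hte; omega
      · rcases Nat.not_even_iff_odd.1 htev with ⟨k, hk⟩; omega
    have h3e : 3 * e ≤ p - 1 := hte ▸ Nat.mul_le_mul_right e ht3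
    obtain ⟨M, hM⟩ := CfsgLib.Blk.exists_isPModular hp
    haveI := hM.2.1.isPrime
    haveI : IsCyclic (P : Subgroup G) := isCyclic_of_prime_card hPc
    have hab : IsMulCommutative ↥(P : Subgroup G) := inferInstance
    have hcP : Subgroup.centralizer ((P : Subgroup G) : Set G) = (P : Subgroup G) := by
      rw [hP, Subgroup.zpowers_eq_closure, Subgroup.centralizer_closure, hC,
        ← Subgroup.zpowers_eq_closure]
    have hfrob : ∀ y : G, y ∈ (P : Subgroup G) → y ≠ 1 →
        Subgroup.centralizer ({y} : Set G) ⊓ Subgroup.normalizer ((P : Subgroup G) : Set G) =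
          Subgroup.centralizer ((P : Subgroup G) : Set G) := fun y hy hy1 => by
      rw [hcP, hgenP y hy hy1]; exact inf_eq_left.2 Subgroup.le_normalizer
    have hrel : (Subgroup.centralizer ((P : Subgroup G) : Set G)).relIndex
        (Subgroup.normalizer ((P : Subgroup G) : Set G)) = e := by
      rw [hcP, hP]; rfl
    obtain ⟨D⟩ := CfsgLib.Blk.Exc.exists_data P hM hab hfrob e (by rw [hPc]; omega) hrel
    have hDt : D.t = t := by
      have h1 := D.card_eq
      rw [hPc, ← hte] at h1
      exact Nat.eq_of_mul_eq_mul_right (by omega) h1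
    have hord : ∀ y ∈ (P : Subgroup G), y ≠ 1 → ∃ k : ℕ, orderOf y = p ^ k := fun y hy hy1 => by
      obtain ⟨k, hk⟩ := IsPGroup.iff_orderOf.1 P.2 ⟨y, hy⟩
      exact ⟨k, by rw [← hk, Subgroup.orderOf_mk]⟩
    have hval : ∀ ψ ∈ D.X, ∀ y : G, y ∈ (P : Subgroup G) → y ≠ 1 →
        (ψ : G → ℂ) y = (D.a ψ : ℂ) := fun ψ hψ y hy hy1 =>
      D.value ψ hψ.1 hψ.2 y y (CfsgLib.Blk.isPPart_self (hord y hy hy1) hp) hy hy1
    -- only the principal block contributes
    have hout : ∀ y ∈ (P : Subgroup G), y ≠ 1 → ∀ ψ : Cfsg.IrrCharacter G,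
        ψ ∉ Cfsg.principalBlock M G → (ψ : G → ℂ) y = 0 := by
      intro y hy hy1 ψ hψ
      haveI : Fintype ↥(Subgroup.normalizer ((P : Subgroup G) : Set G)) := Fintype.ofFinite _
      have h1 := CfsgLib.Blk.Exc.column_orth P hab hfrob hM (y := y) (y' := y) hy hy1 hy
      have hf : (Finset.univ.filter fun m : ↥(Subgroup.normalizer ((P : Subgroup G) : Set G)) =>
          (m : G) * y * (m : G)⁻¹ = y).card = p := by
        rw [← Fintype.card_subtype, ← Nat.card_eq_fintype_card]
        refine (Nat.card_congr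
          { toFun := fun m => ⟨(m.1 : G), hcP.le ((CfsgLib.Blk.Exc.fix_iff P hfrob hy hy1 m.1).1 m.2)⟩
            invFun := fun c => ⟨⟨c.1, Subgroup.le_normalizer c.2⟩,
              (CfsgLib.Blk.Exc.fix_iff P hfrob hy hy1 _).2 (hcP.ge c.2)⟩
            left_inv := fun m => rfl
            right_inv := fun c => rfl }).trans hPc
      rw [hcP, hPc, hf] at h1
      have h2 := CfsgLib.Char.second_orth y y
      rw [if_pos (IsConj.refl y), hgenP y hy hy1, hPc] at h2
      have h3 := mul_right_cancel₀ (Nat.cast_ne_zero.2 hp.ne_zero) h1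
      rw [← Finset.sum_filter] at h3
      rw [← Finset.sum_filter_add_sum_filter_not Finset.univ
        (fun η : Cfsg.IrrCharacter G => η ∈ Cfsg.principalBlock M G), h3, add_eq_left] at h2
      simp only [Complex.mul_conj] at h2
      rw [← Complex.ofReal_sum, Complex.ofReal_eq_zero,
        Finset.sum_eq_zero_iff_of_nonneg fun η _ => Complex.normSq_nonneg _] at h2
      exact Complex.normSq_eq_zero.1 (h2 ψ (by simp [hψ]))
    let χ' : Cfsg.IrrCharacter G := ⟨ρ.character, n, ρ, hirr, rfl⟩
    by_cases hB : χ' ∈ Cfsg.principalBlock M G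
    swap
    · have := (hconst 0 fun y hy hy1 => by
        rw [Int.cast_zero]; exact hout y hy hy1 χ' hB).2
      omega
    by_cases hX : ∀ i, D.μ i ≠ χ'
    · exact (hconst (D.a χ') fun y hy hy1 => hval χ' ⟨hB, hX⟩ y hy hy1).1
    push Not at hX
    obtain ⟨i₀, hi₀⟩ := hX
    exfalso
    have hnp : ¬ p ∣ orderOf (1 : G) := by rw [orderOf_one]; exact hp.not_dvd_one
    have hdi : ∀ i, (D.μ i : G → ℂ) 1 = (n : ℂ) := fun i => by
      rw [D.regular_eq i i₀ hnp, hi₀]
      show ρ.character 1 = _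
      rw [Representation.char_one]; simp
    -- the exceptional values add up
    have hμsum : ∀ y ∈ (P : Subgroup G), y ≠ 1 →
        ∑ i, (D.μ i : G → ℂ) y = (D.t : ℂ) * D.d - D.δ := by
      intro y hy hy1
      have h1 := CfsgLib.Char.second_orth y 1
      have hne : ¬ IsConj y 1 := fun hh => hy1 (isConj_one_left.1 hh)
      rw [if_neg hne] at h1
      have h3 : ∑ ψ : Cfsg.IrrCharacter G, (ψ : G → ℂ) y * (starRingEnd ℂ) ((ψ : G → ℂ) 1) =
          ∑ᶠ ψ ∈ Cfsg.principalBlock M G, (ψ : G → ℂ) y * (starRingEnd ℂ) ((ψ : G → ℂ) 1) := by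
        rw [finsum_mem_eq_finite_toFinset_sum _ (Set.toFinite _)]
        refine (Finset.sum_subset (Finset.subset_univ _) fun ψ _ hψ => ?_).symm
        rw [hout y hy hy1 ψ (fun hh => hψ ((Set.Finite.mem_toFinset _).2 hh)), zero_mul]
      rw [h3, D.sum_split] at h1
      rw [Finset.sum_congr rfl (g := fun i => (D.μ i : G → ℂ) y * (n : ℂ)) fun i _ => by
        rw [hdi i, map_natCast], ← Finset.sum_mul] at h1
      rw [finsum_mem_congr rfl (g := fun ψ : Cfsg.IrrCharacter G => (D.a ψ : ℂ) * (ψ : G → ℂ) 1)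
        fun ψ hψ => by
          rw [hval ψ hψ y hy hy1, CfsgLib.Char.irr_one_eq ψ.2, map_natCast]] at h1
      have h4 := D.regular_X i₀ (g := 1) hnp
      rw [hdi i₀] at h4
      refine mul_right_cancel₀ (Nat.cast_ne_zero.2 (show n ≠ 0 by omega) : (n : ℂ) ≠ 0) ?_
      linear_combination h1 - h4
    have hA : ∀ i, ∃ A : ℕ, ∑ u : (P : Subgroup G), (D.μ i : G → ℂ) u = (p : ℂ) * A := by
      intro i
      obtain ⟨m, σ, hσirr, hσ⟩ := (D.μ i).2
      obtain ⟨A, -, hA, -⟩ := sum_invariants σ (P : Subgroup G)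
      exact ⟨A, by rw [← hσ, hA, hPc]⟩
    choose A hA using hA
    have htot : (p : ℂ) * ((∑ i, A i : ℕ) : ℂ) =
        (n : ℂ) * D.t + (n : ℂ) * ((D.t : ℂ) * D.d - D.δ) := by
      rw [Nat.cast_sum, Finset.mul_sum, ← Finset.sum_congr rfl fun i _ => hA i, Finset.sum_comm,
        sum_split (P : Subgroup G) (fun u => ∑ i, (D.μ i : G → ℂ) u),
        Finset.sum_congr rfl fun i _ => hdi i, Finset.sum_const, Finset.card_univ, Fintype.card_fin,
        Finset.sum_congr rfl fun (u : ↥(P : Subgroup G)) hu =>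
          hμsum u u.2 (fun e1 => (Finset.mem_erase.1 hu).1 (Subtype.ext e1)),
        Finset.sum_const, hcard1, show p - 1 = n by omega, nsmul_eq_mul, nsmul_eq_mul]
      ring
    have hZ : (p : ℤ) * ((∑ i, A i : ℕ) : ℤ) =
        (n : ℤ) * D.t + (n : ℤ) * ((D.t : ℤ) * D.d - D.δ) := by exact_mod_cast htot
    obtain ⟨S, hS⟩ : ∃ S : ℤ, ((∑ i, A i : ℕ) : ℤ) = S := ⟨_, rfl⟩
    rw [hS, hDt] at hZ
    have hpn : (n : ℤ) = (p : ℤ) - 1 := by omega
    have hte' : (t : ℤ) * e = (p : ℤ) - 1 := by
      have : ((t * e : ℕ) : ℤ) = ((p - 1 : ℕ) : ℤ) := by rw [hte]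
      rw [Nat.cast_mul, Nat.cast_sub (by omega), Nat.cast_one] at this
      exact this
    -- congruence
    have hdvd : (p : ℤ) ∣ (1 + D.d + e * D.δ) := by
      refine ⟨(1 + D.d) + e * (S - t - (t * D.d - D.δ)), ?_⟩
      linear_combination (1 + D.d) * hte' + (e : ℤ) * hZ * (-1) +
        (e : ℤ) * ((t : ℤ) + t * D.d - D.δ) * hpn * (-1)
    -- norm
    have hnorm : 1 + (t : ℤ) * D.d ^ 2 ≤ e + 2 * D.δ * D.d := by
      have h1 := D.norm_X
      rw [hDt] at h1
      have h2 : (1 : ℤ) ≤ ∑ᶠ ψ ∈ D.X, D.a ψ ^ 2 := by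
        rw [finsum_mem_eq_finite_toFinset_sum _ (Set.toFinite _)]
        refine le_trans ?_ (Finset.single_le_sum (fun ψ _ => sq_nonneg (D.a ψ))
          ((Set.Finite.mem_toFinset _).2 D.one_mem_X))
        rw [D.a_one]; norm_num
      linarith
    obtain ⟨k, hk⟩ := hdvd
    have h3 : (3 : ℤ) * D.d ^ 2 ≤ t * D.d ^ 2 :=
      mul_le_mul_of_nonneg_right (by exact_mod_cast ht3) (sq_nonneg _)
    have h3e' : 3 * (e : ℤ) ≤ (p : ℤ) - 1 := by omega
    have he2' : (2 : ℤ) ≤ e := by omega
    have hd1 : D.d ≤ D.d ^ 2 := Int.le_self_sq _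
    have hd2 : -D.d ≤ D.d ^ 2 := by
      have := Int.le_self_sq (-D.d)
      rwa [neg_sq] at this
    have hd3 : (0 : ℤ) ≤ D.d ^ 2 := sq_nonneg _
    have hp0 : (0 : ℤ) < p := by omega
    rcases D.sign with hδ | hδ <;> rw [hδ] at hk hnorm
    · have hu : D.d ^ 2 ≤ (e : ℤ) - 1 := by linarith
      have hkp : (p : ℤ) * 0 < p * k := by linarith
      have hkl : (p : ℤ) * k < p * 1 := by linarith
      have := lt_of_mul_lt_mul_left hkp hp0.le
      have := lt_of_mul_lt_mul_left hkl hp0.le
      omega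
    · have hu : D.d ^ 2 ≤ (e : ℤ) - 1 := by linarith
      have hkp : (p : ℤ) * (-1) < p * k := by linarith
      have hkl : (p : ℤ) * k < p * 1 := by linarith
      have := lt_of_mul_lt_mul_left hkp hp0.le
      have := lt_of_mul_lt_mul_left hkl hp0.le
      have hk0 : k = 0 := by omega
      rw [hk0, mul_zero] at hk
      linarith
  -- the automizer is cyclic
  set N := Subgroup.normalizer ((P : Subgroup G) : Set G) with hN
  haveI : IsCyclic (P : Subgroup G) := isCyclic_of_prime_card hPc
  haveI hcycA : IsCyclic (MulAut (P : Subgroup G)) := by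
    haveI : IsCyclic (ZMod (Nat.card (P : Subgroup G)))ˣ := by rw [hPc]; infer_instance
    exact isCyclic_of_surjective (IsCyclic.mulAutMulEquiv (P : Subgroup G)).symm
      (IsCyclic.mulAutMulEquiv (P : Subgroup G)).symm.surjective
  have hcP : Subgroup.centralizer ((P : Subgroup G) : Set G) = (P : Subgroup G) := by
    rw [hP, Subgroup.zpowers_eq_closure, Subgroup.centralizer_closure, hC,
      ← Subgroup.zpowers_eq_closure]
  set f := (P : Subgroup G).normalizerMonoidHom with hf
  have hker : f.ker = (P : Subgroup G).subgroupOf N := by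
    rw [hf, Subgroup.normalizerMonoidHom_ker, hcP]
  obtain ⟨⟨_, z, rfl⟩, hz⟩ := IsCyclic.exists_generator (α := f.range)
  have hoz : orderOf (f z) = e := by
    have h1 : orderOf (f z) = Nat.card f.range :=
      (Subgroup.orderOf_coe _).trans (orderOf_eq_card_of_forall_mem_zpowers hz)
    rw [h1, ← Subgroup.index_ker, hker, he, CfsgLib.Char.SelfCentPrime.e, ← hP]
    rfl
  have hnot : ∀ k, ¬ e ∣ k → (z : G) ^ k ∉ (P : Subgroup G) := by
    intro k hk hmem
    refine hk (hoz ▸ orderOf_dvd_of_pow_eq_one ?_)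
    rw [← map_pow, ← MonoidHom.mem_ker, hker, Subgroup.mem_subgroupOf]
    exact hmem
  have hze : (z : G) ^ e = 1 := by
    by_contra hne
    have hmem : (z : G) ^ e ∈ (P : Subgroup G) := by
      have h1 : z ^ e ∈ f.ker := by
        rw [MonoidHom.mem_ker, map_pow, ← hoz, pow_orderOf_eq_one]
      rw [hker, Subgroup.mem_subgroupOf] at h1
      exact h1
    have h2 : (z : G) ∈ Subgroup.centralizer ({(z : G) ^ e} : Set G) :=
      Subgroup.mem_centralizer_singleton_iff.2 (Commute.self_pow (z : G) e).eq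
    rw [hgenP _ hmem hne] at h2
    exact hnot 1 (fun hd => by have := Nat.le_of_dvd one_pos hd; omega) (by simpa using h2)
  have hvan : ∀ w : G, w ∈ N → w ∉ (P : Subgroup G) → ρ.character w = 0 := by
    intro w hwN hwP
    have hmem : ∀ u : (P : Subgroup G), (u : G) * w * (u : G)⁻¹ * w⁻¹ ∈ (P : Subgroup G) := fun u => by
      rw [show (u : G) * w * (u : G)⁻¹ * w⁻¹ = u * (w * (u : G)⁻¹ * w⁻¹) by group]
      exact mul_mem u.2 ((Subgroup.mem_normalizer_iff.1 hwN _).1 (inv_mem u.2))
    have hinj : Function.Injective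
        (fun u : (P : Subgroup G) => (⟨_, hmem u⟩ : (P : Subgroup G))) := by
      intro u v huv
      have h1 : (u : G) * w * (u : G)⁻¹ = v * w * (v : G)⁻¹ :=
        mul_right_cancel (congrArg Subtype.val huv)
      by_contra hne
      refine hwP ?_
      rw [← hgenP _ (mul_mem (inv_mem v.2) u.2) (fun h => hne (Subtype.ext (inv_mul_eq_one.1 h).symm)),
        Subgroup.mem_centralizer_singleton_iff]
      calc w * ((v : G)⁻¹ * u) = (v : G)⁻¹ * (v * w * (v : G)⁻¹) * u := by group
        _ = (v : G)⁻¹ * (u * w * (u : G)⁻¹) * u := by rw [h1]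
        _ = (v : G)⁻¹ * u * w := by group
    have hall : ∀ v : (P : Subgroup G), ρ.character ((v : G) * w) = ρ.character w := by
      intro v
      obtain ⟨u, hu⟩ := (Finite.injective_iff_surjective.1 hinj) v
      rw [← hu]
      show ρ.character ((u : G) * w * (u : G)⁻¹ * w⁻¹ * w) = _
      rw [inv_mul_cancel_right, Representation.char_conj]
    have h2 : ∑ v : (P : Subgroup G), ρ.character ((v : G) * w) = 0 := by
      show ∑ v : (P : Subgroup G), LinearMap.trace ℂ _ (ρ ((v : G) * w)) = 0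
      simp only [map_mul]
      rw [← map_sum, ← Finset.sum_mul, hzero, zero_mul, map_zero]
    rw [Finset.sum_congr rfl fun v _ => hall v, Finset.sum_const, Finset.card_univ,
      Fintype.card_eq_nat_card, hPc, nsmul_eq_mul] at h2
    exact (mul_eq_zero.1 h2).resolve_left (Nat.cast_ne_zero.2 hp.ne_zero)
  obtain ⟨ζ, hζ, hpow, -, hdet⟩ := CfsgLib.Char.exists_roots ρ (z : G)
  have hfin : Module.finrank ℂ (Fin n → ℂ) = n := by simp
  have hoz' : orderOf (z : G) = e := by
    refine Nat.dvd_antisymm (orderOf_dvd_of_pow_eq_one hze) ?_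
    by_contra hnd
    exact hnot _ hnd (by rw [pow_orderOf_eq_one]; exact one_mem _)
  rw [hoz'] at hζ
  -- every root occurs `t` times
  have hcount : ∀ η ∈ Polynomial.nthRootsFinset e (1 : ℂ),
      (Finset.univ.filter fun i => ζ i = η).card = t := by
    intro η hη
    rw [Polynomial.mem_nthRootsFinset (by omega)] at hη
    have hη0 : η ≠ 0 := fun h0 => by
      rw [h0, zero_pow (by omega)] at hη; exact zero_ne_one hη
    have h1 : ∑ k ∈ Finset.range e, η⁻¹ ^ k * ρ.character ((z : G) ^ k) = (n : ℂ) := by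
      rw [Finset.sum_eq_single 0]
      · rw [pow_zero, pow_zero, one_mul, Representation.char_one, hfin]
      · intro k hk hk0
        rw [hvan _ (pow_mem z.2 k) (hnot k fun hd => by
          have := Nat.le_of_dvd (Nat.pos_of_ne_zero hk0) hd
          have := Finset.mem_range.1 hk
          omega), mul_zero]
      · intro h; exact absurd (Finset.mem_range.2 (by omega)) h
    simp only [hpow, Finset.mul_sum, ← mul_pow] at h1
    rw [Finset.sum_comm] at h1
    have h2 : ∀ i, ∑ k ∈ Finset.range e, (η⁻¹ * ζ i) ^ k = if ζ i = η then (e : ℂ) else 0 := by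
      intro i
      by_cases hi : ζ i = η
      · rw [if_pos hi, hi, inv_mul_cancel₀ hη0]; simp
      · rw [if_neg hi, geom_sum_eq (fun h => hi ?_), mul_pow, inv_pow, hη, hζ i, inv_one, mul_one,
          sub_self, zero_div]
        rw [← one_mul (ζ i), ← mul_inv_cancel₀ hη0, mul_assoc, h, mul_one]
    rw [Finset.sum_congr rfl fun i _ => h2 i, ← Finset.sum_filter, Finset.sum_const,
      nsmul_eq_mul] at h1
    have h4 : (Finset.univ.filter fun i => ζ i = η).card * e = n := by exact_mod_cast h1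
    have hn : n = t * e := by omega
    exact Nat.eq_of_mul_eq_mul_right (by omega) (h4.trans hn)
  have hdet1 : LinearMap.det (ρ (z : G)) = -1 := by
    rw [hdet, ← Finset.prod_fiberwise_of_maps_to (g := ζ)
      (t := Polynomial.nthRootsFinset e (1 : ℂ)) (f := ζ)
      (fun i _ => (Polynomial.mem_nthRootsFinset (by omega) _).2 (hζ i))]
    rw [Finset.prod_congr rfl (g := fun η => η ^ t) fun η hη => by
      rw [Finset.prod_congr rfl fun i hi => (Finset.mem_filter.1 hi).2, Finset.prod_const,
        hcount η hη], Finset.prod_pow, prod_roots (by omega) heev,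
      (Nat.not_even_iff_odd.1 htev).neg_one_pow]
  let φ : G →* ℂˣ := ((LinearMap.det : ((Fin n → ℂ) →ₗ[ℂ] (Fin n → ℂ)) →* ℂ).comp ρ).toHomUnits
  have hφz : ((φ (z : G) : ℂˣ) : ℂ) = -1 := hdet1
  have hord2 : orderOf (φ (z : G)) = 2 := by
    haveI : Fact (Nat.Prime 2) := ⟨Nat.prime_two⟩
    refine orderOf_eq_prime (Units.ext (by rw [Units.val_pow_eq_pow_val, hφz]; norm_num)) ?_
    intro h
    rw [h, Units.val_one] at hφz
    norm_num at hφz
  rw [even_iff_two_dvd]
  refine dvd_trans ?_ (Subgroup.index_dvd_of_le (Abelianization.commutator_subset_ker φ))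
  rw [Subgroup.index_ker, ← hord2]
  exact Subgroup.orderOf_dvd_natCard _ ⟨(z : G), rfl⟩

end Cfsg.Agent.S4508
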