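import Cfsg.Statements.S4509
import Cfsg.Agent.Char.SelfCentPrime
-- import your own Cfsg.Agent.* helpers here

set_option autoImplicit false
open Cfsg

namespace Cfsg.Agent.S4509

/-- Let the finite group G contain an element x of prime order p with C_G(x) = ⟨x⟩; let t be the number of conjugacy classes of elements of order p and 1 + n·p the number of subgroups of order p. Then G has a normal subgroup of order 1 + n·p if and only if either t = p − 1, or t < p − 1 and G″ ≠ G′. Moreover, if t = p − 1 then G′ has order 1 + n·p and G/G′ is cyclic of order p; and if t < p − 1 and G″ ≠ G′ then G″ has order 1 + n·p and G′ has order p·(1 + n·p). -/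
theorem result {G : Type*} [Group G] [Finite G] (p : ℕ) (hp : p.Prime) (x : G) (hx : orderOf x = p) (hC : Subgroup.centralizer ({x} : Set G) = Subgroup.zpowers x) (t : ℕ) (ht : Nat.card {C : ConjClasses G // ∃ g ∈ C.carrier, orderOf g = p} = t) (n : ℕ) (hn : Nat.card {H : Subgroup G // Nat.card H = p} = 1 + n * p) : ((∃ S : Subgroup G, S.Normal ∧ Nat.card S = 1 + n * p) ↔ (t = p - 1 ∨ (t < p - 1 ∧ derivedSeries G 2 ≠ derivedSeries G 1))) ∧ (t = p - 1 → Nat.card (commutator G) = 1 + n * p ∧ IsCyclic (G ⧸ commutator G) ∧ (commutator G).index = p) ∧ (t < p - 1 → derivedSeries G 2 ≠ derivedSeries G 1 → Nat.card (derivedSeries G 2) = 1 + n * p ∧ Nat.card (commutator G) = p * (1 + n * p)) := by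
  haveI := Fact.mk hp
  haveI := CfsgLib.Solv.pPrimeCore_normal G p
  set K := Cfsg.pPrimeCore p G with hK
  have hKp : ¬ p ∣ Nat.card K := CfsgLib.Solv.not_dvd_card_pPrimeCore
  have hcard := CfsgLib.Char.SelfCentPrime.card_eq hp hx hC
  rw [hn] at hcard
  have hte := CfsgLib.Char.SelfCentPrime.t_mul_e hp hx hC ht
  set e := CfsgLib.Char.SelfCentPrime.e x with he
  have hp2 := hp.two_le
  have hKdvd : Nat.card K ∣ 1 + n * p := hn ▸ ((Cfsg.Agent.S4496.result p hp x hx hC K).2 hKp).1
  have hm : ¬ p ∣ 1 + n * p := fun hd => hp.ne_one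
    (Nat.dvd_one.1 ((Nat.dvd_add_left (dvd_mul_left p n)).1 hd))
  have hD1 : derivedSeries G 1 = commutator G := derivedSeries_one G
  have hD2 : derivedSeries G 2 = ⁅commutator G, commutator G⁆ := by
    rw [derivedSeries_succ, hD1]
  haveI : (derivedSeries G 2).Normal := derivedSeries_normal G 2
  -- the case of an exceptional derived series
  have hA : t < p - 1 → derivedSeries G 2 ≠ derivedSeries G 1 →
      Nat.card K = 1 + n * p ∧ derivedSeries G 2 = K ∧ Nat.card (commutator G) = p * (1 + n * p) := by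
    intro htp hne
    obtain ⟨hxG, hidx⟩ := CfsgLib.Char.SelfCentPrime.mem_commutator hp hx hC ht htp.ne
    rw [hD1] at hne
    have hle2 : derivedSeries G 2 ≤ commutator G := by
      rw [hD2]; exact Subgroup.commutator_le_self _
    have hnd : ¬ p ∣ Nat.card (derivedSeries G 2) := fun hd => hne
      (le_antisymm hle2 (CfsgLib.Char.SelfCentPrime.commutator_le_of_dvd hp hx hC hd))
    have h2K : derivedSeries G 2 ≤ K :=
      CfsgLib.Solv.le_pPrimeCore (hp.coprime_iff_not_dvd.2 hnd).symm
    have hKG : K ≤ commutator G := CfsgLib.Char.SelfCentPrime.core_le_commutator hp hx hC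
    have hK2 : K ≤ derivedSeries G 2 := by
      intro k hk
      have hmem : ∀ l : K, x * l * x⁻¹ * (l : G)⁻¹ ∈ K := fun l =>
        mul_mem (Subgroup.Normal.conj_mem inferInstance _ l.2 x) (inv_mem l.2)
      have hinj : Function.Injective (fun l : K => (⟨x * l * x⁻¹ * (l : G)⁻¹, hmem l⟩ : K)) := by
        intro a b hab
        have h1 : (a : G) * x⁻¹ * (a : G)⁻¹ = b * x⁻¹ * (b : G)⁻¹ :=
          mul_left_cancel (a := x) (by simpa [mul_assoc] using congrArg Subtype.val hab)
        have h2 : (b : G)⁻¹ * a ∈ Subgroup.centralizer ({x} : Set G) := by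
          rw [Subgroup.mem_centralizer_singleton_iff]
          have h3 := congrArg (fun g => g⁻¹) h1
          simp only [mul_inv_rev, inv_inv, ← mul_assoc] at h3
          calc (b : G)⁻¹ * a * x = (b : G)⁻¹ * (a * x * (a : G)⁻¹) * a := by group
            _ = (b : G)⁻¹ * (b * x * (b : G)⁻¹) * a := by rw [h3]
            _ = x * ((b : G)⁻¹ * a) := by group
        rw [hC] at h2
        have h4 : (b : G)⁻¹ * a = 1 := orderOf_eq_one_iff.1 (Nat.eq_one_of_dvd_coprimes
          (hp.coprime_iff_not_dvd.2 hKp)
          (CfsgLib.Char.SelfCentPrime.card_zpowers hx ▸ Subgroup.orderOf_dvd_natCard _ h2)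
          (Subgroup.orderOf_dvd_natCard K (mul_mem (inv_mem b.2) a.2)))
        exact Subtype.ext (inv_mul_eq_one.1 h4).symm
      obtain ⟨l, hl⟩ := (Finite.injective_iff_surjective.1 hinj) ⟨k, hk⟩
      rw [← show x * l * x⁻¹ * (l : G)⁻¹ = k from congrArg Subtype.val hl, hD2]
      exact Subgroup.commutator_mem_commutator hxG (hKG l.2)
    -- the quotient is simple and abelian
    haveI : (K.subgroupOf (commutator G)).Normal := Subgroup.normal_subgroupOf
    set K' := K.subgroupOf (commutator G) with hK'
    have hxK : (⟨x, hxG⟩ : commutator G) ∉ K' := fun hh =>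
      hKp ((dvd_of_eq hx.symm).trans (Subgroup.orderOf_dvd_natCard _ (Subgroup.mem_subgroupOf.1 hh)))
    have hder : ∀ a b : commutator G, a * b * a⁻¹ * b⁻¹ ∈ K' := fun a b => by
      refine Subgroup.mem_subgroupOf.2 (h2K ?_)
      rw [hD2]; exact Subgroup.commutator_mem_commutator a.2 b.2
    set M := Subgroup.zpowers (⟨x, hxG⟩ : commutator G) ⊔ K' with hM
    haveI : M.Normal := ⟨fun y hy a => by
      have : a * y * a⁻¹ = (a * y * a⁻¹ * y⁻¹) * y := by group
      rw [this]
      exact mul_mem (le_sup_right (a := Subgroup.zpowers (⟨x, hxG⟩ : commutator G)) (hder a y)) hy⟩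
    have hpM : p ∣ Nat.card M := by
      have h1 : (⟨x, hxG⟩ : commutator G) ∈ M := le_sup_left (b := K') (Subgroup.mem_zpowers _)
      have h2 := Subgroup.orderOf_dvd_natCard M h1
      rwa [Subgroup.orderOf_mk, hx] at h2
    have hMt := CfsgLib.Char.SelfCentPrime.eq_commutator_of_dvd hp hx hC ht htp.ne hpM
    have hcK' : Nat.card K' = Nat.card K :=
      Nat.card_congr (Subgroup.subgroupOfEquivOfLe hKG).toEquiv
    have hG' : Nat.card (commutator G) ∣ p * Nat.card K := by
      have h1 : Nat.card (commutator G) = Nat.card K' * K'.index := (Subgroup.card_mul_index K').symm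
      have h2 : K'.index = K'.relIndex M := by rw [hMt, Subgroup.relIndex_top_right]
      have h3 : K'.relIndex M ∣ p := by
        rw [hM, Subgroup.relIndex_sup_right]
        refine (Subgroup.relIndex_dvd_card _ _).trans ?_
        rw [Nat.card_zpowers, Subgroup.orderOf_mk, hx]
      rw [h1, h2, hcK', mul_comm p]
      exact Nat.mul_dvd_mul_left _ h3
    have hG'' : p * Nat.card K ∣ Nat.card (commutator G) :=
      (hp.coprime_iff_not_dvd.2 hKp).mul_dvd_of_dvd_of_dvd
        (by have h1 := Subgroup.orderOf_dvd_natCard _ hxG; rwa [hx] at h1)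
        (Subgroup.card_dvd_of_le hKG)
    have hG := Nat.dvd_antisymm hG' hG''
    have hmK : 1 + n * p ≤ Nat.card K := by
      have h1 := (commutator G).card_mul_index
      rw [hG, hcard] at h1
      have h2 : 0 < e := by
        rcases Nat.eq_zero_or_pos e with e0 | e0
        · rw [e0, mul_zero] at hte; omega
        · exact e0
      refine Nat.le_of_mul_le_mul_left ?_ (Nat.mul_pos hp.pos h2)
      rw [← h1]
      calc p * Nat.card K * (commutator G).index ≤ p * Nat.card K * e :=
            Nat.mul_le_mul_left _ hidx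
        _ = p * e * Nat.card K := by ring
    have hKm : Nat.card K = 1 + n * p :=
      le_antisymm (Nat.le_of_dvd (by omega) hKdvd) hmK
    exact ⟨hKm, le_antisymm h2K hK2, by rw [hG, hKm]⟩
  refine ⟨⟨?_, ?_⟩, ?_, fun htp hne => ?_⟩
  · rintro ⟨S, hS, hSc⟩
    haveI := hS
    by_cases htp : t = p - 1
    · exact Or.inl htp
    refine Or.inr ⟨?_, ?_⟩
    · have : t ≤ p - 1 := by
        rcases Nat.eq_zero_or_pos e with e0 | e0
        · rw [e0, mul_zero] at hte; omega
        · exact hte ▸ Nat.le_mul_of_pos_right t e0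
      omega
    -- the group is the product of the core and the normalizer
    have hSK : S ≤ K := CfsgLib.Solv.le_pPrimeCore
      (hSc ▸ (hp.coprime_iff_not_dvd.2 hm).symm)
    have hKc : Nat.card K = 1 + n * p := Nat.dvd_antisymm hKdvd (hSc ▸ Subgroup.card_dvd_of_le hSK)
    obtain ⟨hxG, -⟩ := CfsgLib.Char.SelfCentPrime.mem_commutator hp hx hC ht htp
    set N := Subgroup.normalizer ((Subgroup.zpowers x : Subgroup G) : Set G) with hN
    have hKN : K ⊓ N = ⊥ := (Subgroup.eq_bot_iff_forall _).2 fun k hk => by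
      obtain ⟨hk1, hk2⟩ := Subgroup.mem_inf.1 hk
      have h1 : k * x * k⁻¹ * x⁻¹ ∈ Subgroup.zpowers x :=
        mul_mem ((Subgroup.mem_normalizer_iff.1 hk2 x).1 (Subgroup.mem_zpowers x))
          (inv_mem (Subgroup.mem_zpowers x))
      have h2 : k * x * k⁻¹ * x⁻¹ ∈ K := by
        rw [show k * x * k⁻¹ * x⁻¹ = k * (x * k⁻¹ * x⁻¹) by group]
        exact mul_mem hk1 (Subgroup.Normal.conj_mem inferInstance _ (inv_mem hk1) x)
      have h3 := orderOf_eq_one_iff.1 (Nat.eq_one_of_dvd_coprimes
        (hp.coprime_iff_not_dvd.2 hKp)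
        (CfsgLib.Char.SelfCentPrime.card_zpowers hx ▸ Subgroup.orderOf_dvd_natCard _ h1)
        (Subgroup.orderOf_dvd_natCard K h2))
      rw [mul_inv_eq_one, mul_inv_eq_iff_eq_mul] at h3
      have h4 : k ∈ Subgroup.centralizer ({x} : Set G) :=
        Subgroup.mem_centralizer_singleton_iff.2 h3
      rw [hC] at h4
      exact orderOf_eq_one_iff.1 (Nat.eq_one_of_dvd_coprimes (hp.coprime_iff_not_dvd.2 hKp)
        (CfsgLib.Char.SelfCentPrime.card_zpowers hx ▸ Subgroup.orderOf_dvd_natCard _ h4)
        (Subgroup.orderOf_dvd_natCard K hk1))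
    have htop : N ⊔ K = ⊤ := by
      refine Subgroup.eq_top_of_card_eq _ (le_antisymm (Subgroup.card_le_card_group _) ?_)
      have h1 : Nat.card K * K.relIndex (N ⊔ K) = Nat.card ↥(N ⊔ K) := by
        rw [← Subgroup.relIndex_bot_left K, ← Subgroup.relIndex_bot_left (N ⊔ K)]
        exact Subgroup.relIndex_mul_relIndex ⊥ K (N ⊔ K) bot_le le_sup_right
      rw [Subgroup.relIndex_sup_right, ← Subgroup.inf_relIndex_right K N, hKN,
        Subgroup.relIndex_bot_left, CfsgLib.Char.SelfCentPrime.card_normalizer hx, hKc] at h1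
      rw [← h1, hcard]
      exact le_of_eq (by rw [he]; ring)
    set L := Subgroup.zpowers x ⊔ K with hL
    haveI : L.Normal := by
      rw [← Subgroup.normalizer_eq_top_iff, eq_top_iff, ← htop]
      refine sup_le (fun g hg => ?_) (le_trans le_sup_right Subgroup.le_normalizer)
      rw [Subgroup.mem_normalizer_iff]
      have hmap : L.map (MulAut.conj g).toMonoidHom = L := by
        rw [hL, Subgroup.map_sup]
        congr 1
        · ext y
          constructor
          · rintro ⟨w, hw, rfl⟩
            exact (Subgroup.mem_normalizer_iff.1 hg w).1 hw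
          · intro hy
            refine ⟨g⁻¹ * y * g, (Subgroup.mem_normalizer_iff.1 hg _).2 ?_,
              show g * (g⁻¹ * y * g) * g⁻¹ = y by group⟩
            rwa [show g * (g⁻¹ * y * g) * g⁻¹ = y by group]
        · exact Subgroup.Normal.map_conj_eq K g
      intro w
      constructor
      · intro hw; rw [← hmap]; exact ⟨w, hw, rfl⟩
      · intro hw
        rw [← hmap] at hw
        obtain ⟨w', hw', ew⟩ := hw
        have : w' = w := (MulAut.conj g).injective ew
        exact this ▸ hw'
    have hGL : commutator G ≤ L := CfsgLib.Char.SelfCentPrime.commutator_le_of_dvd hp hx hC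
      ((dvd_of_eq hx.symm).trans
        (Subgroup.orderOf_dvd_natCard L (le_sup_left (b := K) (Subgroup.mem_zpowers x))))
    intro heq
    have h2K : derivedSeries G 2 ≤ K := by
      rw [hD2, Subgroup.commutator_le]
      intro a ha b hb
      have himg : ∀ c ∈ commutator G, (QuotientGroup.mk' K) c ∈
          (Subgroup.zpowers x).map (QuotientGroup.mk' K) := by
        intro c hc
        have h1 : (QuotientGroup.mk' K) c ∈ L.map (QuotientGroup.mk' K) := ⟨c, hGL hc, rfl⟩
        rwa [hL, Subgroup.map_sup, QuotientGroup.map_mk'_self, sup_bot_eq] at h1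
      obtain ⟨a', ha', ea⟩ := himg a ha
      obtain ⟨b', hb', eb⟩ := himg b hb
      obtain ⟨i, rfl⟩ := ha'
      obtain ⟨j, rfl⟩ := hb'
      rw [← QuotientGroup.eq_one_iff, ← QuotientGroup.mk'_apply, map_commutatorElement, ← ea, ← eb,
        ← map_commutatorElement, commutatorElement_eq_one_iff_commute.2 (Commute.zpow_zpow_self x i j),
        map_one]
    rw [heq, hD1] at h2K
    exact hKp ((dvd_of_eq hx.symm).trans (Subgroup.orderOf_dvd_natCard K (h2K hxG)))
  · rintro (htp | ⟨htp, hne⟩)
    · refine ⟨commutator G, inferInstance, ?_⟩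
      have he1 : e = 1 := by
        rw [htp] at hte
        exact Nat.eq_of_mul_eq_mul_left (by omega : 0 < p - 1) (by rw [hte, mul_one])
      have h1 := (commutator G).card_mul_index
      rw [(Cfsg.Agent.S4495.result p hp x hx hC t ht).2 htp, hcard, he1, mul_one,
        mul_comm p] at h1
      exact Nat.eq_of_mul_eq_mul_right hp.pos h1
    · exact ⟨K, inferInstance, (hA htp hne).1⟩
  · intro htp
    have hidx := (Cfsg.Agent.S4495.result p hp x hx hC t ht).2 htp
    have he1 : e = 1 := by
      rw [htp] at hte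
      exact Nat.eq_of_mul_eq_mul_left (by omega : 0 < p - 1) (by rw [hte, mul_one])
    refine ⟨?_, isCyclic_of_prime_card (p := p) (by rw [← Subgroup.index_eq_card, hidx]), hidx⟩
    have h1 := (commutator G).card_mul_index
    rw [hidx, hcard, he1, mul_one, mul_comm p] at h1
    exact Nat.eq_of_mul_eq_mul_right hp.pos h1
  · exact ⟨(hA htp hne).2.1 ▸ (hA htp hne).1, (hA htp hne).2.2⟩

end Cfsg.Agent.S4509
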