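import Cfsg.Statements.S4510
import Cfsg.Agent.Blk.RegExpand

set_option autoImplicit false
open Cfsg

namespace Cfsg.Agent.S4510
open scoped CfsgLib.Char


/-- Let G be a finite group, p a prime, M a maximal ideal of the algebraic integers containing p, and call the defect of a conjugacy class the exponent of p in the order of the centralizer of its elements. Two irreducible characters lying in p-blocks of defect exactly d lie in the same block if and only if their central characters (class size times χ(x)/χ(1)) agree modulo the local ideal at M at every p-regular element x whose class has defect exactly d. -/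
theorem result {G : Type*} [Group G] [Finite G] (p : ℕ) [Fact p.Prime] (M : Ideal Cfsg.AlgInt) (hM : Cfsg.IsPModular p M) (d : ℕ) (χ ψ : Cfsg.IrrCharacter G) (hχ : Cfsg.blockDefect p (Cfsg.blockOf M (χ : G → ℂ)) = d) (hψ : Cfsg.blockDefect p (Cfsg.blockOf M (ψ : G → ℂ)) = d) : Cfsg.SameBlock M (χ : G → ℂ) (ψ : G → ℂ) ↔ ∀ x : G, ¬ p ∣ orderOf x → (Nat.card (Subgroup.centralizer ({x} : Set G))).factorization p = d → Cfsg.MemLocalIdeal M (Cfsg.centralChar (χ : G → ℂ) x - Cfsg.centralChar (ψ : G → ℂ) x) := by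
  classical
  haveI := hM.2.1.isPrime
  haveI := Fintype.ofFinite G
  refine ⟨fun h x _ _ => h x, fun h => ?_⟩
  by_contra hne
  haveI : Fintype (ConjClasses G) := Fintype.ofFinite _
  have hB : Cfsg.IsPBlock M (Cfsg.blockOf M (χ : G → ℂ)) := ⟨χ, rfl⟩
  have hB' : Cfsg.IsPBlock M (Cfsg.blockOf M (ψ : G → ℂ)) := ⟨ψ, rfl⟩
  have hχm : χ ∈ Cfsg.blockOf M (χ : G → ℂ) := CfsgLib.Blk.sameBlock_refl _
  have hψm : ψ ∈ Cfsg.blockOf M (ψ : G → ℂ) := CfsgLib.Blk.sameBlock_refl _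
  have hψn : ψ ∉ Cfsg.blockOf M (χ : G → ℂ) := fun hh => hne (CfsgLib.Blk.sameBlock_of_mem hB hχm hh)
  have e1 := CfsgLib.Blk.omegaBar_blockIdem hM hB χ
  have e2 := CfsgLib.Blk.omegaBar_blockIdem hM hB ψ
  rw [if_pos hχm, CfsgLib.Blk.omegaBar_eq_sum χ.2 (CfsgLib.Blk.isClassCoeff_blockIdem hM hB)] at e1
  rw [if_neg hψn, CfsgLib.Blk.omegaBar_eq_sum ψ.2 (CfsgLib.Blk.isClassCoeff_blockIdem hM hB)] at e2
  refine one_ne_zero (e1.symm.trans (Eq.trans ?_ e2))
  refine Finset.sum_congr rfl fun C _ => ?_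
  by_cases h2 : Cfsg.MemLocalIdeal M (Cfsg.blockCoeff (Cfsg.blockOf M (χ : G → ℂ)) C.out)
  · rw [CfsgLib.Blk.red_blockCoeff, (CfsgLib.Blk.red_eq_zero_iff
      (CfsgLib.Blk.blockCoeff_mem hM hB _)).2 h2, zero_mul, zero_mul]
  congr 1
  by_cases hx : ¬ p ∣ orderOf C.out ∧
      (Nat.card (Subgroup.centralizer ({C.out} : Set G))).factorization p = d
  · rw [← sub_eq_zero, ← CfsgLib.Blk.red_sub (CfsgLib.Blk.centralChar_mem χ.2 _)
      (CfsgLib.Blk.centralChar_mem ψ.2 _), CfsgLib.Blk.red_eq_zero_iff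
      (sub_mem (CfsgLib.Blk.centralChar_mem χ.2 _) (CfsgLib.Blk.centralChar_mem ψ.2 _))]
    exact h _ hx.1 hx.2
  · have z1 : Cfsg.MemLocalIdeal M (Cfsg.centralChar (χ : G → ℂ) C.out) := by
      by_contra z
      exact hx (hχ ▸ CfsgLib.Blk.card_centralizer_of_support hM hB hχm hB rfl z h2)
    have z2 : Cfsg.MemLocalIdeal M (Cfsg.centralChar (ψ : G → ℂ) C.out) := by
      by_contra z
      exact hx (hψ ▸ CfsgLib.Blk.card_centralizer_of_support hM hB' hψm hB (hχ.trans hψ.symm) z h2)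
    rw [(CfsgLib.Blk.red_eq_zero_iff (CfsgLib.Blk.centralChar_mem χ.2 _)).2 z1,
      (CfsgLib.Blk.red_eq_zero_iff (CfsgLib.Blk.centralChar_mem ψ.2 _)).2 z2]

end Cfsg.Agent.S4510
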