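import Cfsg.Statements.S4511
import Cfsg.Agent.Blk.SectionSplit

set_option autoImplicit false
open Cfsg

namespace Cfsg.Agent.S4511
open scoped CfsgLib.Char ComplexConjugate
set_option maxHeartbeats 1600000


/-- Brauer's count of the irreducible characters in a block by subsections. Let M be a maximal ideal of the algebraic integers containing the prime p, B a p-block of the finite group G, and X a set of representatives of the conjugacy classes of p-elements of G (elements of p-power order, the identity included: every p-element is conjugate to exactly one member of X). Then the number of irreducible characters in B is the sum, over x ∈ X and over the blocks b of C_G(x) that induce B, of the p-regular rank of b (the number of irreducible Brauer characters of b, here the dimension of the span of the restrictions of the members of b to the p-regular elements of C_G(x)). -/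
theorem result {G : Type*} [Group G] [Finite G] (p : ℕ) (M : Ideal Cfsg.AlgInt) (hM : Cfsg.IsPModular p M)
    (B : Set (Cfsg.IrrCharacter G)) (hB : Cfsg.IsPBlock M B) (X : Finset G)
    (hX : ∀ x ∈ X, ∃ k : ℕ, orderOf x = p ^ k)
    (hXrep : ∀ g : G, (∃ k : ℕ, orderOf g = p ^ k) → ∃! x, x ∈ X ∧ IsConj g x) :
    Nat.card B = ∑ x ∈ X, ∑ᶠ b ∈ {b : Set (Cfsg.IrrCharacter ↥(Subgroup.centralizer ({x} : Set G))) | Cfsg.IsInducedBlock M (Subgroup.centralizer ({x} : Set G)) b B},
      Cfsg.blockRank p b := by
  classical
  have hoc : ∀ {K : Type _} [Group K] (a b : K), orderOf (a * b * a⁻¹) = orderOf b := fun a b => orderOf_injective (MulAut.conj a).toMonoidHom (MulEquiv.injective _) b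
  open CfsgLib.Blk CfsgLib.SectionSplit CfsgLib.Char in
  · haveI hp : Fact p.Prime := ⟨hM.1⟩
    haveI : M.IsMaximal := hM.2.1
    haveI := Fintype.ofFinite G
    let H : G → Subgroup G := fun x => Subgroup.centralizer ({x} : Set G)
    let I := (x : {x // x ∈ X}) × {b : Set (Cfsg.IrrCharacter (H x.1)) // Cfsg.IsInducedBlock M (H x.1) b B}
    haveI : ∀ x : G, Fintype {b : Set (Cfsg.IrrCharacter (H x)) // Cfsg.IsInducedBlock M (H x) b B} := fun _ => Fintype.ofFinite _
    haveI : Fintype I := inferInstanceAs (Fintype ((x : {x // x ∈ X}) × {b : Set (Cfsg.IrrCharacter (H x.1)) // Cfsg.IsInducedBlock M (H x.1) b B}))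
    let V := Submodule.span ℂ (Set.range fun χ : B => (χ.1 : G → ℂ))
    have hVc : ∀ f ∈ V, Cfsg.IsClassFunction G f := by
      intro f hf
      induction hf using Submodule.span_induction with
      | mem f hf =>
        obtain ⟨χ, rfl⟩ := hf
        exact classFun_of_irr χ.1.2
      | zero => exact fun _ _ => rfl
      | add a c _ _ ha hc => exact fun g h => by simp [ha g h, hc g h]
      | smul r a _ ha => exact fun g h => by simp [ha g h]
    have hV : Module.finrank ℂ V = Nat.card B := by
      rw [Nat.card_eq_fintype_card]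
      exact finrank_span_eq_card ((linearIndependent_irr (G := G)).comp _ Subtype.val_injective)
    let Φ : V →ₗ[ℂ] ((i : I) → regSpan p i.2.1) :=
      LinearMap.pi fun i => LinearMap.codRestrict _ ((compL p i.1.1 (H i.1.1) i.2.1).comp V.subtype)
        fun f => compL_mem hM rfl i.2.2.1 (hVc f f.2)
    have hother : ∀ (x : G), x ∈ X → ∀ b : Set (Cfsg.IrrCharacter (H x)), Cfsg.IsPBlock M b → ¬ Cfsg.IsInducedBlock M (H x) b B →
        ∀ f ∈ V, compL p x (H x) b f = 0 := by
      intro x hx b hb hn f hf
      obtain ⟨B', hB'⟩ := inducedBlockDefined_centralizer hM (hX x hx) hb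
      refine compL_eq_zero hM (hX x hx) rfl hB' (S := B) (fun χ hχ hχ' => hn ?_) ?_
      · rwa [eq_of_mem_of_mem hB hB'.2.1 hχ hχ']
      · rwa [Set.image_eq_range]
    have hΦ : Function.Bijective Φ := by
      constructor
      · rw [injective_iff_map_eq_zero]
        rintro ⟨f, hf⟩ h0
        refine Subtype.ext (funext fun g => ?_)
        show f g = 0
        obtain ⟨z, c, hzc, hcomm, hz, hc⟩ := exists_isPPart hp.out g
        obtain ⟨x, ⟨hx, hconj⟩, -⟩ := hXrep z hz
        obtain ⟨a, ha⟩ := isConj_iff.1 hconj
        haveI : Fintype {b : Set (Cfsg.IrrCharacter (H x)) // Cfsg.IsPBlock M b} := Fintype.ofFinite _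
        have hsec : regL p (H x) (shiftL x (H x) f) = 0 := by
          rw [← sum_compL hM]
          refine Finset.sum_eq_zero fun b _ => ?_
          by_cases hb : Cfsg.IsInducedBlock M (H x) b.1 B
          · exact congrArg Subtype.val (congrFun h0 ⟨⟨x, hx⟩, ⟨b.1, hb⟩⟩)
          · exact hother x hx b.1 b.2 hb f hf
        have hd : a * c * a⁻¹ ∈ H x := Subgroup.mem_centralizer_singleton_iff.2
          (by rw [← ha]; simp only [mul_assoc, inv_mul_cancel_left]; rw [← mul_assoc c, ← hcomm.eq]; group)
        have := congrFun hsec ⟨_, hd⟩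
        rw [regL_val _ _ (by rwa [Subgroup.orderOf_mk, hoc])] at this
        change f (x * (a * c * a⁻¹)) = 0 at this
        rwa [← ha, show a * z * a⁻¹ * (a * c * a⁻¹) = a * (z * c) * a⁻¹ by group, hVc f hf, hzc] at this
      · intro w
        have hrep : ∀ g : G, ∃ x a : G, x ∈ X ∧ a * ppOf p g * a⁻¹ = x := fun g => by
          obtain ⟨x, ⟨hx, hconj⟩, -⟩ := hXrep (ppOf p g) (ppOf_spec (p := p) g).choose_spec.2.2.1
          obtain ⟨a, ha⟩ := isConj_iff.1 hconj
          exact ⟨x, a, hx, ha⟩
        let W : (x : G) → H x → ℂ := fun x =>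
          if hx : x ∈ X then ∑ b : {b : Set (Cfsg.IrrCharacter (H x)) // Cfsg.IsInducedBlock M (H x) b B}, (w ⟨⟨x, hx⟩, b⟩).1 else 0
        have hWc : ∀ x, Cfsg.IsClassFunction (H x) (W x) := by
          intro x
          have key : ∀ b : Set (Cfsg.IrrCharacter (H x)), ∀ v ∈ regSpan p b, Cfsg.IsClassFunction (H x) v := by
            intro b v hv
            induction hv using Submodule.span_induction with
            | mem v hv =>
              obtain ⟨χ, -, rfl⟩ := hv
              intro g h
              simp only [Cfsg.pRegularPart, Cfsg.IsPRegular, hoc, classFun_of_irr χ.2 g h]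
              by_cases hg : p ∣ orderOf g <;> simp [hg]
            | zero => exact fun _ _ => rfl
            | add a c _ _ ha hc => exact fun g h => by simp [ha g h, hc g h]
            | smul r a _ ha => exact fun g h => by simp [ha g h]
          by_cases hx : x ∈ X
          · intro g h
            simp only [W, dif_pos hx, Finset.sum_apply]
            exact Finset.sum_congr rfl fun b _ => key _ _ (w ⟨⟨x, hx⟩, b⟩).2 g h
          · simp only [W, dif_neg hx]
            exact fun _ _ => rfl
        choose rx ra hrx hra using hrep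
        have hin : ∀ (x a g : G), a * ppOf p g * a⁻¹ = x → x⁻¹ * (a * g * a⁻¹) ∈ H x := by
          intro x a g h
          obtain ⟨c, hc, hcc, -, -⟩ := ppOf_spec (p := p) g
          have h1 : x⁻¹ * (a * g * a⁻¹) = a * c * a⁻¹ := by
            rw [← h]
            conv_lhs => enter [2, 1, 2]; rw [← hc]
            group
          rw [h1, Subgroup.mem_centralizer_singleton_iff, ← h]
          simp only [mul_assoc, inv_mul_cancel_left]
          rw [← mul_assoc c, ← hcc.eq]
          group
        let f : G → ℂ := fun g => W (rx g) ⟨_, hin _ _ g (hra g)⟩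
        have hval : ∀ (x a g : G) (hx : x ∈ X) (h : a * ppOf p g * a⁻¹ = x), f g = W x ⟨_, hin x a g h⟩ := by
          intro x a g hx h
          obtain rfl : rx g = x := (hXrep (ppOf p g) (ppOf_spec (p := p) g).choose_spec.2.2.1).unique
            ⟨hrx g, isConj_iff.2 ⟨_, hra g⟩⟩ ⟨hx, isConj_iff.2 ⟨_, h⟩⟩
          have hm : a * (ra g)⁻¹ ∈ H (rx g) := by
            have h2 : (ra g)⁻¹ * rx g * ra g = ppOf p g := by rw [← hra g]; group
            rw [Subgroup.mem_centralizer_singleton_iff]
            calc a * (ra g)⁻¹ * rx g = a * ((ra g)⁻¹ * rx g * ra g) * a⁻¹ * (a * (ra g)⁻¹) := by group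
              _ = rx g * (a * (ra g)⁻¹) := by rw [h2, h]
          show W (rx g) _ = _
          rw [← hWc (rx g) ⟨_, hin _ _ g (hra g)⟩ ⟨_, hm⟩]
          congr 1
          refine Subtype.ext ?_
          simp only [Subgroup.coe_mul, Subgroup.coe_inv]
          calc a * (ra g)⁻¹ * ((rx g)⁻¹ * (ra g * g * (ra g)⁻¹)) * (a * (ra g)⁻¹)⁻¹
              = a * ((ra g)⁻¹ * rx g * ra g)⁻¹ * g * a⁻¹ := by group
            _ = (a * ppOf p g * a⁻¹)⁻¹ * (a * g * a⁻¹) := by rw [← hra g]; group
            _ = _ := by rw [h]
        have hfc : Cfsg.IsClassFunction G f := by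
          intro g b
          have hb : ra g * b⁻¹ * ppOf p (b * g * b⁻¹) * (ra g * b⁻¹)⁻¹ = rx g := by
            rw [ppOf_conj, ← hra g]; group
          rw [hval _ _ (b * g * b⁻¹) (hrx g) hb, hval _ _ g (hrx g) (hra g)]
          congr 1
          exact Subtype.ext (by group)
        let fB : G → ℂ := ∑ χ : B, Cfsg.classInner f (χ.1 : G → ℂ) • (χ.1 : G → ℂ)
        have hfB : fB ∈ V := Submodule.sum_mem _ fun χ _ => Submodule.smul_mem _ _ (Submodule.subset_span ⟨χ, rfl⟩)
        refine ⟨⟨fB, hfB⟩, ?_⟩
        funext ⟨⟨x, hx⟩, ⟨b, hb⟩⟩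
        apply Subtype.ext
        show compL p x (H x) b fB = _
        have hdiff : f - fB ∈ Submodule.span ℂ ((fun χ : Cfsg.IrrCharacter G => (χ : G → ℂ)) '' Bᶜ) := by
          have : f - fB = ∑ χ ∈ Finset.univ.filter (fun χ : Cfsg.IrrCharacter G => χ ∉ B), Cfsg.classInner f (χ : G → ℂ) • (χ : G → ℂ) := by
            rw [sub_eq_iff_eq_add]
            conv_lhs => rw [classFun_eq_sum hfc, ← Finset.sum_filter_add_sum_filter_not Finset.univ (fun χ : Cfsg.IrrCharacter G => χ ∈ B)]
            rw [add_comm]
            congr 1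
            exact Finset.sum_subtype _ (fun χ => by simp) _
          rw [this]
          exact Submodule.sum_mem _ fun χ hχ => Submodule.smul_mem _ _ (Submodule.subset_span ⟨χ, (Finset.mem_filter.1 hχ).2, rfl⟩)
        have h0 := compL_eq_zero hM (hX x hx) rfl hb (S := Bᶜ) (fun χ h => h) hdiff
        rw [map_sub, sub_eq_zero] at h0
        rw [← h0]
        -- independence
        haveI : Fintype {b : Set (Cfsg.IrrCharacter (H x)) // Cfsg.IsPBlock M b} := Fintype.ofFinite _
        let v : {b : Set (Cfsg.IrrCharacter (H x)) // Cfsg.IsPBlock M b} → H x → ℂ := fun b' =>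
          compL p x (H x) b'.1 f - if h : Cfsg.IsInducedBlock M (H x) b'.1 B then (w ⟨⟨x, hx⟩, ⟨b'.1, h⟩⟩).1 else 0
        have hv : ∀ b', v b' ∈ regSpan p b'.1 := by
          intro b'
          refine Submodule.sub_mem _ (compL_mem hM rfl b'.2 hfc) ?_
          split_ifs with h
          · exact (w ⟨⟨x, hx⟩, ⟨b'.1, h⟩⟩).2
          · exact Submodule.zero_mem _
        have hsum : ∑ b', v b' = 0 := by
          simp only [v, Finset.sum_sub_distrib, sum_compL hM]
          rw [sub_eq_zero]
          have hW : (∑ b' : {b : Set (Cfsg.IrrCharacter (H x)) // Cfsg.IsPBlock M b}, if h : Cfsg.IsInducedBlock M (H x) b'.1 B then (w ⟨⟨x, hx⟩, ⟨b'.1, h⟩⟩).1 else 0) = W x := by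
            simp only [W, dif_pos hx]
            refine (Finset.sum_bij_ne_zero (fun b' _ hne => (⟨b'.1, by by_contra h; exact hne (dif_neg h)⟩ : {b : Set (Cfsg.IrrCharacter (H x)) // Cfsg.IsInducedBlock M (H x) b B}))
              (fun _ _ _ => Finset.mem_univ _) (fun a _ _ c _ _ h => Subtype.ext (by simpa using h))
              (fun c _ hne => ⟨⟨c.1, c.2.1⟩, Finset.mem_univ _, by rwa [dif_pos c.2], rfl⟩) fun b' _ hne => ?_)
            split_ifs with h
            · rfl
            · exact absurd (dif_neg h) hne
          rw [hW]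
          funext c
          by_cases hc : p ∣ orderOf c
          · rw [regL_val' _ _ hc]
            simp only [W, dif_pos hx, Finset.sum_apply]
            refine (Finset.sum_eq_zero fun b' _ => ?_).symm
            have : ∀ v ∈ regSpan p b'.1, v c = 0 := fun v hv => by
              induction hv using Submodule.span_induction with
              | mem v hv =>
                obtain ⟨χ, -, rfl⟩ := hv
                simp [Cfsg.pRegularPart, Cfsg.IsPRegular, hc]
              | zero => rfl
              | add a d _ _ ha hd => simp [ha, hd]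
              | smul r a _ ha => simp [ha]
            exact this _ (w ⟨⟨x, hx⟩, b'⟩).2
          · rw [regL_val _ _ hc]
            show f (x * c) = W x c
            have hpp : ppOf p (x * (c : G)) = x := ppOf_eq ⟨c, rfl,
              (Subgroup.mem_centralizer_singleton_iff.1 c.2).symm, hX x hx, by rwa [Subgroup.orderOf_coe]⟩
            rw [hval x 1 (x * c) hx (by rw [hpp]; group)]
            congr 1
            exact Subtype.ext (by group)
        have := regSpan_indep hM v hv hsum ⟨b, hb.1⟩
        simp only [v, dif_pos hb, sub_eq_zero] at this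
        exact this
    rw [← hV, (LinearEquiv.ofBijective Φ hΦ).finrank_eq, Module.finrank_pi_fintype, ← Finset.sum_coe_sort X]
    refine ((Finset.sum_congr (Finset.ext fun _ => by simp) fun _ _ => rfl).trans (Fintype.sum_sigma (fun i : (x : {x // x ∈ X}) × {b : Set (Cfsg.IrrCharacter (H x.1)) // Cfsg.IsInducedBlock M (H x.1) b B} => Module.finrank ℂ (regSpan p i.2.1)))).trans (Finset.sum_congr rfl fun x _ => ?_)
    rw [← finsum_set_coe_eq_finsum_mem, finsum_eq_sum_of_fintype]
    convert rfl using 2
    all_goals first | rfl | exact Finset.ext fun _ => iff_of_true (@Finset.mem_univ _ (_) _) (@Finset.mem_univ _ (_) _)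

end Cfsg.Agent.S4511
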