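import Cfsg.Statements.S4512
import Cfsg.Agent.Blk.KleinFour
import Cfsg.Agent.Blk.SectionSplit

set_option autoImplicit false
open Cfsg

namespace Cfsg.Agent.S4512
open scoped CfsgLib.Char ComplexConjugate


/-- If G is a finite group with a Sylow 2-subgroup that is a Klein four-group and a single conjugacy class of involutions, then its principal 2-block (relative to a maximal ideal M of the algebraic integers containing 2) has 2-regular rank 3: the restrictions of its irreducible characters to the elements of odd order span a space of dimension 3 (it has three irreducible Brauer characters). -/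
theorem result {G : Type*} [Group G] [Finite G] (M : Ideal Cfsg.AlgInt) (hM : Cfsg.IsPModular 2 M) (P : Sylow 2 G)
    (hP : Nat.card P = 4) (hexp : ∀ x : P, x * x = 1)
    (hone : ∀ s t : G, orderOf s = 2 → orderOf t = 2 → IsConj s t) :
    Cfsg.blockRank 2 (Cfsg.principalBlock M G) = 3 := by
  classical
  open CfsgLib.Blk CfsgLib.SectionSplit CfsgLib.KleinFour CfsgLib.Char in
  · haveI : M.IsMaximal := hM.2.1
    haveI : Fact (Nat.Prime 2) := ⟨Nat.prime_two⟩
    haveI := Fintype.ofFinite G
    have hexp' : ∀ x ∈ (P : Subgroup G), x * x = 1 := fun x hx => congrArg Subtype.val (hexp ⟨x, hx⟩)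
    obtain ⟨J, hJ, hJ2⟩ : ∃ J, J ∈ (P : Subgroup G) ∧ orderOf J = 2 := by
      obtain ⟨x, hx⟩ := exists_prime_orderOf_dvd_card' (G := P) 2 (by rw [hP]; norm_num)
      exact ⟨x, x.2, by rw [Subgroup.orderOf_coe, hx]⟩
    obtain ⟨hunit, hcard⟩ := card_block P hP hexp' hM hJ hJ2
    set B := Cfsg.principalBlock M G with hBdef
    let V := Submodule.span ℂ (Set.range fun χ : B => (χ.1 : G → ℂ))
    have hV : Module.finrank ℂ V = 4 := by
      rw [← hcard, Nat.card_eq_fintype_card]
      exact finrank_span_eq_card ((linearIndependent_irr (G := G)).comp _ Subtype.val_injective)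
    let R : V →ₗ[ℂ] (G → ℂ) := (regL 2 G).comp V.subtype
    have hrange : LinearMap.range R = regSpan 2 B := by
      rw [LinearMap.range_comp, Submodule.range_subtype, Submodule.map_span, ← Set.range_comp]
      congr 1
      rw [Set.image_eq_range]
      rfl
    have hreal : ∀ χ : Cfsg.IrrCharacter G, conj ((χ : G → ℂ) J) = (χ : G → ℂ) J := fun χ => by
      rw [← char_conj_eq (isCharacter_of_isIrr χ.2), inv_eq_of_mul_eq_one_right (orderOf_eq_two_iff'.1 hJ2).1]
    have hsec : ∀ f ∈ V, ∀ g z : G, Cfsg.IsPPart 2 g z → IsConj J z → f g = f J := by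
      intro f hf g z hz hJz
      induction hf using Submodule.span_induction with
      | mem f hf =>
        obtain ⟨χ, rfl⟩ := hf
        obtain ⟨v, hv, hvc, -, hvr⟩ := hz
        obtain ⟨c, hc⟩ := isConj_iff.1 hJz.symm
        show (χ.1 : G → ℂ) g = (χ.1 : G → ℂ) J
        rw [← classFun_of_irr χ.1.2 g c, show c * g * c⁻¹ = J * (c * v * c⁻¹) by rw [← hv, ← hc]; group]
        refine apply_mul P hP hexp' hM hJ hJ2 χ.2 ?_ ?_
        · rw [← hc]
          calc c * v * c⁻¹ * (c * z * c⁻¹) = c * (v * z) * c⁻¹ := by group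
            _ = _ := by rw [← hvc.eq]; group
        · rwa [← orderOf_injective (MulAut.conj c).toMonoidHom (MulEquiv.injective _) v] at hvr
      | zero => rfl
      | add a b _ _ ha hb => simp [ha, hb]
      | smul r a _ ha => simp [ha]
    let ev : LinearMap.ker R →ₗ[ℂ] ℂ :=
      { toFun := fun f => (f.1.1 : G → ℂ) J, map_add' := fun _ _ => rfl, map_smul' := fun _ _ => rfl }
    have hev : Function.Bijective ev := by
      constructor
      · rw [injective_iff_map_eq_zero]
        rintro ⟨⟨f, hf⟩, hk⟩ h0
        refine Subtype.ext (Subtype.ext (funext fun g => ?_))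
        show f g = 0
        obtain ⟨z, hz⟩ := exists_isPPart Nat.prime_two g
        rcases ppart_cases P hexp' hone hJ hJ2 hz with h | h
        · have hg : ¬ 2 ∣ orderOf g := by
            obtain ⟨v, hv, -, -, hvr⟩ := hz
            rw [h, one_mul] at hv
            rwa [← hv]
          have := congrFun (LinearMap.mem_ker.1 hk) g
          simpa [R, regL_val _ _ hg] using this
        · rw [hsec f hf g z hz h]; exact h0
      · intro a
        let f : V := ∑ χ : B, (χ.1 : G → ℂ) J • ⟨(χ.1 : G → ℂ), Submodule.subset_span ⟨χ, rfl⟩⟩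
        have hfval : ∀ g, (f.1 : G → ℂ) g = ∑ᶠ χ ∈ B, (χ : G → ℂ) g * conj ((χ : G → ℂ) J) := by
          intro g
          rw [finsum_mem_eq_sum_ite, ← Finset.sum_filter]
          refine Eq.trans (b := ∑ χ : B, (χ.1 : G → ℂ) g * conj ((χ.1 : G → ℂ) J)) ?_ (Finset.sum_subtype (p := (· ∈ B)) _ (fun χ => by simp) (fun χ : Cfsg.IrrCharacter G => (χ : G → ℂ) g * conj ((χ : G → ℂ) J))).symm
          simp only [f, AddSubmonoidClass.coe_finsetSum, Submodule.coe_smul, Finset.sum_apply, Pi.smul_apply, smul_eq_mul, hreal, mul_comm]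
        have hfk : f ∈ LinearMap.ker R := by
          rw [LinearMap.mem_ker]
          funext g
          by_cases hg : 2 ∣ orderOf g
          · exact regL_val' _ _ hg
          · show regL 2 G f.1 g = 0
            rw [regL_val _ _ hg, hfval]
            exact block_orth hM (isPBlock_principalBlock (M := M) (G := G)) (isPPart_one_of_regular hg)
              (isPPart_self ⟨1, by rw [hJ2, pow_one]⟩ Nat.prime_two)
              (fun h => (orderOf_eq_two_iff'.1 hJ2).2 (isConj_one_right.1 h))
        have h4 : (f.1 : G → ℂ) J = 4 := by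
          rw [hfval, finsum_mem_eq_sum_ite]
          exact sum_sq P hP hexp' hM hJ hJ2
        refine ⟨(a / 4) • ⟨f, hfk⟩, ?_⟩
        show a / 4 * (f.1 : G → ℂ) J = a
        rw [h4]; ring
    have hker : Module.finrank ℂ (LinearMap.ker R) = 1 := by
      rw [(LinearEquiv.ofBijective ev hev).finrank_eq, Module.finrank_self]
    have h := R.finrank_range_add_finrank_ker
    rw [hker, hV, hrange] at h
    show Module.finrank ℂ (regSpan 2 B) = 3
    omega

end Cfsg.Agent.S4512
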