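import Cfsg.Statements.S4513
import Cfsg.Agent.Blk.DefectTwo

set_option autoImplicit false
open Cfsg

namespace Cfsg.Agent.S4513
open scoped CfsgLib.Char ComplexConjugate


/-- Blocks of defect one for p = 2. Let M be a maximal ideal of the algebraic integers containing 2, B a 2-block of the finite group G whose defect group is the subgroup generated by an involution x, C = C_G(x), b a block of C inducing B and θ a member of b taking the same value at x as at 1 (there is exactly one). Then B consists of exactly two irreducible characters, which agree on every element of odd order, and they can be labelled χ₁, χ₂ with signs ε₁, ε₂ = ±1, ε₁ε₂ = −1, such that χᵢ(x y) = εᵢ θ(y) for every element y of C of odd order. -/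
theorem result {G : Type*} [Group G] [Finite G] (M : Ideal Cfsg.AlgInt) (hM : Cfsg.IsPModular 2 M) (x : G) (hx : orderOf x = 2)
    (B : Set (Cfsg.IrrCharacter G)) (hB : Cfsg.IsPBlock M B) (hBD : Cfsg.IsDefectGroup 2 M B (Subgroup.zpowers x))
    (b : Set (Cfsg.IrrCharacter ↥(Subgroup.centralizer ({x} : Set G)))) (hb : Cfsg.IsInducedBlock M (Subgroup.centralizer ({x} : Set G)) b B)
    (θ : Cfsg.IrrCharacter ↥(Subgroup.centralizer ({x} : Set G))) (hθ : θ ∈ b)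
    (hθx : ∀ z : ↥(Subgroup.centralizer ({x} : Set G)), (z : G) = x → (θ : ↥(Subgroup.centralizer ({x} : Set G)) → ℂ) z = (θ : ↥(Subgroup.centralizer ({x} : Set G)) → ℂ) 1) :
    Nat.card B = 2 ∧ (∀ χ ∈ B, ∀ ψ ∈ B, ∀ g : G, ¬ 2 ∣ orderOf g → (χ : G → ℂ) g = (ψ : G → ℂ) g) ∧
      ∃ χ₁ ∈ B, ∃ χ₂ ∈ B, χ₁ ≠ χ₂ ∧ ∃ ε₁ ε₂ : ℤ, (ε₁ = 1 ∨ ε₁ = -1) ∧ (ε₂ = 1 ∨ ε₂ = -1) ∧ ε₁ * ε₂ = -1 ∧
        ∀ y : ↥(Subgroup.centralizer ({x} : Set G)), ¬ 2 ∣ orderOf y →
          (χ₁ : G → ℂ) (x * y) = (ε₁ : ℂ) * (θ : ↥(Subgroup.centralizer ({x} : Set G)) → ℂ) y ∧ (χ₂ : G → ℂ) (x * y) = (ε₂ : ℂ) * (θ : ↥(Subgroup.centralizer ({x} : Set G)) → ℂ) y := by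
  classical
  open CfsgLib.Blk CfsgLib.Char CfsgLib.DefectTwo CfsgLib.SectionSplit in
  · haveI : M.IsMaximal := hM.2.1
    haveI : Fact (Nat.Prime 2) := ⟨Nat.prime_two⟩
    haveI := Fintype.ofFinite G
    have hx' : (θ : ↥(Subgroup.centralizer ({x} : Set G)) → ℂ) ⟨x, self_mem (rfl : Subgroup.centralizer ({x} : Set G) = Subgroup.centralizer ({x} : Set G))⟩ = (θ : ↥(Subgroup.centralizer ({x} : Set G)) → ℂ) 1 := hθx _ rfl
    have hcol := col (rfl : Subgroup.centralizer ({x} : Set G) = Subgroup.centralizer ({x} : Set G)) hx hM hBD hb hθ hx'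
    choose n hn using hcol
    have hsq := col_sq (rfl : Subgroup.centralizer ({x} : Set G) = Subgroup.centralizer ({x} : Set G)) hx hM hBD hb hθ hx' n hn
    have hne : ∀ χ ∈ B, n χ ≠ 0 := fun χ hχ => col_ne_zero (rfl : Subgroup.centralizer ({x} : Set G) = Subgroup.centralizer ({x} : Set G)) hx hM hBD hb hθ hx' hχ (hn χ)
    have hval : ∀ χ ∈ B, ∀ y : ↥(Subgroup.centralizer ({x} : Set G)), ¬ 2 ∣ orderOf y → (χ : G → ℂ) (x * y) = (n χ : ℂ) * (θ : ↥(Subgroup.centralizer ({x} : Set G)) → ℂ) y :=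
      fun χ hχ => sec_val (rfl : Subgroup.centralizer ({x} : Set G) = Subgroup.centralizer ({x} : Set G)) hx hM hBD hb hθ hx' hχ (hn χ)
    set s : Finset (Cfsg.IrrCharacter G) := Finset.univ.filter (fun χ => χ ∈ B) with hs
    have hmem : ∀ χ, χ ∈ s ↔ χ ∈ B := fun χ => by simp [hs]
    have horth : ∀ g : G, ¬ 2 ∣ orderOf g → ∑ χ ∈ s, (χ : G → ℂ) g * (n χ : ℂ) = 0 := by
      intro g hg
      have h1 : IsPPart 2 g 1 := ⟨g, one_mul g, Commute.one_left g, ⟨0, by simp⟩, hg⟩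
      have h2 : IsPPart 2 x x := ⟨1, mul_one x, Commute.one_right x, pow_order hx, by simp⟩
      have h := block_orth hM hB h1 h2 (not_conj_one hx)
      rw [finsum_mem_eq_sum_ite, ← Finset.sum_filter, ← hs] at h
      have h3 : ∀ χ ∈ s, (χ : G → ℂ) g * conj ((χ : G → ℂ) x) =
          (χ : G → ℂ) g * (n χ : ℂ) * conj ((θ : ↥(Subgroup.centralizer ({x} : Set G)) → ℂ) 1) := by
        intro χ hχ
        have := hval χ ((hmem χ).1 hχ) 1 (by simp)
        rw [OneMemClass.coe_one, mul_one] at this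
        rw [this, map_mul, map_intCast]
        ring
      rw [Finset.sum_congr rfl h3, ← Finset.sum_mul, mul_eq_zero] at h
      exact h.resolve_right (by simpa using irr_one_ne_zero θ.2)
    have hone : ∀ χ : Cfsg.IrrCharacter G, (χ : G → ℂ) 1 ≠ 0 := fun χ => irr_one_ne_zero χ.2
    have hle : s.card ≤ 2 := by
      have h1 : ∑ χ ∈ s, (1 : ℤ) ≤ ∑ χ ∈ s, n χ ^ 2 := Finset.sum_le_sum fun χ hχ =>
        Int.add_one_le_iff.2 (sq_pos_of_ne_zero (hne χ ((hmem χ).1 hχ)))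
      have h2 : ∑ χ ∈ s, n χ ^ 2 ≤ ∑ χ, n χ ^ 2 :=
        Finset.sum_le_univ_sum_of_nonneg fun χ => sq_nonneg _
      rw [hsq] at h2
      simp only [Finset.sum_const, nsmul_eq_mul, mul_one] at h1
      omega
    obtain ⟨χ₀, hχ₀⟩ := isPBlock_nonempty hB
    have hge : 2 ≤ s.card := by
      by_contra hlt
      have h1 : s = {χ₀} := by
        refine (Finset.eq_singleton_iff_unique_mem).2 ⟨(hmem _).2 hχ₀, fun χ hχ => ?_⟩
        exact Finset.card_le_one.1 (by omega) χ hχ χ₀ ((hmem _).2 hχ₀)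
      have h2 := horth 1 (by simp)
      rw [h1, Finset.sum_singleton, mul_eq_zero] at h2
      exact h2.elim (hone χ₀) (Int.cast_ne_zero.2 (hne χ₀ hχ₀))
    obtain ⟨χ₁, χ₂, h12, hs2⟩ := Finset.card_eq_two.1 (le_antisymm hle hge)
    have hm1 : χ₁ ∈ B := (hmem _).1 (by simp [hs2])
    have hm2 : χ₂ ∈ B := (hmem _).1 (by simp [hs2])
    have hBs : ∀ χ ∈ B, χ = χ₁ ∨ χ = χ₂ := fun χ hχ => by
      have := (hmem χ).2 hχ
      rwa [hs2, Finset.mem_insert, Finset.mem_singleton] at this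
    have hsq2 : n χ₁ ^ 2 + n χ₂ ^ 2 ≤ 2 := by
      have h2 : ∑ χ ∈ s, n χ ^ 2 ≤ ∑ χ, n χ ^ 2 :=
        Finset.sum_le_univ_sum_of_nonneg fun χ => sq_nonneg _
      rwa [hsq, hs2, Finset.sum_pair h12] at h2
    have hpm : ∀ χ ∈ B, n χ = 1 ∨ n χ = -1 := by
      intro χ hχ
      have h1 := sq_pos_of_ne_zero (hne χ₁ hm1)
      have h2 := sq_pos_of_ne_zero (hne χ₂ hm2)
      have h3 : n χ ^ 2 = 1 := by rcases hBs χ hχ with rfl | rfl <;> omega
      exact sq_eq_one_iff.1 h3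
    have hpair : ∀ g : G, ¬ 2 ∣ orderOf g →
        (χ₁ : G → ℂ) g * (n χ₁ : ℂ) + (χ₂ : G → ℂ) g * (n χ₂ : ℂ) = 0 := fun g hg => by
      simpa [hs2, Finset.sum_pair h12] using horth g hg
    have hprod : n χ₁ * n χ₂ = -1 := by
      have h1 := hpair 1 (by simp)
      rw [irr_one_eq χ₁.2, irr_one_eq χ₂.2] at h1
      have hp1 := charDegree_pos χ₁.2
      have hp2 := charDegree_pos χ₂.2
      have h2 : (Cfsg.charDegree (χ₁ : G → ℂ) : ℤ) * n χ₁ + (Cfsg.charDegree (χ₂ : G → ℂ) : ℤ) * n χ₂ = 0 := by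
        exact_mod_cast h1
      rcases hpm χ₁ hm1 with a | a <;> rcases hpm χ₂ hm2 with b | b <;> rw [a, b] at h2 ⊢ <;> omega
    have heq : ∀ g : G, ¬ 2 ∣ orderOf g → (χ₁ : G → ℂ) g = (χ₂ : G → ℂ) g := by
      intro g hg
      have h1 := hpair g hg
      rcases hpm χ₁ hm1 with a | a <;> rcases hpm χ₂ hm2 with b | b <;>
        rw [a, b] at hprod h1 <;> first
        | omega
        | (push_cast at h1; linear_combination h1)
        | (push_cast at h1; linear_combination -h1)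
    refine ⟨?_, fun χ hχ ψ hψ g hg => ?_, χ₁, hm1, χ₂, hm2, h12, n χ₁, n χ₂, hpm _ hm1, hpm _ hm2,
      hprod, fun y hy => ⟨hval χ₁ hm1 y hy, hval χ₂ hm2 y hy⟩⟩
    · rw [← le_antisymm hle hge, ← Nat.card_eq_finsetCard]
      exact Nat.card_congr (Equiv.subtypeEquivRight fun χ => (hmem χ).symm)
    · rcases hBs χ hχ with rfl | rfl <;> rcases hBs ψ hψ with rfl | rfl
      all_goals first | rfl | exact heq g hg | exact (heq g hg).symm

end Cfsg.Agent.S4513
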