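import Cfsg.Statements.S4517
import Cfsg.Agent.Blk.PowStable
import Cfsg.Agent.Blk.Bounds

set_option autoImplicit false
open Cfsg

namespace Cfsg.Agent.S4517

/-- Let G be a finite group, M a maximal ideal of the algebraic integers containing 2, and k a natural number coprime to the order of G with g ^ k = g⁻¹ for every element g of odd order (so that g ↦ g ^ k induces a field automorphism of the character values inverting the roots of unity of odd order). If B is a 2-block of full defect (its defect equals the exponent of 2 in the order of G) that is stable under χ ↦ χ ∘ (· ^ k), then B is the principal 2-block. -/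
theorem result {G : Type*} [Group G] [Finite G] (M : Ideal Cfsg.AlgInt) (hM : Cfsg.IsPModular 2 M) (k : ℕ) (hk : Nat.Coprime k (Nat.card G)) (hk₂ : ∀ g : G, Odd (orderOf g) → g ^ k = g⁻¹) (B : Set (Cfsg.IrrCharacter G)) (hB : Cfsg.IsPBlock M B) (hdef : Cfsg.blockDefect 2 B = (Nat.card G).factorization 2) (hstab : ∀ χ ∈ B, ∃ ψ ∈ B, ∀ g : G, (ψ : G → ℂ) g = (χ : G → ℂ) (g ^ k)) : B = Cfsg.principalBlock M G := by
  classical
  haveI := hM.2.1.isPrime
  haveI := Fact.mk Nat.prime_two
  obtain ⟨χ, hχ, h0⟩ := CfsgLib.Blk.exists_height_zero hM hB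
  refine CfsgLib.Blk.eq_principal_of_powStable hM k hk hk₂ hB hχ ?_ hstab
  have h1 : (Cfsg.charDegree (χ : G → ℂ)).factorization 2 =
      (Nat.card G).factorization 2 - Cfsg.blockDefect 2 B + Cfsg.blockHeight 2 B (χ : G → ℂ) :=
    CfsgLib.Blk.degExp_eq_height_add hM hB hχ
  rw [hdef, h0, Nat.sub_self, add_zero] at h1
  refine Nat.odd_iff.mpr (Nat.two_dvd_ne_zero.mp fun h2 => ?_)
  have h3 := (Nat.prime_two.pow_dvd_iff_le_factorization (CfsgLib.Char.charDegree_pos χ.2).ne').mp
    (show 2 ^ 1 ∣ Cfsg.charDegree (χ : G → ℂ) by simpa using h2)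
  omega

end Cfsg.Agent.S4517
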