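import Cfsg.Statements.S4518
import Cfsg.Agent.Char.GaloisTwist
import Cfsg.Agent.Char.Clifford
import Mathlib.GroupTheory.Perm.Cycle.Type

set_option autoImplicit false
open Cfsg

namespace Cfsg.Agent.S4518
open scoped CfsgLib.Char


/-- Let N be a normal subgroup of the finite group G whose index is not divisible by the prime p, and let k be coprime to the order of G with k ^ (p ^ e) ≡ 1 modulo the order of G for some e (so g ↦ g ^ k induces a field automorphism of p-power order on character values). If an irreducible character χ of G satisfies χ (g ^ k) = χ g for all g, then every irreducible constituent θ of the restriction of χ to N satisfies θ (n ^ k) = θ n for all n. -/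
theorem result {G : Type*} [Group G] [Fintype G] (p : ℕ) [Fact p.Prime] (N : Subgroup G) [N.Normal] [Fintype N] (hidx : ¬ p ∣ N.index) (k e : ℕ) (hk : Nat.Coprime k (Nat.card G)) (hke : k ^ (p ^ e) ≡ 1 [MOD Nat.card G]) (χ : Cfsg.IrrCharacter G) (hχ : ∀ g : G, (χ : G → ℂ) (g ^ k) = (χ : G → ℂ) g) (θ : Cfsg.IrrCharacter N) (hθ : Cfsg.classInner (fun n : N => (χ : G → ℂ) n) (θ : N → ℂ) ≠ 0) : ∀ n : N, (θ : N → ℂ) (n ^ k) = (θ : N → ℂ) n := by
  classical
  have hp : p.Prime := Fact.out
  open CfsgLib.Char in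
  · have hkN : k.Coprime (Nat.card N) := hk.coprime_dvd_right (Subgroup.card_subgroup_dvd_card N)
    have hb := pow_coprime_bijective (G := N) hkN
    let σ : Cfsg.IrrCharacter N → Cfsg.IrrCharacter N := fun ψ => ⟨fun n => (ψ : N → ℂ) (n ^ k), irr_pow hkN ψ.2⟩
    have hσ : Function.Injective σ := fun a c h => Subtype.ext (funext fun n => by
      obtain ⟨m, rfl⟩ := hb.2 n
      exact congrFun (congrArg Subtype.val h) m)
    let C := {ψ : Cfsg.IrrCharacter N // Cfsg.classInner (fun n : N => (χ : G → ℂ) n) (ψ : N → ℂ) ≠ 0}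
    have hmap : ∀ ψ : C, Cfsg.classInner (fun n : N => (χ : G → ℂ) n) (σ ψ.1 : N → ℂ) ≠ 0 := fun ψ => by
      have e : Cfsg.classInner (fun n : N => (χ : G → ℂ) n) (σ ψ.1 : N → ℂ) =
          Cfsg.classInner (fun n : N => (χ : G → ℂ) n) (ψ.1 : N → ℂ) := by
        rw [classInner_def, classInner_def]
        congr 1
        refine Fintype.sum_bijective (fun n : N => n ^ k) hb _ _ fun n => ?_
        show (χ : G → ℂ) n * _ = (χ : G → ℂ) ((n ^ k : N) : G) * _
        rw [SubmonoidClass.coe_pow, hχ]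
      rw [e]; exact ψ.2
    let s : Equiv.Perm C := Equiv.ofBijective (fun ψ => ⟨σ ψ.1, hmap ψ⟩)
      (Finite.injective_iff_bijective.1 fun a c h => Subtype.ext (hσ (congrArg Subtype.val h)))
    have hpow : ∀ (j : ℕ) (ψ : C) (n : N), ((s ^ j) ψ).1.1 n = ψ.1.1 (n ^ k ^ j) := by
      intro j
      induction j with
      | zero => intro ψ n; simp
      | succ j ih =>
        intro ψ n
        rw [pow_succ', Equiv.Perm.mul_apply]
        show ((s ^ j) ψ).1.1 (n ^ k) = _
        rw [ih, ← pow_mul, ← pow_succ']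
    have hone : s ^ (p ^ e) = 1 := Equiv.ext fun ψ => Subtype.ext (Subtype.ext (funext fun n => by
      rw [hpow, Equiv.Perm.one_apply, pow_eq_pow_iff_modEq.2 (hke.of_dvd
        ((orderOf_dvd_natCard n).trans (Subgroup.card_subgroup_dvd_card N))), pow_one]))
    have horb : ∀ ψ : Cfsg.IrrCharacter N, (Cfsg.classInner (fun n : N => (χ : G → ℂ) n) (ψ : N → ℂ) ≠ 0 ↔
        (ψ : N → ℂ) ∈ Finset.univ.image (conjN (θ : N → ℂ))) := fun ψ => by
      constructor
      · intro h
        obtain ⟨g, hg⟩ := conjugate_of_constituents χ.2 θ.2 ψ.2 hθ h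
        exact Finset.mem_image.2 ⟨g, Finset.mem_univ _, hg.symm⟩
      · intro h
        obtain ⟨g, -, hg⟩ := Finset.mem_image.1 h
        rw [← hg, inner_res_conjN (classFun_of_irr χ.2)]
        exact hθ
    have hcard : Fintype.card C = (inertia (θ : N → ℂ)).index := by
      rw [← card_orbit, ← Finset.card_univ]
      refine Finset.card_bij (fun ψ _ => ψ.1.1) (fun ψ _ => (horb ψ.1).1 ψ.2)
        (fun a _ c _ h => Subtype.ext (Subtype.ext h)) fun f hf => ?_
      obtain ⟨g, -, rfl⟩ := Finset.mem_image.1 hf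
      exact ⟨⟨⟨_, irr_conjN θ.2 g⟩, (horb ⟨_, irr_conjN θ.2 g⟩).2 hf⟩, Finset.mem_univ _, rfl⟩
    obtain ⟨ψ, hψ⟩ := Equiv.Perm.exists_fixed_point_of_prime (p := p) (n := e)
      (fun h => hidx (h.trans (hcard ▸ Subgroup.index_dvd_of_le (le_inertia (classFun_of_irr θ.2))))) hone
    obtain ⟨g, hg⟩ := conjugate_of_constituents χ.2 ψ.1.2 θ.2 ψ.2 hθ
    intro n
    have hψk : ∀ m : N, ψ.1.1 (m ^ k) = ψ.1.1 m := fun m => congrFun (congrArg (fun a : C => a.1.1) hψ) m
    rw [hg]
    simp only [conjN]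
    rw [← hψk ⟨g * n * g⁻¹, _⟩]
    refine congrArg (ψ.1 : N → ℂ) (Subtype.ext ?_)
    push_cast
    exact (conj_pow).symm

end Cfsg.Agent.S4518
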