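import Cfsg.Statements.S4519
import Cfsg.Agent.Char.PermLemma
import Cfsg.Agent.Char.ExtCrit
import Cfsg.Agent.Char.Gallagher
import Cfsg.Agent.Char.GaloisTwist
import Cfsg.Agent.Char.IrrProduct
import Cfsg.Agent.Char.Ramified
import Cfsg.Agent.Blk.PPart
import Mathlib.GroupTheory.IndexNormal

set_option autoImplicit false
open Cfsg

namespace Cfsg.Agent.S4519
open CfsgLib.Char
open scoped CfsgLib.Char ComplexConjugate

universe u

def Hyp (k : ℕ) (G : Type*) [Group G] : Prop :=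
  k.Coprime (Nat.card G) ∧ ∀ g : G, Odd (orderOf g) → g ^ k = g⁻¹

theorem hom_pow {G : Type*} [Group G] [Finite G] {A : Type*} [Group A] {k m : ℕ} (hk : Hyp k G)
    (hm : Odd m) (f : G →* A) (hf : ∀ g, f g ^ m = 1) (g : G) : f (g ^ k) = (f g)⁻¹ := by
  haveI : Fact (Nat.Prime 2) := ⟨Nat.prime_two⟩
  obtain ⟨x, y, hxy, -, ⟨j, hj⟩, hy⟩ := CfsgLib.Blk.exists_isPPart Nat.prime_two g
  have hx : f x = 1 := by
    rw [← orderOf_eq_one_iff]
    refine Nat.Coprime.eq_one_of_dvd (Nat.Coprime.pow_right j ?_) (hj ▸ orderOf_map_dvd f x)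
    exact Nat.coprime_two_right.2 (Odd.of_dvd_nat hm (orderOf_dvd_of_pow_eq_one (hf x)))
  rw [map_pow, ← hxy, map_mul, hx, one_mul, ← map_pow,
    hk.2 y (Nat.not_even_iff_odd.1 fun h => hy (even_iff_two_dvd.1 h)), map_inv]

theorem Hyp.sub {G : Type*} [Group G] {k : ℕ} (hk : Hyp k G) (H : Subgroup G) : Hyp k H :=
  ⟨hk.1.coprime_dvd_right (Subgroup.card_subgroup_dvd_card H), fun g hg => Subtype.ext (by
    rw [Subgroup.coe_pow, Subgroup.coe_inv]
    exact hk.2 (g : G) (by rwa [Subgroup.orderOf_coe]))⟩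

section
variable {G : Type u} [Group G] [Fintype G] {N : Subgroup G} [hN : N.Normal] [Fintype N]
variable {k : ℕ} {θ : N → ℂ}

theorem sum_theta_mul (hθ : Cfsg.IsIrrCharacter N θ) (hinv : ∀ g : G, conjN θ g = θ)
    (χ : Cfsg.IrrCharacter G) (a : G) :
    (θ 1 / (Nat.card N : ℂ)) * ∑ n : N, conj (θ n) * (χ : G → ℂ) ((n : G) * a) =
      if Cfsg.classInner (fun n : N => (χ : G → ℂ) n) θ ≠ 0 then (χ : G → ℂ) a else 0 := by
  classical
  set f : G → ℂ := fun g => if h : g ∈ N then conj (θ ⟨g, h⟩) else 0 with hf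
  have hcf : Cfsg.IsClassFunction G f := by
    intro g c
    simp only [hf]
    by_cases h : g ∈ N
    · rw [dif_pos (hN.conj_mem g h c), dif_pos h]
      exact congrArg conj (congrFun (hinv c) ⟨g, h⟩)
    · rw [dif_neg h, dif_neg fun h' => h (by
        have := hN.conj_mem _ h' c⁻¹
        simpa [mul_assoc] using this)]
  have hs : ∀ F : G → ℂ, ∑ g : G, f g * F g = ∑ n : N, conj (θ n) * F n := by
    intro F
    rw [← Finset.sum_subset (Finset.subset_univ (Finset.univ.filter (· ∈ N))) fun g _ hg => by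
      simp only [hf]
      rw [dif_neg fun h => hg (Finset.mem_filter.2 ⟨Finset.mem_univ _, h⟩), zero_mul]]
    rw [Finset.sum_subtype (p := (· ∈ N)) _ (fun g => by simp) (fun g => f g * F g)]
    exact Finset.sum_congr rfl fun n _ => by simp only [hf]; rw [dif_pos n.2]
  obtain ⟨ψ, ⟨m, ρ, hirr, rfl⟩⟩ := χ
  haveI := hirr
  show _ * ∑ n : N, conj (θ n) * ρ.character ((n : G) * a) =
    if Cfsg.classInner (fun n : N => ρ.character n) θ ≠ 0 then ρ.character a else 0
  have h := congrArg (LinearMap.trace ℂ (Fin m → ℂ))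
    (congrArg (· * ρ a) (classFun_scalar ρ hcf))
  simp only [Finset.sum_mul, smul_mul_assoc, ← map_mul, map_sum, map_smul, smul_eq_mul,
    ← Module.End.one_eq_id, one_mul] at h
  simp only [hs] at h
  have h1 : ∑ n : N, conj (θ n) * ρ.character ((n : G) * a) =
      (∑ n : N, conj (θ n) * ρ.character n) / ρ.character 1 * ρ.character a := by
    rw [Representation.char_one]; exact h
  have h2 : ∑ n : N, conj (θ n) * ρ.character n =
      (Nat.card N : ℂ) * Cfsg.classInner (fun n : N => ρ.character n) θ := by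
    rw [classInner_def, ← mul_assoc, mul_inv_cancel₀ (natCard_ne_zero N), one_mul]
    exact Finset.sum_congr rfl fun n _ => mul_comm _ _
  rw [h1, h2]
  split_ifs with hc
  · have hres := congrFun (res_homogeneous ⟨m, ρ, hirr, rfl⟩ hθ hc hinv) 1
    simp only [Pi.smul_apply, smul_eq_mul, OneMemClass.coe_one] at hres
    have hθ1 : θ 1 ≠ 0 := irr_one_ne_zero hθ
    rw [hres]
    field_simp [natCard_ne_zero N]
  · rw [not_not.1 hc]; ring

theorem unique_fixed (hk : Hyp k G) (hidx : Odd N.index) (hθ : Cfsg.IsIrrCharacter N θ)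
    (hinv : ∀ g : G, conjN θ g = θ) (hfix : ∀ n : N, θ (n ^ k) = θ n) :
    ∃ χ : Cfsg.IrrCharacter G, ∀ χ' : Cfsg.IrrCharacter G,
      (Cfsg.classInner (fun n : N => (χ' : G → ℂ) n) θ ≠ 0 ∧
        ∀ g : G, (χ' : G → ℂ) (g ^ k) = (χ' : G → ℂ) g) ↔ χ' = χ := by
  classical
  set X := Finset.univ.filter fun χ : Cfsg.IrrCharacter G =>
    Cfsg.classInner (fun n : N => (χ : G → ℂ) n) θ ≠ 0 with hX
  have hout : ∀ g : G, g ∉ N → ∑ χ ∈ X, (χ : G → ℂ) (g ^ k) * conj ((χ : G → ℂ) g) = 0 := by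
    intro g hg
    have e : ∀ χ : Cfsg.IrrCharacter G,
        (if χ ∈ X then (χ : G → ℂ) (g ^ k) * conj ((χ : G → ℂ) g) else 0) =
        (θ 1 / (Nat.card N : ℂ)) * ∑ n : N, conj (θ n) *
          ((χ : G → ℂ) ((n : G) * g ^ k) * conj ((χ : G → ℂ) g)) := by
      intro χ
      rw [Finset.sum_congr rfl fun n _ => (mul_assoc _ _ _).symm, ← Finset.sum_mul, ← mul_assoc,
        sum_theta_mul hθ hinv χ]
      simp only [hX, Finset.mem_filter, Finset.mem_univ, true_and]
      split_ifs <;> simp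
    rw [← Finset.univ_inter X, ← Finset.sum_ite_mem, Finset.sum_congr rfl fun χ _ => e χ,
      ← Finset.mul_sum, Finset.sum_comm]
    refine mul_eq_zero_of_right _ (Finset.sum_eq_zero fun n _ => ?_)
    rw [← Finset.mul_sum, second_orth, if_neg, mul_zero]
    intro hc
    apply hg
    rw [← QuotientGroup.eq_one_iff]
    refine eq_one_of_isConj_inv_odd (by rwa [← Subgroup.index_eq_card]) ?_
    have h1 : IsConj (QuotientGroup.mk' N ((n : G) * g ^ k)) (QuotientGroup.mk' N g) :=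
      (QuotientGroup.mk' N).map_isConj hc
    rw [map_mul, show QuotientGroup.mk' N (n : G) = 1 from (QuotientGroup.eq_one_iff _).2 n.2,
      one_mul, hom_pow hk hidx (QuotientGroup.mk' N) (fun g => by
        rw [Subgroup.index_eq_card]; exact pow_card_eq_one')] at h1
    exact h1.symm
  have hsq : ∑ χ ∈ X, Cfsg.classInner (fun n : N => (χ : G → ℂ) n) θ *
      conj (Cfsg.classInner (fun n : N => (χ : G → ℂ) n) θ) = (N.index : ℂ) := by
    have h := norm_indFun_inv hθ hinv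
    conv_lhs at h => rw [indFun_eq_sum_mult]
    rw [classInner_sum_left] at h
    simp only [classInner_smul_left, classInner_sum_right, classInner_smul_right, irrChar_inner,
      mul_ite, mul_one, mul_zero, Finset.sum_ite_eq, Finset.mem_univ, if_true, Complex.conj_conj] at h
    rw [← h, ← Finset.sum_subset (Finset.subset_univ X) fun χ _ hχ => by
      have : Cfsg.classInner (fun n : N => (χ : G → ℂ) n) θ = 0 := by
        by_contra h0; exact hχ (Finset.mem_filter.2 ⟨Finset.mem_univ _, h0⟩)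
      rw [this]; simp]
  have hin : ∀ χ ∈ X, ∀ n : N, (χ : G → ℂ) ((n : G) ^ k) * conj ((χ : G → ℂ) n) =
      Cfsg.classInner (fun n : N => (χ : G → ℂ) n) θ *
        conj (Cfsg.classInner (fun n : N => (χ : G → ℂ) n) θ) * (θ n * conj (θ n)) := by
    intro χ hχ n
    have hres := res_homogeneous χ.2 hθ (Finset.mem_filter.1 hχ).2 hinv
    rw [← Subgroup.coe_pow, show (χ : G → ℂ) ((n ^ k : N) : G) = _ from congrFun hres (n ^ k),
      show (χ : G → ℂ) (n : G) = _ from congrFun hres n, Pi.smul_apply, Pi.smul_apply, smul_eq_mul,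
      smul_eq_mul, hfix, map_mul]
    ring
  have hcount : ∑ χ ∈ X, Cfsg.classInner (fun g => (χ : G → ℂ) (g ^ k)) (χ : G → ℂ) = 1 := by
    simp only [classInner_def]
    rw [← Finset.mul_sum, Finset.sum_comm,
      ← Finset.sum_subset (Finset.subset_univ (Finset.univ.filter (· ∈ N))) fun g _ hg => hout g
        fun h => hg (Finset.mem_filter.2 ⟨Finset.mem_univ _, h⟩),
      Finset.sum_subtype (p := (· ∈ N)) _ (fun g => by simp)
        (fun g => ∑ χ ∈ X, (χ : G → ℂ) (g ^ k) * conj ((χ : G → ℂ) g)),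
      Finset.sum_congr rfl fun (n : N) _ => Finset.sum_congr rfl fun χ hχ => hin χ hχ n]
    simp only [← Finset.sum_mul, ← Finset.mul_sum]
    rw [hsq]
    have h := irr_inner_self hθ
    rw [classInner_def, inv_mul_eq_iff_eq_mul₀ (natCard_ne_zero N), mul_one] at h
    rw [h, ← N.card_mul_index, Nat.cast_mul]
    have hi : (N.index : ℂ) ≠ 0 := Nat.cast_ne_zero.2 Subgroup.index_ne_zero_of_finite
    field_simp [natCard_ne_zero N]
  rw [Finset.sum_congr rfl fun χ _ => irr_inner (irr_pow hk.1 χ.2) χ.2, Finset.sum_boole,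
    Nat.cast_eq_one, Finset.card_eq_one] at hcount
  obtain ⟨χ, hχ⟩ := hcount
  refine ⟨χ, fun χ' => ?_⟩
  rw [← Finset.mem_singleton, ← hχ]
  simp only [hX, Finset.mem_filter, Finset.mem_univ, true_and]
  exact and_congr_right fun _ => funext_iff.symm

theorem fixed_ext (hk : Hyp k G) (hidx : Odd N.index) (hθ : Cfsg.IsIrrCharacter N θ)
    (hfix : ∀ n : N, θ (n ^ k) = θ n)
    (hex : ∃ χ : G → ℂ, Cfsg.IsIrrCharacter G χ ∧ ∀ n : N, χ n = θ n) :
    ∃ χ : G → ℂ, Cfsg.IsIrrCharacter G χ ∧ (∀ n : N, χ n = θ n) ∧ ∀ g, χ (g ^ k) = χ g := by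
  classical
  obtain ⟨χ₁, hχ₁, hext⟩ := hex
  have hσ := irr_pow hk.1 hχ₁
  have hσN : ∀ n : N, χ₁ ((n : G) ^ k) = θ n := fun n => by
    rw [← Subgroup.coe_pow, hext, hfix]
  obtain ⟨β, hβ, hβeq⟩ := (gallagher hθ (isCharacter_of_isIrr hχ₁) hext).surjOn
    (show (fun g => χ₁ (g ^ k)) ∈ _ from ⟨hσ, by
      show Cfsg.classInner (fun n : N => χ₁ ((n : G) ^ k)) θ ≠ 0
      rw [funext hσN, irr_inner_self hθ]; exact one_ne_zero⟩)
  simp only at hβeq
  have hβ1 : β 1 = 1 := by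
    have h1 := congrFun hβeq 1
    rw [Pi.mul_apply] at h1
    simp only [one_pow] at h1
    exact mul_eq_right₀ (irr_one_ne_zero hχ₁) |>.1 h1
  obtain ⟨L, hL⟩ := exists_hom_of_degree_one (isCharacter_of_isIrr hβ.1) hβ1
  have hLN : ∀ n : N, L (n : G) = 1 := fun n => Units.ext (by
    rw [← congrFun hL n, hβ.2 n, hβ1, Units.val_one])
  have hLord : ∀ g, L g ^ N.index = 1 := fun g => by
    rw [← map_pow]; exact hLN ⟨_, N.pow_index_mem g⟩
  set m := (N.index + 1) / 2 with hm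
  have hm2 : m + m = N.index + 1 := by
    obtain ⟨a, ha⟩ := hidx; omega
  refine ⟨fun g => χ₁ g * ((L ^ m) g : ℂ), irr_mul_linear hχ₁ (L ^ m), fun n => ?_, fun g => ?_⟩
  · show χ₁ (n : G) * ((L ^ m) (n : G) : ℂ) = θ n
    rw [MonoidHom.pow_apply, hLN, one_pow, Units.val_one, mul_one, hext]
  · have hμ : (L ^ m) (g ^ k) = ((L g) ^ m)⁻¹ := by
      rw [MonoidHom.pow_apply, hom_pow hk hidx L hLord, inv_pow]
    have hb := congrFun hβeq g
    rw [Pi.mul_apply, congrFun hL g] at hb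
    show χ₁ (g ^ k) * ((L ^ m) (g ^ k) : ℂ) = χ₁ g * ((L ^ m) g : ℂ)
    rw [← hb, hμ, MonoidHom.pow_apply]
    have h2 : L g * (L g ^ m)⁻¹ = L g ^ m := by
      rw [mul_inv_eq_iff_eq_mul, ← pow_add, hm2, pow_succ, hLord, one_mul]
    have h3 := congrArg Units.val h2
    rw [Units.val_mul] at h3
    rw [mul_comm (L g : ℂ) (χ₁ g), mul_assoc, h3]

end

theorem ext_qGroup (k q : ℕ) [Fact q.Prime] : ∀ m : ℕ, ∀ (G : Type u) [Group G] [Fintype G]
    (N : Subgroup G) [N.Normal] [Fintype N] (θ : N → ℂ), N.index = q ^ m → Odd N.index → Hyp k G →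
    Cfsg.IsIrrCharacter N θ → (∀ g : G, conjN θ g = θ) → (∀ n : N, θ (n ^ k) = θ n) →
    ∃ χ : G → ℂ, Cfsg.IsIrrCharacter G χ ∧ ∀ n : N, χ n = θ n := by
  intro m
  induction m with
  | zero =>
    intro G _ _ N _ _ θ hi _ _ hθ _ _
    have htop : N = ⊤ := Subgroup.index_eq_one.1 (by simpa using hi)
    subst htop
    refine ⟨θ ∘ Subgroup.topEquiv.symm, irr_mulEquiv _ hθ, fun n => ?_⟩
    rfl
  | succ m ih =>
    intro G _ _ N _ _ θ hi hodd hk hθ hinv hfix
    classical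
    have hq : q.Prime := Fact.out
    have hcardQ : Nat.card (G ⧸ N) = q ^ (m + 1) := by rw [← Subgroup.index_eq_card, hi]
    obtain ⟨Kb, hKb⟩ := Sylow.exists_subgroup_card_pow_prime (G := G ⧸ N) q (n := m)
      (hcardQ ▸ pow_dvd_pow q (Nat.le_succ m))
    have hKbi : Kb.index = q := by
      have h := Kb.card_mul_index
      rw [hKb, hcardQ, pow_succ] at h
      exact Nat.eq_of_mul_eq_mul_left (pow_pos hq.pos m) h
    haveI : Kb.Normal := Subgroup.normal_of_index_eq_minFac_card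
      (by rw [hKbi, hcardQ, Nat.Prime.pow_minFac hq (Nat.succ_ne_zero m)])
    set K := Kb.comap (QuotientGroup.mk' N) with hKdef
    have hKi : K.index = q := by
      rw [hKdef, Subgroup.index_comap_of_surjective _ (QuotientGroup.mk'_surjective N), hKbi]
    have hNK : N ≤ K := QuotientGroup.le_comap_mk' N Kb
    haveI := Fintype.ofFinite K
    haveI := Fintype.ofFinite (N.subgroupOf K)
    let e : N.subgroupOf K ≃* N := Subgroup.subgroupOfEquivOfLe hNK
    have hrel : (N.subgroupOf K).index = q ^ m := by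
      have h := Subgroup.relIndex_mul_index hNK
      rw [hKi, hi, pow_succ] at h
      exact Nat.eq_of_mul_eq_mul_right hq.pos h
    have hoddK : Odd (N.subgroupOf K).index :=
      hrel ▸ Odd.of_dvd_nat hodd (hi ▸ pow_dvd_pow q (Nat.le_succ m))
    have hinvK : ∀ c : K, conjN (θ ∘ e) c = θ ∘ e := by
      intro c
      funext n
      exact (congrArg θ (Subtype.ext rfl)).trans (congrFun (hinv (c : G)) (e n))
    have hθK : Cfsg.IsIrrCharacter (N.subgroupOf K) (θ ∘ e) := irr_mulEquiv e hθ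
    have hfixK : ∀ n : N.subgroupOf K, (θ ∘ e) (n ^ k) = (θ ∘ e) n := fun n => by
      simp only [Function.comp_apply, map_pow, hfix]
    obtain ⟨η, hη, hηN, hηk⟩ := fixed_ext (hk.sub K) hoddK hθK hfixK
      (ih K (N.subgroupOf K) (θ ∘ e) hrel hoddK (hk.sub K) hθK hinvK hfixK)
    obtain ⟨η₀, huniq⟩ := unique_fixed (hk.sub K) hoddK hθK hinvK hfixK
    have hηinv : ∀ g : G, conjN η g = η := by
      intro g
      have h1 : (⟨η, hη⟩ : Cfsg.IrrCharacter K) = η₀ := (huniq _).1 ⟨by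
        show Cfsg.classInner (fun n : N.subgroupOf K => η n) (θ ∘ e) ≠ 0
        rw [funext hηN, irr_inner_self hθK]; exact one_ne_zero, hηk⟩
      have h2 : (⟨conjN η g, irr_conjN hη g⟩ : Cfsg.IrrCharacter K) = η₀ := (huniq _).1 ⟨by
        have : (fun n : N.subgroupOf K => conjN η g (n : K)) = θ ∘ e := by
          funext n
          have h0 := hηN (e.symm ⟨g * (e n : G) * g⁻¹, (inferInstance : N.Normal).conj_mem _ (e n).2 g⟩)
          have h0' := congrFun (hinv g) (e n)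
          simp only [conjN, Function.comp_apply] at h0' ⊢
          refine Eq.trans ?_ h0'
          rw [show (⟨g * ((e n : N) : G) * g⁻¹, _⟩ : N) = e (e.symm ⟨g * (e n : G) * g⁻¹,
            (inferInstance : N.Normal).conj_mem _ (e n).2 g⟩) from (e.apply_symm_apply _).symm]
          exact Eq.trans (congrArg η (Subtype.ext rfl)) h0
        show Cfsg.classInner (fun n : N.subgroupOf K => conjN η g (n : K)) (θ ∘ e) ≠ 0
        rw [this, irr_inner_self hθK]; exact one_ne_zero, fun c => by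
          show conjN η g (c ^ k) = conjN η g c
          rw [conjN_eq_comp, Function.comp_apply, Function.comp_apply, map_pow, hηk]⟩
      exact congrArg Subtype.val (h2.trans h1.symm)
    haveI : IsCyclic (G ⧸ K) := isCyclic_of_prime_card (p := q) (by rw [← Subgroup.index_eq_card, hKi])
    obtain ⟨χ, hχ, hχK⟩ := extend_cyclic hη hηinv inferInstance
    refine ⟨χ, hχ, fun n => ?_⟩
    have h0 := hηN (e.symm n)
    rw [Function.comp_apply, e.apply_symm_apply] at h0
    rw [← h0, ← hχK]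
    rfl

theorem inv_case {G : Type u} [Group G] [Fintype G] {N : Subgroup G} [N.Normal] [Fintype N]
    {k : ℕ} {θ : N → ℂ} (hk : Hyp k G) (hidx : Odd N.index) (hθ : Cfsg.IsIrrCharacter N θ)
    (hinv : ∀ g : G, conjN θ g = θ) (hfix : ∀ n : N, θ (n ^ k) = θ n) :
    ∃ χ : Cfsg.IrrCharacter G, (∀ χ' : Cfsg.IrrCharacter G,
      (Cfsg.classInner (fun n : N => (χ' : G → ℂ) n) θ ≠ 0 ∧
        ∀ g : G, (χ' : G → ℂ) (g ^ k) = (χ' : G → ℂ) g) ↔ χ' = χ) ∧
      ∀ n : N, (χ : G → ℂ) n = θ n := by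
  classical
  obtain ⟨χ, huniq⟩ := unique_fixed hk hidx hθ hinv hfix
  have hex : ∃ χ₁ : G → ℂ, Cfsg.IsIrrCharacter G χ₁ ∧ ∀ n : N, χ₁ n = θ n := by
    refine extend_of_sylow hθ hinv fun q hq => ?_
    haveI := Fact.mk hq
    obtain ⟨S⟩ : Nonempty (Sylow q (G ⧸ N)) := inferInstance
    set P := (S : Subgroup (G ⧸ N)).comap (QuotientGroup.mk' N) with hP
    have hNP : N ≤ P := QuotientGroup.le_comap_mk' N _
    have hPi : P.index = (S : Subgroup (G ⧸ N)).index :=
      Subgroup.index_comap_of_surjective _ (QuotientGroup.mk'_surjective N)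
    obtain ⟨m, hm⟩ := IsPGroup.iff_card.1 S.2
    have hrel : (N.subgroupOf P).index = q ^ m := by
      have h := Subgroup.relIndex_mul_index hNP
      rw [hPi, Subgroup.index_eq_card N, ← (S : Subgroup (G ⧸ N)).card_mul_index, hm] at h
      exact Nat.eq_of_mul_eq_mul_right (Nat.pos_of_ne_zero Subgroup.index_ne_zero_of_finite) h
    haveI := Fintype.ofFinite P
    haveI := Fintype.ofFinite (N.subgroupOf P)
    let e : N.subgroupOf P ≃* N := Subgroup.subgroupOfEquivOfLe hNP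
    have hodd : Odd (N.subgroupOf P).index := Odd.of_dvd_nat hidx ⟨_, (Subgroup.relIndex_mul_index hNP).symm⟩
    obtain ⟨η, hη, hηN⟩ := ext_qGroup k q m P (N.subgroupOf P) (θ ∘ e) hrel hodd (hk.sub P)
      (irr_mulEquiv e hθ)
      (fun c => funext fun n => (congrArg θ (Subtype.ext rfl)).trans (congrFun (hinv (c : G)) (e n)))
      (fun n => by simp only [Function.comp_apply, map_pow, hfix])
    refine ⟨P, hNP, η, ?_, hη, fun n => ?_⟩
    · rw [hPi]
      exact (hq.coprime_iff_not_dvd.2 S.not_dvd_index).symm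
    · have h0 := hηN (e.symm n)
      rw [Function.comp_apply, e.apply_symm_apply] at h0
      rw [← h0]
      rfl
  obtain ⟨χ₂, hχ₂, hN2, hk2⟩ := fixed_ext hk hidx hθ hfix hex
  have e : (⟨χ₂, hχ₂⟩ : Cfsg.IrrCharacter G) = χ := (huniq _).1 ⟨by
    show Cfsg.classInner (fun n : N => χ₂ n) θ ≠ 0
    rw [funext hN2, irr_inner_self hθ]; exact one_ne_zero, hk2⟩
  exact ⟨χ, huniq, fun n => e ▸ hN2 n⟩

theorem main {G : Type u} [Group G] [Fintype G] (N : Subgroup G) [N.Normal] [Fintype N]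
    {k : ℕ} {θ : N → ℂ} (hk : Hyp k G) (hidx : Odd N.index) (hθ : Cfsg.IsIrrCharacter N θ)
    (hfix : ∀ n : N, θ (n ^ k) = θ n) :
    ∃ χ : Cfsg.IrrCharacter G, (Cfsg.classInner (fun n : N => (χ : G → ℂ) n) θ ≠ 0 ∧
      (∀ g : G, (χ : G → ℂ) (g ^ k) = (χ : G → ℂ) g) ∧
      ((∀ g : G, conjN θ g = θ) → ∀ n : N, (χ : G → ℂ) n = θ n)) ∧
      ∀ χ' : Cfsg.IrrCharacter G, Cfsg.classInner (fun n : N => (χ' : G → ℂ) n) θ ≠ 0 →
        (∀ g : G, (χ' : G → ℂ) (g ^ k) = (χ' : G → ℂ) g) → χ' = χ := by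
  classical
  by_cases hinv : ∀ g : G, conjN θ g = θ
  · obtain ⟨χ, huniq, hext⟩ := inv_case hk hidx hθ hinv hfix
    obtain ⟨h1, h2⟩ := (huniq χ).2 rfl
    exact ⟨χ, ⟨h1, h2, fun _ => hext⟩, fun χ' a b => (huniq χ').1 ⟨a, b⟩⟩
  set T := inertia θ with hTdef
  haveI := Fintype.ofFinite T
  have hT : ∀ g : G, g ∈ T ↔ conjN θ g = θ := fun g => Iff.rfl
  have hNT : N ≤ T := le_inertia (classFun_of_irr hθ)
  haveI := Fintype.ofFinite (N.subgroupOf T)
  let e : N.subgroupOf T ≃* N := Subgroup.subgroupOfEquivOfLe hNT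
  have hodd : Odd (N.subgroupOf T).index := Odd.of_dvd_nat hidx ⟨_, (Subgroup.relIndex_mul_index hNT).symm⟩
  obtain ⟨ψ, huniq, hψN⟩ := inv_case (θ := θ ∘ e) (hk.sub T) hodd (irr_mulEquiv e hθ)
    (fun c => funext fun n => (congrArg θ (Subtype.ext rfl)).trans (congrFun ((hT c).1 c.2) (e n)))
    (fun n => by simp only [Function.comp_apply, map_pow, hfix])
  obtain ⟨hψ0, hψk⟩ := (huniq ψ).2 rfl
  have hconv : ∀ φ : T → ℂ, Cfsg.classInner (fun n : N.subgroupOf T => φ n) (θ ∘ e) =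
      Cfsg.classInner (fun n : N => φ ⟨n, hNT n.2⟩) θ := fun φ => by
    rw [← classInner_mulEquiv e (fun n : N => φ ⟨n, hNT n.2⟩) θ]
    rfl
  rw [hconv] at hψ0
  obtain ⟨hirr, hmul⟩ := clifford_induce hθ hT hNT ψ.2 hψ0
  refine ⟨⟨_, hirr⟩, ⟨by show Cfsg.classInner _ _ ≠ 0; rw [hmul]; exact hψ0, fun g => ?_,
    fun h => absurd h hinv⟩, fun χ' h1 h2 => ?_⟩
  · show Cfsg.indFun T (ψ : T → ℂ) (g ^ k) = Cfsg.indFun T (ψ : T → ℂ) g
    rw [indFun_pow' hk.1]
    congr 1
    exact funext hψk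
  · obtain ⟨ψ', hψ', hind, hinner⟩ := clifford_exists hθ hT hNT χ'.2 h1
    have hc' : Cfsg.classInner (fun n : N => ψ' ⟨n, hNT n.2⟩) θ ≠ 0 := by rw [hinner]; exact h1
    have hσ := irr_pow (hk.sub T).1 hψ'
    have hcσ : Cfsg.classInner (fun n : N => ψ' ((⟨n, hNT n.2⟩ : T) ^ k)) θ ≠ 0 := by
      have : Cfsg.classInner (fun n : N => ψ' ((⟨n, hNT n.2⟩ : T) ^ k)) θ =
          Cfsg.classInner (fun n : N => ψ' ⟨n, hNT n.2⟩) θ := by
        rw [classInner_def, classInner_def]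
        congr 1
        refine Fintype.sum_bijective _ (pow_coprime_bijective (hk.sub N).1) _ _ fun n => ?_
        rw [hfix n]
        rfl
      rw [this]; exact hc'
    have hfix' : (fun t : T => ψ' (t ^ k)) = ψ' := clifford_unique hθ hT hNT hσ hψ' hcσ hc' (by
      funext g
      rw [← indFun_pow' hk.1, hind]
      exact h2 g)
    have heq : (⟨ψ', hψ'⟩ : Cfsg.IrrCharacter T) = ψ := (huniq _).1 ⟨by
      rw [hconv]; exact hc', fun t => congrFun hfix' t⟩
    refine Subtype.ext ?_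
    show (χ' : G → ℂ) = Cfsg.indFun T (ψ : T → ℂ)
    rw [← heq, hind]


/-- Let N be a normal subgroup of odd index in the finite group G, and let k be coprime to the order of G with k ^ (2 ^ e) ≡ 1 modulo the order of G for some e and g ^ k = g⁻¹ for every element g of odd order (so g ↦ g ^ k induces a field automorphism of 2-power order inverting the roots of unity of odd order). If an irreducible character θ of N satisfies θ (n ^ k) = θ n for all n, then there is exactly one irreducible character χ of G with θ a constituent of its restriction to N and χ (g ^ k) = χ g for all g; moreover, if θ is invariant under conjugation by G, that χ restricts to θ. -/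
theorem result {G : Type*} [Group G] [Fintype G] (N : Subgroup G) [hN : N.Normal] [Fintype N] (hidx : Odd N.index) (k e : ℕ) (hk : Nat.Coprime k (Nat.card G)) (hke : k ^ (2 ^ e) ≡ 1 [MOD Nat.card G]) (hk₂ : ∀ g : G, Odd (orderOf g) → g ^ k = g⁻¹) (θ : Cfsg.IrrCharacter N) (hθ : ∀ n : N, (θ : N → ℂ) (n ^ k) = (θ : N → ℂ) n) : ∃ χ : Cfsg.IrrCharacter G, (Cfsg.classInner (fun n : N => (χ : G → ℂ) n) (θ : N → ℂ) ≠ 0 ∧ (∀ g : G, (χ : G → ℂ) (g ^ k) = (χ : G → ℂ) g) ∧ ((∀ g : G, ∀ n : N, (θ : N → ℂ) ⟨g * n * g⁻¹, hN.conj_mem n n.2 g⟩ = (θ : N → ℂ) n) → ∀ n : N, (χ : G → ℂ) n = (θ : N → ℂ) n)) ∧ ∀ χ' : Cfsg.IrrCharacter G, Cfsg.classInner (fun n : N => (χ' : G → ℂ) n) (θ : N → ℂ) ≠ 0 → (∀ g : G, (χ' : G → ℂ) (g ^ k) = (χ' : G → ℂ) g) → χ' = χ := by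
  obtain ⟨χ, ⟨h1, h2, h3⟩, h4⟩ := main N ⟨hk, hk₂⟩ hidx θ.2 hθ
  exact ⟨χ, ⟨h1, h2, fun h => h3 fun g => funext (h g)⟩, h4⟩

end Cfsg.Agent.S4519
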