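import Cfsg.Statements.S4520
import Cfsg.Agent.Blk.PowStable

set_option autoImplicit false
open Cfsg

namespace Cfsg.Agent.S4520

/-- Let N be a normal subgroup of odd index in the finite group G, M a maximal ideal of the algebraic integers containing 2, and k coprime to the order of G with k ^ (2 ^ e) ≡ 1 modulo the order of G for some e and g ^ k = g⁻¹ for every element g of odd order. Let θ be an irreducible character of N and χ an irreducible character of G over θ, both unchanged by composing with g ↦ g ^ k. Then χ lies in the principal 2-block of G if and only if θ lies in the principal 2-block of N. -/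
theorem result {G : Type*} [Group G] [Fintype G] (M : Ideal Cfsg.AlgInt) (hM : Cfsg.IsPModular 2 M) (N : Subgroup G) [N.Normal] [Fintype N] (hidx : Odd N.index) (k e : ℕ) (hk : Nat.Coprime k (Nat.card G)) (hke : k ^ (2 ^ e) ≡ 1 [MOD Nat.card G]) (hk₂ : ∀ g : G, Odd (orderOf g) → g ^ k = g⁻¹) (θ : Cfsg.IrrCharacter N) (hθ : ∀ n : N, (θ : N → ℂ) (n ^ k) = (θ : N → ℂ) n) (χ : Cfsg.IrrCharacter G) (hχ : ∀ g : G, (χ : G → ℂ) (g ^ k) = (χ : G → ℂ) g) (hover : Cfsg.classInner (fun n : N => (χ : G → ℂ) n) (θ : N → ℂ) ≠ 0) : χ ∈ Cfsg.principalBlock M G ↔ θ ∈ Cfsg.principalBlock M N := by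
  classical
  haveI := hM.2.1.isPrime
  haveI := Fact.mk Nat.prime_two
  have hregN : ∀ (ξ : Cfsg.IrrCharacter N),
      CfsgLib.Blk.omega (ξ : N → ℂ) (CfsgLib.Blk.regSum (CfsgLib.Blk.locRing M) 2 N) =
        (∑ n : N, if 2 ∣ orderOf n then 0 else (ξ : N → ℂ) n) / (ξ : N → ℂ) 1 := by
    intro ξ
    rw [CfsgLib.Blk.omega_eq]
    congr 1
    refine Finset.sum_congr rfl fun n _ => ?_
    rw [CfsgLib.Blk.coeff_regSum]
    split_ifs <;> simp
  -- the regular sum of the restriction
  have hinner : Cfsg.classInner (CfsgLib.Blk.regPart 2 (χ : G → ℂ))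
      (Cfsg.indFun N (fun _ => (1 : ℂ))) =
      (Nat.card N : ℂ)⁻¹ * ∑ n : N, if 2 ∣ orderOf n then 0 else (χ : G → ℂ) n := by
    rw [CfsgLib.Char.frobenius' N _ (CfsgLib.Blk.classFun_regPart (CfsgLib.Char.classFun_of_irr χ.2)),
      CfsgLib.Char.classInner_def]
    congr 1
    refine Finset.sum_congr rfl fun n _ => ?_
    simp only [CfsgLib.Blk.regPart, map_one, mul_one, Subgroup.orderOf_coe]
  have hsum : (∑ n : N, if 2 ∣ orderOf n then 0 else (χ : G → ℂ) n) =
      Cfsg.classInner (fun n : N => (χ : G → ℂ) n) (θ : N → ℂ) *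
        ((Finset.univ.image (CfsgLib.Char.conjN (θ : N → ℂ))).card : ℂ) *
        ∑ n : N, if 2 ∣ orderOf n then 0 else (θ : N → ℂ) n := by
    have hcl := CfsgLib.Char.clifford χ.2 θ.2 hover
    have horb : ∀ φ ∈ Finset.univ.image (CfsgLib.Char.conjN (θ : N → ℂ)),
        (∑ n : N, if 2 ∣ orderOf n then 0 else φ n) =
          ∑ n : N, if 2 ∣ orderOf n then 0 else (θ : N → ℂ) n := by
      intro φ hφ
      obtain ⟨x, -, rfl⟩ := Finset.mem_image.mp hφ
      refine Fintype.sum_equiv (MulAut.conjNormal x : MulAut N).toEquiv _ _ fun n => ?_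
      show _ = if 2 ∣ orderOf ((MulAut.conjNormal x : MulAut N) n) then _ else _
      rw [MulEquiv.orderOf_eq]
      congr 2
    calc (∑ n : N, if 2 ∣ orderOf n then 0 else (χ : G → ℂ) n)
        = ∑ n : N, ∑ φ ∈ Finset.univ.image (CfsgLib.Char.conjN (θ : N → ℂ)),
            Cfsg.classInner (fun n : N => (χ : G → ℂ) n) (θ : N → ℂ) *
              (if 2 ∣ orderOf n then 0 else φ n) := by
          refine Finset.sum_congr rfl fun n _ => ?_
          have h := congrFun hcl n
          simp only [Pi.smul_apply, Finset.sum_apply, smul_eq_mul] at h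
          rw [← Finset.mul_sum]
          split_ifs
          · simp
          · exact h
      _ = _ := by
          rw [Finset.sum_comm, Finset.sum_congr rfl fun φ hφ => by
            rw [← Finset.mul_sum, horb φ hφ], Finset.sum_const, nsmul_eq_mul]
          ring
  constructor
  · intro hχ0
    by_contra hθ0
    have hz : (∑ n : N, if 2 ∣ orderOf n then 0 else (θ : N → ℂ) n) = 0 := by
      have h := CfsgLib.Blk.omega_regSum_eq_zero (G := N) hM hθ0
      rw [hregN] at h
      rcases div_eq_zero_iff.mp h with h | h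
      · exact h
      · exact absurd h (CfsgLib.Char.irr_one_ne_zero θ.2)
    let one : Cfsg.IrrCharacter G := ⟨_, CfsgLib.Char.isIrr_one⟩
    let a : MonoidAlgebra (CfsgLib.Blk.locRing M) G := MonoidAlgebra.ofCoeff
      (Finsupp.ofSupportFinite (fun g => if g ∈ N ∧ ¬ 2 ∣ orderOf g then 1 else 0) (Set.toFinite _))
    have ha : CfsgLib.Blk.IsClassCoeff a := fun g h => by
      show (if h * g * h⁻¹ ∈ N ∧ ¬ 2 ∣ orderOf (h * g * h⁻¹) then (1 : CfsgLib.Blk.locRing M) else 0) =
        if g ∈ N ∧ ¬ 2 ∣ orderOf g then 1 else 0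
      have h1 : h * g * h⁻¹ ∈ N ↔ g ∈ N := ⟨fun hm => by
        simpa [mul_assoc] using (inferInstance : N.Normal).conj_mem _ hm h⁻¹,
        fun hm => (inferInstance : N.Normal).conj_mem g hm h⟩
      simp only [h1, CfsgLib.Blk.isPPart_conj.orderOf_mulAut_conj]
    have hev : ∀ ξ : G → ℂ, CfsgLib.Blk.omega ξ a =
        (∑ n : N, if 2 ∣ orderOf n then 0 else ξ n) / ξ 1 := by
      intro ξ
      rw [CfsgLib.Blk.omega_eq, CfsgLib.Char.sum_subgroup N _ (fun g hg => by
        show ((if g ∈ N ∧ ¬ 2 ∣ orderOf g then (1 : CfsgLib.Blk.locRing M) else 0 : CfsgLib.Blk.locRing M) : ℂ) * ξ g = 0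
        rw [if_neg fun h => hg h.1]; simp)]
      congr 1
      refine Finset.sum_congr rfl fun n _ => ?_
      show ((if (n : G) ∈ N ∧ ¬ 2 ∣ orderOf (n : G) then (1 : CfsgLib.Blk.locRing M) else 0 : CfsgLib.Blk.locRing M) : ℂ) * ξ n = _
      simp only [Subgroup.orderOf_coe, SetLike.coe_mem, true_and]
      split_ifs <;> simp
    have h1 := CfsgLib.Blk.omegaBar_congr (χ := (one : G → ℂ)) one.2 χ.2 hχ0 ha
    rw [CfsgLib.Blk.omegaBar, CfsgLib.Blk.omegaBar, hev, hev, hsum, hz, mul_zero, zero_div,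
      CfsgLib.Blk.red_zero] at h1
    refine CfsgLib.Blk.omegaBar_regSum_principal (G := N) (p := 2) hM (CfsgLib.Blk.one_mem_principalBlock) ?_
    rw [CfsgLib.Blk.omegaBar, hregN, ← h1]
  · intro hθ0
    have hne : Cfsg.classInner (CfsgLib.Blk.regPart 2 (χ : G → ℂ))
        (Cfsg.indFun N (fun _ => (1 : ℂ))) ≠ 0 := by
      rw [hinner, hsum]
      refine mul_ne_zero (inv_ne_zero (CfsgLib.Char.natCard_ne_zero N)) (mul_ne_zero (mul_ne_zero hover ?_) ?_)
      · exact Nat.cast_ne_zero.mpr (Finset.card_ne_zero.mpr ⟨_, Finset.mem_image.mpr ⟨1, Finset.mem_univ _, rfl⟩⟩)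
      · intro hz
        have h := CfsgLib.Blk.omegaBar_regSum_principal (G := N) (p := 2) hM hθ0
        rw [CfsgLib.Blk.omegaBar, hregN, hz, zero_div, CfsgLib.Blk.red_zero] at h
        exact h rfl
    obtain ⟨ψ, hsame, hψ⟩ := CfsgLib.Blk.mem_of_regular_inner hM (CfsgLib.Char.indFun_classFun N _) hne
    have hone : Cfsg.IsIrrCharacter N (fun _ => (1 : ℂ)) := CfsgLib.Char.isIrr_one
    rw [CfsgLib.Char.frobenius N _ (CfsgLib.Char.classFun_of_irr ψ.2)] at hψ
    obtain ⟨j, hj, hjd⟩ := CfsgLib.Char.degree_quotient ψ.2 hone (fun h => hψ (by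
      rw [← CfsgLib.Char.classInner_conj, h, map_zero]))
    have hpodd : Odd (Cfsg.charDegree (ψ : G → ℂ)) := by
      rw [CfsgLib.Char.charDegree_eq (n := j) (by rw [hj]; simp)]
      exact Odd.of_dvd_nat hidx hjd
    have hpb : ψ ∈ Cfsg.blockOf M (χ : G → ℂ) := hsame
    have hBp := CfsgLib.Blk.eq_principal_of_powStable hM k hk hk₂ (CfsgLib.Blk.blockOf_isPBlock χ) hpb hpodd
      fun η hη => ⟨⟨_, CfsgLib.Char.irr_pow hk η.2⟩, fun g => ?_, fun g => rfl⟩
    · show χ ∈ Cfsg.principalBlock M G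
      rw [← hBp]
      exact CfsgLib.Blk.sameBlock_refl _
    · have hcent : Subgroup.centralizer ({g ^ k} : Set G) = Subgroup.centralizer ({g} : Set G) := by
        obtain ⟨m, hm⟩ := exists_pow_eq_self_of_coprime (hk.coprime_dvd_right (orderOf_dvd_natCard g))
        ext x
        rw [Subgroup.mem_centralizer_singleton_iff, Subgroup.mem_centralizer_singleton_iff]
        refine ⟨fun h => ?_, fun h => (Commute.pow_right (h : Commute x g) k).eq⟩
        have := Commute.pow_right (h : Commute x (g ^ k)) m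
        rwa [hm] at this
      have h1 := (hη : Cfsg.SameBlock M (χ : G → ℂ) (η : G → ℂ)) (g ^ k)
      show Cfsg.MemLocalIdeal M (Cfsg.centralChar (χ : G → ℂ) g -
        Cfsg.centralChar (fun g => (η : G → ℂ) (g ^ k)) g)
      simp only [Cfsg.centralChar, hcent, hχ, one_pow] at h1 ⊢
      exact h1

end Cfsg.Agent.S4520
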