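import Cfsg.Statements.S4521
import Cfsg.Agent.Solv.SylowNormalizes
import Cfsg.Agent.Blk.NormalP
import Cfsg.Agent.Blk.Cover
import Cfsg.Agent.Blk.PPart
import Cfsg.Agent.Char.Classes
import Cfsg.Agent.Char.Gallagher

set_option autoImplicit false
open Cfsg

namespace Cfsg.Agent.S4521
open CfsgLib.Char
open scoped CfsgLib.Char

section
variable {G : Type*} [Group G] [Fintype G] {p : ℕ} [Fact p.Prime] {U₁ U₂ : Subgroup G}
  (hcomm : ∀ u ∈ U₁, ∀ v ∈ U₂, u * v = v * u) (hgen : U₁ ⊔ U₂ = ⊤)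

include hcomm hgen

theorem exists_mul (g : G) : ∃ a ∈ U₁, ∃ b ∈ U₂, a * b = g := by
  have hle : U₁ ≤ Subgroup.normalizer (U₂ : Set G) := fun a ha => by
    rw [Subgroup.mem_normalizer_iff]
    intro n
    constructor
    · intro hn
      rw [hcomm a ha n hn, mul_inv_cancel_right]
      exact hn
    · intro hn
      have := hcomm a⁻¹ (U₁.inv_mem ha) _ hn
      have e : n = a⁻¹ * (a * n * a⁻¹) * a := by group
      rw [e, this, inv_mul_cancel_right]
      exact hn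
  have hg : g ∈ ((U₁ ⊔ U₂ : Subgroup G) : Set G) := by rw [hgen]; trivial
  rw [Subgroup.coe_mul_of_left_le_normalizer_right U₁ U₂ hle] at hg
  obtain ⟨a, ha, b, hb, e⟩ := Set.mem_mul.1 hg
  exact ⟨a, ha, b, hb, e⟩

theorem sep (hZ : IsPGroup p ↥(U₁ ⊓ U₂)) {a a' b b' : G} (ha : a ∈ U₁) (ha' : a' ∈ U₁)
    (hb : b ∈ U₂) (hb' : b' ∈ U₂) (hra : ¬ p ∣ orderOf a) (hra' : ¬ p ∣ orderOf a')
    (h : a * b = a' * b') : a = a' ∧ b = b' := by
  set z := a'⁻¹ * a with hz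
  have hz1 : z ∈ U₁ := U₁.mul_mem (U₁.inv_mem ha') ha
  have hz2 : z ∈ U₂ := by
    have : z = b' * b⁻¹ := by
      rw [hz, eq_mul_inv_iff_mul_eq, mul_assoc, h, inv_mul_cancel_left]
    rw [this]; exact U₂.mul_mem hb' (U₂.inv_mem hb)
  obtain ⟨k, hk⟩ := (IsPGroup.iff_orderOf.1 hZ) ⟨z, hz1, hz2⟩
  replace hk : orderOf z = p ^ k := by rw [← hk, ← Subgroup.orderOf_coe]
  have hp : p.Prime := Fact.out
  have h1 : Cfsg.IsPPart p a z := ⟨a', by
    rw [← hcomm a' ha' z hz2, hz, mul_inv_cancel_left], (hcomm a' ha' z hz2).symm, ⟨k, hk⟩, hra'⟩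
  have h2 : z = 1 := CfsgLib.Blk.isPPart_unique hp h1 (CfsgLib.Blk.isPPart_one_of_regular hra)
  have e1 : a = a' := (inv_mul_eq_one.1 h2).symm
  exact ⟨e1, mul_left_cancel (h.trans (by rw [e1]))⟩

theorem index_mul (hZ : IsPGroup p ↥(U₁ ⊓ U₂)) {u v : G} (hu : u ∈ U₁) (hv : v ∈ U₂)
    (hru : ¬ p ∣ orderOf u) :
    (Subgroup.centralizer ({u * v} : Set G)).index =
      (Subgroup.centralizer ({u} : Set G)).index * (Subgroup.centralizer ({v} : Set G)).index := by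
  set Cu := Subgroup.centralizer ({u} : Set G)
  set Cv := Subgroup.centralizer ({v} : Set G)
  have h2u : U₂ ≤ Cu := fun b hb => Subgroup.mem_centralizer_singleton_iff.2 (hcomm u hu b hb).symm
  have h1v : U₁ ≤ Cv := fun a ha => Subgroup.mem_centralizer_singleton_iff.2 (hcomm a ha v hv)
  have hinf : Subgroup.centralizer ({u * v} : Set G) = Cu ⊓ Cv := by
    refine le_antisymm (fun x hx => ?_) (fun x hx => ?_)
    · rw [Subgroup.mem_centralizer_singleton_iff] at hx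
      obtain ⟨a, ha, b, hb, rfl⟩ := exists_mul hcomm hgen x
      have e : (a * u * a⁻¹) * (b * v * b⁻¹) = u * v := by
        have h1 : (a * u * a⁻¹) * (b * v * b⁻¹) = (a * b) * (u * v) * (a * b)⁻¹ := by
          calc (a * u * a⁻¹) * (b * v * b⁻¹) = a * u * (a⁻¹ * (b * v * b⁻¹)) := by group
            _ = a * u * ((b * v * b⁻¹) * a⁻¹) := by
              rw [hcomm a⁻¹ (U₁.inv_mem ha) _ (U₂.mul_mem (U₂.mul_mem hb hv) (U₂.inv_mem hb))]
            _ = a * (u * b) * v * b⁻¹ * a⁻¹ := by group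
            _ = a * (b * u) * v * b⁻¹ * a⁻¹ := by rw [hcomm u hu b hb]
            _ = (a * b) * (u * v) * (a * b)⁻¹ := by group
        rw [h1, hx, mul_inv_cancel_right]
      have hord : orderOf (a * u * a⁻¹) = orderOf u :=
        orderOf_injective (MulAut.conj a).toMonoidHom (MulAut.conj a).injective u
      obtain ⟨e1, e2⟩ := sep hcomm hgen hZ (U₁.mul_mem (U₁.mul_mem ha hu) (U₁.inv_mem ha)) hu
        (U₂.mul_mem (U₂.mul_mem hb hv) (U₂.inv_mem hb)) hv (hord ▸ hru) hru e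
      exact ⟨Cu.mul_mem (Subgroup.mem_centralizer_singleton_iff.2 (mul_inv_eq_iff_eq_mul.1 e1))
          (h2u hb),
        Cv.mul_mem (h1v ha) (Subgroup.mem_centralizer_singleton_iff.2 (mul_inv_eq_iff_eq_mul.1 e2))⟩
    · rw [Subgroup.mem_centralizer_singleton_iff]
      have h1 := Subgroup.mem_centralizer_singleton_iff.1 hx.1
      have h2 := Subgroup.mem_centralizer_singleton_iff.1 hx.2
      rw [← mul_assoc, h1, mul_assoc, h2, mul_assoc]
  haveI : U₁.Normal := ⟨fun n hn g => by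
    obtain ⟨a, ha, b, hb, rfl⟩ := exists_mul hcomm hgen g
    have e : a * b * n * (a * b)⁻¹ = a * n * a⁻¹ := by
      rw [mul_assoc a b n, ← hcomm n hn b hb]; group
    rw [e]; exact U₁.mul_mem (U₁.mul_mem ha hn) (U₁.inv_mem ha)⟩
  have hrel : Cu.relIndex Cv = Cu.index := by
    refine le_antisymm ?_ ?_
    · rw [← Subgroup.relIndex_top_right Cu]
      exact Subgroup.relIndex_le_of_le_right le_top (Subgroup.index_ne_zero_of_finite)
    · refine le_of_eq_of_le ?_ (Subgroup.relIndex_le_of_le_right h1v Subgroup.index_ne_zero_of_finite)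
      have htop : Cu ⊔ U₁ = ⊤ := top_le_iff.1 (hgen ▸ sup_le le_sup_right (h2u.trans le_sup_left))
      rw [← CfsgLib.Solv.relIndex_sup_eq Cu U₁, htop, Subgroup.relIndex_top_right]
  rw [hinf, ← Subgroup.relIndex_mul_index (inf_le_right : Cu ⊓ Cv ≤ Cv), Subgroup.inf_relIndex_right,
    hrel]

omit hcomm hgen in
theorem omega_restrict (hn : U₁.Normal) [Fintype U₁] (hC : ∀ u : U₁, (U₁ : Subgroup G) ⊔
      Subgroup.centralizer ({(u : G)} : Set G) = ⊤) {χ : G → ℂ} {c : ℂ} {ψ : U₁ → ℂ}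
    (hc : c ≠ 0) (hres : ∀ u : U₁, χ u = c * ψ u) (u : U₁) :
    Cfsg.centralChar χ (u : G) = Cfsg.centralChar ψ u := by
  haveI := hn
  have hsub : (Subgroup.centralizer ({(u : G)} : Set G)).subgroupOf U₁ =
      Subgroup.centralizer ({u} : Set U₁) := by
    ext x
    rw [Subgroup.mem_subgroupOf, Subgroup.mem_centralizer_singleton_iff,
      Subgroup.mem_centralizer_singleton_iff, Subtype.ext_iff]
    rfl
  have hidx : (Subgroup.centralizer ({(u : G)} : Set G)).index =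
      (Subgroup.centralizer ({u} : Set U₁)).index := by
    rw [← hsub]
    show _ = Subgroup.relIndex _ U₁
    rw [← CfsgLib.Solv.relIndex_sup_eq _ U₁, sup_comm, hC u, Subgroup.relIndex_top_right]
  unfold Cfsg.centralChar
  rw [hidx, hres u, show χ 1 = c * ψ 1 from hres 1, mul_left_comm, mul_div_mul_left _ _ hc]

end

open CfsgLib.Blk in
theorem side {G : Type*} [Group G] [Fintype G] {U₁ U₂ : Subgroup G} [Fintype U₁]
    (hcomm : ∀ u ∈ U₁, ∀ v ∈ U₂, u * v = v * u) (hgen : U₁ ⊔ U₂ = ⊤) {χ : Cfsg.IrrCharacter G}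
    {ψ : Cfsg.IrrCharacter U₁}
    (h : Cfsg.classInner (fun u : U₁ => (χ : G → ℂ) u) (ψ : U₁ → ℂ) ≠ 0) (u : U₁) :
    Cfsg.centralChar (χ : G → ℂ) (u : G) = Cfsg.centralChar (ψ : U₁ → ℂ) u ∧
    Cfsg.centralChar (fun _ : G => (1 : ℂ)) (u : G) = Cfsg.centralChar (fun _ : U₁ => (1 : ℂ)) u := by
  haveI hn : U₁.Normal := ⟨fun n hn g => by
    obtain ⟨a, ha, b, hb, rfl⟩ := exists_mul hcomm hgen g
    have e : a * b * n * (a * b)⁻¹ = a * n * a⁻¹ := by
      rw [mul_assoc a b n, ← hcomm n hn b hb]; group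
    rw [e]; exact U₁.mul_mem (U₁.mul_mem ha hn) (U₁.inv_mem ha)⟩
  have hC : ∀ u : U₁, (U₁ : Subgroup G) ⊔ Subgroup.centralizer ({(u : G)} : Set G) = ⊤ := fun u =>
    top_le_iff.1 (hgen ▸ sup_le_sup_left (fun b hb =>
      Subgroup.mem_centralizer_singleton_iff.2 (hcomm (u : G) u.2 b hb).symm) U₁)
  have hinv : ∀ g : G, conjN (ψ : U₁ → ℂ) g = (ψ : U₁ → ℂ) := by
    intro g
    funext n
    obtain ⟨a, ha, b, hb, rfl⟩ := exists_mul hcomm hgen g
    show (ψ : U₁ → ℂ) _ = _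
    refine classFun_isConj (classFun_of_irr ψ.2) (isConj_iff.2 ⟨(⟨a, ha⟩ : U₁)⁻¹, Subtype.ext ?_⟩)
    show a⁻¹ * (a * b * (n : G) * (a * b)⁻¹) * a⁻¹⁻¹ = n
    rw [mul_assoc a b (n : G), ← hcomm n n.2 b hb]
    group
  have hres := res_homogeneous χ.2 ψ.2 h hinv
  exact ⟨omega_restrict hn hC h (fun u => congrFun hres u) u,
    omega_restrict hn hC (one_ne_zero (α := ℂ)) (fun _ => (one_mul (1 : ℂ)).symm) u⟩


/-- Let the finite group G be generated by subgroups U₁ and U₂ that commute elementwise and whose intersection is a p-group, and let M be a maximal ideal of the algebraic integers containing the prime p. If the irreducible character χ of G has the irreducible constituents ψ₁ on U₁ and ψ₂ on U₂, then χ lies in the principal block of G if and only if ψ₁ and ψ₂ lie in the principal blocks of U₁ and U₂. -/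
theorem result {G : Type*} [Group G] [Fintype G] (p : ℕ) [Fact p.Prime] (M : Ideal Cfsg.AlgInt) (hM : Cfsg.IsPModular p M) (U₁ U₂ : Subgroup G) [Fintype U₁] [Fintype U₂] (hcomm : ∀ u ∈ U₁, ∀ v ∈ U₂, u * v = v * u) (hgen : U₁ ⊔ U₂ = ⊤) (hZ : IsPGroup p ↥(U₁ ⊓ U₂)) (χ : Cfsg.IrrCharacter G) (ψ₁ : Cfsg.IrrCharacter U₁) (ψ₂ : Cfsg.IrrCharacter U₂) (h₁ : Cfsg.classInner (fun u : U₁ => (χ : G → ℂ) u) (ψ₁ : U₁ → ℂ) ≠ 0) (h₂ : Cfsg.classInner (fun u : U₂ => (χ : G → ℂ) u) (ψ₂ : U₂ → ℂ) ≠ 0) : χ ∈ Cfsg.principalBlock M G ↔ (ψ₁ ∈ Cfsg.principalBlock M U₁ ∧ ψ₂ ∈ Cfsg.principalBlock M U₂) := by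
  classical
  haveI : M.IsPrime := hM.2.1.isPrime
  have hp : p.Prime := Fact.out
  have hcomm' : ∀ v ∈ U₂, ∀ u ∈ U₁, v * u = u * v := fun v hv u hu => (hcomm u hu v hv).symm
  have hgen' : U₂ ⊔ U₁ = ⊤ := by rw [sup_comm]; exact hgen
  have key : ∀ (φ : Cfsg.IrrCharacter G) (u : U₁) (v : U₂), ¬ p ∣ orderOf (u : G) →
      Cfsg.centralChar (φ : G → ℂ) ((u : G) * (v : G)) =
        Cfsg.centralChar (φ : G → ℂ) (u : G) * Cfsg.centralChar (φ : G → ℂ) (v : G) := by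
    intro φ u v hu
    rw [centralChar_mul φ.2]
    have hcl : ∀ x ∈ Finset.univ.filter (fun x => IsConj (u : G) x),
        ∀ y ∈ Finset.univ.filter (fun y => IsConj (v : G) y),
        (φ : G → ℂ) (x * y) = (φ : G → ℂ) ((u : G) * (v : G)) := by
      intro x hx y hy
      obtain ⟨g, rfl⟩ := isConj_iff.1 (Finset.mem_filter.1 hx).2
      obtain ⟨g', rfl⟩ := isConj_iff.1 (Finset.mem_filter.1 hy).2
      obtain ⟨a, ha, b, hb, rfl⟩ := exists_mul hcomm hgen g
      obtain ⟨a', ha', b', hb', rfl⟩ := exists_mul hcomm hgen g'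
      have e1 : a * b * (u : G) * (a * b)⁻¹ = a * (u : G) * a⁻¹ := by
        rw [mul_assoc a b (u : G), ← hcomm u u.2 b hb]; group
      have hbv := U₂.mul_mem (U₂.mul_mem hb' v.2) (U₂.inv_mem hb')
      have e2 : a' * b' * (v : G) * (a' * b')⁻¹ = b' * (v : G) * b'⁻¹ := by
        calc a' * b' * (v : G) * (a' * b')⁻¹ = a' * (b' * (v : G) * b'⁻¹) * a'⁻¹ := by group
          _ = _ := by rw [hcomm a' ha' _ hbv, mul_inv_cancel_right]
      rw [e1, e2]
      refine classFun_isConj (classFun_of_irr φ.2) (IsConj.symm (isConj_iff.2 ⟨a * b', ?_⟩))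
      calc a * b' * ((u : G) * (v : G)) * (a * b')⁻¹
          = a * (b' * (u : G)) * (v : G) * b'⁻¹ * a⁻¹ := by group
        _ = a * ((u : G) * b') * (v : G) * b'⁻¹ * a⁻¹ := by rw [hcomm u u.2 b' hb']
        _ = a * (u : G) * ((b' * (v : G) * b'⁻¹) * a⁻¹) := by group
        _ = a * (u : G) * (a⁻¹ * (b' * (v : G) * b'⁻¹)) := by rw [hcomm a⁻¹ (U₁.inv_mem ha) _ hbv]
        _ = _ := by group
    rw [Finset.sum_congr rfl fun x hx => Finset.sum_congr rfl fun y hy => hcl x hx y hy]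
    simp only [Finset.sum_const, nsmul_eq_mul, card_filter_isConj]
    rw [Cfsg.centralChar, index_mul hcomm hgen hZ u.2 v.2 hu]
    push_cast
    ring
  have hone := fun g : G => (rfl : (fun _ : G => (1 : ℂ)) g = 1)
  have hmem : ∀ φ : Cfsg.IrrCharacter G, ∀ g, Cfsg.centralChar (φ : G → ℂ) g ∈ CfsgLib.Blk.locRing M :=
    fun φ g => CfsgLib.Blk.centralChar_mem φ.2 g
  set one : Cfsg.IrrCharacter G := ⟨_, isIrr_one⟩ with hone'
  show Cfsg.SameBlock M (one : G → ℂ) (χ : G → ℂ) ↔ _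
  constructor
  · intro h
    have h' := (CfsgLib.Blk.sameBlock_iff_red one.2 χ.2).1 h
    refine ⟨(CfsgLib.Blk.sameBlock_iff_red isIrr_one ψ₁.2).2 fun u => ?_,
      (CfsgLib.Blk.sameBlock_iff_red isIrr_one ψ₂.2).2 fun v => ?_⟩
    · rw [← (side hcomm hgen h₁ u).1, ← (side hcomm hgen h₁ u).2]
      exact h' (u : G)
    · rw [← (side hcomm' hgen' h₂ v).1, ← (side hcomm' hgen' h₂ v).2]
      exact h' (v : G)
  · rintro ⟨hb1, hb2⟩
    refine CfsgLib.Blk.sameBlock_of_regular hM fun g hg => ?_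
    obtain ⟨a, ha, b, hb, rfl⟩ := exists_mul hcomm hgen g
    obtain ⟨x, u, hxu, hcx, ⟨i, hi⟩, hu⟩ := CfsgLib.Blk.exists_isPPart hp (⟨a, ha⟩ : U₁)
    obtain ⟨y, v, hyv, hcy, ⟨j, hj⟩, hv⟩ := CfsgLib.Blk.exists_isPPart hp (⟨b, hb⟩ : U₂)
    rw [← Subgroup.orderOf_coe] at hi hu hj hv
    have hxu' : (x : G) * (u : G) = a := congrArg Subtype.val hxu
    have hyv' : (y : G) * (v : G) = b := congrArg Subtype.val hyv
    have hxy : Commute (x : G) (y : G) := hcomm x x.2 y y.2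
    have huv : Commute (u : G) (v : G) := hcomm u u.2 v v.2
    have hdec : (x : G) * (y : G) * ((u : G) * (v : G)) = a * b := by
      rw [← hxu', ← hyv', mul_assoc, ← mul_assoc (y : G), ← hcomm u u.2 y y.2]
      group
    have hcc : Commute ((x : G) * y) ((u : G) * v) := by
      have c1 : Commute (x : G) (u : G) := congrArg Subtype.val hcx.eq
      have c2 : Commute (y : G) (v : G) := congrArg Subtype.val hcy.eq
      have c3 : Commute (y : G) (u : G) := (hcomm u u.2 y y.2).symm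
      exact (c1.mul_right (hcomm x x.2 v v.2)).mul_left (c3.mul_right c2)
    have hpow : ∃ k, orderOf ((x : G) * y) = p ^ k := by
      have h1 : orderOf ((x : G) * y) ∣ p ^ (i + j) := by
        refine hxy.orderOf_mul_dvd_lcm.trans (Nat.lcm_dvd ?_ ?_)
        · rw [hi]; exact pow_dvd_pow p (by omega)
        · rw [hj]; exact pow_dvd_pow p (by omega)
      obtain ⟨k, -, hk⟩ := (Nat.dvd_prime_pow hp).1 h1
      exact ⟨k, hk⟩
    have hreg : ¬ p ∣ orderOf ((u : G) * v) := fun h =>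
      (hp.dvd_mul.1 (h.trans (huv.orderOf_mul_dvd_lcm.trans (Nat.lcm_dvd_mul _ _)))).elim hu hv
    have h1 : (x : G) * y = 1 := CfsgLib.Blk.isPPart_unique hp ⟨_, hdec, hcc, hpow, hreg⟩
      (CfsgLib.Blk.isPPart_one_of_regular hg)
    have e : a * b = (u : G) * (v : G) := by rw [← hdec, h1, one_mul]
    rw [e, key one u v hu, key χ u v hu,
      CfsgLib.Blk.red_mul (hmem one _) (hmem one _), CfsgLib.Blk.red_mul (hmem χ _) (hmem χ _),
      (side hcomm hgen h₁ u).1, (side hcomm' hgen' h₂ v).1]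
    show CfsgLib.Blk.red M (Cfsg.centralChar (fun _ : G => (1 : ℂ)) _) *
      CfsgLib.Blk.red M (Cfsg.centralChar (fun _ : G => (1 : ℂ)) _) = _
    rw [(side hcomm hgen h₁ u).2, (side hcomm' hgen' h₂ v).2,
      (CfsgLib.Blk.sameBlock_iff_red isIrr_one ψ₁.2).1 hb1 u,
      (CfsgLib.Blk.sameBlock_iff_red isIrr_one ψ₂.2).1 hb2 v]

end Cfsg.Agent.S4521
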