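import Cfsg.Statements.S4540
import Cfsg.Agent.Blk.ContribTwoUse

set_option autoImplicit false
open Cfsg

namespace Cfsg.Agent.S4540
open scoped CfsgLib.Char


/-- Let B be a 2-block of the finite group G (relative to a maximal ideal M of the algebraic integers containing 2) of defect d with defect group D. Let z be an element of D commuting with every element of D, and let b be a block of the centralizer C of z with defect group D that induces B (a major subsection (z, b)). If b has 2-regular rank at most three, then 3·k(B) ≤ 3·k₀(B) + 2·Σ 2 ^ h(χ), where k(B) is the number of members of B, k₀(B) the number of members of height zero, and the sum runs over the members χ of B of positive height h(χ); this bound is at most 3·2 ^ d, so in particular B contains at most 2 ^ d irreducible characters. -/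
theorem result {G : Type*} [Group G] [Finite G] (M : Ideal Cfsg.AlgInt) (hM : Cfsg.IsPModular 2 M) (B : Set (Cfsg.IrrCharacter G)) (hB : Cfsg.IsPBlock M B) (D : Subgroup G) (hD : Cfsg.IsDefectGroup 2 M B D) (z : G) (hzD : z ∈ D) (hzc : ∀ d ∈ D, d * z = z * d) (b : Set (Cfsg.IrrCharacter ↥(Subgroup.centralizer ({z} : Set G)))) (hb : Cfsg.IsInducedBlock M (Subgroup.centralizer ({z} : Set G)) b B) (hbD : Cfsg.IsDefectGroup 2 M b (D.subgroupOf (Subgroup.centralizer ({z} : Set G)))) (hl : Cfsg.blockRank 2 b ≤ 3) : 3 * Nat.card B ≤ 3 * Nat.card {χ : Cfsg.IrrCharacter G // χ ∈ B ∧ Cfsg.blockHeight 2 B (χ : G → ℂ) = 0} + 2 * (∑ᶠ χ ∈ {χ : Cfsg.IrrCharacter G | χ ∈ B ∧ 1 ≤ Cfsg.blockHeight 2 B (χ : G → ℂ)}, 2 ^ Cfsg.blockHeight 2 B (χ : G → ℂ)) ∧ 3 * Nat.card {χ : Cfsg.IrrCharacter G // χ ∈ B ∧ Cfsg.blockHeight 2 B (χ : G → ℂ) = 0} + 2 * (∑ᶠ χ ∈ {χ : Cfsg.IrrCharacter G | χ ∈ B ∧ 1 ≤ Cfsg.blockHeight 2 B (χ : G → ℂ)}, 2 ^ Cfsg.blockHeight 2 B (χ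 : G → ℂ)) ≤ 3 * 2 ^ Cfsg.blockDefect 2 B := by
  classical
  open CfsgLib.Blk CfsgLib.Char CfsgLib.ContribTwo in
  · haveI : M.IsMaximal := hM.2.1
    haveI : Fact (Nat.Prime 2) := ⟨Nat.prime_two⟩
    haveI := Fintype.ofFinite G
    haveI : Fintype (Subgroup.centralizer ({z} : Set G)) := Fintype.ofFinite _
    obtain ⟨k, hk⟩ := IsPGroup.iff_orderOf.1 (IsDefectGroup.isPGroup hD) ⟨z, hzD⟩
    have hz : ∃ k : ℕ, orderOf z = 2 ^ k := ⟨k, by rw [← hk, Subgroup.orderOf_mk]⟩
    have hDH : D ≤ Subgroup.centralizer ({z} : Set G) := fun d hd =>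
      Subgroup.mem_centralizer_singleton_iff.2 (hzc d hd)
    obtain ⟨μ, hμ0, hout, htr, hrow, hmaj⟩ := exists_mu hM hz rfl hb
    have hdd := blockDefect_major hM hb.1 hb.2.1 hD hDH hbD
    obtain ⟨hrow4, hpos⟩ := hmaj hdd
    rw [hdd] at htr hrow4
    set Q : ℤ := 2 ^ Cfsg.blockDefect 2 B with hQ
    set s : Finset (Cfsg.IrrCharacter G) := Finset.univ.filter (fun χ => χ ∈ B) with hs
    have hmem : ∀ χ, χ ∈ s ↔ χ ∈ B := fun χ => by simp [hs]
    let h := fun χ : Cfsg.IrrCharacter G => Cfsg.blockHeight 2 B (χ : G → ℂ)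
    let w : Cfsg.IrrCharacter G → ℤ := fun χ => if h χ = 0 then 3 else 2 * 2 ^ h χ
    have hk : (Nat.card B : ℤ) = ∑ χ ∈ s, (1 : ℤ) := by
      rw [Finset.sum_const, nsmul_eq_mul, mul_one, Nat.cast_inj, ← Nat.card_eq_finsetCard]
      exact Nat.card_congr (Equiv.subtypeEquivRight fun χ => (hmem χ).symm)
    have hk0 : (Nat.card {χ : Cfsg.IrrCharacter G // χ ∈ B ∧ Cfsg.blockHeight 2 B (χ : G → ℂ) = 0} : ℤ) =
        ∑ χ ∈ s, if h χ = 0 then (1 : ℤ) else 0 := by
      rw [Nat.card_eq_fintype_card, Fintype.card_subtype, Finset.sum_boole, hs, Finset.filter_filter]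
    have hfs : ((∑ᶠ χ ∈ {χ : Cfsg.IrrCharacter G | χ ∈ B ∧ 1 ≤ Cfsg.blockHeight 2 B (χ : G → ℂ)}, 2 ^ Cfsg.blockHeight 2 B (χ : G → ℂ) : ℕ) : ℤ) =
        ∑ χ ∈ s, if h χ = 0 then (0 : ℤ) else 2 ^ h χ := by
      rw [finsum_mem_eq_sum_ite, hs, Finset.sum_filter, Nat.cast_sum]
      refine Finset.sum_congr rfl fun χ _ => ?_
      by_cases h1 : χ ∈ B <;> by_cases h2 : h χ = 0 <;> simp [h1, h, h2, Nat.one_le_iff_ne_zero] <;> simp_all [h]
    have hw : ∑ χ ∈ s, w χ = 3 * (∑ χ ∈ s, if h χ = 0 then (1 : ℤ) else 0) +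
        2 * ∑ χ ∈ s, if h χ = 0 then (0 : ℤ) else 2 ^ h χ := by
      rw [Finset.mul_sum, Finset.mul_sum, ← Finset.sum_add_distrib]
      refine Finset.sum_congr rfl fun χ _ => ?_
      simp only [w]
      split_ifs <;> ring
    have hle1 : 3 * ∑ χ ∈ s, (1 : ℤ) ≤ ∑ χ ∈ s, w χ := by
      rw [Finset.mul_sum]
      refine Finset.sum_le_sum fun χ _ => ?_
      simp only [w]
      split_ifs with h1
      · norm_num
      · have : (2 : ℤ) ^ 1 ≤ 2 ^ h χ := pow_le_pow_right₀ (by norm_num) (Nat.one_le_iff_ne_zero.2 h1)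
        omega
    have hle2 : ∑ χ ∈ s, w χ ≤ 3 * Q := by
      by_cases hex : ∃ ψ ∈ B, h ψ = 0 ∧ μ ψ = 1
      · obtain ⟨ψ, hψ, h0, h1⟩ := hex
        have h4 := hrow4 ψ hψ h0
        rw [h1, finsum_mem_eq_sum_ite, ← Finset.sum_filter, ← hs] at h4
        have : ∑ χ ∈ s, w χ ≤ ∑ χ ∈ s, 3 * (4 : ℤ) ^ h χ := by
          refine Finset.sum_le_sum fun χ _ => ?_
          simp only [w]
          split_ifs with hh
          · rw [hh]; norm_num
          · have : (2 : ℤ) ^ h χ ≤ 4 ^ h χ := pow_le_pow_left₀ (by norm_num) (by norm_num) _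
            have : (0 : ℤ) < 2 ^ h χ := by positivity
            linarith
        rw [← Finset.mul_sum] at this
        linarith
      · push Not at hex
        have : ∑ χ ∈ s, w χ ≤ ∑ χ ∈ s, μ χ := by
          refine Finset.sum_le_sum fun χ hχ => ?_
          simp only [w]
          split_ifs with hh
          · obtain ⟨⟨a, ha⟩, -⟩ := hrow χ ((hmem χ).1 hχ) hh
            have := hex χ ((hmem χ).1 hχ) hh
            have := hμ0 χ
            omega
          · obtain ⟨hd, hp, -⟩ := hpos χ ((hmem χ).1 hχ) (Nat.pos_of_ne_zero hh)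
            rw [← pow_succ']
            exact Int.le_of_dvd hp hd
        refine this.trans ((Finset.sum_le_univ_sum_of_nonneg hμ0).trans ?_)
        rw [htr, mul_comm (3 : ℤ) Q]
        exact mul_le_mul_of_nonneg_left (by exact_mod_cast hl) (by positivity)
    refine ⟨?_, ?_⟩
    · refine Int.ofNat_le.1 ?_
      simp only [Nat.cast_add, Nat.cast_mul, Nat.cast_ofNat]
      rw [hk, hk0, hfs, ← hw]
      exact hle1
    · refine Int.ofNat_le.1 ?_
      simp only [Nat.cast_add, Nat.cast_mul, Nat.cast_ofNat, Nat.cast_pow]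
      rw [hk0, hfs, ← hw]
      exact hle2

end Cfsg.Agent.S4540
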