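import Cfsg.Statements.S4541
import Cfsg.Agent.Blk.ContribTwoUse

set_option autoImplicit false
open Cfsg

namespace Cfsg.Agent.S4541
open scoped CfsgLib.Char


/-- Let B be a 2-block of the finite group G (relative to a maximal ideal M of the algebraic integers containing 2), u a 2-element, and b a block of the centralizer of u inducing B (a subsection (u, b)), of defect q and 2-regular rank l; write s for the integer square root of l and k₀(B) for the number of members of B of height zero. If s is odd then k₀(B) ≤ s·2 ^ q, and otherwise (s + 1)·k₀(B) ≤ l·2 ^ q; in particular k₀(B) ≤ 2 ^ q when l ≤ 3. -/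
theorem result {G : Type*} [Group G] [Finite G] (M : Ideal Cfsg.AlgInt) (hM : Cfsg.IsPModular 2 M) (B : Set (Cfsg.IrrCharacter G)) (hB : Cfsg.IsPBlock M B) (u : G) (hu : ∃ j : ℕ, orderOf u = 2 ^ j) (b : Set (Cfsg.IrrCharacter ↥(Subgroup.centralizer ({u} : Set G)))) (hb : Cfsg.IsInducedBlock M (Subgroup.centralizer ({u} : Set G)) b B) : (Odd (Nat.sqrt (Cfsg.blockRank 2 b)) → Nat.card {χ : Cfsg.IrrCharacter G // χ ∈ B ∧ Cfsg.blockHeight 2 B (χ : G → ℂ) = 0} ≤ Nat.sqrt (Cfsg.blockRank 2 b) * 2 ^ Cfsg.blockDefect 2 b) ∧ (¬ Odd (Nat.sqrt (Cfsg.blockRank 2 b)) → (Nat.sqrt (Cfsg.blockRank 2 b) + 1) * Nat.card {χ : Cfsg.IrrCharacter G // χ ∈ B ∧ Cfsg.blockHeight 2 B (χ : G → ℂ) = 0} ≤ Cfsg.blockRank 2 b * 2 ^ Cfsg.blockDefect 2 b) ∧ (Cfsg.blockRank 2 b ≤ 3 → Nat.card {χ : Cfsg.IrrCharacter G // χ ∈ B ∧ Cfsg.blockHeight 2 B (χ : G → ℂ) = 0} ≤ 2 ^ Cfsg.blockDefect 2 b) := by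
  classical
  open CfsgLib.Blk CfsgLib.Char CfsgLib.ContribTwo in
  · haveI : M.IsMaximal := hM.2.1
    haveI : Fact (Nat.Prime 2) := ⟨Nat.prime_two⟩
    haveI := Fintype.ofFinite G
    haveI : Fintype (Subgroup.centralizer ({u} : Set G)) := Fintype.ofFinite _
    obtain ⟨μ, hμ0, hout, htr, hrow, -⟩ := exists_mu hM hu rfl hb
    set S : Finset (Cfsg.IrrCharacter G) :=
      Finset.univ.filter (fun χ => χ ∈ B ∧ Cfsg.blockHeight 2 B (χ : G → ℂ) = 0) with hS
    have hcard : (Nat.card {χ : Cfsg.IrrCharacter G // χ ∈ B ∧ Cfsg.blockHeight 2 B (χ : G → ℂ) = 0}) = S.card := by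
      rw [Nat.card_eq_fintype_card, Fintype.card_subtype]
    rw [hcard]
    set n := S.card with hn
    set l := Cfsg.blockRank 2 b
    set s := Nat.sqrt l
    set Q := 2 ^ Cfsg.blockDefect 2 b with hQ
    have hs1 : s * s ≤ l := Nat.sqrt_le l
    have hs2 : l ≤ s * s + 2 * s := by have := Nat.lt_succ_sqrt l; simp only [Nat.succ_eq_add_one] at this; nlinarith
    have hrow' : ∀ χ ∈ S, Odd (μ χ) ∧ μ χ ^ 2 + ((n : ℤ) - 1) ≤ (Q : ℤ) * μ χ := by
      intro χ hχ
      rw [hS, Finset.mem_filter] at hχ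
      have := hrow χ hχ.2.1 hχ.2.2
      rw [hcard] at this
      simpa [hQ] using this
    have hsum : ∀ c : ℤ, (∀ χ ∈ S, c ≤ μ χ) → (n : ℤ) * c ≤ (Q : ℤ) * l := by
      intro c hc
      calc (n : ℤ) * c = ∑ χ ∈ S, c := by simp [hn]
        _ ≤ ∑ χ ∈ S, μ χ := Finset.sum_le_sum hc
        _ ≤ ∑ χ, μ χ := Finset.sum_le_univ_sum_of_nonneg hμ0
        _ = _ := by rw [htr]; simp [hQ]
    have hbound : ∀ χ ∈ S, ∀ c : ℤ, μ χ ≤ c → (n : ℤ) ≤ (Q : ℤ) * c := by
      intro χ hχ c hc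
      obtain ⟨⟨t, ht⟩, h2⟩ := hrow' χ hχ
      have h0 := hμ0 χ
      have h1 : 1 ≤ μ χ := by omega
      have h4 : (Q : ℤ) * μ χ ≤ (Q : ℤ) * c := mul_le_mul_of_nonneg_left hc (Nat.cast_nonneg _)
      nlinarith
    have hodd : Odd s → n ≤ s * Q := by
      rintro ⟨t, ht⟩
      by_cases hex : ∃ χ ∈ S, μ χ ≤ (s : ℤ)
      · obtain ⟨χ, hχ, hle⟩ := hex
        have := hbound χ hχ _ hle
        rw [mul_comm]; exact_mod_cast this
      · push Not at hex
        have h := hsum ((s : ℤ) + 2) fun χ hχ => by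
          obtain ⟨⟨a, ha⟩, -⟩ := hrow' χ hχ
          have := hex χ hχ
          omega
        have h' : n * (s + 2) ≤ Q * l := by exact_mod_cast h
        have : Q * l ≤ Q * (s * s + 2 * s) := Nat.mul_le_mul_left _ hs2
        nlinarith
    have heven : ¬ Odd s → (s + 1) * n ≤ l * Q := by
      intro hev
      obtain ⟨t, ht⟩ := Nat.not_odd_iff_even.1 hev
      by_cases hex : ∃ χ ∈ S, μ χ ≤ (s : ℤ)
      · obtain ⟨χ, hχ, hle⟩ := hex
        obtain ⟨⟨a, ha⟩, -⟩ := hrow' χ hχ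
        have h := hbound χ hχ ((s : ℤ) - 1) (by omega)
        have hl : (s : ℤ) * s ≤ (l : ℤ) := by exact_mod_cast hs1
        have hQ0 : (0 : ℤ) ≤ Q := Nat.cast_nonneg _
        have : ((s : ℤ) + 1) * n ≤ (l : ℤ) * Q := by nlinarith
        exact_mod_cast this
      · push Not at hex
        have h := hsum ((s : ℤ) + 1) fun χ hχ => by have := hex χ hχ; omega
        have h' : n * (s + 1) ≤ Q * l := by exact_mod_cast h
        nlinarith
    refine ⟨hodd, heven, fun h3 => ?_⟩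
    have hs : s ≤ 1 := by
      by_contra hlt
      have : 2 * 2 ≤ s * s := Nat.mul_le_mul (by omega) (by omega)
      omega
    rcases Nat.le_one_iff_eq_zero_or_eq_one.1 hs with h0 | h1
    · have hl : l = 0 := by rw [h0] at hs2; omega
      have := heven (by rw [h0]; decide)
      rw [h0, hl] at this
      simp only [zero_add, one_mul, zero_mul] at this
      (have h00 : n = 0 := by omega); rw [h00]; exact Nat.zero_le _
    · simpa [h1] using hodd (by rw [h1]; decide)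

end Cfsg.Agent.S4541
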