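import Cfsg.Statements.S4550
import Cfsg.Agent.Blk.DegSq
import Cfsg.Agent.Blk.Regular
import Cfsg.Agent.Char.GaloisTwist
import Cfsg.Agent.Blk.PPart

set_option autoImplicit false
open Cfsg

namespace Cfsg.Agent.S4550
open CfsgLib.Char


/-- Let G be a finite group of even order and M a maximal ideal of the algebraic integers containing 2. Let k be a natural number with g ^ k = g ^ 3 for every 2-element g and g ^ k = g for every element g of odd order (such k exist); an irreducible character χ is unchanged by g ↦ g ^ k exactly when it is fixed by the field automorphism that cubes the 2-power roots of unity and fixes the roots of unity of odd order. Then the number of members χ of the principal 2-block of odd degree with χ (g ^ k) = χ g for all g is even. -/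
theorem result {G : Type*} [Group G] [Finite G] (M : Ideal Cfsg.AlgInt) (hM : Cfsg.IsPModular 2 M) (hev : Even (Nat.card G)) (k : ℕ) (hk₁ : ∀ g : G, (∃ j : ℕ, orderOf g = 2 ^ j) → g ^ k = g ^ 3) (hk₂ : ∀ g : G, Odd (orderOf g) → g ^ k = g) : Even (Nat.card {χ : Cfsg.IrrCharacter G // χ ∈ Cfsg.principalBlock M G ∧ Odd (Cfsg.charDegree (χ : G → ℂ)) ∧ ∀ g : G, (χ : G → ℂ) (g ^ k) = (χ : G → ℂ) g}) := by
  classical
  haveI := hM.2.1.isPrime
  haveI := Fact.mk Nat.prime_two
  haveI : Finite (IrrCharacter G) := inferInstance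
  haveI := Fintype.ofFinite (IrrCharacter G)
  have hcop : k.Coprime (Nat.card G) := by
    refine Nat.coprime_of_dvd fun r hr hrk hrG => ?_
    haveI := Fact.mk hr
    obtain ⟨g, hg⟩ := exists_prime_orderOf_dvd_card' r hrG
    have h1 : g ^ k = 1 := orderOf_dvd_iff_pow_eq_one.1 (hg ▸ hrk)
    rcases hr.eq_two_or_odd' with rfl | hodd
    · rw [hk₁ g ⟨1, by rw [hg, pow_one]⟩, ← orderOf_dvd_iff_pow_eq_one, hg] at h1
      omega
    · rw [hk₂ g (hg ▸ hodd)] at h1
      rw [h1, orderOf_one] at hg
      exact hr.ne_one hg.symm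
  have hperiod : ∀ g : G, g ^ (k ^ (2 ^ ((Nat.card G).factorization 2 - 1))) = g := by
    intro g
    obtain ⟨x, y, hxy, hc, ⟨j, hj⟩, hy⟩ := CfsgLib.Blk.exists_isPPart Nat.prime_two g
    set n := 2 ^ ((Nat.card G).factorization 2 - 1) with hn
    have hyk : ∀ m : ℕ, y ^ (k ^ m) = y := by
      intro m
      induction m with
      | zero => rw [pow_zero, pow_one]
      | succ m ih =>
        rw [pow_succ', pow_mul, hk₂ y (Nat.not_even_iff_odd.1 fun h => hy
          (even_iff_two_dvd.1 h)), ih]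
    have hxk : ∀ m : ℕ, x ^ (k ^ m) = x ^ (3 ^ m) := by
      intro m
      induction m with
      | zero => rw [pow_zero, pow_zero]
      | succ m ih =>
        rw [pow_succ', pow_succ', pow_mul, hk₁ x ⟨j, hj⟩, ← pow_mul, mul_comm 3, pow_mul, ih,
          ← pow_mul, mul_comm]
    rw [← hxy, hc.mul_pow, hyk, hxk]
    congr 1
    set e := (Nat.card G).factorization 2 with he
    have he1 : 1 ≤ e := (Nat.prime_two.pow_dvd_iff_le_factorization Nat.card_pos.ne').1
      (by simpa using even_iff_two_dvd.1 hev)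
    have hje : j ≤ e := (Nat.prime_two.pow_dvd_iff_le_factorization Nat.card_pos.ne').1
      (hj ▸ orderOf_dvd_natCard x)
    have hE : 3 ^ n ≡ 1 [MOD 2 ^ e] := by
      have := Nat.ModEq.pow_totient (x := 3) (n := 2 ^ e)
        (Nat.Coprime.pow_right e (by norm_num))
      simpa [Nat.totient_prime_pow Nat.prime_two he1, hn] using this
    have : 3 ^ n ≡ 1 [MOD orderOf x] := hE.of_dvd (hj ▸ Nat.pow_dvd_pow 2 hje)
    rw [pow_eq_pow_iff_modEq.2 this, pow_one]
  have hB : IsPBlock M (principalBlock M G) := CfsgLib.Blk.isPBlock_principalBlock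
  let X := {χ : IrrCharacter G // χ ∈ principalBlock M G ∧ Odd (charDegree (χ : G → ℂ))}
  have hcl : ∀ χ : IrrCharacter G, χ ∈ principalBlock M G ∧ Odd (charDegree (χ : G → ℂ)) →
      (⟨_, irr_pow hcop χ.2⟩ : IrrCharacter G) ∈ principalBlock M G ∧
        Odd (charDegree fun g => (χ : G → ℂ) (g ^ k)) := by
    rintro χ ⟨h1, h2⟩
    refine ⟨fun g => ?_, by simpa [charDegree] using h2⟩
    have hC : Subgroup.centralizer ({g ^ k} : Set G) = Subgroup.centralizer ({g} : Set G) := by
      ext x
      simp only [Subgroup.mem_centralizer_singleton_iff]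
      refine ⟨fun h => ?_, fun h => (Commute.pow_right h k : Commute x (g ^ k))⟩
      obtain ⟨m, hm⟩ : g ∈ Subgroup.zpowers (g ^ k) :=
        ⟨((k ^ (2 ^ ((Nat.card G).factorization 2 - 1) - 1) : ℕ) : ℤ), by
          show (g ^ k) ^ ((k ^ (2 ^ ((Nat.card G).factorization 2 - 1) - 1) : ℕ) : ℤ) = g
          rw [zpow_natCast, ← pow_mul, ← pow_succ', Nat.sub_add_cancel Nat.one_le_two_pow]
          exact hperiod g⟩
      rw [← hm]
      exact (Commute.zpow_right h m : Commute x _)
    have := h1 (g ^ k)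
    simp only [centralChar, hC, one_pow] at this ⊢
    exact this
  let f : X → X := fun χ => ⟨⟨_, irr_pow hcop χ.1.2⟩, hcl χ.1 χ.2⟩
  have hiter : ∀ (m : ℕ) (χ : X) (g : G), (((f^[m]) χ).1 : G → ℂ) g = (χ.1 : G → ℂ) (g ^ k ^ m) := by
    intro m
    induction m with
    | zero => intro χ g; simp
    | succ m ih =>
      intro χ g
      rw [Function.iterate_succ_apply, ih]
      show (χ.1 : G → ℂ) ((g ^ k ^ m) ^ k) = _
      rw [← pow_mul, pow_succ]
  set n := 2 ^ ((Nat.card G).factorization 2 - 1) with hn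
  have hfn : ∀ χ : X, (f^[n]) χ = χ := fun χ => Subtype.ext (Subtype.ext (funext fun g => by
    rw [hiter, hperiod]))
  have hbij : Function.Bijective f := by
    have h1 : f^[n] = id := funext hfn
    have hn0 : n = (n - 1) + 1 := (Nat.succ_pred_eq_of_pos (by positivity)).symm
    have hb : Function.Bijective (f^[n]) := h1 ▸ Function.bijective_id
    refine ⟨?_, ?_⟩
    · have := hb.1; rw [hn0, Function.iterate_succ] at this
      exact Function.Injective.of_comp this
    · have := hb.2; rw [hn0, Function.iterate_succ'] at this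
      exact Function.Surjective.of_comp this
  let σ : Equiv.Perm X := Equiv.ofBijective f hbij
  have hσn : σ ^ n = 1 := Equiv.ext fun χ => by
    rw [Equiv.Perm.coe_one, id, Equiv.Perm.coe_pow]
    exact hfn χ
  have hH : IsPGroup 2 (Subgroup.zpowers σ) := by
    rintro ⟨τ, m, rfl⟩
    refine ⟨(Nat.card G).factorization 2 - 1, Subtype.ext ?_⟩
    show (σ ^ m) ^ (2 ^ _) = 1
    rw [← zpow_natCast, ← zpow_mul, mul_comm, zpow_mul, zpow_natCast]
    rw [hσn, one_zpow]
  have hX : 2 ∣ Nat.card X := by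
    haveI : CharP (CfsgLib.Blk.Res M) 2 := CfsgLib.Blk.charP_res hM
    have h0 := CfsgLib.Blk.red_sum_deg_sq (p := 2) hM hB (even_iff_two_dvd.1 hev)
    rw [← CharP.cast_eq_zero_iff (CfsgLib.Blk.Res M) 2, Nat.card_eq_fintype_card,
      Fintype.card_subtype, ← Finset.sum_boole]
    refine Eq.trans (Finset.sum_congr rfl fun χ _ => ?_) h0
    by_cases h1 : χ ∈ principalBlock M G
    · rw [if_pos h1]
      rcases Nat.even_or_odd (charDegree (χ : G → ℂ)) with h2 | h2
      · rw [if_neg fun h => Nat.not_odd_iff_even.2 h2 h.2,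
          (CharP.cast_eq_zero_iff (CfsgLib.Blk.Res M) 2 _).2 (even_iff_two_dvd.1 h2)]
        simp
      · obtain ⟨m, hm⟩ := h2
        rw [if_pos ⟨h1, hm ▸ odd_two_mul_add_one m⟩, hm]
        push_cast
        have h2 : (2 : CfsgLib.Blk.Res M) = 0 := by
          exact_mod_cast CharP.cast_eq_zero (CfsgLib.Blk.Res M) 2
        simp [h2]
    · rw [if_neg h1, if_neg fun h => h1 h.1]
  have hmod := hH.card_modEq_card_fixedPoints X
  have e : MulAction.fixedPoints (Subgroup.zpowers σ) X ≃ {χ : IrrCharacter G //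
      χ ∈ principalBlock M G ∧ Odd (charDegree (χ : G → ℂ)) ∧
      ∀ g : G, (χ : G → ℂ) (g ^ k) = (χ : G → ℂ) g} :=
    { toFun := fun x => ⟨x.1.1, x.1.2.1, x.1.2.2, fun g => by
        have := congrFun (congrArg (fun z : X => (z.1 : G → ℂ)) (x.2 ⟨σ, Subgroup.mem_zpowers σ⟩)) g
        exact this⟩
      invFun := fun y => ⟨⟨y.1, y.2.1, y.2.2.1⟩, fun τ => by
        have hfix : σ ∈ MulAction.stabilizer (Equiv.Perm X) (⟨y.1, y.2.1, y.2.2.1⟩ : X) :=
          Subtype.ext (Subtype.ext (funext y.2.2.2))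
        exact (Subgroup.zpowers_le.2 hfix τ.2 : _)⟩
      left_inv := fun x => rfl
      right_inv := fun y => rfl }
  rw [← Nat.card_congr e, even_iff_two_dvd]
  exact (Nat.modEq_zero_iff_dvd.1 (hmod.symm.trans (Nat.modEq_zero_iff_dvd.2 hX)))

end Cfsg.Agent.S4550
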