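import Cfsg.Statements.S4558
import Cfsg.Agent.Blk.Criterion
import Cfsg.Agent.Char.Central
import Cfsg.Agent.Char.ModP
import Mathlib.Algebra.CharP.Quotient

set_option autoImplicit false
open Cfsg

namespace Cfsg.Agent.S4558
open scoped CfsgLib.Char


/-- Let χ be a character of the finite group G and g an element of p-power order for the prime p. If χ g = 0, then p divides the degree of χ. -/
theorem result {G : Type*} [Group G] [Finite G] (p : ℕ) [Fact p.Prime] (χ : G → ℂ) (hχ : Cfsg.IsCharacter G χ) (g : G) (hg : ∃ j : ℕ, orderOf g = p ^ j) (h0 : χ g = 0) : p ∣ Cfsg.charDegree χ := by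
  classical
  haveI := Fintype.ofFinite G
  have hp : p.Prime := Fact.out
  obtain ⟨M, hM⟩ := CfsgLib.Blk.exists_isPModular hp
  haveI := hM.2.1
  obtain ⟨j, hj⟩ := hg
  obtain ⟨d, ρ, rfl⟩ := hχ
  obtain ⟨ζ, hζ, -, hsum, -⟩ := CfsgLib.Char.exists_roots ρ g
  let ζ' : _ → Cfsg.AlgInt := fun i => ⟨ζ i, CfsgLib.Char.isIntegral_root (orderOf_pos g).ne' (hζ i)⟩
  letI := Ideal.Quotient.field M
  haveI : CharP (Cfsg.AlgInt ⧸ M) p := by
    refine (CharP.charP_iff_prime_eq_zero hp).2 ?_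
    rw [← map_natCast (Ideal.Quotient.mk M), Ideal.Quotient.eq_zero_iff_mem]
    exact hM.2.2
  have h1 : ∀ i, Ideal.Quotient.mk M (ζ' i) = 1 := fun i => by
    have h2 : ζ' i ^ p ^ j = 1 := Subtype.ext (by
      show ζ i ^ p ^ j = 1
      rw [← hj]; exact hζ i)
    have h3 := congrArg (Ideal.Quotient.mk M) h2
    rw [map_pow, map_one] at h3
    have h4 := sub_pow_char_pow (p := p) (Ideal.Quotient.mk M (ζ' i)) 1 (n := j)
    rw [h3, one_pow, sub_self] at h4
    exact sub_eq_zero.1 (pow_eq_zero_iff'.1 h4).1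
  have h0' : (∑ i, ζ' i) = 0 := Subtype.ext (by
    rw [hsum] at h0
    simpa [ζ'] using h0)
  have h5 := congrArg (Ideal.Quotient.mk M) h0'
  rw [map_sum, map_zero, Finset.sum_congr rfl fun i _ => h1 i, Finset.sum_const, Finset.card_univ,
    nsmul_eq_mul, mul_one, CharP.cast_eq_zero_iff (Cfsg.AlgInt ⧸ M) p, Fintype.card_fin] at h5
  rwa [CfsgLib.Char.charDegree_eq ρ.char_one]

end Cfsg.Agent.S4558
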