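import Cfsg.Statements.S4565
import Cfsg.Agent.Char.Ramified
import Cfsg.Agent.Char.ExtCrit
import Cfsg.Agent.Char.Gallagher
import Cfsg.Agent.Char.NormalSum
import Cfsg.Agent.Char.Brauer

set_option autoImplicit false
open Cfsg
open scoped CfsgLib.Char

namespace Cfsg.Agent.S4565
open CfsgLib.Char in
open scoped ComplexConjugate in
theorem exists_ne_zero_coset {K : Type*} [Group K] [Fintype K] (Z : Subgroup K) [Z.Normal] [Fintype Z]
    {θ : Z → ℂ} (hθ : IsIrrCharacter Z θ) {φ : K → ℂ} (hφ : IsIrrCharacter K φ)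
    (hext : ∀ z : Z, φ z = θ z) (x : K) : ∃ n : Z, φ ((n : K) * x) ≠ 0 := by
  classical
  by_contra hno
  push Not at hno
  have hbij := gallagher hθ (isCharacter_of_isIrr hφ) hext
  set F : K → ℂ := fun k => φ k * conj (φ k) with hF
  have hFc : IsClassFunction K F := fun g k => by
    simp only [hF, classFun_of_irr hφ g k]
  have h := classFun_eq_sum hFc
  have hsum : ∑ n : Z, F ((n : K) * x) = (Nat.card Z : ℂ) := by
    refine (Finset.sum_congr rfl fun (n : Z) _ => congrFun h ((n : K) * x)).trans ?_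
    simp only [Finset.sum_apply, Pi.smul_apply, smul_eq_mul]
    rw [Finset.sum_comm, Finset.sum_eq_single (⟨_, isIrr_one⟩ : IrrCharacter K)]
    · rw [← Finset.mul_sum, irr_coset_sum_eq isIrr_one x, if_pos fun _ _ => rfl]
      have : classInner F (fun _ : K => (1 : ℂ)) = 1 := by
        conv_rhs => rw [← irr_inner_self hφ]
        rw [classInner_def, classInner_def]
        simp [hF]
      rw [this, one_mul, mul_one]
    · intro β _ hβ
      rw [← Finset.mul_sum, irr_coset_sum_eq β.2 x]
      split_ifs with hk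
      · have h1 : classInner F (β : K → ℂ) = classInner φ ((β : K → ℂ) * φ) := by
          rw [classInner_def, classInner_def]
          congr 1
          refine Finset.sum_congr rfl fun g _ => ?_
          simp only [hF, Pi.mul_apply, map_mul]
          ring
        have hβmem : (β : K → ℂ) ∈ {b : K → ℂ | IsIrrCharacter K b ∧ ∀ n : Z, b n = b 1} :=
          ⟨β.2, fun n => hk n n.2⟩
        rw [h1, irr_inner hφ (hbij.mapsTo hβmem).1, if_neg fun he => hβ (Subtype.ext (hbij.injOn hβmem
          (show (fun _ : K => (1 : ℂ)) ∈ _ from ⟨isIrr_one, fun _ => rfl⟩) ?_)), zero_mul]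
        show (β : K → ℂ) * φ = (fun _ : K => (1 : ℂ)) * φ
        rw [← he]; funext k; simp
      · rw [mul_zero]
    · exact fun h => absurd (Finset.mem_univ _) h
  have h0 : ∑ n : Z, F ((n : K) * x) = 0 := Finset.sum_eq_zero fun n _ => by simp [hF, hno n]
  rw [h0] at hsum
  exact natCard_ne_zero Z hsum.symm


/-- Let χ be an irreducible character of the finite group H that is fully ramified over the normal subgroup Z: the restriction of χ to Z is e times an irreducible character of Z with e ^ 2 equal to the index of Z. If Z ≠ H, then H/Z has no cyclic subgroup that is its own centralizer. -/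
theorem result {H : Type*} [Group H] [Finite H] (Z : Subgroup H) [Z.Normal] (χ : Cfsg.IrrCharacter H) (hfr : ∃ (θ : Cfsg.IrrCharacter ↥Z) (e : ℕ), e ^ 2 = Z.index ∧ ∀ z : ↥Z, (χ : H → ℂ) z = (e : ℂ) * (θ : ↥Z → ℂ) z) (hZ : Z ≠ ⊤) (C : Subgroup (H ⧸ Z)) (hC : IsCyclic C) : Subgroup.centralizer (C : Set (H ⧸ Z)) ≠ C := by
  classical
  intro hcent
  haveI := Fintype.ofFinite H
  haveI := Fintype.ofFinite Z
  obtain ⟨θ, e, he2, heq⟩ := hfr
  have hres : (fun n : Z => (χ : H → ℂ) n) = (e : ℂ) • (θ : Z → ℂ) := funext heq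
  have he0 : (e : ℂ) ≠ 0 := by
    rintro h
    rw [Nat.cast_eq_zero] at h
    subst h
    exact Subgroup.index_ne_zero_of_finite (H := Z) (by simpa using he2.symm)
  have hc : Cfsg.classInner (fun n : Z => (χ : H → ℂ) n) (θ : Z → ℂ) ≠ 0 := by
    rw [hres, CfsgLib.Char.classInner_smul_left, CfsgLib.Char.irr_inner_self θ.2, mul_one]
    exact he0
  obtain ⟨h1, h2⟩ := CfsgLib.Char.fully_ramified_iff χ.2 θ.2 hc
  obtain ⟨hvan, hinv⟩ := h1.1 ⟨e, hres, he2⟩
  obtain ⟨-, huniq⟩ := h2.1 ⟨e, hres, he2⟩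
  obtain ⟨gen, hgen⟩ := hC.exists_generator
  obtain ⟨x, hx⟩ := QuotientGroup.mk'_surjective Z (gen : H ⧸ Z)
  have hCz : ∀ c ∈ C, ∃ i : ℤ, (QuotientGroup.mk' Z x) ^ i = c := by
    intro c hc
    obtain ⟨i, hi⟩ := hgen ⟨c, hc⟩
    refine ⟨i, ?_⟩
    rw [hx]
    exact congrArg Subtype.val hi
  have hxZ : x ∉ Z := by
    intro hxZ
    apply hZ
    have hbot : C = ⊥ := by
      rw [eq_bot_iff]
      intro c hc
      obtain ⟨i, rfl⟩ := hCz c hc
      simp [(QuotientGroup.eq_one_iff x).2 hxZ]
    rw [hbot] at hcent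
    rw [eq_top_iff]
    intro g _
    rw [← QuotientGroup.eq_one_iff, ← Subgroup.mem_bot, ← hcent, Subgroup.mem_centralizer_iff]
    intro c hc
    rw [SetLike.mem_coe, Subgroup.mem_bot] at hc
    subst hc; simp
  set K := C.comap (QuotientGroup.mk' Z) with hK
  haveI := Fintype.ofFinite K
  have hxK : x ∈ K := show QuotientGroup.mk' Z x ∈ C from hx ▸ gen.2
  have hZK : Z ≤ K := fun z hz => show QuotientGroup.mk' Z z ∈ C from by
    rw [show QuotientGroup.mk' Z z = 1 from (QuotientGroup.eq_one_iff z).2 hz]; exact C.one_mem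
  set ZK := Z.subgroupOf K
  haveI := Fintype.ofFinite ZK
  let eZ : ZK ≃* Z := Subgroup.subgroupOfEquivOfLe hZK
  have hθ' : Cfsg.IsIrrCharacter ZK ((θ : Z → ℂ) ∘ eZ) := CfsgLib.Char.irr_mulEquiv eZ θ.2
  have hinv' : ∀ k : K, CfsgLib.Char.conjN ((θ : Z → ℂ) ∘ eZ) k = (θ : Z → ℂ) ∘ eZ := by
    intro k
    funext n
    exact congrFun (hinv (k : H)) (eZ n)
  have hab : ∀ a b : K, (a : H) * b * (a : H)⁻¹ * (b : H)⁻¹ ∈ Z := by
    intro a b
    rw [← QuotientGroup.eq_one_iff]
    obtain ⟨i, hi⟩ := hCz _ a.2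
    obtain ⟨j, hj⟩ := hCz _ b.2
    show QuotientGroup.mk' Z _ = 1
    rw [map_mul, map_mul, map_mul, map_inv, map_inv, ← hi, ← hj, ← zpow_add, add_comm, zpow_add]
    group
  have hcyc : IsCyclic (K ⧸ ZK) := by
    haveI := hC
    let f : K →* C := ((QuotientGroup.mk' Z).comp K.subtype).codRestrict C fun k => k.2
    have hker : f.ker = ZK := by
      ext k
      rw [MonoidHom.mem_ker, Subgroup.mem_subgroupOf, ← QuotientGroup.eq_one_iff, Subtype.ext_iff]
      rfl
    exact isCyclic_of_injective ((QuotientGroup.kerLift f).comp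
      (QuotientGroup.quotientMulEquivOfEq hker.symm).toMonoidHom)
      ((QuotientGroup.kerLift_injective f).comp (MulEquiv.injective _))
  obtain ⟨φ, hφ, hext⟩ := CfsgLib.Char.extend_cyclic hθ' hinv' hcyc
  have hbij := CfsgLib.Char.gallagher hθ' (CfsgLib.Char.isCharacter_of_isIrr hφ) hext
  -- constituents of characters induced from above `θ`
  have hvanInd : ∀ β : K → ℂ, Cfsg.IsIrrCharacter K β → (∀ n : ZK, β n = β 1) →
      ∀ g : H, g ∉ Z → Cfsg.indFun K (β * φ) g = 0 := by
    intro β hβ hker g hg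
    have hirr := (hbij.mapsTo (show β ∈ _ from ⟨hβ, hker⟩)).1
    rw [congrFun (CfsgLib.Char.classFun_eq_sum (CfsgLib.Char.indFun_classFun K _)) g,
      Finset.sum_apply]
    refine Finset.sum_eq_zero fun γ _ => ?_
    by_cases hγ : Cfsg.classInner (Cfsg.indFun K (β * φ)) (γ : H → ℂ) = 0
    · simp [hγ]
    have hγK : Cfsg.classInner (fun k : K => (γ : H → ℂ) k) (β * φ) ≠ 0 := by
      intro h0
      apply hγ
      rw [CfsgLib.Char.frobenius K _ (CfsgLib.Char.classFun_of_irr γ.2),
        ← CfsgLib.Char.classInner_conj, h0, map_zero]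
    have hrest := CfsgLib.Char.isCharacter_sub_constituent
      (CfsgLib.Char.isCharacter_restrict K (CfsgLib.Char.isCharacter_of_isIrr γ.2)) hirr hγK
    have hγχ : (γ : H → ℂ) = (χ : H → ℂ) := by
      refine huniq γ γ.2 ?_
      rw [CfsgLib.Char.frobenius Z _ (CfsgLib.Char.classFun_of_irr γ.2)]
      intro h0
      have h0' : Cfsg.classInner (fun n : Z => (γ : H → ℂ) n) (θ : Z → ℂ) = 0 := by
        rw [← CfsgLib.Char.classInner_conj, h0, map_zero]
      have hsplit : (fun n : ZK => (γ : H → ℂ) ((n : K) : H)) = (fun n : ZK => (β * φ) n) +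
          fun n : ZK => ((fun k : K => (γ : H → ℂ) k) - β * φ) n := by
        funext n; simp
      have h00 : Cfsg.classInner (fun n : ZK => (γ : H → ℂ) ((n : K) : H)) ((θ : Z → ℂ) ∘ eZ) = 0 := by
        rw [← h0', ← CfsgLib.Char.classInner_mulEquiv eZ]
        rfl
      rw [hsplit] at h00
      have := CfsgLib.Char.inner_zero_of_summand
        (CfsgLib.Char.isCharacter_restrict ZK (CfsgLib.Char.isCharacter_of_isIrr hirr))
        (CfsgLib.Char.isCharacter_restrict ZK hrest) (CfsgLib.Char.isCharacter_of_isIrr hθ') h00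
      rw [show (fun n : ZK => (β * φ) n) = β 1 • ((θ : Z → ℂ) ∘ eZ) from funext fun n => by
          rw [Pi.mul_apply, hker n, hext n]; rfl,
        CfsgLib.Char.classInner_smul_left, CfsgLib.Char.irr_inner_self hθ', mul_one] at this
      exact CfsgLib.Char.irr_one_ne_zero hβ this
    rw [Pi.smul_apply, hγχ, hvan g hg, smul_zero]
  obtain ⟨n, hn⟩ := exists_ne_zero_coset ZK hθ' hφ hext ⟨x, hxK⟩
  set x' : K := (n : K) * ⟨x, hxK⟩ with hx'
  have hx'π : QuotientGroup.mk' Z (x' : H) = QuotientGroup.mk' Z x := by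
    rw [hx', Subgroup.coe_mul, map_mul,
      show QuotientGroup.mk' Z ((n : K) : H) = 1 from (QuotientGroup.eq_one_iff _).2 n.2, one_mul]
  have hx'Z : (x' : H) ∉ Z := by
    rw [← QuotientGroup.eq_one_iff] at hxZ ⊢
    exact fun h => hxZ (hx'π.symm.trans h)
  set ind : K → ℂ := fun k => if (k : H) * (x' : H)⁻¹ ∈ Z then 1 else 0 with hind
  have hclZ : ∀ g k : K, ((g * k * g⁻¹ : K) : H) * (x' : H)⁻¹ ∈ Z ↔ (k : H) * (x' : H)⁻¹ ∈ Z := by
    intro g k
    rw [show ((g * k * g⁻¹ : K) : H) * (x' : H)⁻¹ =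
      ((g : H) * k * (g : H)⁻¹ * (k : H)⁻¹) * ((k : H) * (x' : H)⁻¹) by push_cast; group]
    exact Z.mul_mem_cancel_left (hab g k)
  have hindc : Cfsg.IsClassFunction K ind := fun g k => by
    simp only [hind]
    refine if_congr ?_ rfl rfl
    first
      | exact hclZ g k
      | exact hclZ k g
  have hdec := CfsgLib.Char.classFun_eq_sum hindc
  have hzero : Cfsg.indFun K (ind * φ) (x' : H) = 0 := by
    have e1 : ind * φ = ∑ β : Cfsg.IrrCharacter K,
        Cfsg.classInner ind (β : K → ℂ) • ((β : K → ℂ) * φ) := by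
      conv_lhs => rw [hdec, Finset.sum_mul]
      simp [smul_mul_assoc]
    rw [e1, CfsgLib.Char.indFun_sum, Finset.sum_apply]
    refine Finset.sum_eq_zero fun β _ => ?_
    rw [CfsgLib.Char.indFun_smul, Pi.smul_apply, smul_eq_mul]
    by_cases hker : ∀ m ∈ ZK, (β : K → ℂ) m = (β : K → ℂ) 1
    · rw [hvanInd β β.2 (fun m => hker m m.2) _ hx'Z, mul_zero]
    · suffices h0 : Cfsg.classInner ind (β : K → ℂ) = 0 by rw [h0, zero_mul]
      have hs := CfsgLib.Char.irr_coset_sum_eq (N := ZK) β.2 x'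
      rw [if_neg hker] at hs
      rw [CfsgLib.Char.classInner_def]
      refine mul_eq_zero_of_right _ ?_
      simp only [hind, ite_mul, one_mul, zero_mul]
      rw [← Finset.sum_filter, ← map_sum]
      refine (map_eq_zero _).2 ?_
      rw [← hs]
      refine Finset.sum_bij' (fun k hk => (⟨k * x'⁻¹, (Finset.mem_filter.1 hk).2⟩ : ZK))
        (fun m _ => (m : K) * x') (fun _ _ => Finset.mem_univ _)
        (fun m _ => Finset.mem_filter.2 ⟨Finset.mem_univ _, ?_⟩)
        (fun k _ => by simp) (fun m _ => by apply Subtype.ext; simp) (fun k _ => by simp)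
      show (((m : K) * x' : K) : H) * (x' : H)⁻¹ ∈ Z
      rw [Subgroup.coe_mul, mul_inv_cancel_right]
      exact m.2
  have hval : Cfsg.indFun K (ind * φ) (x' : H) = φ x' := by
    rw [CfsgLib.Char.indFun_apply]
    have e2 : ∀ y : H, Cfsg.extendByZero K (ind * φ) (y⁻¹ * (x' : H) * y) =
        if y ∈ K then φ x' else 0 := by
      intro y
      by_cases hy : y ∈ K
      · rw [if_pos hy, CfsgLib.Char.extendByZero_mem' K _
          (K.mul_mem (K.mul_mem (K.inv_mem hy) x'.2) hy)]
        have hconj : (⟨y⁻¹ * (x' : H) * y, K.mul_mem (K.mul_mem (K.inv_mem hy) x'.2) hy⟩ : K) =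
            (⟨y, hy⟩ : K)⁻¹ * x' * ((⟨y, hy⟩ : K)⁻¹)⁻¹ := by apply Subtype.ext; simp
        rw [hconj, Pi.mul_apply]
        simp only [hind]
        rw [if_pos ((hclZ _ _).2 (by rw [mul_inv_cancel]; exact Z.one_mem)), one_mul]
        have := CfsgLib.Char.classFun_of_irr hφ
        exact CfsgLib.Char.classFun_isConj this (isConj_iff.2 ⟨⟨y, hy⟩, by simp [mul_assoc]⟩)
      · rw [if_neg hy]
        by_cases hy' : y⁻¹ * (x' : H) * y ∈ K
        · rw [CfsgLib.Char.extendByZero_mem' K _ hy', Pi.mul_apply]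
          simp only [hind]
          rw [if_neg fun hm => hy ?_, zero_mul]
          have h3 : (QuotientGroup.mk' Z y)⁻¹ * QuotientGroup.mk' Z x * QuotientGroup.mk' Z y =
              QuotientGroup.mk' Z x := by
            have := (QuotientGroup.eq_one_iff (N := Z) _).2 hm
            have e' : QuotientGroup.mk' Z (y⁻¹ * (x' : H) * y * (x' : H)⁻¹) = 1 := this
            rw [map_mul, map_mul, map_mul, map_inv, map_inv, hx'π, mul_inv_eq_one] at e'
            exact e'
          show QuotientGroup.mk' Z y ∈ C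
          rw [← hcent, Subgroup.mem_centralizer_iff]
          intro c hc
          obtain ⟨i, rfl⟩ := hCz c hc
          refine (Commute.zpow_left ?_ i : Commute ((QuotientGroup.mk' Z x) ^ i) (QuotientGroup.mk' Z y))
          show QuotientGroup.mk' Z x * QuotientGroup.mk' Z y = QuotientGroup.mk' Z y * QuotientGroup.mk' Z x
          calc QuotientGroup.mk' Z x * QuotientGroup.mk' Z y
              = QuotientGroup.mk' Z y * ((QuotientGroup.mk' Z y)⁻¹ * QuotientGroup.mk' Z x *
                QuotientGroup.mk' Z y) := by group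
            _ = _ := by rw [h3]
        · exact CfsgLib.Char.extendByZero_not_mem K _ hy'
    rw [Finset.sum_congr rfl fun y _ => e2 y, ← Finset.sum_filter, Finset.sum_const, nsmul_eq_mul]
    have : (Finset.univ.filter (fun y : H => y ∈ K)).card = Nat.card K := by
      rw [Nat.card_eq_fintype_card, Fintype.card_subtype]
    rw [this, inv_mul_cancel_left₀ (CfsgLib.Char.natCard_ne_zero K)]
  rw [hval] at hzero
  exact hn hzero

end Cfsg.Agent.S4565
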