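import Cfsg.Statements.S4566
import Cfsg.Agent.Char.Burnside

set_option autoImplicit false
open Cfsg

namespace Cfsg.Agent.S4566

/-- Let N be a central subgroup of the finite group G, ψ a faithful irreducible (hence degree-one) character of N, and χ an irreducible character of G whose restriction to N contains ψ. If g ∈ G and some x ∈ G has commutator x⁻¹ g⁻¹ x g in N but different from 1, then χ g = 0. -/
theorem result {G : Type*} [Group G] [Fintype G] (N : Subgroup G) [Fintype N] (hN : N ≤ Subgroup.center G) (ψ : Cfsg.IrrCharacter ↥N) (hfaith : ∀ n : ↥N, (ψ : ↥N → ℂ) n = (ψ : ↥N → ℂ) 1 → n = 1) (χ : Cfsg.IrrCharacter G) (hover : Cfsg.classInner (fun n : ↥N => (χ : G → ℂ) n) (ψ : ↥N → ℂ) ≠ 0) (g x : G) (hcomm : x⁻¹ * g⁻¹ * x * g ∈ N) (hne : x⁻¹ * g⁻¹ * x * g ≠ 1) : (χ : G → ℂ) g = 0 := by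
  obtain ⟨n, ρ, hirr, hρ⟩ := χ.2
  haveI := hirr
  set z : G := x⁻¹ * g⁻¹ * x * g with hz
  have hzc : ∀ w, z * w = w * z := fun w =>
    (Subgroup.mem_center_iff.mp (hN hcomm) w).symm
  obtain ⟨c, hc⟩ := CfsgLib.Char.schur_scalar ρ (ρ z) (fun k v => by
    rw [← Module.End.mul_apply, ← Module.End.mul_apply, ← map_mul, ← map_mul, hzc])
  have hgz : (χ : G → ℂ) (g * z) = c * (χ : G → ℂ) g := by
    rw [← hρ, Representation.character, map_mul, hc, ← Module.End.one_eq_id, mul_smul_comm,
      mul_one, map_smul]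
    rfl
  have hconj : IsConj g (g * z⁻¹) := by
    rw [isConj_iff]
    refine ⟨x⁻¹, ?_⟩
    rw [hz]
    group
  have hc1 : c ≠ 1 := by
    intro h1
    rw [h1, one_smul] at hc
    have hψ : (ψ : N → ℂ) ⟨z, hcomm⟩ = (ψ : N → ℂ) 1 := by
      by_contra hne'
      apply hover
      have hρN : ∀ m : N, (χ : G → ℂ) ((⟨z, hcomm⟩ * m : N) : G) = (χ : G → ℂ) m := by
        intro m
        rw [← hρ, Subgroup.coe_mul, Representation.character, map_mul, hc,
          ← Module.End.one_eq_id, one_mul]
        rfl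
      obtain ⟨k, σ, hσirr, hσ⟩ := ψ.2
      haveI := hσirr
      obtain ⟨d, hd⟩ := CfsgLib.Char.schur_scalar σ (σ ⟨z, hcomm⟩) (fun m v => by
        rw [← Module.End.mul_apply, ← Module.End.mul_apply, ← map_mul, ← map_mul]
        exact congrArg (fun t => σ t v) (Subtype.ext (hzc m)))
      have hψz : ∀ m : N, (ψ : N → ℂ) (⟨z, hcomm⟩ * m) = d * (ψ : N → ℂ) m := by
        intro m
        rw [← hσ, Representation.character, map_mul, hd, ← Module.End.one_eq_id, smul_mul_assoc,
          one_mul, map_smul]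
        rfl
      have hd1 : d ≠ 1 := by
        intro hd1
        apply hne'
        have := hψz 1
        rwa [mul_one, hd1, one_mul] at this
      have hI : Cfsg.classInner (fun m : N => (χ : G → ℂ) m) (ψ : N → ℂ) =
          starRingEnd ℂ d * Cfsg.classInner (fun m : N => (χ : G → ℂ) m) (ψ : N → ℂ) := by
        simp only [CfsgLib.Char.classInner_def, Finset.mul_sum]
        refine Fintype.sum_equiv (Equiv.mulLeft (⟨z, hcomm⟩ : N)⁻¹) _ _ fun m => ?_
        obtain ⟨m, rfl⟩ := (Equiv.mulLeft (⟨z, hcomm⟩ : N)).surjective m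
        simp only [Equiv.coe_mulLeft, inv_mul_cancel_left]
        rw [hρN m, hψz m, map_mul]
        ring
      have : (1 - starRingEnd ℂ d) * Cfsg.classInner (fun m : N => (χ : G → ℂ) m) (ψ : N → ℂ) = 0 := by
        linear_combination hI
      refine (mul_eq_zero.mp this).resolve_left fun h0 => hd1 ?_
      have := congrArg (starRingEnd ℂ) (sub_eq_zero.mp h0)
      rwa [map_one, Complex.conj_conj, eq_comm] at this
    exact hne (Subtype.ext_iff.mp (hfaith _ hψ))
  have hgg : (χ : G → ℂ) (g * z⁻¹) = (χ : G → ℂ) g :=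
    (CfsgLib.Char.classFun_isConj (CfsgLib.Char.classFun_of_irr χ.2) hconj).symm
  have : (χ : G → ℂ) g = c * (χ : G → ℂ) (g * z⁻¹) := by
    rw [← hρ, Representation.character]
    conv_lhs => rw [show g = g * z⁻¹ * z by group, map_mul, hc, ← Module.End.one_eq_id,
      mul_smul_comm, mul_one, map_smul]
    rfl
  rw [hgg] at this
  have : (1 - c) * (χ : G → ℂ) g = 0 := by linear_combination this
  exact (mul_eq_zero.mp this).resolve_left fun h0 => hc1 (sub_eq_zero.mp h0).symm

end Cfsg.Agent.S4566
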