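import Cfsg.Statements.S4567
import Cfsg.Agent.Char.Extraspecial
import Cfsg.Agent.Char.Linear
import Mathlib.LinearAlgebra.Dimension.Constructions

set_option autoImplicit false
open Cfsg

namespace Cfsg.Agent.S4567
open scoped CfsgLib.Char ComplexConjugate


/-- Let N be a central subgroup of the finite group G and ψ a faithful irreducible (hence degree-one) character of N. Call a coset g N special when every x ∈ G whose commutator x⁻¹ g⁻¹ x g lies in N actually commutes with g (this depends only on the coset). Then the number of irreducible characters of G whose restriction to N contains ψ equals the number of conjugacy classes of G/N consisting of special cosets. -/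
theorem result {G : Type*} [Group G] [Fintype G] (N : Subgroup G) [N.Normal] [Fintype N] (hN : N ≤ Subgroup.center G) (ψ : Cfsg.IrrCharacter ↥N) (hfaith : ∀ n : ↥N, (ψ : ↥N → ℂ) n = (ψ : ↥N → ℂ) 1 → n = 1) : Nat.card {χ : Cfsg.IrrCharacter G // Cfsg.classInner (fun n : ↥N => (χ : G → ℂ) n) (ψ : ↥N → ℂ) ≠ 0} = Nat.card {C : ConjClasses (G ⧸ N) // ∃ g : G, ConjClasses.mk (g : G ⧸ N) = C ∧ ∀ x : G, x⁻¹ * g⁻¹ * x * g ∈ N → x * g = g * x} := by
  classical
  open CfsgLib.Char in
  · have hwh : ∀ χ : Cfsg.IrrCharacter G, ∃ μ : N →* ℂˣ, ∀ (g : G) (n : N), χ.1 (g * n) = (μ n : ℂ) * χ.1 g := by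
      intro χ
      choose w hw hw1 using fun n : N => exists_central_scalar χ.2 (hN n.2)
      have hmul : ∀ a b : N, w (a * b) = w a * w b := fun a b => by
        refine mul_right_cancel₀ (irr_one_ne_zero χ.2) ?_
        rw [← hw1, Subgroup.coe_mul, hw b, hw1]; ring
      have h1 : w 1 = 1 := by
        refine mul_right_cancel₀ (irr_one_ne_zero χ.2) ?_
        rw [← hw1, Subgroup.coe_one, one_mul]
      exact ⟨MonoidHom.toHomUnits { toFun := w, map_one' := h1, map_mul' := hmul }, fun g n => hw n g⟩
    choose μ hμ using hwh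
    have hψ1 : ψ.1 1 = 1 := irr_degree_one_of_comm (fun a b => Subtype.ext (Subgroup.mem_center_iff.1 (hN b.2) a)) ψ.2
    obtain ⟨lam, hlam⟩ := exists_hom_of_degree_one (isCharacter_of_isIrr ψ.2) hψ1
    have hlinj : ∀ n : N, lam n = 1 → n = 1 := fun n hn => hfaith n (by rw [hψ1, hlam]; simp [hn])
    have hover : ∀ χ : Cfsg.IrrCharacter G, classInner (fun n : N => χ.1 n) (ψ.1) ≠ 0 ↔ μ χ = lam := by
      intro χ
      have hres : (fun n : N => χ.1 n) = χ.1 1 • (fun n : N => (μ χ n : ℂ)) := by
        ext n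
        have := hμ χ 1 n
        rw [one_mul] at this
        rw [Pi.smul_apply, smul_eq_mul, this, mul_comm]
      rw [hres, classInner_smul_left, hlam, mul_ne_zero_iff]
      constructor
      · rintro ⟨-, h⟩
        by_contra hne
        exact h (irr_inner_ne (isIrr_linear _) (isIrr_linear _) fun e => hne (coe_linear_injective e))
      · intro e
        exact ⟨irr_one_ne_zero χ.2, by rw [e, irr_inner_self (isIrr_linear _)]; exact one_ne_zero⟩
    let V : Submodule ℂ (G → ℂ) :=
      { carrier := {f | Cfsg.IsClassFunction G f ∧ ∀ (g : G) (n : N), f (g * n) = (lam n : ℂ) * f g}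
        zero_mem' := ⟨fun _ _ => rfl, fun _ _ => by simp⟩
        add_mem' := fun {a b} ha hb => ⟨fun x y => by simp [ha.1 x y, hb.1 x y], fun g n => by simp [ha.2 g n, hb.2 g n, mul_add]⟩
        smul_mem' := fun c f hf => ⟨fun x y => by simp [hf.1 x y], fun g n => by simp [hf.2 g n, mul_left_comm]⟩ }
    set Over := {χ : Cfsg.IrrCharacter G // classInner (fun n : N => χ.1 n) (ψ.1) ≠ 0}
    let v : Over → V := fun χ => ⟨χ.1.1, classFun_of_irr χ.1.2, fun g n => by rw [hμ χ.1 g n, (hover χ.1).1 χ.2]⟩
    have hli : LinearIndependent ℂ v :=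
      LinearIndependent.of_comp V.subtype ((linearIndependent_irr (G := G)).comp (fun χ : Over => χ.1) Subtype.val_injective)
    have hspan : ⊤ ≤ Submodule.span ℂ (Set.range v) := by
      rintro ⟨f, hfc, hfN⟩ -
      have hexp := classFun_eq_sum hfc
      have hz : ∀ χ : Cfsg.IrrCharacter G, ¬ (classInner (fun n : N => χ.1 n) (ψ.1) ≠ 0) → classInner f χ.1 = 0 := by
        intro χ hχ
        obtain ⟨n, hn⟩ : ∃ n, μ χ n ≠ lam n := by
          by_contra h
          push Not at h
          exact hχ ((hover χ).2 (MonoidHom.ext h))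
        have hc : classInner f χ.1 = (lam n : ℂ) * conj (μ χ n : ℂ) * classInner f χ.1 := by
          simp only [classInner_def]
          conv_lhs => rw [← Equiv.sum_comp (Equiv.mulRight (n : G))]
          rw [mul_left_comm ((lam n : ℂ) * _), Finset.mul_sum Finset.univ _ ((lam n : ℂ) * _)]
          refine congrArg _ (Finset.sum_congr rfl fun g _ => ?_)
          rw [Equiv.coe_mulRight, hfN, hμ, map_mul]; ring
        by_contra hne
        have h1 : (lam n : ℂ) * conj (μ χ n : ℂ) = 1 := (mul_left_eq_self₀.1 hc.symm).resolve_right hne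
        rw [conj_root (orderOf_pos n).ne' (linear_root (μ χ) n), mul_inv_eq_one₀ (Units.ne_zero _)] at h1
        exact hn (Units.ext h1.symm)
      have e : (⟨f, hfc, hfN⟩ : V) = ∑ χ : Over, classInner f χ.1.1 • v χ := by
        apply Subtype.ext
        rw [AddSubmonoidClass.coe_finset_sum]
        show f = ∑ χ : Over, classInner f χ.1.1 • χ.1.1
        conv_lhs => rw [hexp]
        rw [← Finset.sum_subtype (Finset.univ.filter fun χ : Cfsg.IrrCharacter G => classInner (fun n : N => χ.1 n) (ψ.1) ≠ 0)
          (fun χ => by simp) (fun χ => classInner f χ.1 • χ.1)]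
        refine (Finset.sum_filter_of_ne fun χ _ hne => ?_).symm
        by_contra h
        exact hne (by rw [hz χ (not_not_intro h), zero_smul])
      rw [e]
      exact Submodule.sum_mem _ fun χ _ => Submodule.smul_mem _ _ (Submodule.subset_span ⟨χ, rfl⟩)
    have hV : Module.finrank ℂ V = Nat.card Over := by
      rw [Module.finrank_eq_card_basis (Module.Basis.mk hli hspan), Nat.card_eq_fintype_card]
    -- special cosets
    let Sp : G → Prop := fun g => ∀ x : G, x⁻¹ * g⁻¹ * x * g ∈ N → x * g = g * x
    have hcn : ∀ (n : N) (a : G), a * n = n * a := fun n => Subgroup.mem_center_iff.1 (hN n.2)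
    have hvan : ∀ f ∈ V, ∀ g, ¬ Sp g → f g = 0 := by
      intro f hf g hg
      simp only [Sp, not_forall] at hg
      obtain ⟨x, hx, hne⟩ := hg
      set n : N := ⟨_, hx⟩ with hn
      have h3 : x * g = g * x * (n : G) := by simp only [hn]; group
      have e : g * (n : G) = x⁻¹⁻¹ * g * x⁻¹ := by
        rw [inv_inv, eq_mul_inv_iff_mul_eq, mul_assoc, ← hcn n x, ← mul_assoc, h3]
      have h1 : f g = (lam n : ℂ) * f g := by
        rw [← hf.2, e, inv_inv, hf.1]
      by_contra h0
      have h2 : n = 1 := hlinj n (Units.val_eq_one.1 ((mul_left_eq_self₀.1 h1.symm).resolve_right h0))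
      apply hne
      rw [h3, h2, Subgroup.coe_one, mul_one]
    have hSp : ∀ (g : G) (y : G) (n : N), Sp g → Sp (y * g * y⁻¹ * n) := by
      intro g y n hg x hx
      have e : x⁻¹ * (y * g * y⁻¹ * n)⁻¹ * x * (y * g * y⁻¹ * n) =
          y * ((y⁻¹ * x * y)⁻¹ * g⁻¹ * (y⁻¹ * x * y) * g) * y⁻¹ := by
        have c1 : (y * g * y⁻¹ * n)⁻¹ = (y * g * y⁻¹)⁻¹ * (n⁻¹ : N) := by
          rw [Subgroup.coe_inv, mul_inv_rev, ← Subgroup.coe_inv, hcn]
        rw [c1]
        calc x⁻¹ * ((y * g * y⁻¹)⁻¹ * ((n⁻¹ : N) : G)) * x * (y * g * y⁻¹ * n)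
            = x⁻¹ * (y * g * y⁻¹)⁻¹ * (((n⁻¹ : N) : G) * (x * (y * g * y⁻¹))) * n := by group
          _ = x⁻¹ * (y * g * y⁻¹)⁻¹ * ((x * (y * g * y⁻¹)) * ((n⁻¹ : N) : G)) * n := by rw [← hcn]
          _ = _ := by rw [Subgroup.coe_inv]; group
      rw [e] at hx
      have hx' := ‹N.Normal›.conj_mem _ hx y⁻¹
      have h := hg (y⁻¹ * x * y) (by simpa [mul_assoc] using hx')
      have h' : x * (y * g * y⁻¹) = y * g * y⁻¹ * x := by
        calc x * (y * g * y⁻¹) = y * (y⁻¹ * x * y * g) * y⁻¹ := by group
          _ = y * g * y⁻¹ * x := by rw [h]; group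
      rw [← mul_assoc, h', mul_assoc, hcn n x, ← mul_assoc]
    set Good := {C : ConjClasses (G ⧸ N) // ∃ g : G, ConjClasses.mk (g : G ⧸ N) = C ∧ ∀ x : G, x⁻¹ * g⁻¹ * x * g ∈ N → x * g = g * x}
    choose rep hrep hrepS using fun C : Good => C.2
    have hdec : ∀ g : G, Sp g → ∃ (C : Good) (y : G) (n : N), g = y * rep C * y⁻¹ * n := by
      intro g hg
      let C : Good := ⟨_, g, rfl, hg⟩
      obtain ⟨c, hc⟩ := isConj_iff.1 (ConjClasses.mk_eq_mk_iff_isConj.1 (hrep C))
      obtain ⟨c, rfl⟩ := QuotientGroup.mk_surjective c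
      rw [← QuotientGroup.mk_mul, ← QuotientGroup.mk_inv, ← QuotientGroup.mk_mul, QuotientGroup.eq] at hc
      exact ⟨C, c, ⟨_, hc⟩, (mul_inv_cancel_left _ _).symm⟩
    have hclass : ∀ (C : Good) (y : G) (n : N), ConjClasses.mk ((y * rep C * y⁻¹ * n : G) : G ⧸ N) = C.1 := by
      intro C y n
      conv_rhs => rw [← hrep C]
      rw [ConjClasses.mk_eq_mk_iff_isConj, isConj_comm, isConj_iff]
      exact ⟨(y : G ⧸ N), by rw [QuotientGroup.mk_mul_of_mem _ n.2]; simp⟩
    have huniq : ∀ (C C' : Good) (y y' : G) (n n' : N), y * rep C * y⁻¹ * n = y' * rep C' * y'⁻¹ * n' → C = C' ∧ n = n' := by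
      intro C C' y y' n n' h
      obtain rfl : C = C' := Subtype.ext (by rw [← hclass C y n, h, hclass])
      refine ⟨rfl, ?_⟩
      set z := y'⁻¹ * y with hz
      have h1 : z * rep C = rep C * z * ((n' * n⁻¹ : N) : G) := by
        calc z * rep C = y'⁻¹ * (y * rep C * y⁻¹ * n) * ((n⁻¹ : N) : G) * y := by
              rw [Subgroup.coe_inv, mul_assoc y'⁻¹ (_ * (n : G)), mul_inv_cancel_right, hz]; group
          _ = rep C * y'⁻¹ * (((n' * n⁻¹ : N) : G)) * y := by rw [h, Subgroup.coe_mul]; group
          _ = rep C * z * ((n' * n⁻¹ : N) : G) := by rw [mul_assoc _ _ y, ← hcn, hz]; group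
      have h2 : z⁻¹ * (rep C)⁻¹ * z * rep C = ((n' * n⁻¹ : N) : G) := by
        rw [mul_assoc _ z, h1]; group
      have h3 := hrepS C z (by rw [h2]; exact (n' * n⁻¹).2)
      have h4 : ((n' * n⁻¹ : N) : G) = 1 := by rw [← h2, mul_assoc _ z, h3]; group
      exact (mul_inv_eq_one.1 (Subtype.ext h4 : n' * n⁻¹ = 1)).symm
    choose CC yy nn hcc using hdec
    let Φ : V →ₗ[ℂ] (Good → ℂ) :=
      { toFun := fun f C => f.1 (rep C), map_add' := fun _ _ => rfl, map_smul' := fun _ _ => rfl }
    have hΦ : Function.Bijective Φ := by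
      constructor
      · rw [injective_iff_map_eq_zero]
        rintro ⟨f, hf⟩ h0
        refine Subtype.ext (funext fun g => ?_)
        show f g = 0
        by_cases hg : Sp g
        · rw [hcc g hg, hf.2, hf.1]
          have : f (rep (CC g hg)) = 0 := congrFun h0 (CC g hg)
          rw [this, mul_zero]
        · exact hvan f hf g hg
      · intro F
        let f : G → ℂ := fun g => if h : Sp g then (lam (nn g h) : ℂ) * F (CC g h) else 0
        have hval : ∀ (C : Good) (y : G) (n : N), f (y * rep C * y⁻¹ * n) = (lam n : ℂ) * F C := by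
          intro C y n
          have hs : Sp (y * rep C * y⁻¹ * n) := hSp _ y n (hrepS C)
          obtain ⟨e1, e2⟩ := huniq _ _ _ _ _ _ (hcc _ hs)
          simp only [f, dif_pos hs, ← e1, ← e2]
        have hzero : ∀ g, ¬ Sp g → f g = 0 := fun g hg => dif_neg hg
        refine ⟨⟨f, fun g a => ?_, fun g m => ?_⟩, funext fun C => ?_⟩
        · by_cases hg : Sp g
          · rw [hcc g hg]
            generalize CC g hg = C
            generalize yy g hg = y
            generalize nn g hg = n
            rw [hval, show a * (y * rep C * y⁻¹ * n) * a⁻¹ = (a * y) * rep C * (a * y)⁻¹ * n by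
              rw [mul_assoc, mul_assoc (_ * _), ← hcn n a⁻¹]; group, hval]
          · rw [hzero g hg, hzero]
            intro h
            have := hSp _ a⁻¹ 1 h
            simp [mul_assoc] at this
            exact hg this
        · by_cases hg : Sp g
          · rw [hcc g hg]
            generalize CC g hg = C
            generalize yy g hg = y
            generalize nn g hg = n
            rw [mul_assoc, ← Subgroup.coe_mul, hval, hval, map_mul, Units.val_mul]; ring
          · rw [hzero g hg, hzero, mul_zero]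
            intro h
            have := hSp _ 1 m⁻¹ h
            simp at this
            exact hg this
        · have := hval C 1 1
          simpa [Φ] using this
    haveI : Fintype Good := Fintype.ofFinite _
    show Nat.card Over = Nat.card Good
    rw [← hV, (LinearEquiv.ofBijective Φ hΦ).finrank_eq, Module.finrank_pi, Nat.card_eq_fintype_card]

end Cfsg.Agent.S4567
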