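import Cfsg.Statements.S4571
import Cfsg.Agent.Blk.QuotientRank
import Cfsg.Agent.Solv.Basic

set_option autoImplicit false
open Cfsg

namespace Cfsg.Agent.S4571

/-- Let Q be a normal p-subgroup of the finite group G with G = Q·C_G(Q), and M a maximal ideal of the algebraic integers containing p. Then the principal p-blocks of G and of G/Q have the same p-regular rank (the same number of irreducible Brauer characters). -/
theorem result {G : Type*} [Group G] [Finite G] (p : ℕ) [Fact p.Prime] (M : Ideal Cfsg.AlgInt) (hM : Cfsg.IsPModular p M) (Q : Subgroup G) [Q.Normal] (hQ : IsPGroup p Q) (hsup : Q ⊔ Subgroup.centralizer (Q : Set G) = ⊤) : Cfsg.blockRank p (Cfsg.principalBlock M G) = Cfsg.blockRank p (Cfsg.principalBlock M (G ⧸ Q)) := by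
  classical
  haveI : M.IsPrime := hM.2.1.isPrime
  haveI : (Subgroup.centralizer (Q : Set G)).Normal := Subgroup.normal_centralizer
  have hC : ∃ k : ℕ, (Subgroup.centralizer (Q : Set G)).index = p ^ k := by
    obtain ⟨n, hn⟩ := IsPGroup.iff_card.1 hQ
    have h := CfsgLib.Solv.card_sup_mul_card_inf Q (Subgroup.centralizer (Q : Set G))
    rw [hsup, Subgroup.card_top, ← Subgroup.index_mul_card (Subgroup.centralizer (Q : Set G)), hn,
      mul_right_comm] at h
    obtain ⟨i, -, hi⟩ := (Nat.dvd_prime_pow (Fact.out : p.Prime)).1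
      (Dvd.intro _ (Nat.eq_of_mul_eq_mul_right Nat.card_pos h) :
        (Subgroup.centralizer (Q : Set G)).index ∣ p ^ n)
    exact ⟨i, hi⟩
  have hone : IsIrrCharacter G (fun _ => (1 : ℂ)) := by
    simpa using CfsgLib.Char.isIrr_linear (1 : G →* ℂˣ)
  have hone' : IsIrrCharacter (G ⧸ Q) (fun _ => (1 : ℂ)) := by
    simpa using CfsgLib.Char.isIrr_linear (1 : G ⧸ Q →* ℂˣ)
  have hB : IsPBlock M (principalBlock M G) := ⟨⟨_, hone⟩, rfl⟩
  rw [← CfsgLib.QuotientRank.blockRank_bar Q hC hQ hM hB]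
  congr 1
  refine CfsgLib.Blk.eq_of_mem_of_mem (CfsgLib.QuotientRank.isPBlock_bar Q hC hQ hM hB)
    ⟨⟨_, hone'⟩, rfl⟩ (χ := ⟨_, hone'⟩) ?_ (CfsgLib.Blk.sameBlock_refl _)
  exact CfsgLib.Blk.sameBlock_refl _

end Cfsg.Agent.S4571
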