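import Cfsg.Statements.S4574
import Cfsg.Agent.Char.Burnside

set_option autoImplicit false
open Cfsg

namespace Cfsg.Agent.S4574

/-- Let χ be an irreducible character of the finite group G, of degree d, and let Z(χ) be the set of elements g with |χ g| = d (the centre of χ). Then χ vanishes on at least (d ^ 2 - 1) · |Z(χ)| elements of G, with equality when every value |χ g| is 0, 1 or d. -/
theorem result {G : Type*} [Group G] [Fintype G] [DecidableEq G] (χ : G → ℂ) (hχ : Cfsg.IsIrrCharacter G χ) : (Cfsg.charDegree χ ^ 2 - 1) * (Finset.univ.filter (fun g : G => ‖χ g‖ = (Cfsg.charDegree χ : ℝ))).card ≤ (Finset.univ.filter (fun g : G => χ g = 0)).card ∧ ((∀ g : G, ‖χ g‖ = 0 ∨ ‖χ g‖ = 1 ∨ ‖χ g‖ = (Cfsg.charDegree χ : ℝ)) → (Cfsg.charDegree χ ^ 2 - 1) * (Finset.univ.filter (fun g : G => ‖χ g‖ = (Cfsg.charDegree χ : ℝ))).card = (Finset.univ.filter (fun g : G => χ g = 0)).card) := by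
  classical
  set d := Cfsg.charDegree χ with hd
  have hc := CfsgLib.Char.isCharacter_of_isIrr hχ
  have hd0 : 0 < d := CfsgLib.Char.charDegree_pos hχ
  have hdR : (1 : ℝ) ≤ d := by exact_mod_cast hd0
  set Z := Finset.univ.filter (fun g : G => ‖χ g‖ = (d : ℝ)) with hZ
  set O := Finset.univ.filter (fun g : G => χ g = 0) with hO
  set T := Finset.univ.filter (fun g : G => χ g ≠ 0 ∧ ‖χ g‖ ≠ (d : ℝ)) with hT
  have hscal : ∀ g : G, ‖χ g‖ = (d : ℝ) → ∀ j : ℕ, ‖χ (g ^ j)‖ = (d : ℝ) := by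
    obtain ⟨n, ρ, hρ⟩ := hc
    have hn : d = n := CfsgLib.Char.charDegree_eq (by rw [← hρ, Representation.char_one]; simp)
    subst hρ
    intro g hg j
    rw [hn] at hg ⊢
    obtain ⟨w, hw⟩ := CfsgLib.Char.rep_scalar_of_norm ρ g (by simpa using hg)
    have htr : ρ.character (g ^ j) = w ^ j * (n : ℂ) := by
      show LinearMap.trace ℂ _ (ρ (g ^ j)) = _
      rw [map_pow, hw, smul_pow, show (LinearMap.id : Module.End ℂ (Fin n → ℂ)) = 1 from rfl, one_pow,
        map_smul, LinearMap.trace_one, smul_eq_mul]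
      simp
    have hw1 : ‖w‖ = 1 := by
      have : ρ.character g = w * (n : ℂ) := by
        show LinearMap.trace ℂ _ (ρ g) = _
        rw [hw, map_smul, LinearMap.trace_id, smul_eq_mul]
        simp
      rw [this, norm_mul, Complex.norm_natCast] at hg
      exact (mul_eq_right₀ (by rw [← hn]; positivity)).1 hg
    rw [htr, norm_mul, norm_pow, hw1, one_pow, one_mul, Complex.norm_natCast]
  have hTinv : ∀ m : ℕ, m.Coprime (Nat.card G) → ∀ g ∈ T, g ^ m ∈ T := by
    intro m hm g hg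
    obtain ⟨hg0, hgd⟩ := (Finset.mem_filter.1 hg).2
    refine Finset.mem_filter.2 ⟨Finset.mem_univ _, ?_, fun h => hgd ?_⟩
    · obtain ⟨φ, hφ⟩ := CfsgLib.Char.exists_algHom_pow G hm
      rw [← hφ χ hc g]
      exact fun h => hg0 (congrArg Subtype.val ((map_eq_zero_iff φ φ.injective).1 h))
    · obtain ⟨j, hj⟩ := exists_pow_eq_self_of_coprime (x := g) (hm.coprime_dvd_right (orderOf_dvd_natCard g))
      rw [← hj]; exact hscal _ h j
  set P : ℂ := ∏ g ∈ T, χ g * χ g⁻¹ with hP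
  have hPint : IsIntegral ℤ P := IsIntegral.prod _ fun g _ =>
    (CfsgLib.Char.char_isIntegral hc g).mul (CfsgLib.Char.char_isIntegral hc g⁻¹)
  obtain ⟨n, hn⟩ := CfsgLib.Char.int_of_fixed hPint fun φ => by
    obtain ⟨m, hm, hφ⟩ := CfsgLib.Char.algHom_char_pow G φ
    have hb := CfsgLib.Char.pow_coprime_bijective (G := G) hm
    have e : (⟨P, CfsgLib.Char.mem_qbar_of_integral hPint⟩ : CfsgLib.Char.QBar) =
        ∏ g ∈ T, ⟨χ g, CfsgLib.Char.mem_qbar_of_integral (CfsgLib.Char.char_isIntegral hc g)⟩ *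
          ⟨χ g⁻¹, CfsgLib.Char.mem_qbar_of_integral (CfsgLib.Char.char_isIntegral hc g⁻¹)⟩ :=
      Subtype.ext (by simp [hP])
    rw [e, map_prod]
    simp only [map_mul, hφ χ hc]
    refine Finset.prod_bij (fun g _ => g ^ m) (fun g hg => hTinv m hm g hg) (fun a _ b _ h => hb.1 h)
      (fun b hb' => ?_) (fun g _ => by rw [inv_pow])
    obtain ⟨k, hk⟩ := Finset.surj_on_of_inj_on_of_card_le (s := T) (t := T) (fun g _ => g ^ m)
      (fun g hg => hTinv m hm g hg) (fun a c _ _ h => hb.1 h) le_rfl b hb'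
    exact ⟨k, hk.1, hk.2.symm⟩
  have hreal : P = ((∏ g ∈ T, Complex.normSq (χ g) : ℝ) : ℂ) := by
    rw [hP, Complex.ofReal_prod]
    refine Finset.prod_congr rfl fun g _ => ?_
    rw [CfsgLib.Char.char_conj_eq hc, Complex.mul_conj]
  have hne : ∀ g ∈ T, 0 < Complex.normSq (χ g) := fun g hg =>
    Complex.normSq_pos.2 (Finset.mem_filter.1 hg).2.1
  have hone : (1 : ℝ) ≤ ∏ g ∈ T, Complex.normSq (χ g) := by
    have e : ((n : ℝ) : ℂ) = ((∏ g ∈ T, Complex.normSq (χ g) : ℝ) : ℂ) := by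
      rw [← hreal, hn, Complex.ofReal_intCast]
    rw [Complex.ofReal_inj] at e
    have hpos : (0 : ℝ) < n := by rw [e]; exact Finset.prod_pos hne
    rw [← e]
    exact_mod_cast (Int.add_one_le_iff.2 (by exact_mod_cast hpos) : (0 : ℤ) + 1 ≤ n)
  have hlog : 0 ≤ ∑ g ∈ T, (Complex.normSq (χ g) - 1) := by
    refine le_trans ?_ (Finset.sum_le_sum fun g hg => Real.log_le_sub_one_of_pos (hne g hg))
    rw [← Real.log_prod fun g hg => (hne g hg).ne']
    exact Real.log_nonneg hone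
  have hsum : ∑ g : G, Complex.normSq (χ g) = Nat.card G := by
    have h := CfsgLib.Char.irr_inner_self hχ
    rw [CfsgLib.Char.classInner_def, inv_mul_eq_iff_eq_mul₀ (CfsgLib.Char.natCard_ne_zero G), mul_one] at h
    simp only [Complex.mul_conj] at h
    exact_mod_cast h
  have hdisj : Disjoint Z O := Finset.disjoint_filter.2 fun g _ h h' => by
    rw [h', norm_zero] at h; linarith
  have hcompl : (Z ∪ O)ᶜ = T := by
    ext g; simp [hZ, hO, hT, and_comm]
  have hcount : (Z.card : ℝ) + O.card + T.card = Nat.card G := by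
    rw [Nat.card_eq_fintype_card, ← hcompl, ← Nat.cast_add, ← Finset.card_union_of_disjoint hdisj,
      ← Nat.cast_add, Finset.card_add_card_compl]
  have hsplit : (d : ℝ) ^ 2 * Z.card + ∑ g ∈ T, (Complex.normSq (χ g) - 1) + T.card = Nat.card G := by
    rw [← hsum, ← Finset.sum_add_sum_compl (Z ∪ O), hcompl, Finset.sum_union hdisj,
      Finset.sum_eq_zero (s := O) (fun g hg => by rw [(Finset.mem_filter.1 hg).2, map_zero]),
      Finset.sum_congr rfl (s₁ := Z) (g := fun _ => (d : ℝ) ^ 2) (fun g hg => by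
        rw [Complex.normSq_eq_norm_sq, (Finset.mem_filter.1 hg).2]),
      Finset.sum_const, nsmul_eq_mul, Finset.sum_sub_distrib, Finset.sum_const, nsmul_eq_mul]
    ring
  have hcast : ((d ^ 2 - 1 : ℕ) : ℝ) = (d : ℝ) ^ 2 - 1 := by
    rw [Nat.cast_sub (Nat.one_le_pow _ _ hd0)]; simp
  refine ⟨?_, fun hv => ?_⟩
  · have : ((d ^ 2 - 1 : ℕ) : ℝ) * (Z.card : ℝ) ≤ (O.card : ℝ) := by rw [hcast]; nlinarith
    exact_mod_cast this
  · have h1 : ∑ g ∈ T, (Complex.normSq (χ g) - 1) = 0 := Finset.sum_eq_zero fun g hg => by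
      obtain ⟨hg0, hgd⟩ := (Finset.mem_filter.1 hg).2
      rcases hv g with h | h | h
      · exact absurd (norm_eq_zero.1 h) hg0
      · rw [Complex.normSq_eq_norm_sq, h]; ring
      · exact absurd h hgd
    have : ((d ^ 2 - 1 : ℕ) : ℝ) * (Z.card : ℝ) = (O.card : ℝ) := by rw [hcast]; nlinarith
    exact_mod_cast this

end Cfsg.Agent.S4574
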