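import Cfsg.Statements.S4575
import Cfsg.Agent.Blk.ContribTwoUse

set_option autoImplicit false
open Cfsg

namespace Cfsg.Agent.S4575
open scoped CfsgLib.Char


/-- Let B be a 2-block of the finite group G (relative to a maximal ideal M of the algebraic integers containing 2) of defect d with defect group D. Let z be an element of D commuting with every element of D, and let b be a block of the centralizer of z with defect group D that induces B (a major subsection (z, b)). If the number of irreducible characters in B exceeds the 2-regular rank of b by at most three, then B contains at most 2 ^ d irreducible characters. -/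
theorem result {G : Type*} [Group G] [Finite G] (M : Ideal Cfsg.AlgInt) (hM : Cfsg.IsPModular 2 M) (B : Set (Cfsg.IrrCharacter G)) (hB : Cfsg.IsPBlock M B) (D : Subgroup G) (hD : Cfsg.IsDefectGroup 2 M B D) (z : G) (hzD : z ∈ D) (hzc : ∀ d ∈ D, d * z = z * d) (b : Set (Cfsg.IrrCharacter ↥(Subgroup.centralizer ({z} : Set G)))) (hb : Cfsg.IsInducedBlock M (Subgroup.centralizer ({z} : Set G)) b B) (hbD : Cfsg.IsDefectGroup 2 M b (D.subgroupOf (Subgroup.centralizer ({z} : Set G)))) (h : Nat.card B ≤ Cfsg.blockRank 2 b + 3) : Nat.card B ≤ 2 ^ Cfsg.blockDefect 2 B := by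
  classical
  open CfsgLib.Blk CfsgLib.Char CfsgLib.ContribTwo in
  · haveI : M.IsMaximal := hM.2.1
    haveI : Fact (Nat.Prime 2) := ⟨Nat.prime_two⟩
    haveI := Fintype.ofFinite G
    haveI : Fintype (Subgroup.centralizer ({z} : Set G)) := Fintype.ofFinite _
    obtain ⟨k, hk⟩ := IsPGroup.iff_orderOf.1 (IsDefectGroup.isPGroup hD) ⟨z, hzD⟩
    have hz : ∃ k : ℕ, orderOf z = 2 ^ k := ⟨k, by rw [← hk, Subgroup.orderOf_mk]⟩
    have hDH : D ≤ Subgroup.centralizer ({z} : Set G) := fun d hd =>
      Subgroup.mem_centralizer_singleton_iff.2 (hzc d hd)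
    obtain ⟨μ, hμ0, hout, htr, hrow, hmaj⟩ := exists_mu hM hz rfl hb
    have hdd := blockDefect_major hM hb.1 hb.2.1 hD hDH hbD
    obtain ⟨hrow4, hpos⟩ := hmaj hdd
    rw [hdd] at htr hrow4 hpos hrow
    set Q : ℤ := 2 ^ Cfsg.blockDefect 2 B with hQ
    zify
    rw [← hQ]
    by_cases hex : ∃ ψ ∈ B, Cfsg.blockHeight 2 B (ψ : G → ℂ) = 0 ∧ (μ ψ = 1 ∨ μ ψ = Q - 1)
    · obtain ⟨ψ, hψ, h0, h1⟩ := hex
      refine card_le_of_extreme (le_trans ?_ (hrow4 ψ hψ h0)) h1
      have := card_le_finsum_four (B := B)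
      linarith
    push Not at hex
    have hQ0 : 0 < Q := by positivity
    by_cases hk1 : Nat.card B ≤ 1
    · have : (Nat.card B : ℤ) ≤ 1 := by exact_mod_cast hk1
      linarith
    set s : Finset (Cfsg.IrrCharacter G) := Finset.univ.filter (fun χ => χ ∈ B) with hs
    have hmem : ∀ χ, χ ∈ s ↔ χ ∈ B := fun χ => by simp [hs]
    have hk : (Nat.card B : ℤ) = s.card := by
      rw [Nat.cast_inj, ← Nat.card_eq_finsetCard]
      exact Nat.card_congr (Equiv.subtypeEquivRight fun χ => (hmem χ).symm)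
    have hge : ∀ χ ∈ s, 3 ≤ Q - μ χ := by
      intro χ hχ
      rw [hmem] at hχ
      rcases Nat.eq_zero_or_pos (Cfsg.blockHeight 2 B (χ : G → ℂ)) with hh | hh
      · obtain ⟨⟨a, ha⟩, -⟩ := hrow χ hχ hh
        obtain ⟨hne1, hne2⟩ := hex χ hχ hh
        have h4 := hrow4 χ hχ hh
        have h5 := card_le_finsum_four (B := B)
        have h6 : (2 : ℤ) ≤ (Nat.card B : ℤ) := by exact_mod_cast (show 2 ≤ Nat.card B by omega)
        have h7 : μ χ < Q := by
          by_contra hle
          push Not at hle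
          have := mul_le_mul_of_nonneg_right hle (hμ0 χ)
          nlinarith
        have hev : Even Q := by
          refine (Int.even_pow).2 ⟨even_two, fun hd0 => ?_⟩
          rw [hd0, pow_zero] at hQ
          have := hμ0 χ
          omega
        obtain ⟨c, hc⟩ := hev
        omega
      · obtain ⟨hd, hp, hlt⟩ := hpos χ hχ hh
        obtain ⟨hb2, hhd⟩ := height_bounds hM hb.2.1 hχ hh
        have hd4 : (2 : ℤ) ^ 2 ∣ μ χ := (pow_dvd_pow 2 (by omega)).trans hd
        have hQ4 : (2 : ℤ) ^ 2 ∣ Q := pow_dvd_pow 2 (by omega)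
        have : (2 : ℤ) ^ 2 ≤ Q - μ χ := Int.le_of_dvd (by linarith) (dvd_sub hQ4 hd4)
        linarith
    have hsum : ∑ χ ∈ s, μ χ = Q * (Cfsg.blockRank 2 b : ℤ) := by
      rw [← htr, hs, Finset.sum_filter]
      exact Finset.sum_congr rfl fun χ _ => by
        split_ifs with h1
        · rfl
        · exact (hout χ h1).symm
    have h3 := Finset.sum_le_sum hge
    rw [Finset.sum_const, nsmul_eq_mul, Finset.sum_sub_distrib, Finset.sum_const, nsmul_eq_mul, hsum, ← hk] at h3
    have h4 : (Nat.card B : ℤ) - Cfsg.blockRank 2 b ≤ 3 := by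
      have : (Nat.card B : ℤ) ≤ (Cfsg.blockRank 2 b : ℤ) + 3 := by exact_mod_cast h
      linarith
    nlinarith

end Cfsg.Agent.S4575
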