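import Cfsg.Statements.S4580
import Cfsg.Agent.Blk.RealBlock
import Cfsg.Agent.Char.Gallagher
import Cfsg.Agent.Char.Linear

set_option autoImplicit false
open Cfsg

namespace Cfsg.Agent.S4580

/-- Let N be a normal subgroup of the finite group G, M a maximal ideal of the algebraic integers containing 2, and θ a real-valued irreducible character of N of odd degree that extends to G (some irreducible character of G restricts to θ). Then θ has an extension to G lying in the principal 2-block of G. -/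
theorem result {G : Type*} [Group G] [Finite G] (N : Subgroup G) [N.Normal] (M : Ideal Cfsg.AlgInt) (hM : Cfsg.IsPModular 2 M) (θ : Cfsg.IrrCharacter N) (hreal : ∀ n : N, ((θ : N → ℂ) n).im = 0) (hodd : Odd (Cfsg.charDegree (θ : N → ℂ))) (hext : ∃ η : Cfsg.IrrCharacter G, ∀ n : N, (η : G → ℂ) n = (θ : N → ℂ) n) :
    ∃ η : Cfsg.IrrCharacter G, (∀ n : N, (η : G → ℂ) n = (θ : N → ℂ) n) ∧ η ∈ Cfsg.principalBlock M G := by
  classical
  haveI := hM.2.1.isPrime
  haveI := Fact.mk Nat.prime_two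
  haveI := Fintype.ofFinite G
  haveI := Fintype.ofFinite N
  haveI : CharP (CfsgLib.Blk.Res M) 2 := CfsgLib.Blk.charP_res hM
  obtain ⟨η, hη⟩ := hext
  obtain ⟨lam', ⟨hlirr, hlN⟩, heq⟩ :=
    (CfsgLib.Char.gallagher θ.2 (CfsgLib.Char.isCharacter_of_isIrr η.2) hη).surjOn
      (⟨(CfsgLib.Blk.conjIrr η).2, by
        rw [show (fun n : N => ((CfsgLib.Blk.conjIrr η : Cfsg.IrrCharacter G) : G → ℂ) n) = (θ : N → ℂ) from
          funext fun n => by
            show (starRingEnd ℂ) ((η : G → ℂ) n) = _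
            rw [hη n]
            exact Complex.conj_eq_iff_im.mpr (hreal n), CfsgLib.Char.irr_inner_self θ.2]
        exact one_ne_zero⟩ :
        ((CfsgLib.Blk.conjIrr η : Cfsg.IrrCharacter G) : G → ℂ) ∈
          {ψ : G → ℂ | Cfsg.IsIrrCharacter G ψ ∧ Cfsg.classInner (fun n : N => ψ n) (θ : N → ℂ) ≠ 0})
  obtain ⟨n, hn, hn1⟩ := CfsgLib.Char.irr_deg η.2
  have hl1 : lam' 1 = 1 := by
    have h := congrFun heq 1
    simp only [Pi.mul_apply] at h
    rw [hn1] at h
    refine mul_right_cancel₀ (b := (n : ℂ)) (Nat.cast_ne_zero.mpr (by omega)) ?_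
    rw [h, one_mul]
    show (starRingEnd ℂ) ((η : G → ℂ) 1) = _
    rw [hn1, map_natCast]
  obtain ⟨L, rfl⟩ := CfsgLib.Char.exists_hom_of_degree_one (CfsgLib.Char.isCharacter_of_isIrr hlirr) hl1
  have hconj : ∀ g, (starRingEnd ℂ) ((η : G → ℂ) g) = (L g : ℂ) * (η : G → ℂ) g := fun g =>
    (congrFun heq g).symm
  -- split the order
  have hLfin : ∀ g, L g ^ Nat.card G = 1 := fun g => by rw [← map_pow, pow_card_eq_one', map_one]
  obtain ⟨e, o, ho, hcard⟩ := Nat.exists_eq_pow_mul_and_not_dvd (Nat.card_pos (α := G)).ne' 2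
    (by norm_num)
  obtain ⟨j, hj⟩ : ∃ j, o + 1 = 2 * j := ⟨(o + 1) / 2, by omega⟩
  have hLroot : ∀ g, (starRingEnd ℂ) (L g : ℂ) = ((L g)⁻¹ : ℂˣ) := fun g => by
    rw [CfsgLib.Char.conj_root (orderOf_pos g).ne' (CfsgLib.Char.linear_root L g), Units.val_inv_eq_inv_val]
  let η' : Cfsg.IrrCharacter G := ⟨fun g => (η : G → ℂ) g * ((L ^ j) g : ℂ), CfsgLib.Char.irr_mul_linear η.2 _⟩
  have hres : ∀ n : N, (η' : G → ℂ) n = (θ : N → ℂ) n := fun n => by
    show (η : G → ℂ) n * ((L ^ j) n : ℂ) = _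
    have h1 : L (n : G) = 1 := Units.ext ((hlN n).trans hl1)
    rw [MonoidHom.pow_apply, h1, one_pow, Units.val_one, mul_one, hη]
  refine ⟨η', hres, CfsgLib.Blk.mem_principal_of_real hM ?_ ?_⟩
  · rwa [show Cfsg.charDegree (η' : G → ℂ) = Cfsg.charDegree (θ : N → ℂ) from by
      unfold Cfsg.charDegree
      rw [← hres 1]; rfl]
  · rw [CfsgLib.Blk.sameBlock_iff_red η'.2 (CfsgLib.Blk.conjIrr η').2]
    intro g
    have hν : ∀ g, ((L g)⁻¹ ^ o) ^ 2 ^ e = 1 := fun g => by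
      rw [← pow_mul, mul_comm o, ← hcard, inv_pow, hLfin, inv_one]
    have hval : (starRingEnd ℂ) ((η' : G → ℂ) g) = (η' : G → ℂ) g * (((L g)⁻¹ ^ o : ℂˣ) : ℂ) := by
      show (starRingEnd ℂ) ((η : G → ℂ) g * ((L ^ j) g : ℂ)) = (η : G → ℂ) g * ((L ^ j) g : ℂ) * _
      rw [map_mul, hconj, MonoidHom.pow_apply, Units.val_pow_eq_pow_val, map_pow, hLroot,
        mul_comm (L g : ℂ), mul_assoc, mul_assoc, ← Units.val_pow_eq_pow_val, ← Units.val_pow_eq_pow_val,
        ← Units.val_mul, ← Units.val_mul]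
      congr 2
      rw [inv_pow, inv_pow, eq_mul_inv_iff_mul_eq, mul_right_comm, mul_inv_eq_iff_eq_mul, ← pow_succ',
        hj, ← pow_add]
      congr 1
      omega
    have hone : (starRingEnd ℂ) ((η' : G → ℂ) 1) = (η' : G → ℂ) 1 := by
      obtain ⟨m, -, hm⟩ := CfsgLib.Char.irr_deg η'.2
      rw [hm, map_natCast]
    have hcc : Cfsg.centralChar (CfsgLib.Blk.conjIrr η' : G → ℂ) g =
        Cfsg.centralChar (η' : G → ℂ) g * (((L g)⁻¹ ^ o : ℂˣ) : ℂ) := by
      unfold Cfsg.centralChar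
      show _ * (starRingEnd ℂ) ((η' : G → ℂ) g) / (starRingEnd ℂ) ((η' : G → ℂ) 1) = _
      rw [hval, hone]; ring
    have hint : IsIntegral ℤ (((L g)⁻¹ ^ o : ℂˣ) : ℂ) :=
      CfsgLib.Char.isIntegral_root (n := 2 ^ e) (pow_ne_zero _ two_ne_zero)
        (by rw [← Units.val_pow_eq_pow_val, hν, Units.val_one])
    have hmem := CfsgLib.Blk.integral_mem (M := M) hint
    have hred : CfsgLib.Blk.red M (((L g)⁻¹ ^ o : ℂˣ) : ℂ) = 1 := by
      have h1 : CfsgLib.Blk.red M (((L g)⁻¹ ^ o : ℂˣ) : ℂ) ^ 2 ^ e = 1 := by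
        rw [CfsgLib.Blk.red_of_mem hmem, ← map_pow,
          show (⟨_, hmem⟩ : CfsgLib.Blk.locRing M) ^ 2 ^ e = 1 from Subtype.ext (by
            simp only [SubmonoidClass.coe_pow, OneMemClass.coe_one]
            rw [← Units.val_pow_eq_pow_val, hν, Units.val_one]), map_one]
      haveI : ExpChar (CfsgLib.Blk.Res M) 2 := ExpChar.prime Nat.prime_two
      exact iterateFrobenius_inj (CfsgLib.Blk.Res M) 2 e (by
        rw [iterateFrobenius_def, iterateFrobenius_def, h1, one_pow])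
    rw [hcc, CfsgLib.Blk.red_mul (CfsgLib.Blk.centralChar_mem η'.2 g) hmem, hred, mul_one]

end Cfsg.Agent.S4580
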