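import Cfsg.Statements.S4581
import Cfsg.Agent.Char.RealOddCriterion

set_option autoImplicit false
open Cfsg

namespace Cfsg.Agent.S4581
open CfsgLib.RealOdd


/-- Let G be a finite solvable group, P a Sylow 2-subgroup and N its normalizer. Then G and N have the same number of real-valued irreducible characters of odd degree; and every odd-degree irreducible character of G is real-valued exactly when the derived subgroup of P equals the Frattini subgroup of P and P is its own normalizer in G. -/
theorem result {G : Type*} [Group G] [Finite G] [Group.IsSolvable G] (P : Sylow 2 G) :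
    Nat.card {χ : Cfsg.IrrCharacter G // (∀ g : G, ((χ : G → ℂ) g).im = 0) ∧ Odd (Cfsg.charDegree (χ : G → ℂ))} =
      Nat.card {ψ : Cfsg.IrrCharacter (Subgroup.normalizer ((P : Subgroup G) : Set G)) // (∀ g, ((ψ : Subgroup.normalizer ((P : Subgroup G) : Set G) → ℂ) g).im = 0) ∧ Odd (Cfsg.charDegree (ψ : Subgroup.normalizer ((P : Subgroup G) : Set G) → ℂ))} ∧
    ((∀ χ : Cfsg.IrrCharacter G, Odd (Cfsg.charDegree (χ : G → ℂ)) → ∀ g : G, ((χ : G → ℂ) g).im = 0) ↔
      (commutator (P : Subgroup G) = frattini (P : Subgroup G) ∧ Subgroup.normalizer ((P : Subgroup G) : Set G) = (P : Subgroup G))) := by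
  classical
  haveI := Fintype.ofFinite G
  haveI := Fintype.ofFinite (Subgroup.normalizer ((P : Subgroup G) : Set G))
  have key : ∀ (H : Type _) [Group H] [Finite H],
      Nat.card {χ : Cfsg.IrrCharacter H // (∀ g : H, ((χ : H → ℂ) g).im = 0) ∧ Odd (Cfsg.charDegree (χ : H → ℂ))} = cnt H := by
    intro H _ _
    haveI := Fintype.ofFinite H
    refine Nat.card_congr (Equiv.subtypeEquivRight fun χ => and_congr ?_ ?_)
    · exact forall_congr' fun g => Complex.conj_eq_iff_im.symm
    · constructor
      · exact fun h => ⟨_, h, CfsgLib.Char.irr_one_eq χ.2⟩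
      · rintro ⟨n, hn, h1⟩
        rwa [CfsgLib.Char.charDegree_eq h1]
  refine ⟨?_, ?_⟩
  · rw [key G, key (Subgroup.normalizer ((P : Subgroup G) : Set G))]
    exact cnt_eq_aux (Nat.card G) G le_rfl inferInstance P
  · rw [← linear_sq_iff P.isPGroup']
    constructor
    · intro h
      have hall : AllReal G := fun χ hχ ho g => Complex.conj_eq_iff_im.2 (h ⟨χ, hχ⟩ (by
        obtain ⟨n, hn, h1⟩ := ho
        rwa [CfsgLib.Char.charDegree_eq h1]) g)
      obtain ⟨h1, h2⟩ := cond_of_allReal (Nat.card G) G le_rfl inferInstance P hall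
      exact ⟨h1, le_antisymm h2 Subgroup.le_normalizer⟩
    · rintro ⟨h1, h2⟩ χ hodd g
      exact Complex.conj_eq_iff_im.1 (allReal_of_cond (Nat.card G) G le_rfl inferInstance P ⟨h1, h2.le⟩
        _ χ.2 ⟨_, hodd, CfsgLib.Char.irr_one_eq χ.2⟩ g)

end Cfsg.Agent.S4581
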