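import Cfsg.Statements.S4582
import Mathlib.GroupTheory.Transfer
import Mathlib.GroupTheory.Commutator.Basic
-- import your own Cfsg.Agent.* helpers here

set_option autoImplicit false
open Cfsg
open scoped commutatorElement

namespace Cfsg.Agent.S4582

/-- Let N be a normal subgroup of the finite group G, P a Sylow 2-subgroup of G and Q = P ∩ N. Suppose that P/QP' and Q/Q' are elementary abelian (every square of an element of P lies in the subgroup generated by Q and the derived subgroup of P, and every square of an element of Q lies in the derived subgroup of Q), and that the commutator factor group N/N' has odd order. Then P/P' is elementary abelian. -/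
theorem transfer_comp_hom {G : Type*} [Group G] {H : Subgroup G} [H.FiniteIndex] {A B : Type*}
    [CommGroup A] [CommGroup B] (θ : H →* A) (f : A →* B) (g : G) :
    MonoidHom.transfer (f.comp θ) g = f (MonoidHom.transfer θ g) := by
  classical
  letI := H.fintypeQuotientOfFiniteIndex
  rw [MonoidHom.transfer_eq_prod_quotient_orbitRel_zpowers_quot,
    MonoidHom.transfer_eq_prod_quotient_orbitRel_zpowers_quot, map_prod]
  rfl

theorem transfer_restrict {G : Type*} [Group G] {H : Subgroup G} [H.FiniteIndex] {A : Type*}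
    [CommGroup A] (f : G →* A) (g : G) :
    MonoidHom.transfer (f.comp H.subtype) g = f g ^ H.index := by
  classical
  letI := H.fintypeQuotientOfFiniteIndex
  rw [MonoidHom.transfer_eq_prod_quotient_orbitRel_zpowers_quot, Subgroup.index_eq_sum_minimalPeriod H g,
    ← Finset.prod_pow_eq_pow_sum]
  refine Finset.prod_congr rfl fun q _ => ?_
  simp [map_mul, map_pow, mul_comm, mul_left_comm]

theorem result {G : Type*} [Group G] [Finite G] (N : Subgroup G) [N.Normal] (P : Sylow 2 G)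
    (hP : ∀ x ∈ (P : Subgroup G), x ^ 2 ∈ ((P : Subgroup G) ⊓ N) ⊔ ⁅(P : Subgroup G), (P : Subgroup G)⁆)
    (hQ : ∀ x ∈ (P : Subgroup G) ⊓ N, x ^ 2 ∈ ⁅(P : Subgroup G) ⊓ N, (P : Subgroup G) ⊓ N⁆)
    (hodd : Odd (Nat.card (Abelianization N))) :
    ∀ x ∈ (P : Subgroup G), x ^ 2 ∈ ⁅(P : Subgroup G), (P : Subgroup G)⁆ := by
  classical
  set Ps : Subgroup G := (P : Subgroup G) with hPs
  set θ : Ps →* Abelianization Ps := Abelianization.of with hθ
  set ϕ : Ps →* Abelianization Ps := (powMonoidHom 2).comp θ with hϕ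
  have hof : ∀ y : Ps, (y : G) ∈ ⁅Ps, Ps⁆ → θ y = 1 := by
    intro y hy
    rw [← Subgroup.map_subtype_commutator Ps] at hy
    obtain ⟨z, hz, hzy⟩ := Subgroup.mem_map.mp hy
    have : z = y := Subtype.ext hzy
    subst this
    exact (QuotientGroup.eq_one_iff _).mpr hz
  have hcomm_le : ∀ y : Ps, (y : G) ∈ ⁅Ps ⊓ N, Ps ⊓ N⁆ → θ y = 1 := fun y hy =>
    hof y (Subgroup.commutator_mono inf_le_left inf_le_left hy)
  have hker : N.subgroupOf Ps ≤ ϕ.ker := by
    intro y hy
    have h := hQ (y : G) ⟨y.2, hy⟩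
    rw [MonoidHom.mem_ker]
    show θ y ^ 2 = 1
    rw [← map_pow]
    exact hcomm_le (y ^ 2) (by simpa using h)
  have h4 : ∀ x : Ps, ϕ x ^ 2 = 1 := by
    intro x
    have hle : (Ps ⊓ N) ⊔ ⁅Ps, Ps⁆ ≤ ϕ.ker.map Ps.subtype := by
      refine sup_le (fun a ha => ⟨⟨a, ha.1⟩, hker ha.2, rfl⟩) ?_
      intro a ha
      have haP : a ∈ Ps := Subgroup.commutator_le_self Ps ha
      refine ⟨⟨a, haP⟩, ?_, rfl⟩
      rw [SetLike.mem_coe, MonoidHom.mem_ker]
      show θ ⟨a, haP⟩ ^ 2 = 1
      rw [hof ⟨a, haP⟩ ha, one_pow]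
    obtain ⟨z, hz, hzx⟩ := Subgroup.mem_map.mp (hle (hP (x : G) x.2))
    have : z = x ^ 2 := Subtype.ext (by simpa using hzx)
    rw [← map_pow, ← this]
    exact hz
  -- extend `ϕ` to `H = P N`
  set H : Subgroup G := Ps ⊔ N with hH
  have hPH : Ps ≤ H := le_sup_left
  have hNH : N ≤ H := le_sup_right
  let e := QuotientGroup.quotientInfEquivProdNormalQuotient Ps N
  let Φ : H →* Abelianization Ps :=
    ((QuotientGroup.lift _ ϕ hker).comp e.symm.toMonoidHom).comp (QuotientGroup.mk' (N.subgroupOf H))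
  have hΦ : ∀ x : Ps, Φ ⟨x, hPH x.2⟩ = ϕ x := by
    intro x
    show QuotientGroup.lift _ ϕ hker (e.symm (QuotientGroup.mk (⟨x, hPH x.2⟩ : H))) = ϕ x
    have : e (QuotientGroup.mk x) = QuotientGroup.mk (⟨x, hPH x.2⟩ : H) := rfl
    rw [← this, MulEquiv.symm_apply_apply]
    exact QuotientGroup.lift_mk _ hker x
  set P' : Subgroup H := Ps.subgroupOf H with hP'
  let ι : P' →* Ps := (Subgroup.subgroupOfEquivOfLe hPH).toMonoidHom
  let T : H →* Abelianization Ps := MonoidHom.transfer (θ.comp ι)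
  have hres : Φ.comp P'.subtype = (powMonoidHom 2).comp (θ.comp ι) := by
    ext y
    exact hΦ (ι y)
  have hT : ∀ h : H, Φ h ^ P'.index = T h ^ 2 := by
    intro h
    rw [← transfer_restrict, hres, transfer_comp_hom]
    rfl
  -- the index is odd
  have hodd' : Odd P'.index := by
    have h1 := P.not_dvd_index
    have h2 : P'.index ∣ Ps.index := by
      show Ps.relIndex H ∣ Ps.index
      exact Subgroup.relIndex_dvd_index_of_le hPH
    exact Nat.odd_iff.mpr (Nat.two_dvd_ne_zero.mp fun h => h1 (h.trans h2))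
  have hA : IsPGroup 2 (Abelianization Ps) := P.isPGroup'.to_quotient _
  have hN1 : ∀ n (hn : n ∈ N), T ⟨n, hNH hn⟩ = 1 := by
    intro n hn
    let f : N →* Abelianization Ps := T.comp (Subgroup.inclusion hNH)
    have h1 : orderOf (f ⟨n, hn⟩) ∣ Nat.card (Abelianization N) := by
      have : Abelianization.lift f (Abelianization.of ⟨n, hn⟩) = f ⟨n, hn⟩ :=
        Abelianization.lift_apply_of f _
      rw [← this]
      exact (orderOf_map_dvd _ _).trans (orderOf_dvd_natCard _)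
    obtain ⟨k, hk⟩ := hA (f ⟨n, hn⟩)
    have h2 : orderOf (f ⟨n, hn⟩) ∣ 2 ^ k := orderOf_dvd_of_pow_eq_one hk
    have hcop : Nat.Coprime (Nat.card (Abelianization N)) (2 ^ k) :=
      Nat.Coprime.pow_right _ (Nat.coprime_two_right.mpr hodd)
    exact orderOf_eq_one_iff.mp (Nat.eq_one_of_dvd_coprimes hcop h1 h2)
  intro x hx
  -- `T (x ^ 2) = 1`
  have hT2 : T ⟨x, hPH hx⟩ ^ 2 = 1 := by
    have hle : (Ps ⊓ N) ⊔ ⁅Ps, Ps⁆ ≤ T.ker.map H.subtype := by
      refine sup_le (fun a ha => ⟨⟨a, hNH ha.2⟩, hN1 a ha.2, rfl⟩) ?_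
      rw [Subgroup.commutator_le]
      intro a ha b hb
      refine ⟨⁅(⟨a, hPH ha⟩ : H), (⟨b, hPH hb⟩ : H)⁆, ?_, rfl⟩
      rw [SetLike.mem_coe, MonoidHom.mem_ker, map_commutatorElement,
        commutatorElement_eq_one_iff_commute]
      exact Commute.all _ _
    obtain ⟨z, hz, hzx⟩ := Subgroup.mem_map.mp (hle (hP x hx))
    have : z = (⟨x, hPH hx⟩ : H) ^ 2 := Subtype.ext (by simpa using hzx)
    rw [← map_pow, ← this]
    exact hz
  have h1 : ϕ ⟨x, hx⟩ ^ P'.index = 1 := by rw [← hΦ, hT, hT2]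
  have h2 : ϕ ⟨x, hx⟩ = 1 := by
    obtain ⟨j, hj⟩ := hodd'
    rw [hj, pow_succ, pow_mul, h4 ⟨x, hx⟩, one_pow, one_mul] at h1
    exact h1
  rw [← Subgroup.map_subtype_commutator Ps]
  refine ⟨(⟨x, hx⟩ : Ps) ^ 2, ?_, by simp⟩
  rw [SetLike.mem_coe]
  refine (QuotientGroup.eq_one_iff _).mp ?_
  have : θ ((⟨x, hx⟩ : Ps) ^ 2) = 1 := by rw [map_pow]; exact h2
  exact this

end Cfsg.Agent.S4582
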