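import Cfsg.Statements.S4583
import Cfsg.Agent.Blk.PrincipalNormal
import Cfsg.Agent.Blk.Pair.Transport
import Cfsg.Agent.Blk.Defect
import Cfsg.Agent.Inv.CharP2

set_option autoImplicit false
open Cfsg

namespace Cfsg.Agent.S4583
open CfsgLib.Char CfsgLib.Blk CfsgLib.Blk.Pair in
open scoped CfsgLib.Char in
theorem bid_coeff_cn {K : Type*} [Group K] [Finite K] {p : ℕ} [Fact p.Prime] {M : Ideal Cfsg.AlgInt}
    [M.IsPrime] (hM : Cfsg.IsPModular p M) (S : Sylow p K) :
    ∃ c : Res M, ∀ x : K, x ∈ Subgroup.centralizer ((S : Subgroup K) : Set K) →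
      (bid M (Cfsg.principalBlock M K)).coeff x = if ¬ p ∣ orderOf x then c else 0 := by
  classical
  obtain ⟨O, hOn, hO, hidx⟩ := exists_complement_centralizer S
  refine ⟨(Nat.card O : Res M)⁻¹, fun x hx => ?_⟩
  have h1 := congrArg (fun z => MonoidAlgebra.coeff z (⟨x, hx⟩ : Cn (S : Subgroup K)))
    (resA_bid_principal hM S O hO hidx)
  simp only [coeff_resA, coeff_hatA] at h1
  rw [h1]
  refine if_congr ⟨fun h hd => hO (hd.trans ?_), fun hd => ?_⟩ rfl rfl
  · rw [← Subgroup.orderOf_mk x hx]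
    have := orderOf_dvd_natCard (⟨⟨x, hx⟩, h⟩ : O)
    rwa [← Subgroup.orderOf_coe] at this
  · obtain ⟨k, hk⟩ := hidx
    rw [← QuotientGroup.eq_one_iff, ← orderOf_eq_one_iff]
    refine Nat.Coprime.eq_one_of_dvd (Nat.Coprime.pow_right k
      (((Fact.out : p.Prime).coprime_iff_not_dvd.2 fun h => hd ?_).symm))
      ((orderOf_dvd_natCard _).trans (hk ▸ (O.index_eq_card ▸ dvd_rfl)))
    rw [← Subgroup.orderOf_mk x hx]
    exact h.trans (orderOf_map_dvd (QuotientGroup.mk' O) _)

open CfsgLib.Char CfsgLib.Blk CfsgLib.Blk.Pair in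
open scoped ComplexConjugate CfsgLib.Char in
theorem principal_sum {G : Type*} [Group G] [Fintype G] (H : Subgroup G) [Fintype H]
    (B : Set (Cfsg.IrrCharacter G)) [DecidablePred (· ∈ B)] (η : H → ℂ) :
    ∑ χ : Cfsg.IrrCharacter G, Cfsg.classInner (Cfsg.indFun H η) (χ : G → ℂ) *
      (if χ ∈ B then (χ : G → ℂ) 1 else 0) =
    (H.index : ℂ) * ∑ h : H, Cfsg.blockCoeff B (h : G) * η h := by
  classical
  calc _ = ∑ g : G, Cfsg.blockCoeff B g * Cfsg.indFun H η g := by
        conv_rhs =>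
          rw [Finset.sum_congr rfl fun g _ => congrArg (Cfsg.blockCoeff B g * ·)
            (congrFun (classFun_eq_sum (indFun_classFun H η)) g)]
        simp only [Finset.sum_apply, Pi.smul_apply, smul_eq_mul, Finset.mul_sum]
        rw [Finset.sum_comm]
        refine Finset.sum_congr rfl fun χ _ => ?_
        rw [← sum_blockCoeff_mul B χ, Finset.mul_sum]
        exact Finset.sum_congr rfl fun g _ => by ring
    _ = (Nat.card H : ℂ)⁻¹ * ((Fintype.card G : ℂ) *
          ∑ k : G, Cfsg.blockCoeff B k * Cfsg.extendByZero H η k) := by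
        simp only [indFun_apply, Finset.mul_sum]
        rw [Finset.sum_comm]
        have hx : ∀ x : G, ∑ g : G, Cfsg.blockCoeff B g * ((Nat.card H : ℂ)⁻¹ *
            Cfsg.extendByZero H η (x⁻¹ * g * x)) =
            ∑ k : G, (Nat.card H : ℂ)⁻¹ * (Cfsg.blockCoeff B k * Cfsg.extendByZero H η k) := by
          intro x
          refine Fintype.sum_equiv (MulAut.conj x⁻¹).toEquiv _ _ fun g => ?_
          have e : (MulAut.conj x⁻¹).toEquiv g = x⁻¹ * g * x := by simp
          have e2 : Cfsg.blockCoeff B (x⁻¹ * g * x) = Cfsg.blockCoeff B g := by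
            simpa using blockCoeff_conj B g x⁻¹
          rw [e, e2]; ring
        rw [Finset.sum_congr rfl fun x _ => hx x, Finset.sum_const, Finset.card_univ, nsmul_eq_mul,
          Finset.mul_sum]
        exact Finset.sum_congr rfl fun k _ => by ring
    _ = _ := by
        rw [← Finset.sum_subset (Finset.subset_univ (Finset.univ.filter (· ∈ H)))
          fun k _ hk => by
            rw [extendByZero_not_mem H η fun h => hk (Finset.mem_filter.2 ⟨Finset.mem_univ _, h⟩),
              mul_zero],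
          Finset.sum_subtype (p := (· ∈ H)) _ (fun x => by simp)
            (fun k => Cfsg.blockCoeff B k * Cfsg.extendByZero H η k)]
        rw [← mul_assoc, ← Nat.card_eq_fintype_card, ← H.card_mul_index, Nat.cast_mul,
          inv_mul_cancel_left₀ (natCard_ne_zero H)]
        exact congrArg _ (Finset.sum_congr rfl fun h _ => by rw [extendByZero_mem])


/-- Let N be a normal subgroup of the finite group G, p a prime, M a maximal ideal of the algebraic integers containing p, and P a Sylow p-subgroup of G. Let θ be an irreducible character of N of degree prime to p lying in the principal p-block of N, and suppose θ extends to the subgroup NP (some irreducible character of NP restricts to θ). Then some irreducible character χ of G of degree prime to p in the principal p-block of G lies over θ (θ is a constituent of the restriction of χ to N). -/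
theorem result {G : Type*} [Group G] [Finite G] (N : Subgroup G) [N.Normal] (p : ℕ) [Fact p.Prime] (M : Ideal Cfsg.AlgInt) (hM : Cfsg.IsPModular p M) (P : Sylow p G)
    (θ : Cfsg.IrrCharacter N) (hθ : θ ∈ Cfsg.principalBlock M N) (hdeg : ¬ p ∣ Cfsg.charDegree (θ : N → ℂ))
    (hext : ∃ η : Cfsg.IrrCharacter ↥(N ⊔ (P : Subgroup G)), ∀ n : N, (η : ↥(N ⊔ (P : Subgroup G)) → ℂ) (Subgroup.inclusion le_sup_left n) = (θ : N → ℂ) n) :
    ∃ χ : Cfsg.IrrCharacter G, χ ∈ Cfsg.principalBlock M G ∧ ¬ p ∣ Cfsg.charDegree (χ : G → ℂ) ∧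
      haveI := Fintype.ofFinite N; Cfsg.classInner (fun n : N => (χ : G → ℂ) n) (θ : N → ℂ) ≠ 0 := by
  classical
  haveI : M.IsPrime := hM.2.1.isPrime
  haveI := Fintype.ofFinite G
  letI := Fintype.ofFinite N
  haveI : CharP (CfsgLib.Blk.Res M) p := CfsgLib.Blk.charP_res hM
  set H : Subgroup G := N ⊔ (P : Subgroup G) with hH
  obtain ⟨η, hη⟩ := hext
  haveI := Fintype.ofFinite H
  have hp : p.Prime := Fact.out
  have hB : Cfsg.IsPBlock M (Cfsg.principalBlock M G) := CfsgLib.Blk.isPBlock_principalBlock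
  have hBN : Cfsg.IsPBlock M (Cfsg.principalBlock M N) := CfsgLib.Blk.isPBlock_principalBlock
  -- action of `P` on `N`
  letI : MulAction (P : Subgroup G) N :=
    { smul := fun q x => ⟨(q : G) * x * (q : G)⁻¹, (inferInstance : N.Normal).conj_mem _ x.2 _⟩
      one_smul := fun x => Subtype.ext (by
        show ((1 : (P : Subgroup G)) : G) * x * ((1 : (P : Subgroup G)) : G)⁻¹ = x
        simp)
      mul_smul := fun q r x => Subtype.ext (by
        show ((q * r : (P : Subgroup G)) : G) * x * ((q * r : (P : Subgroup G)) : G)⁻¹ =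
          (q : G) * ((r : G) * x * (r : G)⁻¹) * (q : G)⁻¹
        simp [mul_assoc]) }
  have hθinv : ∀ (q : (P : Subgroup G)) (x : N), (θ : N → ℂ) (q • x) = (θ : N → ℂ) x := by
    intro q x
    rw [← hη, ← hη]
    refine CfsgLib.Char.classFun_isConj (CfsgLib.Char.classFun_of_irr η.2) (isConj_iff.2
      ⟨⟨(q : G), Subgroup.mem_sup_right q.2⟩⁻¹, Subtype.ext ?_⟩)
    show (q : G)⁻¹ * ((q : G) * x * (q : G)⁻¹) * ((q : G)⁻¹)⁻¹ = x
    group
  have hfix : ∀ x : N, x ∈ MulAction.fixedPoints (P : Subgroup G) N →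
      (x : G) ∈ Subgroup.centralizer ((P : Subgroup G) : Set G) := by
    intro x hx
    rw [Subgroup.mem_centralizer_iff]
    intro q hq
    exact mul_inv_eq_iff_eq_mul.1 (congrArg Subtype.val (hx ⟨q, hq⟩))
  obtain ⟨S, hS⟩ := CfsgLib.Inv.sylow_inf_normal P N
  obtain ⟨cG, hcG⟩ := bid_coeff_cn hM P
  obtain ⟨cN, hcN⟩ := bid_coeff_cn hM S
  set T := ∑ x ∈ Finset.univ.filter (fun x : N => x ∈ MulAction.fixedPoints (P : Subgroup G) N),
    (if ¬ p ∣ orderOf (x : G) then CfsgLib.Blk.red M ((θ : N → ℂ) x) else 0) with hT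
  have hgen : ∀ (f : N → CfsgLib.Blk.Res M) (c : CfsgLib.Blk.Res M),
      (∀ (q : (P : Subgroup G)) (x : N), f (q • x) = f x) →
      (∀ x ∈ MulAction.fixedPoints (P : Subgroup G) N, f x = if ¬ p ∣ orderOf (x : G) then c else 0) →
      ∑ x : N, f x * CfsgLib.Blk.red M ((θ : N → ℂ) x) = c * T := by
    intro f c hf hc
    rw [CfsgLib.Blk.sum_eq_sum_fixedPoints P.2 (fun x : N => f x * CfsgLib.Blk.red M ((θ : N → ℂ) x))
      (fun q x => by simp only [hf q x, hθinv q x]), hT, Finset.mul_sum]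
    refine Finset.sum_congr rfl fun x hx => ?_
    rw [hc x (Finset.mem_filter.1 hx).2]
    split_ifs <;> simp
  -- the identity in `N`
  have hN1 : cN * T = (Cfsg.charDegree (θ : N → ℂ) : CfsgLib.Blk.Res M) := by
    have hmem : ∀ x : N, Cfsg.blockCoeff (Cfsg.principalBlock M N) x * (θ : N → ℂ) x ∈
        CfsgLib.Blk.locRing M := fun x =>
      mul_mem (CfsgLib.Blk.blockCoeff_mem hM hBN x) (CfsgLib.Blk.irr_mem θ x)
    rw [← hgen (fun x => (CfsgLib.Blk.Pair.bid M (Cfsg.principalBlock M N)).coeff x) cN]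
    · rw [← CfsgLib.Blk.red_natCast, ← CfsgLib.Char.irr_one_eq θ.2]
      have h := CfsgLib.Blk.sum_blockCoeff_mul (Cfsg.principalBlock M N) θ
      rw [if_pos hθ] at h
      rw [← h, CfsgLib.Blk.red_sum _ _ fun x _ => hmem x]
      refine Finset.sum_congr rfl fun x _ => ?_
      rw [CfsgLib.Blk.red_mul (CfsgLib.Blk.blockCoeff_mem hM hBN x) (CfsgLib.Blk.irr_mem θ x),
        CfsgLib.Blk.Pair.coeff_bid]
    · intro q x
      show (CfsgLib.Blk.Pair.bid M (Cfsg.principalBlock M N)).coeff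
        ((MulAut.conjNormal (q : G) : MulAut N) x) = _
      conv_lhs => rw [← CfsgLib.Blk.Pair.mvSet_principal (M := M) (MulAut.conjNormal (q : G) : N ≃* N)]
      rw [CfsgLib.Blk.Pair.coeff_bid_mvSet]
    · intro x hx
      rw [Subgroup.orderOf_coe]
      refine hcN x ?_
      rw [Subgroup.mem_centralizer_iff]
      intro s hs
      have h1 : (s : G) ∈ (P : Subgroup G) := (hS.le ⟨s, hs, rfl⟩).1
      exact Subtype.ext (Subgroup.mem_centralizer_iff.1 (hfix x hx) (s : G) h1)
  have hT0 : T ≠ 0 := fun h => hdeg ((CharP.cast_eq_zero_iff (CfsgLib.Blk.Res M) p _).1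
    (by rw [← hN1, h, mul_zero]))
  have hcG0 : cG ≠ 0 := by
    intro h
    obtain ⟨O, hOn, hO, hidx⟩ := CfsgLib.Blk.exists_complement_centralizer P
    have h1 := congrArg (fun z => MonoidAlgebra.coeff z
      (1 : CfsgLib.Blk.Pair.Cn (P : Subgroup G))) (CfsgLib.Blk.resA_bid_principal hM P O hO hidx)
    simp only [CfsgLib.Blk.coeff_resA, CfsgLib.Blk.Pair.coeff_hatA, OneMemClass.coe_one,
      if_pos O.one_mem] at h1
    rw [hcG 1 (Subgroup.one_mem _), orderOf_one, if_pos hp.not_dvd_one, h] at h1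
    exact inv_ne_zero (fun h => hO ((CharP.cast_eq_zero_iff (CfsgLib.Blk.Res M) p _).1 h)) h1.symm
  -- the identity in `G`
  by_contra hno
  push Not at hno
  have hterm : ∀ χ : Cfsg.IrrCharacter G, ∃ m : ℕ, p ∣ m ∧
      Cfsg.classInner (Cfsg.indFun H (η : H → ℂ)) (χ : G → ℂ) *
        (if χ ∈ Cfsg.principalBlock M G then (χ : G → ℂ) 1 else 0) = (m : ℂ) := by
    intro χ
    by_cases hχ : χ ∈ Cfsg.principalBlock M G
    swap
    · exact ⟨0, dvd_zero _, by rw [if_neg hχ, mul_zero, Nat.cast_zero]⟩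
    rw [if_pos hχ, CfsgLib.Char.irr_one_eq χ.2,
      CfsgLib.Char.frobenius H _ (CfsgLib.Char.classFun_of_irr χ.2)]
    obtain ⟨a, ha⟩ := CfsgLib.Char.inner_char_irr
      (CfsgLib.Char.isCharacter_restrict H (CfsgLib.Char.isCharacter_of_isIrr χ.2)) η.2
    rw [← CfsgLib.Char.classInner_conj, ha, Complex.conj_natCast]
    refine ⟨a * Cfsg.charDegree (χ : G → ℂ), ?_, by push_cast; ring⟩
    by_cases hd : p ∣ Cfsg.charDegree (χ : G → ℂ)
    · exact hd.mul_left a
    rcases Nat.eq_zero_or_pos a with rfl | ha0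
    · simp
    exfalso
    have hrest := CfsgLib.Char.isCharacter_sub_constituent
      (CfsgLib.Char.isCharacter_restrict H (CfsgLib.Char.isCharacter_of_isIrr χ.2)) η.2
      (by rw [ha]; exact_mod_cast ha0.ne')
    let ι : N →* H := Subgroup.inclusion le_sup_left
    have hsplit : (fun n : N => (χ : G → ℂ) n) = ((η : H → ℂ) ∘ ι) +
        (((fun k : H => (χ : G → ℂ) k) - (η : H → ℂ)) ∘ ι) := by
      funext n
      simp [ι, Subgroup.coe_inclusion]
    have h0 := hno χ hχ hd
    rw [hsplit] at h0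
    have := CfsgLib.Char.inner_zero_of_summand
      (CfsgLib.Char.isCharacter_comp ι (CfsgLib.Char.isCharacter_of_isIrr η.2))
      (CfsgLib.Char.isCharacter_comp ι hrest) (CfsgLib.Char.isCharacter_of_isIrr θ.2) h0
    rw [show (η : H → ℂ) ∘ ι = (θ : N → ℂ) from funext hη, CfsgLib.Char.irr_inner_self θ.2] at this
    exact one_ne_zero this
  choose m hm hmeq using hterm
  have hsum := principal_sum H (Cfsg.principalBlock M G) (η : H → ℂ)
  rw [Finset.sum_congr rfl fun χ _ => hmeq χ, ← Nat.cast_sum] at hsum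
  have hmemH : ∀ x : H, Cfsg.blockCoeff (Cfsg.principalBlock M G) (x : G) * (η : H → ℂ) x ∈
      CfsgLib.Blk.locRing M := fun x =>
    mul_mem (CfsgLib.Blk.blockCoeff_mem hM hB _) (CfsgLib.Blk.irr_mem η x)
  have hred := congrArg (CfsgLib.Blk.red M) hsum
  rw [CfsgLib.Blk.red_natCast, (CharP.cast_eq_zero_iff (CfsgLib.Blk.Res M) p _).2
      (Finset.dvd_sum fun χ _ => hm χ),
    CfsgLib.Blk.red_mul (natCast_mem _ _) (sum_mem fun x _ => hmemH x),
    CfsgLib.Blk.red_natCast, CfsgLib.Blk.red_sum _ _ fun x _ => hmemH x] at hred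
  have hidx : (H.index : CfsgLib.Blk.Res M) ≠ 0 := fun h => P.not_dvd_index
    (((CharP.cast_eq_zero_iff (CfsgLib.Blk.Res M) p _).1 h).trans
      (Subgroup.index_dvd_of_le le_sup_right))
  have hout : ∀ x : H, (x : G) ∉ N → p ∣ orderOf (x : G) := by
    intro x hx
    by_contra hd
    apply hx
    obtain ⟨y, hy, q, hq, e⟩ := Subgroup.mem_sup_of_normal_left.1 (x.2 : (x : G) ∈ N ⊔ (P : Subgroup G))
    rw [← QuotientGroup.eq_one_iff, ← orderOf_eq_one_iff]
    obtain ⟨k, hk⟩ := (IsPGroup.iff_orderOf.1 P.2) ⟨q, hq⟩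
    rw [Subgroup.orderOf_mk] at hk
    refine Nat.Coprime.eq_one_of_dvd (Nat.Coprime.pow_right k ((hp.coprime_iff_not_dvd.2
      fun h => hd (h.trans (orderOf_map_dvd (QuotientGroup.mk' N) (x : G)))).symm)) ?_
    rw [← hk, ← e, QuotientGroup.mk_mul, (QuotientGroup.eq_one_iff y).2 hy, one_mul]
    exact orderOf_map_dvd (QuotientGroup.mk' N) q
  have hG1 : ∑ x : H, CfsgLib.Blk.red M (Cfsg.blockCoeff (Cfsg.principalBlock M G) (x : G) *
      (η : H → ℂ) x) = cG * T := by
    rw [← hgen (fun x => (CfsgLib.Blk.Pair.bid M (Cfsg.principalBlock M G)).coeff (x : G)) cG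
      (fun q x => CfsgLib.Blk.Pair.isClassCoeff_bid hM hB (x : G) (q : G))
      (fun x hx => hcG x (hfix x hx))]
    rw [← Finset.sum_subset (Finset.subset_univ (Finset.univ.filter fun x : H => (x : G) ∈ N))
      fun x _ hx => by
        rw [CfsgLib.Blk.blockCoeff_eq_zero_of_singular hM hB (hout x fun h => hx
          (Finset.mem_filter.2 ⟨Finset.mem_univ _, h⟩)), zero_mul, CfsgLib.Blk.red_zero]]
    refine Finset.sum_bij' (fun x hx => (⟨(x : G), (Finset.mem_filter.1 hx).2⟩ : N))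
      (fun n _ => Subgroup.inclusion le_sup_left n) (fun _ _ => Finset.mem_univ _)
      (fun n _ => Finset.mem_filter.2 ⟨Finset.mem_univ _, n.2⟩) (fun x _ => rfl) (fun n _ => rfl)
      fun x hx => ?_
    rw [CfsgLib.Blk.red_mul (CfsgLib.Blk.blockCoeff_mem hM hB _) (CfsgLib.Blk.irr_mem η x),
      CfsgLib.Blk.Pair.coeff_bid, ← hη]
    rfl
  rw [hG1] at hred
  exact mul_ne_zero hidx (mul_ne_zero hcG0 hT0) hred.symm

end Cfsg.Agent.S4583
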