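import Cfsg.Statements.S4584
import Cfsg.Agent.Char.SmallPGroup

set_option autoImplicit false
open Cfsg

namespace Cfsg.Agent.S4584

/-- Let p be a prime and P a group of order p^4. Then the derived subgroup P' has order p if and only if the centre Z(P) has index p^2 in P. -/
theorem result {P : Type*} [Group P] [Finite P] (p : ℕ) [Fact p.Prime] (hP : Nat.card P = p ^ 4) :
    Nat.card (commutator P) = p ↔ (Subgroup.center P).index = p ^ 2 := by
  open CfsgLib.SmallP in
  · have hp : p.Prime := Fact.out
    refine ⟨fun hd => ?_, card_commutator_of_index_center hP⟩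
    obtain ⟨k, hk2, hk⟩ := (Nat.dvd_prime_pow hp).1 (exists_index_prime_center hP hd)
    rcases k with _ | _ | k
    · exfalso
      have hab := comm_of_index_center_prime (p := p) (G := P) (by rw [hk, pow_zero]; exact one_dvd _)
      rw [(commutator_eq_bot_iff_center_eq_top _).2 (eq_top_iff.2 fun a _ => Subgroup.mem_center_iff.2 fun g => hab g a),
        Subgroup.card_bot] at hd
      exact hp.one_lt.ne hd
    · exfalso
      have hab := comm_of_index_center_prime (p := p) (G := P) (by rw [hk, zero_add, pow_one])
      rw [(commutator_eq_bot_iff_center_eq_top _).2 (eq_top_iff.2 fun a _ => Subgroup.mem_center_iff.2 fun g => hab g a),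
        Subgroup.card_bot] at hd
      exact hp.one_lt.ne hd
    · rw [hk, show k + 1 + 1 = 2 by omega]

end Cfsg.Agent.S4584
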