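import Cfsg.Statements.S4585
import Cfsg.Agent.Char.SmallPGroup
import Mathlib.GroupTheory.Nilpotent

set_option autoImplicit false
open Cfsg

namespace Cfsg.Agent.S4585

/-- Let p be a prime and P a group of order p^4. Then P' has index p^2 in P if and only if P has maximal nilpotency class, that is, nilpotency class exactly 3. -/
theorem result {P : Type*} [Group P] [Finite P] (p : ℕ) [Fact p.Prime] (hP : Nat.card P = p ^ 4) :
    (commutator P).index = p ^ 2 ↔ Group.nilpotencyClass P = 3 := by
  open CfsgLib.SmallP in
  · have hp : p.Prime := Fact.out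
    have hPG : IsPGroup p P := IsPGroup.of_card hP
    haveI := hPG.isNilpotent
    have hcard : ∀ L : Subgroup P, ∃ k ≤ 4, Nat.card L = p ^ k := fun L =>
      (Nat.dvd_prime_pow hp).1 (hP ▸ Subgroup.card_subgroup_dvd_card L)
    have hmul := (commutator P).card_mul_index
    rw [hP] at hmul
    -- central derived subgroup forces order `p`
    have hcen : commutator P ≤ Subgroup.center P → Nat.card (commutator P) ∣ p := by
      intro hle
      by_cases htop : Subgroup.center P = ⊤
      · rw [(commutator_eq_bot_iff_center_eq_top _).2 htop, Subgroup.card_bot]; exact one_dvd _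
      · obtain ⟨k, hk4, hk⟩ := (Nat.dvd_prime_pow hp).1 (hP ▸ Subgroup.index_dvd_card (Subgroup.center P))
        by_cases hk2 : k = 2
        · exact dvd_of_eq (card_commutator_of_index_center hP (hk2 ▸ hk))
        · exfalso
          rcases (show k ≤ 1 ∨ 3 ≤ k by omega) with hk1 | hk3
          · refine htop (eq_top_iff.2 fun a _ => Subgroup.mem_center_iff.2 fun g =>
              comm_of_index_center_prime (p := p) (G := P) (hk ▸ ?_) g a)
            exact (pow_dvd_pow p hk1).trans (pow_one p).dvd
          · have h := (Subgroup.center P).card_mul_index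
            obtain ⟨i, -, hi⟩ := hcard (Subgroup.center P)
            rw [hP, hk, hi, ← pow_add] at h
            have hi1 := Nat.pow_right_injective hp.two_le h
            obtain ⟨j, hj4, hj⟩ := hcard (commutator P)
            have hd := Subgroup.card_dvd_of_le hle
            rw [hj, hi] at hd
            have hj1 : j ≤ i := (Nat.pow_dvd_pow_iff_le_right hp.one_lt).1 hd
            rcases (show j = 0 ∨ j = 1 by omega) with rfl | rfl
            · exact htop ((commutator_eq_bot_iff_center_eq_top _).1 (Subgroup.card_eq_one.1 (by rw [hj, pow_zero])))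
            · have := exists_index_prime_center hP (by rw [hj, pow_one])
              rw [hk, Nat.pow_dvd_pow_iff_le_right hp.one_lt] at this
              omega
    constructor
    · intro hi
      have hd : Nat.card (commutator P) = p ^ 2 := by
        rw [hi, show p ^ 4 = p ^ 2 * p ^ 2 by ring] at hmul
        exact Nat.eq_of_mul_eq_mul_right (pow_pos hp.pos 2) hmul
      have hnle : ¬ commutator P ≤ Subgroup.center P := fun hle => by
        have h := hcen hle
        rw [hd] at h
        exact absurd ((Nat.pow_dvd_pow_iff_le_right hp.one_lt).1 (h.trans (pow_one p).symm.dvd)) (by norm_num)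
      have h2ne : (⊤ : Subgroup P).lowerCentralSeries 2 ≠ ⊥ := fun e => hnle (by
        have h : ⁅commutator P, (⊤ : Subgroup P)⁆ = ⊥ := e
        rw [Subgroup.commutator_eq_bot_iff_le_centralizer] at h
        rw [← Subgroup.centralizer_univ, ← Subgroup.coe_top]; exact h)
      have hle : (⊤ : Subgroup P).lowerCentralSeries 2 ≤ commutator P :=
        Subgroup.lowerCentralSeries_antitone (⊤ : Subgroup P) (show 1 ≤ 2 by norm_num)
      have h3 : (⊤ : Subgroup P).lowerCentralSeries 3 = ⊥ := by
        refine Subgroup.lowerCentralSeries_succ_eq_bot ⊤ ?_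
        obtain ⟨j, -, hj⟩ := hcard ((⊤ : Subgroup P).lowerCentralSeries 2)
        have hd' := Subgroup.card_dvd_of_le hle
        rw [hj, hd, Nat.pow_dvd_pow_iff_le_right hp.one_lt] at hd'
        rcases (show j = 0 ∨ j = 1 ∨ j = 2 by omega) with rfl | rfl | rfl
        · exact absurd (Subgroup.card_eq_one.1 (by rw [hj, pow_zero])) h2ne
        · exact le_center_of_card_prime hPG _ (by rw [hj, pow_one])
        · exfalso
          have heq : (⊤ : Subgroup P).lowerCentralSeries 2 = commutator P :=
            Subgroup.eq_of_le_of_card_ge hle (by rw [hj, hd])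
          have hall : ∀ i, (⊤ : Subgroup P).lowerCentralSeries (i + 1) = commutator P := fun i => by
            induction i with
            | zero => rfl
            | succ i ih => rw [Subgroup.lowerCentralSeries_succ, ih]; exact heq
          refine hnle ?_
          rw [← hall (Group.nilpotencyClass P)]
          exact ((Subgroup.lowerCentralSeries_antitone (⊤ : Subgroup P) (Nat.le_succ _)).trans
            (Subgroup.lowerCentralSeries_nilpotencyClass (G := P)).le).trans bot_le
      refine le_antisymm (Subgroup.lowerCentralSeries_eq_bot_iff_nilpotencyClass_le.1 h3) ?_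
      by_contra hlt
      exact h2ne (Subgroup.lowerCentralSeries_eq_bot_iff_nilpotencyClass_le.2 (by omega))
    · intro hc
      have hnle : ¬ commutator P ≤ Subgroup.center P := fun hle => by
        have := Subgroup.lowerCentralSeries_eq_bot_iff_nilpotencyClass_le.1
          (Subgroup.lowerCentralSeries_succ_eq_bot (⊤ : Subgroup P) (n := 1) hle)
        omega
      have hnc : ¬ IsCyclic P := fun h => hnle (by
        haveI := h
        rw [(commutator_eq_bot_iff_center_eq_top _).2 (eq_top_iff.2 fun a _ => Subgroup.mem_center_iff.2 fun g => by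
          obtain ⟨x, hx⟩ := IsCyclic.exists_generator (α := P)
          obtain ⟨i, rfl⟩ := Subgroup.mem_zpowers_iff.1 (hx g)
          obtain ⟨j, rfl⟩ := Subgroup.mem_zpowers_iff.1 (hx a)
          exact zpow_mul_comm x i j)]
        exact bot_le)
      obtain ⟨k, hk4, hk⟩ := hcard (commutator P)
      obtain ⟨i, -, hi⟩ := (Nat.dvd_prime_pow hp).1 (hP ▸ Subgroup.index_dvd_card (commutator P))
      have h2 := sq_dvd_index_commutator hPG hnc
      rw [hi, Nat.pow_dvd_pow_iff_le_right hp.one_lt] at h2
      rw [hk, hi, ← pow_add] at hmul
      have hsum := Nat.pow_right_injective hp.two_le hmul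
      rcases (show k = 0 ∨ k = 1 ∨ k = 2 by omega) with rfl | rfl | rfl
      · refine absurd ?_ hnle
        rw [show commutator P = ⊥ from Subgroup.card_eq_one.1 (by rw [hk, pow_zero])]; exact bot_le
      · exact absurd (le_center_of_card_prime hPG _ (by rw [hk, pow_one])) hnle
      · rw [hi, show i = 2 by omega]

end Cfsg.Agent.S4585
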