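import Cfsg.Statements.S4586
import Cfsg.Agent.Char.SmallPGroup

set_option autoImplicit false
open Cfsg

namespace Cfsg.Agent.S4586

/-- Let p be a prime, P a finite p-group and N a normal subgroup of P of index p. For x ∈ P write c(x) for the number of elements n of N whose commutator x n x⁻¹ n⁻¹ lies in the derived subgroup N' (so c(x)/#N' is the order of the centralizer of x acting on N/N'). Then [P : P'] = p² if and only if c(x) = p·#N' for every x ∈ P outside N, and also if and only if c(x) = p·#N' for some x ∈ P outside N. -/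
theorem result {P : Type*} [Group P] [Finite P] (p : ℕ) [Fact p.Prime] (hP : IsPGroup p P) (N : Subgroup P) [N.Normal] (hN : N.index = p) :
    ((commutator P).index = p ^ 2 ↔ ∀ x : P, x ∉ N →
        Nat.card {n : N // x * n * x⁻¹ * (n : P)⁻¹ ∈ (commutator N).map N.subtype} = p * Nat.card (commutator N)) ∧
    ((commutator P).index = p ^ 2 ↔ ∃ x : P, x ∉ N ∧
        Nat.card {n : N // x * n * x⁻¹ * (n : P)⁻¹ ∈ (commutator N).map N.subtype} = p * Nat.card (commutator N)) := by
  open CfsgLib.SmallP in
  · have hp : p.Prime := Fact.out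
    have key : ∀ x : P, x ∉ N → ((commutator P).index = p ^ 2 ↔
        Nat.card {n : N // x * n * x⁻¹ * (n : P)⁻¹ ∈ (commutator N).map N.subtype} = p * Nat.card (commutator N)) := by
      intro x hx
      have h := index_commutator_formula N hN x hx
      constructor
      · intro e
        rw [e, sq, mul_assoc] at h
        exact (Nat.eq_of_mul_eq_mul_left hp.pos h).symm
      · intro e
        rw [e, ← mul_assoc, ← sq] at h
        exact Nat.eq_of_mul_eq_mul_right Nat.card_pos h
    obtain ⟨x₀, hx₀⟩ : ∃ x, x ∉ N := by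
      by_contra h
      push Not at h
      rw [Subgroup.index_eq_one.2 (eq_top_iff.2 fun a _ => h a)] at hN
      exact hp.one_lt.ne hN
    exact ⟨⟨fun e x hx => (key x hx).1 e, fun h => (key x₀ hx₀).2 (h x₀ hx₀)⟩,
      ⟨fun e => ⟨x₀, hx₀, (key x₀ hx₀).1 e⟩, fun ⟨x, hx, h⟩ => (key x hx).2 h⟩⟩

end Cfsg.Agent.S4586
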