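import Cfsg.Statements.S4604
import Cfsg.Agent.Blk.Regular
import Cfsg.Agent.Blk.Criterion
import Cfsg.Agent.Char.ModP
import Mathlib.Algebra.CharP.Quotient

set_option autoImplicit false
open Cfsg

namespace Cfsg.Agent.S4604
open scoped CfsgLib.Char


/-- Let G be a finite group, p a prime and p^a the p-part of the order of G. Let x, y ∈ G and let x′, y′ be their p-regular parts: x′ has order prime to p, commutes with x·x′⁻¹, and x·x′⁻¹ has p-power order (likewise for y). Then x′ and y′ are conjugate in G if and only if for every irreducible character χ of G the algebraic integer χ(x)^(p^a) − χ(y)^(p^a) is p times an algebraic integer. -/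
theorem result {G : Type*} [Group G] [Finite G] (p : ℕ) [Fact p.Prime] (x y x' y' : G)
    (hx : (∃ k : ℕ, orderOf (x * x'⁻¹) = p ^ k) ∧ Commute (x * x'⁻¹) x' ∧ ¬ p ∣ orderOf x')
    (hy : (∃ k : ℕ, orderOf (y * y'⁻¹) = p ^ k) ∧ Commute (y * y'⁻¹) y' ∧ ¬ p ∣ orderOf y') :
    IsConj x' y' ↔ ∀ χ : Cfsg.IrrCharacter G, ∃ γ : Cfsg.AlgInt,
      (χ : G → ℂ) x ^ (p ^ (Nat.card G).factorization p) - (χ : G → ℂ) y ^ (p ^ (Nat.card G).factorization p) = (p : ℂ) * (γ : ℂ) := by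
  classical
  haveI := Fintype.ofFinite G
  have hp : p.Prime := Fact.out
  obtain ⟨M, hM⟩ := CfsgLib.Blk.exists_isPModular hp
  haveI := hM.2.1.isPrime
  set a := (Nat.card G).factorization p
  have hpow : ∀ z z' : G, ((∃ k : ℕ, orderOf (z * z'⁻¹) = p ^ k) ∧ Commute (z * z'⁻¹) z' ∧ ¬ p ∣ orderOf z') →
      z ^ p ^ a = z' ^ p ^ a := by
    rintro z z' ⟨⟨k, hk⟩, hc, -⟩
    have h1 : (z * z'⁻¹) ^ p ^ a = 1 := by
      rw [← orderOf_dvd_iff_pow_eq_one, hk]
      exact pow_dvd_pow p ((hp.pow_dvd_iff_le_factorization Nat.card_pos.ne').1 (hk ▸ orderOf_dvd_natCard _))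
    conv_lhs => rw [show z = z * z'⁻¹ * z' by group, hc.mul_pow, h1, one_mul]
  have hfr : ∀ (χ : Cfsg.IrrCharacter G) (z : G), ∃ γ : Cfsg.AlgInt,
      (χ : G → ℂ) z ^ (p ^ a) - (χ : G → ℂ) (z ^ p ^ a) = (p : ℂ) * (γ : ℂ) := by
    intro χ z
    obtain ⟨d, ρ, hρ⟩ := CfsgLib.Char.isCharacter_of_isIrr χ.2
    obtain ⟨ζ, hζ, hpw, hsum, -⟩ := CfsgLib.Char.exists_roots ρ z
    rw [← hρ, hpw, hsum]
    let ζ' : _ → Cfsg.AlgInt := fun i => ⟨ζ i, CfsgLib.Char.isIntegral_root (orderOf_pos z).ne' (hζ i)⟩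
    haveI : ExpChar (Cfsg.AlgInt ⧸ Ideal.span {(p : Cfsg.AlgInt)}) p := by
      haveI : CharP (Cfsg.AlgInt ⧸ Ideal.span {(p : Cfsg.AlgInt)}) p :=
        CharP.quotient Cfsg.AlgInt p (fun hu => by
          obtain ⟨u, hu⟩ := isUnit_iff_exists_inv.1 hu
          exact hM.2.1.ne_top ((Ideal.eq_top_iff_one _).2 (hu ▸ M.mul_mem_right u hM.2.2)))
      exact ExpChar.prime hp
    have h1 : Ideal.Quotient.mk (Ideal.span {(p : Cfsg.AlgInt)}) ((∑ i, ζ' i) ^ p ^ a) =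
        Ideal.Quotient.mk (Ideal.span {(p : Cfsg.AlgInt)}) (∑ i, ζ' i ^ p ^ a) := by
      rw [map_pow, map_sum, sum_pow_char_pow, map_sum]
      exact Finset.sum_congr rfl fun i _ => (map_pow _ _ _).symm
    rw [Ideal.Quotient.eq, Ideal.mem_span_singleton] at h1
    obtain ⟨γ, hγ⟩ := h1
    refine ⟨γ, ?_⟩
    have := congrArg Subtype.val hγ
    simpa [ζ'] using this
  constructor
  · intro h χ
    obtain ⟨γ1, h1⟩ := hfr χ x
    obtain ⟨γ2, h2⟩ := hfr χ y
    obtain ⟨c, hc⟩ := isConj_iff.1 h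
    have e : (χ : G → ℂ) (x ^ p ^ a) = (χ : G → ℂ) (y ^ p ^ a) := by
      rw [hpow x x' hx, hpow y y' hy, ← hc, conj_pow]
      exact (CfsgLib.Char.classFun_of_irr χ.2 _ c).symm
    exact ⟨γ1 - γ2, by push_cast; linear_combination h1 - h2 + e⟩
  · intro h
    set u := x' ^ p ^ a
    set v := y' ^ p ^ a
    have hreg : ∀ z : G, ¬ p ∣ orderOf z → ¬ p ∣ orderOf (z ^ p ^ a) := fun z hz hd =>
      hz (hd.trans (orderOf_pow_dvd _))
    have hconj : IsConj v u := by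
      by_contra hne
      obtain ⟨c, m, hm, hc⟩ := CfsgLib.Blk.exists_comb_regular hM (hreg x' hx.2.2)
      have h1 := hc u (hreg x' hx.2.2)
      have h2 := hc v (hreg y' hy.2.2)
      rw [if_pos (IsConj.refl _)] at h1
      rw [if_neg hne] at h2
      refine hm ((CfsgLib.Blk.natCast_memLocalIdeal_iff hM m).1 ?_)
      rw [← h1, ← sub_zero (∑ χ : Cfsg.IrrCharacter G, _), ← h2, ← Finset.sum_sub_distrib]
      have key : ∀ χ : Cfsg.IrrCharacter G, ∃ r ∈ CfsgLib.Blk.locRing M,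
          (χ : G → ℂ) u - (χ : G → ℂ) v = (p : ℂ) * r := by
        intro χ
        obtain ⟨γ1, e1⟩ := hfr χ x
        obtain ⟨γ2, e2⟩ := hfr χ y
        obtain ⟨γ, e⟩ := h χ
        rw [hpow x x' hx] at e1
        rw [hpow y y' hy] at e2
        exact ⟨((γ - γ1 + γ2 : Cfsg.AlgInt) : ℂ), CfsgLib.Blk.integral_mem (γ - γ1 + γ2 : Cfsg.AlgInt).2,
          by push_cast; linear_combination e - e1 + e2⟩
      choose r hr hre using key
      rw [Finset.sum_congr rfl (g := fun χ => (p : ℂ) * (((c χ : CfsgLib.Blk.locRing M) : ℂ) * r χ))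
        (fun χ _ => by rw [← mul_sub, hre, mul_left_comm]), ← Finset.mul_sum]
      exact CfsgLib.Blk.memLocalIdeal_mul_right ((CfsgLib.Blk.natCast_memLocalIdeal_iff hM p).2 dvd_rfl)
        (sum_mem fun χ _ => mul_mem (c χ).2 (hr χ))
    have hinv : ∀ z : G, ¬ p ∣ orderOf z → ∃ j : ℕ, (z ^ p ^ a) ^ j = z := fun z hz =>
      exists_pow_eq_self_of_coprime (Nat.Coprime.pow_left a (hp.coprime_iff_not_dvd.2 hz))
    obtain ⟨c, hc⟩ := isConj_iff.1 hconj.symm
    have hmn : ∃ j : ℕ, u ^ j = x' ∧ v ^ j = y' := by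
      have hco : Nat.Coprime (p ^ a) (orderOf x' * orderOf y') := Nat.Coprime.mul_right
        (Nat.Coprime.pow_left a (hp.coprime_iff_not_dvd.2 hx.2.2))
        (Nat.Coprime.pow_left a (hp.coprime_iff_not_dvd.2 hy.2.2))
      obtain ⟨j, hj⟩ := exists_pow_eq_self_of_coprime (x := ((x', y') : G × G))
        (hco.coprime_dvd_right (by
          rw [Prod.orderOf]; exact Nat.lcm_dvd_mul _ _))
      simp only [Prod.pow_mk, Prod.mk.injEq] at hj
      exact ⟨j, hj.1, hj.2⟩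
    obtain ⟨j, hju, hjv⟩ := hmn
    refine isConj_iff.2 ⟨c, ?_⟩
    rw [← hju, ← hjv, ← hc, conj_pow]

end Cfsg.Agent.S4604
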