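import Cfsg.Statements.S4611
import Cfsg.Agent.S4492
import Cfsg.Agent.Solv.PSolvableOfSolvable
import Cfsg.Agent.Char.PPrimeDegree

set_option autoImplicit false
open Cfsg

namespace Cfsg.Agent.S4611
open CfsgLib.Char in
theorem mem_principal_iff {G : Type*} [Group G] [Fintype G] [Group.IsSolvable G] {p : ℕ} [Fact p.Prime]
    {M : Ideal Cfsg.AlgInt} (hM : Cfsg.IsPModular p M) (χ : Cfsg.IrrCharacter G) :
    χ ∈ Cfsg.principalBlock M G ↔ ∀ g ∈ Cfsg.pPrimeCore p G, (χ : G → ℂ) g = (χ : G → ℂ) 1 := by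
  classical
  haveI : M.IsPrime := hM.2.1.isPrime
  haveI : (Cfsg.pPrimeCore p G).Normal := CfsgLib.Solv.pPrimeCore_normal G p
  haveI := Fintype.ofFinite (Cfsg.pPrimeCore p G)
  set N := Cfsg.pPrimeCore p G with hN
  obtain ⟨B, hB, hmem, -, -⟩ := Cfsg.Agent.S4492.result p M hM
    (CfsgLib.Solv.isPSolvable_of_isSolvable p G) N hN (⟨_, isIrr_one⟩ : Cfsg.IrrCharacter N)
    (fun g n => rfl)
  have h1 : (⟨_, isIrr_one⟩ : Cfsg.IrrCharacter G) ∈ B := (hmem _).2 (by
    show classInner (fun _ : N => (1 : ℂ)) (fun _ : N => (1 : ℂ)) ≠ 0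
    rw [classInner_one_one]; exact one_ne_zero)
  have hBp : B = Cfsg.principalBlock M G :=
    CfsgLib.Blk.eq_of_mem_of_mem hB CfsgLib.Blk.isPBlock_principalBlock h1
      CfsgLib.Blk.one_mem_principalBlock
  rw [← hBp, hmem]
  constructor
  · intro hc g hg
    have hres := res_homogeneous χ.2 isIrr_one hc (fun g => rfl)
    exact (congrFun hres ⟨g, hg⟩).trans (congrFun hres 1).symm
  · intro h
    show classInner (fun n : N => (χ : G → ℂ) n) (fun _ : N => (1 : ℂ)) ≠ 0
    rw [show (fun n : N => (χ : G → ℂ) n) = (χ : G → ℂ) 1 • (fun _ : N => (1 : ℂ)) from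
      funext fun n => by simp [h n n.2], classInner_smul_left, classInner_one_one, mul_one]
    exact irr_one_ne_zero χ.2


/-- Let G be a finite solvable group and π a nonempty set of primes, each dividing the order of G; fix for each p in π a maximal ideal M p of the algebraic integers containing p. Then the only irreducible character lying in the principal p-block for every p in π is the principal character if and only if G is generated by the subgroups O_{p'}(G), p in π (the largest normal subgroups of order prime to p). -/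
theorem result {G : Type*} [Group G] [Finite G] [Group.IsSolvable G] (π : Set ℕ) (hπ : ∀ p ∈ π, p.Prime ∧ p ∣ Nat.card G) (hne : π.Nonempty) (M : ℕ → Ideal Cfsg.AlgInt) (hM : ∀ p ∈ π, Cfsg.IsPModular p (M p)) :
    (∀ χ : Cfsg.IrrCharacter G, (∀ p ∈ π, χ ∈ Cfsg.principalBlock (M p) G) → (χ : G → ℂ) = fun _ => 1) ↔
      ⨆ p ∈ π, Cfsg.pPrimeCore p G = ⊤ := by
  classical
  haveI := Fintype.ofFinite G
  constructor
  · intro h
    by_contra hK
    set K : Subgroup G := ⨆ p ∈ π, Cfsg.pPrimeCore p G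
    haveI : K.Normal := by
      have : ∀ p, (Cfsg.pPrimeCore p G).Normal := fun p => CfsgLib.Solv.pPrimeCore_normal G p
      haveI := this
      exact Subgroup.sSup_normal _ fun N hN => by
        obtain ⟨p, rfl⟩ := hN
        exact Subgroup.sSup_normal _ fun N hN => by
          obtain ⟨_, rfl⟩ := hN
          exact this p
    haveI : Nontrivial (G ⧸ K) := QuotientGroup.nontrivial_iff.2 hK
    obtain ⟨x, hx⟩ := SetLike.exists_not_mem_of_ne_top (commutator (G ⧸ K))
      (Group.IsSolvable.commutator_lt_top_of_nontrivial (G := G ⧸ K)).ne rfl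
    obtain ⟨μ, hμ⟩ := CfsgLib.Char.exists_linear_ne_one hx
    obtain ⟨g, rfl⟩ := QuotientGroup.mk'_surjective K x
    have h1 := h ⟨_, CfsgLib.Char.isIrr_linear (μ.comp (QuotientGroup.mk' K))⟩ fun p hp => by
      haveI := Fact.mk (hπ p hp).1
      refine (mem_principal_iff (hM p hp) _).2 fun k hk => ?_
      have hkK : k ∈ K := (le_iSup₂ (f := fun p (_ : p ∈ π) => Cfsg.pPrimeCore p G) p hp) hk
      have e : (QuotientGroup.mk' K) k = 1 := (QuotientGroup.eq_one_iff k).2 hkK
      simp only [MonoidHom.comp_apply, e, map_one]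
    exact hμ (Units.ext (by simpa using congrFun h1 g))
  · intro hK χ hχ
    obtain ⟨K, -, hker, -⟩ := CfsgLib.Char.exists_kernel (CfsgLib.Char.isCharacter_of_isIrr χ.2)
    have htop : K = ⊤ := by
      rw [eq_top_iff, ← hK]
      refine iSup₂_le fun p hp => ?_
      haveI := Fact.mk (hπ p hp).1
      exact fun k hk => (hker k).2 ((mem_principal_iff (hM p hp) χ).1 (hχ p hp) k hk)
    have hc : (χ : G → ℂ) = fun _ => (χ : G → ℂ) 1 := funext fun g => (hker g).1 (htop ▸ Subgroup.mem_top g)
    have h1 := CfsgLib.Char.irr_inner_self χ.2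
    rw [hc, show (fun _ : G => (χ : G → ℂ) 1) = (χ : G → ℂ) 1 • (fun _ => (1 : ℂ)) from funext fun g => by simp,
      CfsgLib.Char.classInner_smul_left, CfsgLib.Char.classInner_smul_right,
      CfsgLib.Char.classInner_one_one, mul_one, CfsgLib.Char.irr_one_eq χ.2, Complex.conj_natCast] at h1
    have : Cfsg.charDegree (χ : G → ℂ) = 1 := by
      have h2 : Cfsg.charDegree (χ : G → ℂ) * Cfsg.charDegree (χ : G → ℂ) = 1 := by exact_mod_cast h1
      exact Nat.eq_one_of_mul_eq_one_right h2
    rw [hc, CfsgLib.Char.irr_one_eq χ.2, this, Nat.cast_one]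

end Cfsg.Agent.S4611
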