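import Cfsg.Statements.S4620
import Cfsg.Agent.Solv.MinimalNormal
import Cfsg.Agent.Solv.Basic

set_option autoImplicit false
open scoped Pointwise
open Cfsg

namespace Cfsg.Agent.S4620
open scoped Pointwise in
theorem exists_mem_sylow {G : Type*} [Group G] [Finite G] {p : ℕ} [Fact p.Prime] (P : Sylow p G)
    (K : Subgroup G) [hK : K.Normal] (h : p ∣ Nat.card K) : ∃ x ∈ (P : Subgroup G), x ∈ K ∧ x ≠ 1 := by
  obtain ⟨y, hy⟩ := exists_prime_orderOf_dvd_card' p h
  have hy1 : orderOf (y : G) = p := by rw [Subgroup.orderOf_coe, hy]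
  obtain ⟨P', hP'⟩ := (IsPGroup.of_card (n := 1)
    (by rw [Nat.card_zpowers, hy1, pow_one]) : IsPGroup p (Subgroup.zpowers (y : G))).exists_le_sylow
  obtain ⟨g, hg⟩ := MulAction.exists_smul_eq G P' P
  refine ⟨g * y * g⁻¹, ?_, hK.conj_mem _ y.2 g, fun h1 => ?_⟩
  · rw [← hg, Sylow.coe_subgroup_smul]
    exact ⟨y, hP' (Subgroup.mem_zpowers _), rfl⟩
  · rw [conj_eq_one_iff] at h1
    rw [h1, orderOf_one] at hy1
    exact (Fact.out : p.Prime).ne_one hy1.symm

open scoped Pointwise in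
theorem centralizer_eq_bot {G : Type*} [Group G] [Finite G] (p : ℕ) [Fact p.Prime]
    (hOp : Cfsg.pCore p G = ⊥) (hOp' : Cfsg.pPrimeCore p G = ⊥) (P : Sylow p G)
    (hTI : ∀ g : G, g ∉ Subgroup.normalizer ((P : Subgroup G) : Set G) →
      (P : Subgroup G) ⊓ (MulAut.conj g • (P : Subgroup G)) = ⊥)
    (K : Subgroup G) [hK : K.Normal] (hKb : K ≠ ⊥) : Subgroup.centralizer (K : Set G) = ⊥ := by
  have hdvd : ∀ L : Subgroup G, L.Normal → L ≠ ⊥ → p ∣ Nat.card L := by
    intro L hL hLb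
    by_contra hd
    haveI := hL
    exact hLb (le_bot_iff.1 (hOp' ▸ CfsgLib.Solv.le_pPrimeCore
      ((Fact.out : p.Prime).coprime_iff_not_dvd.2 hd).symm))
  by_contra hC
  obtain ⟨x, hxP, hxC, hx1⟩ := exists_mem_sylow P (Subgroup.centralizer (K : Set G))
    (hdvd _ Subgroup.normal_centralizer hC)
  have hKN : K ≤ Subgroup.normalizer ((P : Subgroup G) : Set G) := by
    intro k hk
    by_contra hkN
    have h1 : x ∈ (P : Subgroup G) ⊓ (MulAut.conj k • (P : Subgroup G)) := ⟨hxP, x, hxP, by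
      show k * x * k⁻¹ = x
      rw [Subgroup.mem_centralizer_iff.1 hxC k hk, mul_inv_cancel_right]⟩
    rw [hTI k hkN] at h1
    exact hx1 h1
  obtain ⟨y, hyP, hyK, hy1⟩ := exists_mem_sylow P K (hdvd K hK hKb)
  haveI : ((P : Subgroup G).subgroupOf K).Normal := ⟨fun z hz k =>
    (Subgroup.mem_normalizer_iff.1 (hKN k.2) (z : G)).1 hz⟩
  have h2 : (P : Subgroup G).subgroupOf K ≤ Cfsg.pCore p K :=
    CfsgLib.Solv.le_pCore (P.2.comap_of_injective _ K.subtype_injective)
  have h3 : y ∈ Cfsg.pCore p G := CfsgLib.Solv.map_pCore_subtype_le K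
    ⟨⟨y, hyK⟩, h2 hyP, rfl⟩
  rw [hOp] at h3
  exact hy1 h3


/-- Let H be a finite group with no nontrivial normal p-subgroup and no nontrivial normal subgroup of order prime to p, whose Sylow p-subgroup P is nontrivial and a trivial-intersection set (P meets its conjugates by elements outside N_H(P) trivially). Then H has a unique minimal normal subgroup N; N is non-abelian simple with trivial centralizer in H (so H embeds in Aut(N)), and a Sylow p-subgroup of N is again a nontrivial trivial-intersection set in N. -/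
theorem result {H : Type*} [Group H] [Finite H] (p : ℕ) [Fact p.Prime] (hOp : Cfsg.pCore p H = ⊥) (hOp' : Cfsg.pPrimeCore p H = ⊥) (P : Sylow p H) (hP1 : (P : Subgroup H) ≠ ⊥)
    (hTI : ∀ g : H, g ∉ Subgroup.normalizer ((P : Subgroup H) : Set H) → (P : Subgroup H) ⊓ (MulAut.conj g • (P : Subgroup H)) = ⊥) :
    ∃ N : Subgroup H, N.Normal ∧ N ≠ ⊥ ∧ (∀ K : Subgroup H, K.Normal → K ≠ ⊥ → N ≤ K) ∧
      IsSimpleGroup N ∧ ¬ IsMulCommutative N ∧ Subgroup.centralizer (N : Set H) = ⊥ ∧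
      ∀ Q : Sylow p N, (Q : Subgroup N) ≠ ⊥ ∧
        ∀ n : N, n ∉ Subgroup.normalizer ((Q : Subgroup N) : Set N) → (Q : Subgroup N) ⊓ (MulAut.conj n • (Q : Subgroup N)) = ⊥ := by
  classical
  haveI : Nontrivial H := by
    obtain ⟨x, hx, hx1⟩ := (Subgroup.bot_or_exists_ne_one (P : Subgroup H)).resolve_left hP1
    exact ⟨⟨x, 1, hx1⟩⟩
  obtain ⟨N, hN⟩ := CfsgLib.Solv.exists_isMinimalNormal (G := H)
  haveI := hN.1
  have hC := centralizer_eq_bot p hOp hOp' P hTI N hN.2.1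
  have huniq : ∀ K : Subgroup H, K.Normal → K ≠ ⊥ → N ≤ K := by
    intro K hK hKb
    haveI := hK
    refine (hN.eq_or_inf_eq_bot K).resolve_right fun h => hKb (le_bot_iff.1 (hC ▸ ?_))
    intro k hk
    exact Subgroup.mem_centralizer_iff.2 fun n hn =>
      Subgroup.commute_of_normal_of_disjoint N K inferInstance hK (disjoint_iff.2 h) n k hn hk
  have hNA : ¬ IsMulCommutative N := fun hc => hN.2.1 (le_bot_iff.1 (hC ▸ fun n hn =>
    Subgroup.mem_centralizer_iff.2 fun m hm =>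
      congrArg Subtype.val (hc.is_comm.comm (⟨m, hm⟩ : N) ⟨n, hn⟩)))
  have hOpN : Cfsg.pCore p N = ⊥ := by
    rw [← Subgroup.map_eq_bot_iff_of_injective _ N.subtype_injective]
    exact le_bot_iff.1 (hOp ▸ CfsgLib.Solv.map_pCore_subtype_le N)
  have hOp'N : Cfsg.pPrimeCore p N = ⊥ := by
    rw [← Subgroup.map_eq_bot_iff_of_injective _ N.subtype_injective,
      CfsgLib.Solv.map_pPrimeCore_subtype_eq_inf, hOp', bot_inf_eq]
  have hQ : ∀ Q : Sylow p N, (Q : Subgroup N) ≠ ⊥ ∧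
      ∀ n : N, n ∉ Subgroup.normalizer ((Q : Subgroup N) : Set N) →
        (Q : Subgroup N) ⊓ (MulAut.conj n • (Q : Subgroup N)) = ⊥ := by
    intro Q
    haveI : (⊤ : Subgroup N).Normal := inferInstance
    have hpN : p ∣ Nat.card N := by
      by_contra hd
      exact hN.2.1 (le_bot_iff.1 (hOp' ▸ CfsgLib.Solv.le_pPrimeCore
        ((Fact.out : p.Prime).coprime_iff_not_dvd.2 hd).symm))
    refine ⟨fun h => ?_, fun n hn => ?_⟩
    · obtain ⟨z, hz, -, hz1⟩ := exists_mem_sylow Q ⊤ (by rwa [Subgroup.card_top])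
      rw [h] at hz
      exact hz1 hz
    obtain ⟨P', hP'⟩ := (Q.2.map N.subtype).exists_le_sylow
    obtain ⟨g, rfl⟩ := MulAction.exists_smul_eq H P P'
    have hQeq : ((g • P : Sylow p H) : Subgroup H).subgroupOf N = (Q : Subgroup N) :=
      Q.3 ((g • P).2.comap_of_injective _ N.subtype_injective) fun z hz => hP' ⟨z, hz, rfl⟩
    have hn' : g⁻¹ * (n : H) * g ∉ Subgroup.normalizer ((P : Subgroup H) : Set H) := by
      intro hm
      apply hn
      have hm' : (g⁻¹ * (n : H) * g) • P = P := Sylow.smul_eq_iff_mem_normalizer.2 hm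
      have hm'' : (n : H) • (g • P) = g • P := by
        conv_rhs => rw [← hm']
        rw [← mul_smul, ← mul_smul, ← mul_assoc, ← mul_assoc, mul_inv_cancel, one_mul]
      have hmN := Sylow.smul_eq_iff_mem_normalizer.1 hm''
      rw [← hQeq, Subgroup.mem_normalizer_iff]
      intro z
      exact Subgroup.mem_normalizer_iff.1 hmN (z : H)
    rw [eq_bot_iff]
    rintro z ⟨hz1, w, hw, rfl⟩
    have hw' : (w : H) ∈ ((g • P : Sylow p H) : Subgroup H) := hP' ⟨w, hw, rfl⟩
    have hz' : ((MulAut.conj n w : N) : H) ∈ ((g • P : Sylow p H) : Subgroup H) :=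
      hP' ⟨_, hz1, rfl⟩
    rw [Sylow.coe_subgroup_smul] at hw' hz'
    obtain ⟨a, ha, hae⟩ := hw'
    obtain ⟨b, hb, hbe⟩ := hz'
    have hae' : g * a * g⁻¹ = (w : H) := hae
    have hbe' : g * b * g⁻¹ = (n : H) * (w : H) * (n : H)⁻¹ := hbe
    have h1 : b ∈ (P : Subgroup H) ⊓ (MulAut.conj (g⁻¹ * (n : H) * g) • (P : Subgroup H)) :=
      ⟨hb, a, ha, by
        show g⁻¹ * (n : H) * g * a * (g⁻¹ * (n : H) * g)⁻¹ = b
        rw [← hae'] at hbe'
        calc g⁻¹ * (n : H) * g * a * (g⁻¹ * (n : H) * g)⁻¹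
            = g⁻¹ * ((n : H) * (g * a * g⁻¹) * (n : H)⁻¹) * g := by group
          _ = g⁻¹ * (g * b * g⁻¹) * g := by rw [hbe']
          _ = b := by group⟩
    rw [hTI _ hn', Subgroup.mem_bot] at h1
    rw [h1] at hbe'
    refine Subgroup.mem_bot.2 (Subtype.ext ?_)
    show (n : H) * (w : H) * (n : H)⁻¹ = 1
    rw [← hbe']; group
  refine ⟨N, hN.1, hN.2.1, huniq, ?_, hNA, hC, hQ⟩
  haveI : Nontrivial N := (Subgroup.nontrivial_iff_ne_bot N).2 hN.2.1
  obtain ⟨T⟩ : Nonempty (Sylow p N) := inferInstance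
  refine ⟨fun K hK => ?_⟩
  rcases eq_or_ne K ⊥ with h | hKb
  · exact Or.inl h
  haveI := hK
  obtain ⟨S, hS, hSK⟩ := CfsgLib.Solv.exists_isMinimalNormal_le K hKb
  haveI := hS.1
  have hSC := centralizer_eq_bot p hOpN hOp'N T (hQ T).2 S hS.2.1
  have hfix : ∀ h : H, S.map ((MulAut.conjNormal h : MulAut N)).toMonoidHom = S := by
    intro h
    set S₁ := S.map ((MulAut.conjNormal h : MulAut N)).toMonoidHom
    haveI : S₁.Normal := hS.1.map _ (MulEquiv.surjective _)
    have hcard : Nat.card S₁ = Nat.card S := Subgroup.card_map_of_injective (MulEquiv.injective _)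
    rcases hS.eq_or_inf_eq_bot S₁ with hle | hbot
    · exact (Subgroup.eq_of_le_of_card_ge hle hcard.le).symm
    · exfalso
      have : S₁ ≤ ⊥ := hSC ▸ fun s hs => Subgroup.mem_centralizer_iff.2 fun t ht =>
        Subgroup.commute_of_normal_of_disjoint S S₁ inferInstance inferInstance
          (disjoint_iff.2 hbot) t s ht hs
      rw [le_bot_iff] at this
      rw [this, Subgroup.card_bot] at hcard
      exact hS.2.1 (Subgroup.card_eq_one.1 hcard.symm)
  haveI : (S.map N.subtype).Normal := by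
    refine ⟨?_⟩
    rintro _ ⟨s, hs, rfl⟩ h
    exact ⟨(MulAut.conjNormal h : MulAut N) s,
      (hfix h).le (Subgroup.mem_map_of_mem _ hs), by simp⟩
  have hle := huniq (S.map N.subtype) inferInstance
    (by rw [Ne, Subgroup.map_eq_bot_iff_of_injective _ N.subtype_injective]; exact hS.2.1)
  refine Or.inr (eq_top_iff.2 fun z _ => hSK ?_)
  obtain ⟨s, hs, hse⟩ := hle z.2
  rwa [← Subtype.ext hse]

end Cfsg.Agent.S4620
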