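import Cfsg.Statements.S4623
import Mathlib
-- import your own Cfsg.Agent.* helpers here

set_option autoImplicit false
open Cfsg

namespace Cfsg.Agent.S4623

/-- For every prime p and every n, a Sylow p-subgroup P of the symmetric group on n letters has P/P' elementary abelian (the p-th power of every element of P lies in the derived subgroup of P), and the same holds for a Sylow p-subgroup of the alternating group on n letters. -/
def OrdGen (p : ℕ) (K : Type*) [Group K] : Prop := Subgroup.closure {x : K | x ^ p = 1} = ⊤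

theorem OrdGen.of_equiv {p : ℕ} {K L : Type*} [Group K] [Group L] (h : OrdGen p K) (e : K ≃* L) :
    OrdGen p L := by
  rw [OrdGen, eq_top_iff]
  intro y _
  have hy : y ∈ (Subgroup.closure {x : K | x ^ p = 1}).map e.toMonoidHom := by
    rw [show Subgroup.closure {x : K | x ^ p = 1} = ⊤ from h]
    exact ⟨e.symm y, Subgroup.mem_top _, e.apply_symm_apply y⟩
  rw [MonoidHom.map_closure] at hy
  refine Subgroup.closure_mono ?_ hy
  rintro _ ⟨x, hx, rfl⟩
  show e x ^ p = 1
  rw [← map_pow, hx, map_one]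

theorem OrdGen.pow_mem {p : ℕ} {K : Type*} [Group K] (h : OrdGen p K) (x : K) :
    x ^ p ∈ commutator K := by
  have hx : x ∈ Subgroup.closure {x : K | x ^ p = 1} := by rw [h]; trivial
  have key : (Abelianization.of x) ^ p = 1 := by
    induction hx using Subgroup.closure_induction with
    | mem y hy => rw [← map_pow, hy, map_one]
    | one => simp
    | mul a b _ _ ha hb => rw [map_mul, mul_pow, ha, hb, one_mul]
    | inv a _ ha => rw [map_inv, inv_pow, ha, inv_one]
  rw [← map_pow] at key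
  exact (QuotientGroup.eq_one_iff _).mp key

theorem ordGen_of_le_closure {p : ℕ} {G : Type*} [Group G] (H : Subgroup G)
    (h : H ≤ Subgroup.closure {x : G | x ∈ H ∧ x ^ p = 1}) : OrdGen p H := by
  rw [OrdGen, ← (Subgroup.map_injective H.subtype_injective).eq_iff, MonoidHom.map_closure,
    ← MonoidHom.range_eq_map, Subgroup.range_subtype]
  apply le_antisymm
  · rw [Subgroup.closure_le]
    rintro _ ⟨y, _, rfl⟩
    exact y.2
  · refine h.trans (Subgroup.closure_mono ?_)
    rintro x ⟨hx, hxp⟩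
    exact ⟨⟨x, hx⟩, Subtype.ext (by simpa using hxp), rfl⟩

open scoped Pointwise

theorem ordGen_sylow_inf {G : Type*} [Group G] [Finite G] {p : ℕ} [Fact p.Prime]
    (P0 P : Sylow p G) (A : Subgroup G) [hA : A.Normal]
    (h : OrdGen p ((P0 : Subgroup G) ⊓ A : Subgroup G)) :
    OrdGen p ((P : Subgroup G) ⊓ A : Subgroup G) := by
  obtain ⟨g, hg⟩ := MulAction.exists_smul_eq G P0 P
  have e1 : ((P0 : Subgroup G) ⊓ A).map (MulAut.conj g).toMonoidHom = (P : Subgroup G) ⊓ A := by
    rw [← hg, Sylow.coe_subgroup_smul, Subgroup.map_inf _ _ _ (MulAut.conj g).injective]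
    congr 1
    ext x
    rw [Subgroup.mem_map]
    constructor
    · rintro ⟨y, hy, rfl⟩
      simpa [MulAut.conj_apply] using hA.conj_mem y hy g
    · intro hx
      exact ⟨g⁻¹ * x * g, by simpa using hA.conj_mem x hx g⁻¹, by simp [MulAut.conj_apply, mul_assoc]⟩
  exact h.of_equiv ((Subgroup.equivMapOfInjective _ _ (MulAut.conj g).injective).trans
    (MulEquiv.subgroupCongr e1))

section

variable (p m r : ℕ) [NeZero p]

abbrev Pts := (Fin m × ZMod p) ⊕ Fin r

def shiftHom : Multiplicative (Fin m → ZMod p) →* Equiv.Perm (Pts p m r) where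
  toFun f := Equiv.Perm.sumCongr
    (Equiv.prodCongrRight fun i => Equiv.addRight (Multiplicative.toAdd f i)) 1
  map_one' := by
    apply Equiv.ext
    rintro (⟨i, a⟩ | x) <;> simp
  map_mul' f g := by
    apply Equiv.ext
    rintro (⟨i, a⟩ | x) <;> simp [add_assoc, add_comm, add_left_comm]

def liftHom : Equiv.Perm (Fin m) →* Equiv.Perm (Pts p m r) where
  toFun σ := Equiv.Perm.sumCongr (Equiv.prodCongrLeft fun _ => σ) 1
  map_one' := by
    apply Equiv.ext
    rintro (⟨i, a⟩ | x) <;> simp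
  map_mul' f g := by
    apply Equiv.ext
    rintro (⟨i, a⟩ | x) <;> simp

theorem lift_conj_shift (σ : Equiv.Perm (Fin m)) (f : Multiplicative (Fin m → ZMod p)) :
    liftHom p m r σ * shiftHom p m r f * (liftHom p m r σ)⁻¹
      = shiftHom p m r (Multiplicative.ofAdd fun i => Multiplicative.toAdd f (σ.symm i)) := by
  rw [mul_inv_eq_iff_eq_mul]
  apply Equiv.ext
  rintro (⟨i, a⟩ | x) <;> simp [liftHom, shiftHom]

theorem shift_mul_lift_inj :
    Function.Injective (fun x : Multiplicative (Fin m → ZMod p) × Equiv.Perm (Fin m) =>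
      shiftHom p m r x.1 * liftHom p m r x.2) := by
  rintro ⟨f, σ⟩ ⟨f', σ'⟩ h
  have key : ∀ i, σ i = σ' i ∧ Multiplicative.toAdd f (σ i) = Multiplicative.toAdd f' (σ' i) := by
    intro i
    have := congrArg (fun e : Equiv.Perm (Pts p m r) => e (Sum.inl (i, 0))) h
    simpa [liftHom, shiftHom] using this
  have hσ : σ = σ' := Equiv.ext fun i => (key i).1
  subst hσ
  have : f = f' := by
    apply Multiplicative.toAdd.injective
    funext j
    simpa using (key (σ.symm j)).2
  rw [this]

theorem sign_lift [Fact (p = 2)] (σ : Equiv.Perm (Fin m)) :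
    Equiv.Perm.sign (liftHom p m r σ) = 1 := by
  obtain rfl : p = 2 := Fact.out
  show Equiv.Perm.sign (Equiv.Perm.sumCongr (Equiv.prodCongrLeft fun _ : ZMod 2 => σ) 1) = 1
  rw [Equiv.Perm.sign_sumCongr, Equiv.Perm.sign_prodCongrLeft, map_one, mul_one, Finset.prod_const,
    Finset.card_univ, ZMod.card]
  exact Int.units_sq _

end

theorem exists_sylow_gen (p : ℕ) [Fact p.Prime] :
    ∀ n : ℕ, ∃ P : Sylow p (Equiv.Perm (Fin n)), OrdGen p P ∧
      OrdGen p ((P : Subgroup (Equiv.Perm (Fin n))) ⊓ alternatingGroup (Fin n) :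
        Subgroup (Equiv.Perm (Fin n))) := by
  intro n
  induction n using Nat.strong_induction_on with
  | _ n IH =>
  rcases Nat.eq_zero_or_pos n with hn0 | hn0
  · subst hn0
    refine ⟨default, ?_, ?_⟩ <;> exact eq_top_iff.mpr fun x _ => by
      rw [Subsingleton.elim x 1]; exact Subgroup.one_mem _
  have hp : p.Prime := Fact.out
  have : NeZero p := ⟨hp.ne_zero⟩
  set m := n / p with hm
  set r := n % p with hr
  obtain ⟨S, hS, -⟩ := IH m (Nat.div_lt_self hn0 hp.one_lt)
  have hcard : Fintype.card (Pts p m r) = n := by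
    simp only [Fintype.card_sum, Fintype.card_prod, Fintype.card_fin, ZMod.card]
    rw [hm, hr, mul_comm]
    exact Nat.div_add_mod n p
  let ψ : Equiv.Perm (Pts p m r) ≃* Equiv.Perm (Fin n) :=
    Equiv.permCongrHom (Fintype.equivFinOfCardEq hcard)
  let e : Multiplicative (Fin m → ZMod p) →* Equiv.Perm (Fin n) :=
    ψ.toMonoidHom.comp (shiftHom p m r)
  let l : (S : Subgroup (Equiv.Perm (Fin m))) →* Equiv.Perm (Fin n) :=
    (ψ.toMonoidHom.comp (liftHom p m r)).comp (Subgroup.subtype _)
  have hfp : ∀ f : Multiplicative (Fin m → ZMod p), f ^ p = 1 := fun f => by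
    apply Multiplicative.toAdd.injective
    funext i
    simp
  have hnorm : l.range ≤ Subgroup.normalizer (e.range : Set (Equiv.Perm (Fin n))) := by
    rintro _ ⟨σ, rfl⟩
    have aux : ∀ (τ : (S : Subgroup (Equiv.Perm (Fin m)))) (x : Equiv.Perm (Fin n)),
        x ∈ e.range → l τ * x * (l τ)⁻¹ ∈ e.range := by
      rintro τ _ ⟨f, rfl⟩
      refine ⟨Multiplicative.ofAdd fun i => Multiplicative.toAdd f ((τ : Equiv.Perm (Fin m)).symm i), ?_⟩
      show ψ _ = ψ _ * ψ _ * (ψ _)⁻¹
      rw [← map_inv, ← map_mul, ← map_mul, ← lift_conj_shift]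
      rfl
    rw [Subgroup.mem_normalizer_iff]
    intro x
    refine ⟨fun hx => aux σ x hx, fun hx => ?_⟩
    have := aux σ⁻¹ _ hx
    rwa [map_inv, inv_inv, ← mul_assoc, ← mul_assoc, inv_mul_cancel, one_mul, mul_assoc,
      inv_mul_cancel, mul_one] at this
  have hE : IsPGroup p e.range := by
    rintro ⟨_, f, rfl⟩
    exact ⟨1, Subtype.ext (by simp [← map_pow, hfp])⟩
  have hL : IsPGroup p l.range := IsPGroup.of_surjective S.isPGroup' l.rangeRestrict
    l.rangeRestrict_surjective
  have hH : IsPGroup p (e.range ⊔ l.range : Subgroup (Equiv.Perm (Fin n))) :=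
    IsPGroup.to_sup_of_normal_left' hE hL hnorm
  obtain ⟨P, hP⟩ := hH.exists_le_sylow
  have heP : ∀ f, e f ∈ (P : Subgroup _) := fun f => hP (Subgroup.mem_sup_left ⟨f, rfl⟩)
  have hlP : ∀ σ, l σ ∈ (P : Subgroup _) := fun σ => hP (Subgroup.mem_sup_right ⟨σ, rfl⟩)
  let Θ : Multiplicative (Fin m → ZMod p) × (S : Subgroup (Equiv.Perm (Fin m))) →
      (P : Subgroup (Equiv.Perm (Fin n))) :=
    fun x => ⟨e x.1 * l x.2, mul_mem (heP _) (hlP _)⟩
  have hΘi : Function.Injective Θ := by
    rintro ⟨f, σ⟩ ⟨f', σ'⟩ h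
    have h' : ψ (shiftHom p m r f * liftHom p m r σ) = ψ (shiftHom p m r f' * liftHom p m r σ') := by
      rw [map_mul, map_mul]
      exact congrArg Subtype.val h
    have := @shift_mul_lift_inj p m r _ (f, σ) (f', σ') (ψ.injective h')
    simp only [Prod.mk.injEq] at this
    rw [this.1, Subtype.ext this.2]
  have hcardeq : Nat.card (Multiplicative (Fin m → ZMod p) × (S : Subgroup (Equiv.Perm (Fin m))))
      = Nat.card (P : Subgroup (Equiv.Perm (Fin n))) := by
    rw [Nat.card_prod, Sylow.card_eq_multiplicity S, Sylow.card_eq_multiplicity P,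
      Nat.card_congr Multiplicative.toAdd, Nat.card_fun, Nat.card_zmod, Nat.card_fin, Nat.card_perm,
      Nat.card_perm, Nat.card_fin, Nat.card_fin, Nat.factorization_def _ hp,
      Nat.factorization_def _ hp, ← pow_add]
    congr 1
    conv_rhs => rw [← Nat.div_add_mod n p, ← hm, padicValNat_factorial_mul_add _ (Nat.mod_lt n hp.pos),
      padicValNat_factorial_mul]
    omega
  have hsurj : Function.Surjective Θ :=
    ((Nat.bijective_iff_injective_and_card Θ).mpr ⟨hΘi, hcardeq⟩).2
  have hlgen : ∀ (B : Subgroup (Equiv.Perm (Fin n))), (∀ σ, l σ ∈ B) → ∀ σ,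
      l σ ∈ Subgroup.closure {x | x ∈ B ∧ x ^ p = 1} := by
    intro B hB σ
    have : σ ∈ Subgroup.closure {x : (S : Subgroup (Equiv.Perm (Fin m))) | x ^ p = 1} := by
      rw [show Subgroup.closure {x : (S : Subgroup (Equiv.Perm (Fin m))) | x ^ p = 1} = ⊤ from hS]
      trivial
    have h2 := Subgroup.mem_map_of_mem l this
    rw [MonoidHom.map_closure] at h2
    refine Subgroup.closure_mono ?_ h2
    rintro _ ⟨x, hx, rfl⟩
    exact ⟨hB x, by rw [← map_pow, hx, map_one]⟩
  refine ⟨P, ordGen_of_le_closure _ ?_, ordGen_of_le_closure _ ?_⟩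
  · intro x hx
    obtain ⟨⟨f, σ⟩, h⟩ := hsurj ⟨x, hx⟩
    have hx' : x = e f * l σ := (congrArg Subtype.val h).symm
    rw [hx']
    exact mul_mem (Subgroup.subset_closure ⟨heP f, by rw [← map_pow, hfp, map_one]⟩)
      (hlgen _ hlP σ)
  · rintro x ⟨hx, hxA⟩
    obtain ⟨⟨f, σ⟩, h⟩ := hsurj ⟨x, hx⟩
    have hlA : ∀ τ, l τ ∈ alternatingGroup (Fin n) := by
      intro τ
      rw [Equiv.Perm.mem_alternatingGroup]
      rcases hp.eq_two_or_odd' with h2 | hodd
      · have : Fact (p = 2) := ⟨h2⟩
        show Equiv.Perm.sign (Equiv.permCongr (Fintype.equivFinOfCardEq hcard)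
          (liftHom p m r (τ : Equiv.Perm (Fin m)))) = 1
        rw [Equiv.Perm.sign_permCongr]
        exact sign_lift p m r _
      · obtain ⟨k, hk⟩ := S.isPGroup' τ
        have h1 : Equiv.Perm.sign (l τ) ^ (p ^ k) = 1 := by rw [← map_pow, ← map_pow, hk, map_one, map_one]
        obtain ⟨j, hj⟩ := hodd.pow (n := k)
        rw [hj, pow_succ, pow_mul, Int.units_sq, one_pow, one_mul] at h1
        exact h1
    have hx' : x = e f * l σ := (congrArg Subtype.val h).symm
    have hfA : e f ∈ alternatingGroup (Fin n) := by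
      have := (alternatingGroup (Fin n)).mul_mem hxA ((alternatingGroup (Fin n)).inv_mem (hlA σ))
      rwa [hx', mul_inv_cancel_right] at this
    rw [hx']
    exact mul_mem (Subgroup.subset_closure ⟨⟨heP f, hfA⟩, by rw [← map_pow, hfp, map_one]⟩)
      (hlgen ((P : Subgroup (Equiv.Perm (Fin n))) ⊓ alternatingGroup (Fin n))
      (fun τ => ⟨hlP τ, hlA τ⟩) σ)

theorem result (p : ℕ) [Fact p.Prime] (n : ℕ) (P : Sylow p (Equiv.Perm (Fin n))) (Q : Sylow p (alternatingGroup (Fin n))) :
    (∀ x : (P : Subgroup (Equiv.Perm (Fin n))), x ^ p ∈ commutator (P : Subgroup (Equiv.Perm (Fin n)))) ∧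
    (∀ x : (Q : Subgroup (alternatingGroup (Fin n))), x ^ p ∈ commutator (Q : Subgroup (alternatingGroup (Fin n)))) := by
  obtain ⟨P0, h0, h0A⟩ := exists_sylow_gen p n
  refine ⟨fun x => OrdGen.pow_mem (h0.of_equiv (Sylow.equiv P0 P)) x, fun x => ?_⟩
  obtain ⟨P1, hP1⟩ := (Q.isPGroup'.map (alternatingGroup (Fin n)).subtype).exists_le_sylow
  have hQ : (P1 : Subgroup (Equiv.Perm (Fin n))).subgroupOf (alternatingGroup (Fin n))
      = (Q : Subgroup (alternatingGroup (Fin n))) := by
    refine Q.is_maximal' ?_ ?_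
    · exact P1.isPGroup'.comap_of_injective _ (Subgroup.subtype_injective _)
    · intro y hy
      exact hP1 ⟨y, hy, rfl⟩
  have h1 := ordGen_sylow_inf P0 P1 (alternatingGroup (Fin n)) h0A
  have e1 : ((P1 : Subgroup (Equiv.Perm (Fin n))).subgroupOf (alternatingGroup (Fin n))).map
      (alternatingGroup (Fin n)).subtype = (P1 : Subgroup _) ⊓ alternatingGroup (Fin n) :=
    Subgroup.subgroupOf_map_subtype _ _
  exact OrdGen.pow_mem (h1.of_equiv ((MulEquiv.subgroupCongr e1.symm).trans
    ((Subgroup.equivMapOfInjective _ _ (Subgroup.subtype_injective _)).symm.trans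
      (MulEquiv.subgroupCongr hQ)))) x

end Cfsg.Agent.S4623
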