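import Cfsg.Statements.S4626
import Cfsg.Agent.Blk.Defect
import Cfsg.Agent.Blk.Regular

set_option autoImplicit false
open Cfsg

namespace Cfsg.Agent.S4626
open scoped CfsgLib.Char


/-- Let G be a finite group, p a prime, M a maximal ideal of the algebraic integers containing p, P a Sylow p-subgroup of G and N a normal subgroup of index prime to p containing the centralizer C_G(P). Then every irreducible character of G whose kernel contains N lies in the principal p-block of G. -/
theorem result {G : Type*} [Group G] [Finite G] (p : ℕ) [Fact p.Prime] (M : Ideal Cfsg.AlgInt) (hM : Cfsg.IsPModular p M) (P : Sylow p G) (N : Subgroup G) [N.Normal] (hidx : ¬ p ∣ N.index)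
    (hC : Subgroup.centralizer ((P : Subgroup G) : Set G) ≤ N) (χ : Cfsg.IrrCharacter G) (hker : ∀ n ∈ N, (χ : G → ℂ) n = (χ : G → ℂ) 1) :
    χ ∈ Cfsg.principalBlock M G := by
  classical
  haveI := hM.2.1.isPrime
  haveI := Fintype.ofFinite G
  have hχc := CfsgLib.Char.isCharacter_of_isIrr χ.2
  have h1 := CfsgLib.Char.irr_one_ne_zero χ.2
  intro g
  by_cases hg : g ∈ N
  · rw [Cfsg.centralChar, Cfsg.centralChar, hker g hg, mul_div_assoc, mul_div_assoc, div_self h1, div_one,
      sub_self]
    exact CfsgLib.Blk.memLocalIdeal_zero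
  have hdvd : p ∣ (Subgroup.centralizer ({g} : Set G)).index := by
    by_contra hnd
    set C := Subgroup.centralizer ({g} : Set G)
    obtain ⟨S⟩ := (inferInstance : Nonempty (Sylow p C))
    have hS : IsPGroup p ((S : Subgroup C).map C.subtype) := S.isPGroup'.map _
    obtain ⟨Q, hQ⟩ := hS.exists_le_sylow
    have hcard : Nat.card (Q : Subgroup G) ≤ Nat.card ((S : Subgroup C).map C.subtype) := by
      rw [Subgroup.card_map_of_injective Subtype.val_injective, Sylow.card_eq_multiplicity,
        Sylow.card_eq_multiplicity, ← C.card_mul_index, Nat.factorization_mul Nat.card_pos.ne'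
          Subgroup.index_ne_zero_of_finite]
      simp [Nat.factorization_eq_zero_of_not_dvd hnd]
    have heq := Subgroup.eq_of_le_of_card_ge hQ hcard
    obtain ⟨x, hx⟩ := MulAction.exists_smul_eq G Q P
    have hmem : x * g * x⁻¹ ∈ N := by
      refine hC fun y hy => ?_
      rw [← hx, Sylow.coe_subgroup_smul] at hy
      obtain ⟨z, hz, rfl⟩ := (Subgroup.mem_map.1 hy)
      rw [← heq] at hz
      have hzg := Subgroup.mem_centralizer_singleton_iff.1 (Subgroup.map_subtype_le _ hz)
      show x * z * x⁻¹ * (x * g * x⁻¹) = x * g * x⁻¹ * (x * z * x⁻¹)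
      calc x * z * x⁻¹ * (x * g * x⁻¹) = x * (z * g) * x⁻¹ := by group
        _ = x * g * x⁻¹ * (x * z * x⁻¹) := by rw [hzg]; group
    exact hg (by
      have := (inferInstance : N.Normal).conj_mem _ hmem x⁻¹
      simpa [mul_assoc] using this)
  obtain ⟨k, hk⟩ := hdvd
  obtain ⟨n, hn, hnp⟩ := CfsgLib.Blk.exists_deg_eq (p := p) χ.2
  have hdeg : ¬ p ∣ Cfsg.charDegree (χ : G → ℂ) := by
    obtain ⟨χb, hχb, hψ⟩ : ∃ χb : G ⧸ N → ℂ, Cfsg.IsIrrCharacter (G ⧸ N) χb ∧ χb ∘ QuotientGroup.mk' N = (χ : G → ℂ) := by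
      haveI := Fintype.ofFinite (G ⧸ N)
      exact CfsgLib.Char.irr_descend (QuotientGroup.mk' N) (QuotientGroup.mk'_surjective N) χ.2
        (fun x hx => hker x (by simpa using hx))
    intro hd
    have hq : Cfsg.charDegree (χ : G → ℂ) ∣ Nat.card (G ⧸ N) := by
      haveI := Fintype.ofFinite (G ⧸ N)
      rw [show Cfsg.charDegree (χ : G → ℂ) = Cfsg.charDegree χb from CfsgLib.Char.charDegree_eq (by
        rw [← hψ, Function.comp_apply, map_one, CfsgLib.Char.irr_one_eq hχb])]
      exact CfsgLib.Char.degree_dvd_card hχb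
    exact hidx (hd.trans (hq.trans (by rw [Subgroup.index_eq_card])))
  have hinv := CfsgLib.Blk.natCast_inv_mem (M := M) hM hdeg
  refine CfsgLib.Blk.memLocalIdeal_sub ?_ ?_
  · rw [Cfsg.centralChar, hk]
    convert CfsgLib.Blk.memLocalIdeal_mul_left (natCast_mem (CfsgLib.Blk.locRing M) k)
      ((CfsgLib.Blk.natCast_memLocalIdeal_iff hM (n := p)).2 dvd_rfl) using 1
    push_cast; ring
  · rw [Cfsg.centralChar, hk, CfsgLib.Char.irr_one_eq χ.2]
    convert CfsgLib.Blk.memLocalIdeal_mul_left (mul_mem (mul_mem (natCast_mem (CfsgLib.Blk.locRing M) k)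
      (CfsgLib.Blk.irr_mem χ g)) hinv)
      ((CfsgLib.Blk.natCast_memLocalIdeal_iff hM (n := p)).2 dvd_rfl) using 1
    push_cast; ring

end Cfsg.Agent.S4626
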