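import Cfsg.Statements.S4636
import Mathlib.GroupTheory.Sylow
import Mathlib.GroupTheory.SpecificGroups.Cyclic

set_option autoImplicit false
open scoped Pointwise
open Cfsg

namespace Cfsg.Agent.S4636

/-- Let P be a nontrivial cyclic p-subgroup of the finite group G and Z its subgroup of order p. For every x outside N_G(Z), P meets its conjugate xPx⁻¹ trivially; consequently N_G(Q) ≤ N_G(Z) for every nontrivial subgroup Q of P. -/
theorem result {G : Type*} [Group G] [Finite G] (p : ℕ) [Fact p.Prime] (P : Subgroup G) (hP : IsPGroup p P) (hP1 : P ≠ ⊥) (hcyc : IsCyclic P) (Z : Subgroup G) (hZ : Z ≤ P) (hZcard : Nat.card Z = p) : (∀ x : G, x ∉ Subgroup.normalizer (Z : Set G) → P ⊓ MulAut.conj x • P = ⊥) ∧ ∀ Q : Subgroup G, Q ≤ P → Q ≠ ⊥ → Subgroup.normalizer (Q : Set G) ≤ Subgroup.normalizer (Z : Set G) := by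
  classical
  haveI := Fintype.ofFinite G
  have hp := (Fact.out : p.Prime)
  have huniq : ∀ u ∈ P, u ^ p = 1 → u ∈ Z := by
    intro u hu hup
    let S : Finset P := Finset.univ.filter fun v => v ^ p = 1
    let T : Finset P := Finset.univ.filter fun v => (v : G) ∈ Z
    have hTS : T ⊆ S := fun v hv => Finset.mem_filter.2 ⟨Finset.mem_univ _, Subtype.ext (by
      have := Subgroup.orderOf_dvd_natCard Z (Finset.mem_filter.1 hv).2
      rw [hZcard] at this
      simpa using orderOf_dvd_iff_pow_eq_one.1 this)⟩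
    have hS : S.card ≤ p := IsCyclic.card_pow_eq_one_le hp.pos
    have hT : T.card = p := by
      rw [← hZcard, ← Nat.card_congr (Subgroup.subgroupOfEquivOfLe hZ).toEquiv,
        Nat.card_eq_fintype_card, Fintype.card_subtype]
      rfl
    have : (⟨u, hu⟩ : P) ∈ T := by
      rw [Finset.eq_of_subset_of_card_le hTS (by omega)]
      exact Finset.mem_filter.2 ⟨Finset.mem_univ _, Subtype.ext (by simpa using hup)⟩
    exact (Finset.mem_filter.1 this).2
  have hgen : ∀ u ∈ Z, u ≠ 1 → Subgroup.zpowers u = Z := fun u hu hu1 =>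
    Subgroup.eq_of_le_of_card_ge (Subgroup.zpowers_le.2 hu) (by
      rw [hZcard, Nat.card_zpowers]
      have := Subgroup.orderOf_dvd_natCard Z hu
      rw [hZcard] at this
      rcases (Nat.dvd_prime hp).1 this with h | h
      · exact absurd (orderOf_eq_one_iff.1 h) hu1
      · omega)
  have hnorm : ∀ g : G, ∀ u ∈ Z, u ≠ 1 → g * u * g⁻¹ ∈ Z → g ∈ Subgroup.normalizer (Z : Set G) := by
    intro g u hu hu1 hgu
    have hmap : Z.map (MulAut.conj g).toMonoidHom = Z := by
      conv_lhs => rw [← hgen u hu hu1, MonoidHom.map_zpowers]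
      exact hgen _ hgu fun e => hu1 (by simpa using e)
    rw [Subgroup.mem_normalizer_iff]
    intro y
    conv_rhs => rw [← hmap]
    constructor
    · exact fun hy => ⟨y, hy, by simp⟩
    · rintro ⟨z, hz, e⟩
      simp only [MulEquiv.coe_toMonoidHom, MulAut.conj_apply, mul_left_inj, mul_right_inj] at e
      exact e ▸ hz
  have hex : ∀ Q : Subgroup G, Q ≤ P → Q ≠ ⊥ → ∃ u ∈ Q, u ^ p = 1 ∧ u ≠ 1 := by
    intro Q hQP hQ
    haveI : Nontrivial Q := (Subgroup.nontrivial_iff_ne_bot Q).2 hQ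
    obtain ⟨a, ha1, ha⟩ := (hP.to_le hQP).nontrivial_iff_card.1 ‹_›
    obtain ⟨u, hu⟩ := exists_prime_orderOf_dvd_card' p (show p ∣ Nat.card Q from ha ▸ dvd_pow_self p (by omega))
    refine ⟨u, u.2, ?_, fun e => ?_⟩
    · rw [← SubmonoidClass.coe_pow, ← hu, pow_orderOf_eq_one]; rfl
    · have : u = 1 := Subtype.ext e
      rw [this, orderOf_one] at hu
      exact hp.one_lt.ne hu
  refine ⟨fun x hx => ?_, fun Q hQP hQ g hg => ?_⟩
  · by_contra hne
    obtain ⟨u, hu, hup, hu1⟩ := hex _ inf_le_left hne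
    obtain ⟨huP, v, hv, hvu⟩ := hu
    have e : x * v * x⁻¹ = u := hvu
    refine hx (hnorm x v (huniq v hv ?_) (fun e1 => hu1 (by rw [← e, e1]; simp)) (e ▸ huniq u huP hup))
    rw [← e, conj_pow, mul_inv_eq_one, mul_eq_left] at hup
    exact hup
  · obtain ⟨u, hu, hup, hu1⟩ := hex Q hQP hQ
    refine hnorm g u (huniq u (hQP hu) hup) hu1 (huniq _ (hQP ((Subgroup.mem_normalizer_iff.1 hg u).1 hu)) ?_)
    rw [conj_pow, hup]; simp

end Cfsg.Agent.S4636
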