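import Cfsg.Statements.S4642
import Cfsg.Agent.Blk.PrimeCore

set_option autoImplicit false
open Cfsg

namespace Cfsg.Agent.S4642

/-- Let G be a finite group, p a prime, M a maximal ideal of the algebraic integers containing p, K the largest normal subgroup of G of order prime to p, and L the preimage in G of the largest normal p-subgroup of G/K. Let Q be a Sylow p-subgroup of L and suppose C_G(Q) ≤ L. Let θ be an irreducible character of K invariant under conjugation by every element of G, and let B be the set of irreducible characters of G whose restriction to K contains θ. Then B is a block of G, every Sylow p-subgroup of G is a defect group of B, and B is of principal type: for every p-subgroup R of G exactly one block of C_G(R) induces B. -/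
theorem result {G : Type*} [Group G] [Fintype G] (p : ℕ) [Fact p.Prime] (M : Ideal Cfsg.AlgInt) (hM : Cfsg.IsPModular p M) (K : Subgroup G) (hK : K = Cfsg.pPrimeCore p G) [Fintype K] (L : Subgroup G) (hL : L = Cfsg.pPrimePCore p G) (Q : Subgroup G) (hQL : Q ≤ L) (hQp : IsPGroup p Q) (hQS : ¬ p ∣ Q.relIndex L) (hCQ : Subgroup.centralizer (Q : Set G) ≤ L) (θ : Cfsg.IrrCharacter K) (hθ : ∀ g : G, Cfsg.IsConjCharOf K g (θ : K → ℂ) (θ : K → ℂ)) (B : Set (Cfsg.IrrCharacter G)) (hBdef : ∀ χ : Cfsg.IrrCharacter G, χ ∈ B ↔ Cfsg.classInner (fun k : K => (χ : G → ℂ) k) (θ : K → ℂ) ≠ 0) : Cfsg.IsPBlock M B ∧ (∀ S : Sylow p G, Cfsg.IsDefectGroup p M B S) ∧ ∀ R : Subgroup G, IsPGroup p R → ∃! f : Set (Cfsg.IrrCharacter (Subgroup.centralizer (R : Set G))), Cfsg.IsInducedBlock M (Subgroup.centralizer (R : Set G)) f B := by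
  classical
  haveI : M.IsPrime := hM.2.1.isPrime
  obtain ⟨hn, hle, hidx, -⟩ := CfsgLib.PrimeCore.pPrimePCore_data (G := G) (p := p)
  subst hK hL
  haveI := hn
  haveI := CfsgLib.Solv.pPrimeCore_normal G p
  have hKp : ¬ p ∣ Nat.card (Cfsg.pPrimeCore p G) := CfsgLib.Solv.not_dvd_card_pPrimeCore
  have hst := CfsgLib.PrimeCore.stable_of_invariant hM θ (fun g n => hθ g n _ rfl) hKp
  have hQ : CfsgLib.Blk.IsSylowIn p Q (Cfsg.pPrimePCore p G) := by
    refine ⟨hQL, ?_⟩
    obtain ⟨m, hm⟩ := IsPGroup.iff_card.1 hQp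
    have h1 : Q.relIndex (Cfsg.pPrimePCore p G) * Nat.card Q = Nat.card (Cfsg.pPrimePCore p G) := by
      rw [← Nat.card_congr (Subgroup.subgroupOfEquivOfLe hQL).toEquiv]
      exact Subgroup.index_mul_card _
    rw [← h1, hm, Nat.factorization_mul (fun h : Q.relIndex (Cfsg.pPrimePCore p G) = 0 => hQS (by rw [h]; exact dvd_zero p))
      (pow_ne_zero _ (Fact.out : p.Prime).ne_zero), Finsupp.add_apply,
      Nat.factorization_eq_zero_of_not_dvd hQS, (Fact.out : p.Prime).factorization_pow,
      Finsupp.single_eq_same, zero_add]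
  obtain ⟨B', hB', hbid, hmem, hS⟩ := CfsgLib.PrimeCore.one_block hM hKp θ hst hle hidx hQ
    fun g _ hg => hCQ hg
  obtain rfl : B = B' := Set.ext fun χ => (hBdef χ).trans (hmem χ).symm
  refine ⟨hB', hS, fun R hR => CfsgLib.PrimeCore.principal_type hM hKp θ hst hle hidx ?_ hB' hbid hR⟩
  intro Q' hQ' c hc
  obtain ⟨x, hx, hxe⟩ := hQ.exists_conj_eq hQ'
  have h1 : x * c * x⁻¹ ∈ Subgroup.centralizer (Q : Set G) := by
    rw [← hxe]
    rw [CfsgLib.Blk.Pair.mem_centralizer_map_conj]
    simpa [mul_assoc] using hc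
  simpa [mul_assoc] using hn.conj_mem _ (hCQ h1) x⁻¹

end Cfsg.Agent.S4642
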