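import Cfsg.Statements.S4691
import Cfsg.Agent.Blk.Pair.Principal
import Cfsg.Agent.Solv.PComplement

set_option autoImplicit false
open Cfsg

namespace Cfsg.Agent.S4691

/-- Fix a prime p and a maximal ideal M of the algebraic integers containing p. A finite group G has a normal p-complement if and only if its principal p-block is nilpotent. -/
theorem result {G : Type*} [Group G] [Fintype G] (p : ℕ) [Fact p.Prime] (M : Ideal Cfsg.AlgInt) (hM : Cfsg.IsPModular p M) : Cfsg.HasNormalPComplement p G ↔ Cfsg.IsNilpotentBlock p M (Cfsg.principalBlock M G) := by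
  haveI := CfsgLib.Blk.IsPModular.isPrime hM
  have hp : p.Prime := Fact.out
  have hreg : ∀ x : G, Nat.Coprime (orderOf x) p ↔ Cfsg.IsPRegular p x := fun x => by
    rw [Cfsg.IsPRegular, Nat.coprime_comm, hp.coprime_iff_not_dvd]
  rw [CfsgLib.Solv.hnpc_iff_frobCond]
  constructor
  · intro h
    exact ⟨⟨⟨_, CfsgLib.Char.isIrr_one⟩, rfl⟩, fun Q e hQe x hx _ hr =>
      h Q hQe.1.1 x hx ((hreg x).2 hr)⟩
  · intro h Q hQ x hx hc
    refine h.2 Q _ (CfsgLib.Blk.Pair.principal_pairOf hM hQ) x hx ?_ ((hreg x).1 hc)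
    refine (CfsgLib.Blk.Pair.stabilizesBlock_iff hM (CfsgLib.Blk.Pair.isPBlock_principal _) x).2
      ⟨CfsgLib.Blk.Pair.normalizer_le_normalizer_Cn Q hx, ?_⟩
    exact CfsgLib.Blk.Pair.fix_idA_principal le_rfl x hx

end Cfsg.Agent.S4691
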