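import Cfsg.Statements.S4646
import Cfsg.Agent.S4691
import Cfsg.Agent.Blk.Principal
import Cfsg.Agent.Blk.Defect

set_option autoImplicit false
open Cfsg

namespace Cfsg.Agent.S4646

/-- For a finite group G, a prime p and a maximal ideal M of the algebraic integers containing p: the principal block of G is nilpotent if and only if its p-regular rank is 1 (the trivial Brauer character is its only irreducible Brauer character). -/
theorem result {G : Type*} [Group G] [Finite G] (p : ℕ) [Fact p.Prime] (M : Ideal Cfsg.AlgInt) (hM : Cfsg.IsPModular p M) : Cfsg.IsNilpotentBlock p M (Cfsg.principalBlock M G) ↔ Cfsg.blockRank p (Cfsg.principalBlock M G) = 1 := by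
  classical
  haveI := hM.2.1.isPrime
  haveI := Fintype.ofFinite G
  haveI : Fintype (Cfsg.IrrCharacter G) := Fintype.ofFinite _
  have hp : p.Prime := Fact.out
  rw [← Cfsg.Agent.S4691.result p M hM]
  set B := Cfsg.principalBlock M G with hBdef
  have hB : Cfsg.IsPBlock M B := CfsgLib.Blk.isPBlock_principalBlock
  have h1B : (⟨_, CfsgLib.Char.isIrr_one⟩ : Cfsg.IrrCharacter G) ∈ B :=
    CfsgLib.Blk.one_mem_principalBlock
  set f0 : G → ℂ := Cfsg.pRegularPart p (fun _ : G => (1 : ℂ)) with hf0
  have hf0ne : f0 ≠ 0 := fun h => by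
    have := congrFun h 1
    simp [hf0, Cfsg.pRegularPart, Cfsg.IsPRegular, hp.ne_one] at this
  set V := Submodule.span ℂ
    ((fun χ : Cfsg.IrrCharacter G => Cfsg.pRegularPart p (χ : G → ℂ)) '' B) with hV
  have hf0V : f0 ∈ V := Submodule.subset_span ⟨_, h1B, rfl⟩
  constructor
  · rintro ⟨P, N, hN, hcompl⟩
    haveI := hN
    have hidx : ∃ k : ℕ, N.index = p ^ k := by
      obtain ⟨k, hk⟩ := IsPGroup.iff_card.1 P.isPGroup'
      exact ⟨k, by rw [hcompl.symm.index_eq_card, hk]⟩
    have hNp : ¬ p ∣ Nat.card N := by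
      rw [← hcompl.index_eq_card]
      exact P.not_dvd_index
    have hspan : V = Submodule.span ℂ {f0} := by
      refine le_antisymm (Submodule.span_le.2 ?_)
        (Submodule.span_le.2 (Set.singleton_subset_iff.2 hf0V))
      rintro _ ⟨χ, hχ, rfl⟩
      refine Submodule.mem_span_singleton.2 ⟨(χ : G → ℂ) 1, funext fun g => ?_⟩
      simp only [hf0, Pi.smul_apply, Cfsg.pRegularPart, smul_eq_mul]
      split_ifs with hg
      · rw [mul_one]
        exact ((CfsgLib.Blk.mem_principal_iff_of_complement hM N hNp hidx χ).1 hχ g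
          ((CfsgLib.Blk.regular_iff_mem_complement N hNp hidx g).1 hg)).symm
      · rw [mul_zero]
    show Module.finrank ℂ V = 1
    rw [hspan]
    exact finrank_span_singleton hf0ne
  · intro hr
    have hspan : Submodule.span ℂ {f0} = V := by
      refine Submodule.eq_of_le_of_finrank_eq
        (Submodule.span_le.2 (Set.singleton_subset_iff.2 hf0V)) ?_
      rw [finrank_span_singleton hf0ne]
      exact hr.symm
    have hconst : ∀ χ ∈ B, ∀ g : G, ¬ p ∣ orderOf g → (χ : G → ℂ) g = (χ : G → ℂ) 1 := by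
      intro χ hχ g hg
      have hm : Cfsg.pRegularPart p (χ : G → ℂ) ∈ Submodule.span ℂ {f0} :=
        hspan ▸ Submodule.subset_span ⟨χ, hχ, rfl⟩
      obtain ⟨c, hc⟩ := Submodule.mem_span_singleton.1 hm
      have e1 := congrFun hc g
      have e2 := congrFun hc 1
      simp [hf0, Cfsg.pRegularPart, Cfsg.IsPRegular, hg, hp.ne_one] at e1 e2
      exact e1.symm.trans e2
    choose K hK using fun χ : Cfsg.IrrCharacter G =>
      CfsgLib.Char.exists_kernel (CfsgLib.Char.isCharacter_of_isIrr χ.2)
    let K0 : Subgroup G := ⨅ χ : B, K χ.1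
    haveI : K0.Normal := Subgroup.normal_iInf_normal fun χ => (hK χ.1).1
    have hmem : ∀ g, g ∈ K0 ↔ ∀ χ ∈ B, (χ : G → ℂ) g = (χ : G → ℂ) 1 := fun g => by
      simp only [K0, Subgroup.mem_iInf, (hK _).2.1, Subtype.forall]
    have hreg : ∀ g ∈ K0, ¬ p ∣ orderOf g := by
      intro g hg hd
      have h0 := CfsgLib.Blk.blockCoeff_eq_zero_of_singular hM hB hd
      rw [Cfsg.blockCoeff, mul_eq_zero, CfsgLib.Blk.finsum_mem_eq_sum_ite] at h0
      have h2 := h0.resolve_left (inv_ne_zero (Nat.cast_ne_zero.2 Nat.card_pos.ne'))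
      rw [Finset.sum_congr rfl (g := fun χ : Cfsg.IrrCharacter G =>
          if χ ∈ B then ((Cfsg.charDegree (χ : G → ℂ) * Cfsg.charDegree (χ : G → ℂ) : ℕ) : ℂ)
          else 0) (fun χ _ => by
            split_ifs with h
            · rw [(hmem g).1 hg χ h, CfsgLib.Char.irr_one_eq χ.2]
              simp
            · rfl)] at h2
      rw [← Finset.sum_filter, ← Nat.cast_sum, Nat.cast_eq_zero, Finset.sum_eq_zero_iff] at h2
      have h3 := h2 _ (Finset.mem_filter.2 ⟨Finset.mem_univ _, h1B⟩)
      exact (mul_ne_zero (CfsgLib.Char.charDegree_pos CfsgLib.Char.isIrr_one).ne'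
        (CfsgLib.Char.charDegree_pos CfsgLib.Char.isIrr_one).ne') h3
    obtain ⟨P⟩ := (inferInstance : Nonempty (Sylow p G))
    refine ⟨P, K0, inferInstance, ?_⟩
    have hKp : ¬ p ∣ Nat.card K0 := fun hd => by
      obtain ⟨g, hg⟩ := exists_prime_orderOf_dvd_card' p hd
      exact hreg g g.2 (by rw [Subgroup.orderOf_coe, hg])
    have hidx : ∀ q : ℕ, q.Prime → q ∣ K0.index → q = p := by
      intro q hq hd
      by_contra hne
      haveI := Fact.mk hq
      obtain ⟨S⟩ := (inferInstance : Nonempty (Sylow q G))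
      have hle : (S : Subgroup G) ≤ K0 := fun g hg => (hmem g).2 fun χ hχ => hconst χ hχ g (by
        obtain ⟨k, hk⟩ := S.isPGroup' ⟨g, hg⟩
        intro hdv
        have h4 : orderOf g ∣ q ^ k := orderOf_dvd_of_pow_eq_one (by simpa using congrArg Subtype.val hk)
        exact hne ((Nat.prime_dvd_prime_iff_eq hp hq).1 (hp.dvd_of_dvd_pow (hdv.trans h4))).symm)
      exact S.not_dvd_index (hd.trans (Subgroup.index_dvd_of_le hle))
    have hcop : (Nat.card K0).Coprime (Nat.card P) := by
      obtain ⟨k, hk⟩ := IsPGroup.iff_card.1 P.isPGroup'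
      rw [hk]
      exact (Nat.Coprime.pow_left k (hp.coprime_iff_not_dvd.2 hKp)).symm
    refine Subgroup.isComplement'_of_coprime ?_ hcop
    obtain ⟨j, hj⟩ : ∃ j, K0.index = p ^ j :=
      ⟨_, Nat.eq_prime_pow_of_unique_prime_dvd Subgroup.index_ne_zero_of_finite fun {d} hd hdd =>
        hidx d hd hdd⟩
    have hcard := K0.index_mul_card
    rw [hj] at hcard
    rw [P.card_eq_multiplicity, ← hcard, Nat.factorization_mul (pow_ne_zero _ hp.ne_zero)
      Nat.card_pos.ne', Finsupp.add_apply, hp.factorization_pow, Finsupp.single_eq_same,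
      Nat.factorization_eq_zero_of_not_dvd hKp, add_zero, mul_comm]

end Cfsg.Agent.S4646
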