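import Cfsg.Statements.S4651
import Cfsg.Agent.Blk.NormalChains
import Cfsg.Agent.Blk.SubsectionSum

set_option autoImplicit false
open Cfsg

namespace Cfsg.Agent.S4651
open CfsgLib.NormalChains CfsgLib.SubsectionSum


/-- An alternating-sum identity over chains of p-subgroups (the character-count form behind the chain reformulation of Alperin's weight conjecture, which holds unconditionally for the difference k − l). Let b be a block of the finite group G relative to a maximal ideal M of the algebraic integers containing the prime p. Consider the nonempty chains s = {Q_0 < Q_1 < ⋯ < Q_m} of nontrivial p-subgroups of G in which every member is normal in the largest member; let N_G(s) be the intersection of the normalizers of the members (the stabilizer of the chain), and let b_s be the set of irreducible characters of N_G(s) lying in blocks of N_G(s) that induce b. Then #G · (k(b) − l(b)) equals the sum over all such chains s of (−1)^m · #N_G(s) · (k(b_s) − l(b_s)), where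 k counts irreducible characters and l is the p-regular rank; equivalently, k(b) − l(b) is the alternating sum of k(b_s) − l(b_s) over representatives of the conjugacy classes of such chains. -/
theorem result {G : Type*} [Group G] [Finite G] (p : ℕ) [Fact p.Prime] (M : Ideal Cfsg.AlgInt) (hM : Cfsg.IsPModular p M) (b : Set (Cfsg.IrrCharacter G)) (hb : Cfsg.IsPBlock M b) : (Nat.card G : ℤ) * ((Nat.card b : ℤ) - (Cfsg.blockRank p b : ℤ)) = ∑ᶠ s ∈ {s : Finset (Subgroup G) | s.Nonempty ∧ (∀ Q ∈ s, ∀ R ∈ s, Q ≤ R ∨ R ≤ Q) ∧ (∀ Q ∈ s, Q ≠ ⊥ ∧ IsPGroup p Q) ∧ ∃ T ∈ s, ∀ Q ∈ s, Q ≤ T ∧ T ≤ Subgroup.normalizer ((Q : Subgroup G) : Set G)}, (-1 : ℤ) ^ (s.card - 1) * (Nat.card (((⨅ Q ∈ s, Subgroup.normalizer ((Q : Subgroup G) : Set G) : Subgroup G))) : ℤ) * ((Nat.card {ψ : Cfsg.IrrCharacter (((⨅ Q ∈ s, Subgroup.normalizer ((Q : Subgroup G) : Set G) : Subgroup G))) | ∃ β : Set (Cfsg.IrrCharacter (((⨅ Q ∈ s, Subgroup.normalizer ((Q : Subgroup G) : Set G) : Subgroup G)))), ψ ∈ β ∧ Cfsg.IsInducedBlock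 M (((⨅ Q ∈ s, Subgroup.normalizer ((Q : Subgroup G) : Set G) : Subgroup G))) β b} : ℤ) - (Cfsg.blockRank p {ψ : Cfsg.IrrCharacter (((⨅ Q ∈ s, Subgroup.normalizer ((Q : Subgroup G) : Set G) : Subgroup G))) | ∃ β : Set (Cfsg.IrrCharacter (((⨅ Q ∈ s, Subgroup.normalizer ((Q : Subgroup G) : Set G) : Subgroup G)))), ψ ∈ β ∧ Cfsg.IsInducedBlock M (((⨅ Q ∈ s, Subgroup.normalizer ((Q : Subgroup G) : Set G) : Subgroup G))) β b} : ℤ)) := by
  classical
  haveI : M.IsPrime := hM.2.1.isPrime
  haveI : Fintype G := Fintype.ofFinite G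
  haveI : ∀ K : Subgroup G, Fintype K := fun K => Fintype.ofFinite _
  have hmain := CfsgLib.SubsectionSum.card_mul_eq hM hb
  have hsets : {s : Finset (Subgroup G) | s.Nonempty ∧ (∀ Q ∈ s, ∀ R ∈ s, Q ≤ R ∨ R ≤ Q) ∧
      (∀ Q ∈ s, Q ≠ ⊥ ∧ IsPGroup p Q) ∧
      ∃ T ∈ s, ∀ Q ∈ s, Q ≤ T ∧ T ≤ Subgroup.normalizer ((Q : Subgroup G) : Set G)} =
      ↑((Finset.univ : Finset (Finset (Subgroup G))).filter fun s => IsNChain p s) := by
    ext s
    rw [Finset.mem_coe, Finset.mem_filter]
    exact ⟨fun h => ⟨Finset.mem_univ _, h⟩, fun h => h.2⟩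
  rw [hsets, finsum_mem_coe_finset]
  have hloc : ∀ s : Finset (Subgroup G), IsNChain p s →
      (Nat.card (stab s) : ℤ) * ((Nat.card {ψ : Cfsg.IrrCharacter (stab s) |
          ∃ β, ψ ∈ β ∧ Cfsg.IsInducedBlock M (stab s) β b} : ℤ) -
        (Cfsg.blockRank p {ψ : Cfsg.IrrCharacter (stab s) |
          ∃ β, ψ ∈ β ∧ Cfsg.IsInducedBlock M (stab s) β b} : ℤ)) =
      ∑ u ∈ (pElts p G).filter (fun u => u ∈ stab s),
        (term M p b (stab s ⊓ Subgroup.centralizer ({u} : Set G)) : ℤ) := by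
    intro s hs
    obtain ⟨T, hT, hT'⟩ := hs.2.2.2
    have h := local_formula hM (b := b) (T := T) (N := stab s) (hs.2.2.1 T hT).2
      (fun x hx => mem_stab.2 fun Q hQ => (hT' Q hQ).2 hx)
      (fun x hx => mem_stab.2 fun Q hQ => map_conj_normalizer.2 (by
        ext y
        constructor
        · rintro ⟨z, hz, rfl⟩
          have := hx z ((hT' Q hQ).1 hz)
          simpa [← this] using hz
        · intro hy
          have := hx y ((hT' Q hQ).1 hy)
          exact ⟨y, hy, by simp [← this]⟩))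
      (fun x hx => mem_stab.1 hx T hT)
    have h' := congrArg (Nat.cast : ℕ → ℤ) h
    push_cast at h'
    linarith
  have hsum : ∀ s ∈ (Finset.univ : Finset (Finset (Subgroup G))).filter (fun s => IsNChain p s),
      (-1 : ℤ) ^ (s.card - 1) * (Nat.card (stab s) : ℤ) * ((Nat.card {ψ : Cfsg.IrrCharacter (stab s) |
          ∃ β, ψ ∈ β ∧ Cfsg.IsInducedBlock M (stab s) β b} : ℤ) -
        (Cfsg.blockRank p {ψ : Cfsg.IrrCharacter (stab s) |
          ∃ β, ψ ∈ β ∧ Cfsg.IsInducedBlock M (stab s) β b} : ℤ)) =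
      ∑ u ∈ (pElts p G).filter (fun u => u ∈ stab s),
        ((-1 : ℤ) ^ (s.card - 1)) • (term M p b (stab s ⊓ Subgroup.centralizer ({u} : Set G)) : ℤ) := by
    intro s hs
    rw [mul_assoc, hloc s (Finset.mem_filter.1 hs).2, Finset.mul_sum]
    simp only [smul_eq_mul]
  refine Eq.trans ?_ (Finset.sum_congr rfl hsum).symm
  rw [Finset.sum_comm' (t' := pElts p G)
    (s' := fun u => (Finset.univ : Finset (Finset (Subgroup G))).filter fun s => IsNChain p s ∧ u ∈ stab s)
    (fun s u => by simp only [Finset.mem_filter, Finset.mem_univ, true_and]; tauto)]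
  rw [Finset.sum_congr rfl (fun u hu => alternating_sum (mem_pElts.1 hu).2 (mem_pElts.1 hu).1
    (fun K => (term M p b K : ℤ)))]
  have hmain' := congrArg (Nat.cast : ℕ → ℤ) hmain
  push_cast at hmain'
  linarith

end Cfsg.Agent.S4651
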