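import Cfsg.Statements.S4654
import Cfsg.Agent.Blk.Pair.NormalP
import Cfsg.Agent.Blk.Pair.Sub

set_option autoImplicit false
open Cfsg

namespace Cfsg.Agent.S4654

/-- Fix a prime p and a maximal ideal M of the algebraic integers containing p. Let P be a normal p-subgroup of the finite group G, B a p-block of G and e a p-block of C_G(P) such that (P, e) is a Brauer pair of B (as P is normal, this says that e occurs in the idempotent of B, which is supported on C_G(P)). Let T be the stabilizer of e in G under conjugation. Then the idempotent of e is a block idempotent of T: some block E of T has, at every element of T, the same idempotent coefficient as e (zero off C_G(P)); and the idempotent of B is the sum of the distinct G-conjugates of the idempotent of e: its coefficient at g is the sum over all x in G of the coefficient of e at x⁻¹ g x, divided by the order of T. -/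
theorem result {G : Type*} [Group G] [Fintype G] (p : ℕ) [Fact p.Prime] (M : Ideal Cfsg.AlgInt) (hM : Cfsg.IsPModular p M) (P : Subgroup G) [P.Normal] (hP : IsPGroup p P) (B : Set (Cfsg.IrrCharacter G)) (e : Set (Cfsg.IrrCharacter (Subgroup.centralizer (P : Set G)))) (hBe : Cfsg.IsBrauerPairOf p M B P e) (T : Subgroup G) (hT : ∀ x : G, x ∈ T ↔ Cfsg.StabilizesBlock (Subgroup.centralizer (P : Set G)) e x) : (∃ E : Set (Cfsg.IrrCharacter T), Cfsg.IsPBlock M E ∧ ∀ t : T, Cfsg.blockCoeff E t = Cfsg.subgroupBlockCoeff (Subgroup.centralizer (P : Set G)) e (t : G)) ∧ ∀ g : G, Cfsg.blockCoeff B g = (Nat.card T : ℂ)⁻¹ * ∑ x : G, Cfsg.subgroupBlockCoeff (Subgroup.centralizer (P : Set G)) e (x⁻¹ * g * x) := by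
  classical
  haveI := CfsgLib.Blk.IsPModular.isPrime hM
  obtain ⟨he, hB, -⟩ := (CfsgLib.Blk.Pair.isBrauerPairOf_iff hM).1 hBe
  have hTA : ∀ x : G, x ∈ T ↔
      CfsgLib.Blk.Pair.cjA x (CfsgLib.Blk.Pair.idA M P e) = CfsgLib.Blk.Pair.idA M P e := by
    intro x
    rw [hT, CfsgLib.Blk.Pair.stabilizesBlock_iff hM he.2]
    refine and_iff_right (CfsgLib.Blk.Pair.normalizer_le_normalizer_Cn P ?_)
    rw [Subgroup.normalizer_eq_top_iff.2 (inferInstance : P.Normal)]
    exact Subgroup.mem_top x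
  obtain ⟨-, -, -, -, hfix, -⟩ := (CfsgLib.Blk.Pair.isNormalSubpair_iff hM).1
    (CfsgLib.Blk.Pair.normalSubpair_self hM he)
  have hPT : P ≤ T := fun x hx => (hTA x).2 (hfix x hx)
  have hCT : Subgroup.centralizer (P : Set G) ≤ T := fun x hx =>
    (hTA x).2 (CfsgLib.Blk.Pair.fix_Cn_inA P (CfsgLib.Blk.Pair.isClassCoeff_bid hM he.2) x hx)
  haveI : (P.subgroupOf T).Normal := Subgroup.normal_subgroupOf
  obtain ⟨E, hE, -⟩ := CfsgLib.Blk.Pair.existsUnique_block hM
    (CfsgLib.Blk.Pair.isBrauerPair_subSet hCT hPT he)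
  refine ⟨⟨E, hE.2.1, fun t => ?_⟩, CfsgLib.Blk.Pair.blockCoeff_eq_trace hM hBe T hTA⟩
  haveI : Fintype T := Fintype.ofFinite _
  have hstab : ∀ x : T, x ∈ (⊤ : Subgroup T) ↔
      CfsgLib.Blk.Pair.cjA x (CfsgLib.Blk.Pair.idA M (P.subgroupOf T)
        (CfsgLib.Blk.Pair.subSet hCT hPT e)) =
      CfsgLib.Blk.Pair.idA M (P.subgroupOf T) (CfsgLib.Blk.Pair.subSet hCT hPT e) := by
    intro x
    refine ⟨fun _ => ?_, fun _ => Subgroup.mem_top x⟩
    rw [← CfsgLib.Blk.Pair.resA_idA hCT hPT e]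
    refine MonoidAlgebra.coeff_injective (Finsupp.ext fun s => ?_)
    rw [CfsgLib.Blk.Pair.coeff_cjA, CfsgLib.Blk.coeff_resA, CfsgLib.Blk.coeff_resA]
    conv_rhs => rw [← (hTA x).1 x.2, CfsgLib.Blk.Pair.coeff_cjA]
    rfl
  have hinv : ∀ x : T, Cfsg.subgroupBlockCoeff (Subgroup.centralizer (P : Set G)) e
      ((x : G)⁻¹ * (t : G) * (x : G)) =
      Cfsg.subgroupBlockCoeff (Subgroup.centralizer (P : Set G)) e (t : G) := by
    intro x
    have hx := (hT (x : G)).1 x.2
    have hK := CfsgLib.Blk.Pair.mem_normalizer_subgroup_iff.1 hx.1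
    have h0 : CfsgLib.Blk.Pair.mvSet (CfsgLib.Blk.Pair.cjIso (x : G) hK) e = e := by
      refine CfsgLib.Blk.Pair.bid_inj hM (CfsgLib.Blk.Pair.isPBlock_mvSet _ he.2) he.2
        (CfsgLib.Blk.Pair.inA_injective _ ?_)
      rw [CfsgLib.Blk.Pair.inA_bid_mvSet]
      exact (hTA x).1 x.2
    conv_rhs => rw [← h0, CfsgLib.Blk.Pair.subgroupBlockCoeff_mvSet]
  rw [CfsgLib.Blk.Pair.blockCoeff_eq_trace hM hE ⊤ hstab t]
  rw [Subgroup.card_top]
  simp only [CfsgLib.Blk.Pair.subgroupBlockCoeff_subSet, Subgroup.coe_mul, Subgroup.coe_inv, hinv,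
    Finset.sum_const, Finset.card_univ, Nat.card_eq_fintype_card, nsmul_eq_mul]
  rw [← mul_assoc, inv_mul_cancel₀ (Nat.cast_ne_zero.2 Fintype.card_ne_zero), one_mul]

end Cfsg.Agent.S4654
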