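import Cfsg.Statements.S4661
import Cfsg.Agent.Blk.Pair.Local

set_option autoImplicit false
open Cfsg

namespace Cfsg.Agent.S4661

/-- Fix a prime p and a maximal ideal M of the algebraic integers containing p. Let (P, e) be a maximal Brauer pair of the p-block B of the finite group G, Q ≤ P, and f the p-block of C_G(Q) with (Q, f) ≤ (P, e). Then C_P(Q) is contained in a defect group of f (as a block of the group C_G(Q)); and for some x in G the conjugate pair (x Q x⁻¹, conjugate of f) again lies below (P, e) and C_P(x Q x⁻¹) is a defect group of the conjugate of f in C_G(x Q x⁻¹). -/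
theorem result {G : Type*} [Group G] [Fintype G] (p : ℕ) [Fact p.Prime] (M : Ideal Cfsg.AlgInt) (hM : Cfsg.IsPModular p M) (B : Set (Cfsg.IrrCharacter G)) (P Q : Subgroup G) (e : Set (Cfsg.IrrCharacter (Subgroup.centralizer (P : Set G)))) (f : Set (Cfsg.IrrCharacter (Subgroup.centralizer (Q : Set G)))) (hmax : Cfsg.IsMaximalBrauerPair p M B P e) (hQP : Q ≤ P) (hf : Cfsg.IsPBlock M f) (hle : Cfsg.SubpairLE p M Q f P e) : (∃ D : Subgroup (Subgroup.centralizer (Q : Set G)), Cfsg.IsDefectGroup p M f D ∧ (P ⊓ Subgroup.centralizer (Q : Set G)).subgroupOf (Subgroup.centralizer (Q : Set G)) ≤ D) ∧ ∃ x : G, Cfsg.SubpairLE p M (Q.map (MulAut.conj x).toMonoidHom) (Cfsg.conjBlock Q x f) P e ∧ Cfsg.IsDefectGroup p M (Cfsg.conjBlock Q x f) ((P ⊓ Subgroup.centralizer ((Q.map (MulAut.conj x).toMonoidHom) : Set G)).subgroupOf (Subgroup.centralizer ((Q.map (MulAut.conj x).toMonoidHom) : Set G))) := by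
  open CfsgLib.Blk CfsgLib.Blk.Pair in
  haveI := CfsgLib.Blk.IsPModular.isPrime hM
  have hb : ∀ (Q : Subgroup G) (f : Set (Cfsg.IrrCharacter (Subgroup.centralizer (Q : Set G)))),
      bid M f = resA (Cn Q) (idA M Q f) := fun Q f => (resA_inA _ _).symm
  have hC : ∀ (Q R : Subgroup G), R ≤ Cn Q → ∀ g, g ∈ Cn (Q ⊔ R) ↔ g ∈ Cn Q ∧ g ∈ Cn R :=
    fun Q R _ g => mem_Cn_sup_iff Q R g
  have hQf : Cfsg.IsBrauerPairOf p M B Q f := (pairOf_congr hM hle).1 hmax.1
  refine ⟨local_le_defectGroup hM hf (hb Q f) (Cn_le_normalizer Q) hmax.1.1 hle inf_le_left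
    inf_le_right (hC Q _ inf_le_right), ?_⟩
  obtain ⟨D, hD⟩ := exists_isDefectGroup hM hf
  obtain ⟨x, hx, hxD⟩ := local_exists_conj hM hf (hb Q f) (Cn_le_normalizer Q)
    (fix_Cn_inA Q (isClassCoeff_bid hM hf)) hmax hQf hD (hC Q _ (Subgroup.map_subtype_le D))
  refine ⟨x, hx, ?_⟩
  have hK := mem_centralizer_map_conj Q x
  have hD' : Cfsg.IsDefectGroup p M (Cfsg.conjBlock Q x f)
      (D.map (cjIso x hK).toMonoidHom) := by
    rw [conjBlock_eq_mvSet]; exact isDefectGroup_mvSet _ hD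
  refine local_isDefectGroup_of_card hM (isBrauerPair_conjBlock x hQf.1).2 (hb _ _)
    (Cn_le_normalizer _) hmax.1.1 hx inf_le_left inf_le_right (hC _ _ inf_le_right) hD' ?_
  have hsub : (D.map (Cn Q).subtype).map (MulAut.conj x).toMonoidHom ≤
      P ⊓ Cn (Q.map (MulAut.conj x).toMonoidHom) := by
    refine le_inf hxD ?_
    rintro _ ⟨_, ⟨d, _, rfl⟩, rfl⟩
    exact (hK _).2 (by simp [mul_assoc])
  have hc := Subgroup.card_le_of_le hsub
  rwa [card_map_conj, Subgroup.card_subtype,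
    ← Subgroup.card_map_of_injective (f := (cjIso x hK).toMonoidHom) (cjIso x hK).injective] at hc

end Cfsg.Agent.S4661
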