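import Cfsg.Statements.S4662
import Cfsg.Agent.Blk.Pair.Local

set_option autoImplicit false
open Cfsg

namespace Cfsg.Agent.S4662

/-- Fix a prime p and a maximal ideal M of the algebraic integers containing p. Let (P, e) be a maximal Brauer pair of the p-block B of the finite group G, Q ≤ P, and f the p-block of C_G(Q) with (Q, f) ≤ (P, e). Let T be the stabilizer of f in N_G(Q). Then the idempotent of f is a block idempotent of T, and N_P(Q) is contained in a defect group of that block of T; moreover for some x in G the conjugate pair (x Q x⁻¹, conjugate of f) again lies below (P, e) and, with T' the stabilizer of the conjugate of f in N_G(x Q x⁻¹), N_P(x Q x⁻¹) is a defect group of the block of T' whose idempotent is that of the conjugate of f. -/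
theorem result {G : Type*} [Group G] [Fintype G] (p : ℕ) [Fact p.Prime] (M : Ideal Cfsg.AlgInt) (hM : Cfsg.IsPModular p M) (B : Set (Cfsg.IrrCharacter G)) (P Q : Subgroup G) (e : Set (Cfsg.IrrCharacter (Subgroup.centralizer (P : Set G)))) (f : Set (Cfsg.IrrCharacter (Subgroup.centralizer (Q : Set G)))) (hmax : Cfsg.IsMaximalBrauerPair p M B P e) (hQP : Q ≤ P) (hf : Cfsg.IsPBlock M f) (hle : Cfsg.SubpairLE p M Q f P e) (T : Subgroup G) (hT : ∀ y : G, y ∈ T ↔ y ∈ Subgroup.normalizer (Q : Set G) ∧ Cfsg.StabilizesBlock (Subgroup.centralizer (Q : Set G)) f y) : (∃ F : Set (Cfsg.IrrCharacter T), Cfsg.IsPBlock M F ∧ (∀ t : T, Cfsg.blockCoeff F t = Cfsg.subgroupBlockCoeff (Subgroup.centralizer (Q : Set G)) f (t : G)) ∧ ∃ D : Subgroup T, Cfsg.IsDefectGroup p M F D ∧ (P ⊓ Subgroup.normalizer (Q : Set G)).subgroupOf T ≤ D) ∧ ∃ x : G, Cfsg.SubpairLE p M (Q.map (MulAut.conj x).toMonoidHom) (Cfsg.conjBlock Q x f) P e ∧ ∀ (T' : Subgroup G), (∀ y : G, y ∈ T' ↔ y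 ∈ Subgroup.normalizer ((Q.map (MulAut.conj x).toMonoidHom) : Set G) ∧ Cfsg.StabilizesBlock (Subgroup.centralizer ((Q.map (MulAut.conj x).toMonoidHom) : Set G)) (Cfsg.conjBlock Q x f) y) → ∃ F' : Set (Cfsg.IrrCharacter T'), Cfsg.IsPBlock M F' ∧ (∀ t : T', Cfsg.blockCoeff F' t = Cfsg.subgroupBlockCoeff (Subgroup.centralizer ((Q.map (MulAut.conj x).toMonoidHom) : Set G)) (Cfsg.conjBlock Q x f) (t : G)) ∧ Cfsg.IsDefectGroup p M F' ((P ⊓ Subgroup.normalizer ((Q.map (MulAut.conj x).toMonoidHom) : Set G)).subgroupOf T') := by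
  open CfsgLib.Blk CfsgLib.Blk.Pair in
  haveI := CfsgLib.Blk.IsPModular.isPrime hM
  have hQf : Cfsg.IsBrauerPairOf p M B Q f := (pairOf_congr hM hle).1 hmax.1
  obtain ⟨⟨hQT, hCT, hfix⟩, F, hF, hFc⟩ := stabilizer_block hM hQf.1 T hT
  have hFb : bid M F = resA T (idA M Q f) := bid_eq_resA_of_sbc hFc
  have hTN : T ≤ Subgroup.normalizer (Q : Set G) := fun y hy => ((hT y).1 hy).1
  have hP : P ⊓ Subgroup.normalizer (Q : Set G) ≤ T := fun y hy => by
    obtain ⟨k, hk, hkle⟩ := exists_subpair hM P hmax.1.1 (Q := P ⊓ Subgroup.normalizer (Q : Set G))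
      inf_le_left
    have hn := normalSubpair_of_le hM hk
      (subpair_between hM hk (le_inf hQP Subgroup.le_normalizer) hle hkle) inf_le_right
    exact (hT y).2 ⟨(Subgroup.mem_inf.1 hy).2, hn.2.2.2.2.1 y hy⟩
  refine ⟨⟨F, hF, hFc, local_le_defectGroup hM hF hFb hTN hmax.1.1 hle inf_le_left hP
    (hC_stabilizer hCT (le_inf hQP Subgroup.le_normalizer))⟩, ?_⟩
  obtain ⟨D, hD⟩ := exists_isDefectGroup hM hF
  obtain ⟨x, hx, hxD⟩ := local_exists_conj hM hF hFb hTN hfix hmax hQf hD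
    (hC_stabilizer hCT (le_defectGroup_stabilizer hM hF hQf.1.1 hQT hTN hD))
  refine ⟨x, hx, fun T' hT' => ?_⟩
  have hK : ∀ g, g ∈ T' ↔ x⁻¹ * g * x ∈ T := fun g => by
    rw [hT', mem_stabilizer_conjBlock hM x hQf.1, hT]
  have hQf' := isBrauerPair_conjBlock x hQf.1
  obtain ⟨⟨hQT', hCT', -⟩, F', hF', hF'c⟩ := stabilizer_block hM hQf' T' hT'
  refine ⟨F', hF', hF'c, ?_⟩
  have hFF : F' = mvSet (cjIso x hK) F := by
    refine bid_inj hM hF' (isPBlock_mvSet _ hF) (MonoidAlgebra.coeff_injective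
      (Finsupp.ext fun t => ?_))
    obtain ⟨s, rfl⟩ := (cjIso x hK).surjective t
    rw [coeff_bid_mvSet, coeff_bid, coeff_bid, hFc, hF'c, conjBlock_eq_mvSet,
      subgroupBlockCoeff_mvSet, coe_cjIso]
    congr 2
    group
  have hD' : Cfsg.IsDefectGroup p M F' (D.map (cjIso x hK).toMonoidHom) :=
    hFF ▸ isDefectGroup_mvSet _ hD
  have hTN' : T' ≤ Subgroup.normalizer
      ((Q.map (MulAut.conj x).toMonoidHom : Subgroup G) : Set G) := fun y hy => ((hT' y).1 hy).1
  have hle' := subpairLE_le hx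
  have hP' : P ⊓ Subgroup.normalizer ((Q.map (MulAut.conj x).toMonoidHom : Subgroup G) : Set G) ≤
      T' := fun y hy => by
    obtain ⟨k, hk, hkle⟩ := exists_subpair hM P hmax.1.1
      (Q := P ⊓ Subgroup.normalizer ((Q.map (MulAut.conj x).toMonoidHom : Subgroup G) : Set G))
      inf_le_left
    have hn := normalSubpair_of_le hM hk
      (subpair_between hM hk (le_inf hle' Subgroup.le_normalizer) hx hkle) inf_le_right
    exact (hT' y).2 ⟨(Subgroup.mem_inf.1 hy).2, hn.2.2.2.2.1 y hy⟩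
  refine local_isDefectGroup_of_card hM hF' (bid_eq_resA_of_sbc hF'c) hTN' hmax.1.1 hx inf_le_left
    hP' (hC_stabilizer hCT' (le_inf hle' Subgroup.le_normalizer)) hD' ?_
  have hsub : (D.map T.subtype).map (MulAut.conj x).toMonoidHom ≤
      P ⊓ Subgroup.normalizer ((Q.map (MulAut.conj x).toMonoidHom : Subgroup G) : Set G) := by
    refine le_inf hxD ?_
    rintro _ ⟨_, ⟨d, _, rfl⟩, rfl⟩
    exact hTN' ((hK _).2 (by simp [mul_assoc]))
  have hc := Subgroup.card_le_of_le hsub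
  rwa [card_map_conj, Subgroup.card_subtype,
    ← Subgroup.card_map_of_injective (f := (cjIso x hK).toMonoidHom) (cjIso x hK).injective] at hc

end Cfsg.Agent.S4662
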