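import Cfsg.Statements.S4664
import Cfsg.Agent.Blk.Defect

set_option autoImplicit false
open Cfsg

namespace Cfsg.Agent.S4664
open scoped CfsgLib.Char


/-- Fix a prime p and a maximal ideal M of the algebraic integers containing p, and let B be a p-block of the finite group G. Let m be the p'-part of the order of G and η = exp(2πi/m). Then every coefficient of the idempotent of B lies in the cyclotomic field ℚ(η). -/
theorem result {G : Type*} [Group G] [Fintype G] (p : ℕ) [Fact p.Prime] (M : Ideal Cfsg.AlgInt) (hM : Cfsg.IsPModular p M) (B : Set (Cfsg.IrrCharacter G)) (hB : Cfsg.IsPBlock M B) (g : G) : Cfsg.blockCoeff B g ∈ IntermediateField.adjoin ℚ ({Complex.exp (2 * Real.pi * Complex.I / ((Nat.card G / p ^ (Nat.card G).factorization p : ℕ) : ℂ))} : Set ℂ) := by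
  classical
  haveI := hM.2.1.isPrime
  haveI : Fact p.Prime := inferInstance
  by_cases hg : p ∣ orderOf g
  · rw [CfsgLib.Blk.blockCoeff_eq_zero_of_singular hM hB hg]
    exact zero_mem _
  set m := Nat.card G / p ^ (Nat.card G).factorization p with hm
  set K := IntermediateField.adjoin ℚ ({Complex.exp (2 * Real.pi * Complex.I / (m : ℂ))} : Set ℂ)
  have hdvd : orderOf g ∣ m := Nat.Coprime.dvd_of_dvd_mul_left
    (Nat.Coprime.pow_right _ (((Fact.out : p.Prime).coprime_iff_not_dvd.2 hg).symm))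
    (by rw [hm, Nat.ordProj_mul_ordCompl_eq_self]; exact orderOf_dvd_natCard g)
  have hm0 : m ≠ 0 := fun h => Nat.card_pos.ne' (by
    rw [← Nat.ordProj_mul_ordCompl_eq_self (Nat.card G) p, ← hm, h, mul_zero] : Nat.card G = 0)
  haveI : NeZero m := ⟨hm0⟩
  have hchar : ∀ ψ : Cfsg.IrrCharacter G, ∀ x : G, orderOf x ∣ m → (ψ : G → ℂ) x ∈ K := by
    intro ψ x hx
    obtain ⟨d, ρ, hρ⟩ := CfsgLib.Char.isCharacter_of_isIrr ψ.2
    obtain ⟨ζ, hζ, -, hsum, -⟩ := CfsgLib.Char.exists_roots ρ x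
    rw [← hρ, hsum]
    refine sum_mem fun i _ => ?_
    obtain ⟨c, hc⟩ := hx
    obtain ⟨j, -, hj⟩ := (Complex.isPrimitiveRoot_exp m hm0).eq_pow_of_pow_eq_one
      (show ζ i ^ m = 1 by rw [hc, pow_mul, hζ, one_pow])
    rw [← hj]
    exact pow_mem (IntermediateField.subset_adjoin ℚ _ (Set.mem_singleton _)) _
  rw [Cfsg.blockCoeff, finsum_mem_eq_finite_toFinset_sum _ B.toFinite]
  refine mul_mem (inv_mem (natCast_mem K _)) (sum_mem fun χ _ => ?_)
  rw [← CfsgLib.Char.char_conj_eq (CfsgLib.Char.isCharacter_of_isIrr χ.2)]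
  exact mul_mem (hchar χ 1 (by simp)) (hchar χ g⁻¹ (by rwa [orderOf_inv]))

end Cfsg.Agent.S4664
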