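import Cfsg.Statements.S4665
import Cfsg.Agent.Blk.RegExpand
import Cfsg.Agent.Blk.Core

set_option autoImplicit false
open Cfsg

namespace Cfsg.Agent.S4665
open scoped CfsgLib.Char


/-- Fix a prime p, a maximal ideal M of the algebraic integers containing p, and a p-block B of the finite group G, and let p^a be the p-part of the order of G. Let χ be an integer combination of the irreducible characters in B. If the function that agrees with χ on p-regular elements and vanishes on p-singular elements is again an integer combination of the irreducible characters in B, then p^a divides χ(1). -/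
theorem result {G : Type*} [Group G] [Fintype G] (p : ℕ) [Fact p.Prime] (M : Ideal Cfsg.AlgInt) (hM : Cfsg.IsPModular p M) (B : Set (Cfsg.IrrCharacter G)) (hB : Cfsg.IsPBlock M B) (χ : G → ℂ) (hχ : (∃ n : Cfsg.IrrCharacter G → ℤ, ∀ g : G, χ g = ∑ᶠ ψ ∈ B, (n ψ : ℂ) * (ψ : G → ℂ) g)) (h0 : (∃ n : Cfsg.IrrCharacter G → ℤ, ∀ g : G, Cfsg.pRegularPart p χ g = ∑ᶠ ψ ∈ B, (n ψ : ℂ) * (ψ : G → ℂ) g)) : ∃ k : ℤ, χ 1 = (p ^ (Nat.card G).factorization p : ℂ) * k := by
  classical
  haveI := hM.2.1.isPrime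
  obtain ⟨n, hn⟩ := h0
  simp only [CfsgLib.Blk.finsum_mem_eq_sum_ite] at hn
  have hgen : Cfsg.IsGeneralizedCharacter G (Cfsg.pRegularPart p χ) := by
    rw [show Cfsg.pRegularPart p χ = ∑ ψ : Cfsg.IrrCharacter G,
      ((if ψ ∈ B then n ψ else 0 : ℤ) : ℂ) • (ψ : G → ℂ) from funext fun g => by
        rw [hn g, Finset.sum_apply]
        exact Finset.sum_congr rfl fun ψ _ => by split_ifs <;> simp]
    refine CfsgLib.Char.isGeneralized_iff.2 ⟨?_, fun θ => ⟨if θ ∈ B then n θ else 0, ?_⟩⟩
    · intro g h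
      simp only [Finset.sum_apply, Pi.smul_apply]
      exact Finset.sum_congr rfl fun ψ _ => by rw [CfsgLib.Char.classFun_of_irr ψ.2 g h]
    · rw [CfsgLib.Char.classInner_sum_left, Finset.sum_eq_single θ]
      · rw [CfsgLib.Char.classInner_smul_left, CfsgLib.Char.irr_inner_self θ.2, mul_one]
      · intro ψ _ hne
        rw [CfsgLib.Char.classInner_smul_left,
          CfsgLib.Char.irr_inner_ne ψ.2 θ.2 (fun e => hne (Subtype.ext e)), mul_zero]
      · simp
  obtain ⟨k, hk⟩ := CfsgLib.Blk.exists_one_eq_of_vanishing (p := p) hgen fun g hg => by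
    rw [CfsgLib.Blk.pRegularPart_eq]; exact if_pos hg
  refine ⟨k, ?_⟩
  rw [CfsgLib.Blk.pRegularPart_eq, CfsgLib.Blk.regPart, orderOf_one,
    if_neg (Fact.out : p.Prime).not_dvd_one] at hk
  exact hk

end Cfsg.Agent.S4665
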