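import Cfsg.Statements.S4666
import Cfsg.Agent.Blk.RegExpand
import Cfsg.Agent.Blk.Core

set_option autoImplicit false
open Cfsg

namespace Cfsg.Agent.S4666
open scoped CfsgLib.Char


/-- Fix a prime p and a maximal ideal M of the algebraic integers containing p, and a p-block B of the finite group G of defect d. For every integer combination χ of the irreducible characters in B, p^d times the function that agrees with χ on p-regular elements and vanishes elsewhere is again an integer combination of the irreducible characters in B. -/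
theorem result {G : Type*} [Group G] [Fintype G] (p : ℕ) [Fact p.Prime] (M : Ideal Cfsg.AlgInt) (hM : Cfsg.IsPModular p M) (B : Set (Cfsg.IrrCharacter G)) (hB : Cfsg.IsPBlock M B) (χ : G → ℂ) (hχ : (∃ n : Cfsg.IrrCharacter G → ℤ, ∀ g : G, χ g = ∑ᶠ ψ ∈ B, (n ψ : ℂ) * (ψ : G → ℂ) g)) : (∃ n : Cfsg.IrrCharacter G → ℤ, ∀ g : G, (p ^ Cfsg.blockDefect p B : ℂ) * Cfsg.pRegularPart p χ g = ∑ᶠ ψ ∈ B, (n ψ : ℂ) * (ψ : G → ℂ) g) := by
  classical
  haveI := hM.2.1.isPrime
  obtain ⟨n, hn⟩ := hχ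
  simp only [CfsgLib.Blk.finsum_mem_eq_sum_ite] at hn ⊢
  choose! a h0 hsum _h using fun (ψ : Cfsg.IrrCharacter G) (hψ : ψ ∈ B) =>
    CfsgLib.Blk.exists_int_regPart hM hB hψ
  refine ⟨fun θ => ∑ ψ ∈ Finset.univ.filter (· ∈ B), n ψ * a ψ θ, fun g => ?_⟩
  have hreg : Cfsg.pRegularPart p χ g =
      ∑ ψ ∈ Finset.univ.filter (· ∈ B), (n ψ : ℂ) * CfsgLib.Blk.regPart p (ψ : G → ℂ) g := by
    rw [CfsgLib.Blk.pRegularPart_eq]
    simp only [CfsgLib.Blk.regPart, Finset.sum_filter, hn g]
    split_ifs with h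
    · simp
    · rfl
  rw [hreg, Finset.mul_sum]
  calc ∑ ψ ∈ Finset.univ.filter (· ∈ B),
        (p : ℂ) ^ Cfsg.blockDefect p B * ((n ψ : ℂ) * CfsgLib.Blk.regPart p (ψ : G → ℂ) g)
      = ∑ ψ ∈ Finset.univ.filter (· ∈ B), ∑ θ, (n ψ : ℂ) * (a ψ θ : ℂ) * (θ : G → ℂ) g := by
        refine Finset.sum_congr rfl fun ψ hψ => ?_
        have := congrFun (hsum ψ (Finset.mem_filter.1 hψ).2) g
        simp only [Pi.smul_apply, Finset.sum_apply, smul_eq_mul] at this
        rw [mul_left_comm, this, Finset.mul_sum]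
        simp only [mul_assoc]
    _ = _ := by
        rw [Finset.sum_comm]
        refine Finset.sum_congr rfl fun θ _ => ?_
        split_ifs with hθ
        · rw [Int.cast_sum, Finset.sum_mul]
          exact Finset.sum_congr rfl fun ψ _ => by push_cast; ring
        · exact Finset.sum_eq_zero fun ψ hψ => by
            rw [h0 ψ (Finset.mem_filter.1 hψ).2 θ hθ]; simp

end Cfsg.Agent.S4666
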