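import Cfsg.Statements.S4667
import Cfsg.Agent.Blk.RegExpand
import Cfsg.Agent.Blk.Core

set_option autoImplicit false
open Cfsg

namespace Cfsg.Agent.S4667
open scoped CfsgLib.Char


/-- Fix a prime p and a maximal ideal M of the algebraic integers containing p, and a p-block B of the finite group G. The p-regular rank of B (the number of irreducible Brauer characters in B) times the order of G equals the sum over the p-regular elements x of G of Σ_{χ ∈ B} χ(x) χ(x⁻¹) (written with the restriction of χ to p-regular elements, which vanishes at p-singular x). -/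
theorem result {G : Type*} [Group G] [Fintype G] (p : ℕ) [Fact p.Prime] (M : Ideal Cfsg.AlgInt) (hM : Cfsg.IsPModular p M) (B : Set (Cfsg.IrrCharacter G)) (hB : Cfsg.IsPBlock M B) : (Nat.card G : ℂ) * (Cfsg.blockRank p B : ℂ) = ∑ x : G, ∑ᶠ χ ∈ B, Cfsg.pRegularPart p (χ : G → ℂ) x * (χ : G → ℂ) x⁻¹ := by
  classical
  haveI := hM.2.1.isPrime
  set V := Submodule.span ℂ ((fun χ : Cfsg.IrrCharacter G => Cfsg.pRegularPart p (χ : G → ℂ)) '' B)
  let φ : Cfsg.IrrCharacter G → ((G → ℂ) →ₗ[ℂ] ℂ) := fun χ =>
    { toFun := fun f => Cfsg.classInner f (χ : G → ℂ)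
      map_add' := fun f f' => CfsgLib.Char.classInner_add_left f f' _
      map_smul' := fun c f => CfsgLib.Char.classInner_smul_left c f _ }
  let Q : (G → ℂ) →ₗ[ℂ] (G → ℂ) := ∑ χ : Cfsg.IrrCharacter G,
    if χ ∈ B then (φ χ).smulRight (Cfsg.pRegularPart p (χ : G → ℂ)) else 0
  have hQ : ∀ f, Q f = ∑ χ : Cfsg.IrrCharacter G,
      if χ ∈ B then Cfsg.classInner f (χ : G → ℂ) • Cfsg.pRegularPart p (χ : G → ℂ) else 0 := by
    intro f
    rw [LinearMap.sum_apply]
    refine Finset.sum_congr rfl fun χ _ => ?_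
    split_ifs <;> simp [φ]
  have hproj : LinearMap.IsProj V Q := by
    refine ⟨fun f => ?_, fun f hf => ?_⟩
    · rw [hQ]
      refine Submodule.sum_mem _ fun χ _ => ?_
      split_ifs with h
      · exact Submodule.smul_mem _ _ (Submodule.subset_span ⟨χ, h, rfl⟩)
      · exact zero_mem _
    · induction hf using Submodule.span_induction with
      | zero => exact map_zero Q
      | add a b _ _ ha hb => rw [map_add, ha, hb]
      | smul c a _ ha => rw [map_smul, ha]
      | mem f hf =>
        obtain ⟨θ, hθ, rfl⟩ := hf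
        simp only [CfsgLib.Blk.pRegularPart_eq] at hQ ⊢
        rw [hQ]
        have h1 := CfsgLib.Blk.regPart_eq_sum (p := p) θ
        funext g
        rw [Finset.sum_apply]
        by_cases hg : p ∣ orderOf g
        · rw [Finset.sum_eq_zero fun χ _ => by split_ifs <;> simp [CfsgLib.Blk.regPart, hg]]
          simp [CfsgLib.Blk.regPart, hg]
        · conv_rhs => rw [h1, Finset.sum_apply]
          refine Finset.sum_congr rfl fun χ _ => ?_
          split_ifs with h
          · simp [CfsgLib.Blk.regPart, hg]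
          · rw [CfsgLib.Blk.inner_regPart_eq_zero_of_notMem hM hB hθ h]; simp
  have htr := hproj.trace
  have hrk : (Cfsg.blockRank p B : ℂ) = LinearMap.trace ℂ (G → ℂ) Q := htr.symm
  rw [hrk, map_sum, Finset.mul_sum]
  simp only [CfsgLib.Blk.finsum_mem_eq_sum_ite]
  rw [Finset.sum_comm]
  refine Finset.sum_congr rfl fun χ _ => ?_
  split_ifs with h
  · rw [LinearMap.trace_smulRight]
    simp only [φ, LinearMap.coe_mk, AddHom.coe_mk, CfsgLib.Char.classInner_def]
    rw [← mul_assoc, mul_inv_cancel₀ (CfsgLib.Char.natCard_ne_zero G), one_mul]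
    exact Finset.sum_congr rfl fun g _ => by
      rw [CfsgLib.Char.char_conj_eq (CfsgLib.Char.isCharacter_of_isIrr χ.2)]
  · simp

end Cfsg.Agent.S4667
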