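import Cfsg.Statements.S4668
import Cfsg.Agent.Blk.Pair.NormalP
import Cfsg.Agent.Solv.CoprimeAction

set_option autoImplicit false
open Cfsg

namespace Cfsg.Agent.S4668

/-- Fix a prime p and a maximal ideal M of the algebraic integers containing p. Let Q₀ < Q₁ < ⋯ < Q_m be a strictly increasing chain of p-subgroups of the finite group G and N the intersection of their normalizers. Then every block idempotent of N is supported on C_G(Q_m): for every p-block E of N, the idempotent coefficient of E vanishes at every element of N outside C_G(Q_m). -/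
theorem result {G : Type*} [Group G] [Fintype G] (p : ℕ) [Fact p.Prime] (M : Ideal Cfsg.AlgInt) (hM : Cfsg.IsPModular p M) (m : ℕ) (Q : Fin (m + 1) → Subgroup G) (hQ : StrictMono Q) (hQp : ∀ i, IsPGroup p (Q i)) (N : Subgroup G) (hN : ∀ g : G, g ∈ N ↔ ∀ i, g ∈ Subgroup.normalizer (Q i : Set G)) (E : Set (Cfsg.IrrCharacter N)) (hE : Cfsg.IsPBlock M E) (n : N) (hn : (n : G) ∉ Subgroup.centralizer (Q (Fin.last m) : Set G)) : Cfsg.blockCoeff E n = 0 := by
  classical
  haveI := hM.2.1.isPrime
  by_contra h0
  refine hn ?_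
  have hreg : ¬ p ∣ orderOf n := fun h =>
    h0 (CfsgLib.Blk.blockCoeff_eq_zero_of_singular hM hE h)
  have hlow : ∀ i, ∀ y ∈ Q i, y ∈ N → y * (n : G) = (n : G) * y := by
    intro i
    haveI : ((Q i).subgroupOf N).Normal :=
      Subgroup.normal_subgroupOf_of_le_normalizer fun g hg => (hN g).1 hg i
    have hR : IsPGroup p ((Q i).subgroupOf N) :=
      (hQp i).comap_of_injective N.subtype N.subtype_injective
    have hnR : n ∈ Subgroup.centralizer (((Q i).subgroupOf N : Subgroup N) : Set N) := by
      by_contra h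
      exact h0 (CfsgLib.Blk.Pair.blockCoeff_eq_zero_of_notMem hM hR hE h)
    exact fun y hy hyN => congrArg Subtype.val (hnR ⟨y, hyN⟩ hy)
  have hpre : ∀ i j, i ≤ j → Q i ≤ Subgroup.normalizer (Q j : Set G) := fun i j hij =>
    (hQ.monotone hij).trans Subgroup.le_normalizer
  suffices key : ∀ i : Fin (m + 1), (n : G) ∈ Subgroup.centralizer (Q i : Set G) from key _
  intro i
  induction i using Fin.induction with
  | zero =>
    intro y hy
    exact hlow 0 y hy ((hN y).2 fun j => hpre 0 j (Fin.zero_le j) hy)
  | succ i ih =>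
    have hle : Q i.castSucc ≤ Q i.succ := hQ.monotone i.castSucc_le_succ
    have hcop : (Nat.card (Subgroup.zpowers (n : G))).Coprime p := by
      rw [Nat.card_zpowers, Subgroup.orderOf_coe]
      exact ((Fact.out : p.Prime).coprime_iff_not_dvd.2 hreg).symm
    refine CfsgLib.Solv.thompson_pq (P := Q i.castSucc) (Q := Subgroup.zpowers (n : G)) (hQp _)
      hcop ?_ (Q i.succ) (hQp _) (hle.trans Subgroup.le_normalizer) ?_ ?_
      (Subgroup.mem_zpowers _)
    · intro y hy
      rw [Subgroup.mem_centralizer_iff]
      rintro z ⟨k, rfl⟩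
      exact ((show Commute y (n : G) from ih y hy).zpow_right k).eq.symm
    · rw [Subgroup.zpowers_le]
      exact (hN _).1 n.2 _
    · rintro y ⟨hy, hyc⟩
      have hyN : y ∈ N := (hN y).2 fun j => by
        rcases le_or_gt j i.castSucc with hji | hji
        · exact Subgroup.centralizer_le_normalizer _ fun z hz => hyc z (hQ.monotone hji hz)
        · exact hpre i.succ j (Fin.castSucc_lt_iff_succ_le.1 hji) hy
      rw [Subgroup.mem_centralizer_iff]
      rintro z ⟨k, rfl⟩
      exact ((show Commute y (n : G) from hlow _ y hy hyN).zpow_right k).eq.symm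

end Cfsg.Agent.S4668
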