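import Cfsg.Statements.S4675
import Cfsg.Agent.Blk.RegExpand
import Cfsg.Agent.Blk.Core

set_option autoImplicit false
open Cfsg

namespace Cfsg.Agent.S4675
open scoped CfsgLib.Char


/-- Fix a prime p and a maximal ideal M of the algebraic integers containing p. Let B be a p-block of the finite group G with defect group P and p-regular rank one (a single irreducible Brauer character). Then there are a function φ on G that is, on the p-regular elements, an integer combination of the members of B, and natural numbers d_χ (χ ∈ B), such that every χ ∈ B agrees with d_χ·φ on the p-regular elements and Σ_{χ ∈ B} d_χ² equals the order of P (the single Cartan invariant of B is the order of P). -/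
theorem result {G : Type*} [Group G] [Fintype G] (p : ℕ) [Fact p.Prime] (M : Ideal Cfsg.AlgInt) (hM : Cfsg.IsPModular p M) (B : Set (Cfsg.IrrCharacter G)) (hB : Cfsg.IsPBlock M B) (P : Subgroup G) (hP : Cfsg.IsDefectGroup p M B P) (hl : Cfsg.blockRank p B = 1) : ∃ φ : G → ℂ, ∃ d : Cfsg.IrrCharacter G → ℕ, (∃ n : Cfsg.IrrCharacter G → ℤ, ∀ x : G, Cfsg.IsPRegular p x → φ x = ∑ᶠ ψ ∈ B, (n ψ : ℂ) * (ψ : G → ℂ) x) ∧ (∀ χ ∈ B, ∀ x : G, Cfsg.IsPRegular p x → (χ : G → ℂ) x = (d χ : ℂ) * φ x) ∧ ∑ᶠ χ ∈ B, d χ ^ 2 = Nat.card P := by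
  classical
  haveI := hM.2.1.isPrime
  have hp : p.Prime := Fact.out
  have hp1 : ¬ p ∣ orderOf (1 : G) := by rw [orderOf_one]; exact hp.not_dvd_one
  set S := Finset.univ.filter (fun χ : Cfsg.IrrCharacter G => χ ∈ B) with hSdef
  have hS : ∀ χ, χ ∈ S ↔ χ ∈ B := fun χ => by simp [hSdef]
  obtain ⟨θ, hθ⟩ := CfsgLib.Blk.isPBlock_nonempty hB
  let r : Cfsg.IrrCharacter G → (G → ℂ) := fun χ => CfsgLib.Blk.regPart p (χ : G → ℂ)
  have hr1 : ∀ χ : Cfsg.IrrCharacter G, r χ 1 = (χ : G → ℂ) 1 := fun χ => if_neg hp1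
  have hprop : ∀ χ ∈ B, (θ : G → ℂ) 1 • r χ = (χ : G → ℂ) 1 • r θ := by
    intro χ hχ
    have hmem : ∀ χ ∈ B, r χ ∈ Submodule.span ℂ
        ((fun χ : Cfsg.IrrCharacter G => Cfsg.pRegularPart p (χ : G → ℂ)) '' B) := fun χ hχ =>
      Submodule.subset_span ⟨χ, hχ, CfsgLib.Blk.pRegularPart_eq _⟩
    obtain ⟨v, -, hv⟩ := (finrank_eq_one_iff' (K := ℂ)).1 hl
    obtain ⟨a, ha⟩ := hv ⟨r χ, hmem χ hχ⟩
    obtain ⟨b, hb⟩ := hv ⟨r θ, hmem θ hθ⟩
    have ha' : r χ = a • (v : G → ℂ) := (congrArg Subtype.val ha).symm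
    have hb' : r θ = b • (v : G → ℂ) := (congrArg Subtype.val hb).symm
    have ea : (χ : G → ℂ) 1 = a * (v : G → ℂ) 1 := by rw [← hr1, ha']; rfl
    have eb : (θ : G → ℂ) 1 = b * (v : G → ℂ) 1 := by rw [← hr1, hb']; rfl
    rw [ha', hb', smul_smul, smul_smul, ea, eb]
    congr 1; ring
  set gd := S.gcd (fun χ => (Cfsg.charDegree (χ : G → ℂ) : ℤ)) with hgd
  have hgdvd : ∀ χ ∈ B, gd ∣ (Cfsg.charDegree (χ : G → ℂ) : ℤ) := fun χ hχ =>
    Finset.gcd_dvd ((hS χ).2 hχ)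
  have hgd0 : gd ≠ 0 := fun h => by
    have h1 := hgdvd θ hθ
    rw [h, zero_dvd_iff] at h1
    exact (CfsgLib.Char.charDegree_pos θ.2).ne' (by exact_mod_cast h1)
  have hgnn : 0 ≤ gd := Int.nonneg_of_normalize_eq_self (Finset.normalize_gcd)
  choose! e he using hgdvd
  have he0 : ∀ χ ∈ B, 0 ≤ e χ := fun χ hχ => by
    by_contra hneg
    have h1 : gd * e χ < 0 := mul_neg_of_pos_of_neg (lt_of_le_of_ne hgnn (Ne.symm hgd0)) (not_le.1 hneg)
    rw [← he χ hχ] at h1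
    omega
  obtain ⟨n, hn⟩ := Finset.gcd_eq_sum_mul (R := ℤ) S (fun χ => (Cfsg.charDegree (χ : G → ℂ) : ℤ))
  let φ : G → ℂ := fun x => ∑ χ ∈ S, (n χ : ℂ) * (χ : G → ℂ) x
  have hgdC : (gd : ℂ) ≠ 0 := Int.cast_ne_zero.2 hgd0
  have hθ0 := CfsgLib.Char.irr_one_ne_zero θ.2
  have hdegC : ∀ χ ∈ B, (χ : G → ℂ) 1 = (gd : ℂ) * (e χ : ℂ) := fun χ hχ => by
    rw [CfsgLib.Char.irr_one_eq χ.2, ← Int.cast_natCast, he χ hχ, Int.cast_mul]
  have hreg : ∀ χ ∈ B, r χ = (e χ : ℂ) • CfsgLib.Blk.regPart p φ := by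
    intro χ hχ
    have hφ : (θ : G → ℂ) 1 • CfsgLib.Blk.regPart p φ = (gd : ℂ) • r θ := by
      funext x
      simp only [r, CfsgLib.Blk.regPart, φ, Pi.smul_apply, smul_eq_mul]
      split_ifs with hx
      · simp
      · rw [show gd = _ from hn, Finset.mul_sum, Int.cast_sum, Finset.sum_mul]
        refine Finset.sum_congr rfl fun ψ hψ => ?_
        have h1 := congrFun (hprop ψ ((hS ψ).1 hψ)) x
        simp only [r, CfsgLib.Blk.regPart, Pi.smul_apply, smul_eq_mul, if_neg hx] at h1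
        rw [CfsgLib.Char.irr_one_eq ψ.2] at h1
        push_cast
        linear_combination (n ψ : ℂ) * h1
    refine smul_right_injective (G → ℂ) hθ0 ?_
    show (θ : G → ℂ) 1 • r χ = (θ : G → ℂ) 1 • (e χ : ℂ) • CfsgLib.Blk.regPart p φ
    rw [smul_comm ((θ : G → ℂ) 1) (e χ : ℂ), hφ, hprop χ hχ, smul_smul, hdegC χ hχ, mul_comm]
  choose! a ha0 hasum ha using fun (χ : Cfsg.IrrCharacter G) (hχ : χ ∈ B) =>
    CfsgLib.Blk.exists_int_regPart hM hB hχ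
  set d := Cfsg.blockDefect p B with hd
  let s : Cfsg.IrrCharacter G → ℂ := fun ψ =>
    (p : ℂ) ^ d * Cfsg.classInner (CfsgLib.Blk.regPart p φ) (ψ : G → ℂ)
  have has : ∀ χ ∈ B, ∀ ψ, (a χ ψ : ℂ) = (e χ : ℂ) * s ψ := fun χ hχ ψ => by
    rw [ha χ hχ ψ]
    show _ * Cfsg.classInner (r χ) _ = _
    rw [hreg χ hχ, CfsgLib.Char.classInner_smul_left]
    ring
  have hsym : ∀ χ ∈ B, ∀ ψ ∈ B, (a χ ψ : ℂ) = (a ψ χ : ℂ) := fun χ hχ ψ hψ => by
    have h1 := congrArg (starRingEnd ℂ) (ha χ hχ ψ)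
    rw [map_intCast, map_mul, map_pow, Complex.conj_natCast, ← CfsgLib.Blk.inner_regPart_conj] at h1
    rw [h1, ha ψ hψ χ]
  have hone : ∑ ψ ∈ S, s ψ * (e ψ : ℂ) = (p : ℂ) ^ d := by
    obtain ⟨χ, hχ, hχe⟩ : ∃ χ ∈ B, (e χ : ℂ) ≠ 0 := ⟨θ, hθ, fun h => hθ0 (by rw [hdegC θ hθ, h, mul_zero])⟩
    have h1 := congrFun (hasum χ hχ) 1
    simp only [Pi.smul_apply, Finset.sum_apply, smul_eq_mul] at h1
    rw [show CfsgLib.Blk.regPart p (χ : G → ℂ) 1 = (χ : G → ℂ) 1 from if_neg hp1,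
      ← Finset.sum_filter_add_sum_filter_not Finset.univ (fun ψ => ψ ∈ B),
      Finset.sum_eq_zero (s := Finset.univ.filter fun ψ => ¬ ψ ∈ B) (fun ψ hψ => by
        rw [ha0 χ hχ ψ (Finset.mem_filter.1 hψ).2]; simp), add_zero, hdegC χ hχ] at h1
    refine mul_left_cancel₀ (mul_ne_zero hgdC hχe) ?_
    rw [Finset.mul_sum, mul_comm _ ((p : ℂ) ^ d), h1]
    refine Finset.sum_congr rfl fun ψ hψ => ?_
    rw [hdegC ψ ((hS ψ).1 hψ), has χ hχ ψ]
    ring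
  set D := ∑ χ ∈ S, e χ ^ 2 with hD
  have key : ∀ χ ∈ B, ∀ ψ ∈ B, a χ ψ * D = (p : ℤ) ^ d * (e χ * e ψ) := by
    intro χ hχ ψ hψ
    have h1 : (a χ ψ : ℂ) * (D : ℂ) = (p : ℂ) ^ d * ((e χ : ℂ) * (e ψ : ℂ)) := by
      rw [hD, ← hone, Int.cast_sum, Finset.mul_sum, Finset.sum_mul]
      refine Finset.sum_congr rfl fun τ hτ => ?_
      have h2 := hsym τ ((hS τ).1 hτ) ψ hψ
      rw [has τ ((hS τ).1 hτ) ψ, has ψ hψ τ] at h2
      rw [has χ hχ ψ]
      push_cast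
      linear_combination (e χ : ℂ) * (e τ : ℂ) * h2
    exact_mod_cast h1
  have hgcd1 : S.gcd e = 1 := by
    have h1 : S.gcd (fun χ => gd * e χ) = gd := by
      rw [hgd]
      exact (Finset.gcd_congr rfl fun χ hχ => (he χ ((hS χ).1 hχ)).symm)
    rw [Finset.gcd_mul_left, Int.normalize_of_nonneg hgnn] at h1
    exact mul_left_cancel₀ hgd0 (h1.trans (mul_one _).symm)
  have hDd : D ∣ (p : ℤ) ^ d := by
    have h1 : ∀ χ ∈ B, D ∣ (p : ℤ) ^ d * e χ := fun χ hχ => by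
      have h2 : D ∣ S.gcd (fun ψ => ((p : ℤ) ^ d * e χ) * e ψ) :=
        Finset.dvd_gcd fun ψ hψ => ⟨a χ ψ, by rw [mul_comm D, key χ hχ ψ ((hS ψ).1 hψ), mul_assoc]⟩
      rw [Finset.gcd_mul_left, hgcd1, mul_one] at h2
      exact h2.trans (normalize_associated _).dvd
    have h2 : D ∣ S.gcd (fun ψ => (p : ℤ) ^ d * e ψ) := Finset.dvd_gcd fun ψ hψ => h1 ψ ((hS ψ).1 hψ)
    rw [Finset.gcd_mul_left, hgcd1, mul_one] at h2
    exact h2.trans (normalize_associated _).dvd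
  have hDeq : D = (p : ℤ) ^ d := by
    obtain ⟨χ, hχ, h0⟩ := CfsgLib.Blk.exists_height_zero hM hB
    obtain ⟨j, hjd, hj⟩ := (Nat.dvd_prime_pow hp).1
      (show D.natAbs ∣ p ^ d by rw [← Int.natCast_dvd_natCast, Int.natAbs_dvd]; exact_mod_cast hDd)
    have hDj : D = (p : ℤ) ^ j := by
      rw [← Int.natAbs_of_nonneg (show 0 ≤ D by rw [hD]; exact Finset.sum_nonneg fun χ _ => sq_nonneg (e χ)), hj]; push_cast; rfl
    rcases hjd.eq_or_lt with rfl | hlt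
    · exact hDj
    exfalso
    have hk := key χ hχ χ hχ
    obtain ⟨k, hk0⟩ := Nat.exists_eq_add_of_lt hlt
    rw [hDj, hk0, add_assoc, pow_add, mul_comm (a χ χ), mul_assoc] at hk
    have hk2 := mul_left_cancel₀ (pow_ne_zero j (Int.natCast_ne_zero.2 hp.ne_zero)) hk
    obtain ⟨a', u, hu, hu', hu0, hA, hA'⟩ := CfsgLib.Blk.exists_regCartan hM hB hχ χ
    have haa : a' = a χ χ := by exact_mod_cast hA.trans (ha χ hχ χ).symm
    refine CfsgLib.Blk.omega_regElt_unit hM hB hχ h0 hχ ?_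
    have h3 : Cfsg.MemLocalIdeal M ((a χ χ : ℤ) : ℂ) := (CfsgLib.Blk.intCast_memLocalIdeal_iff hM _).2
      (by rw [hk2]; exact (dvd_pow_self _ (by omega)).mul_right _)
    rw [← haa, hA', h0, pow_zero, one_mul] at h3
    have h4 := CfsgLib.Blk.memLocalIdeal_mul_left hu' h3
    rwa [← mul_assoc, inv_mul_cancel₀ hu0, one_mul] at h4
  refine ⟨φ, fun χ => (e χ).toNat, ⟨n, fun x _ => ?_⟩, fun χ hχ x hx => ?_, ?_⟩
  · rw [CfsgLib.Blk.finsum_mem_eq_sum_ite]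
    show ∑ χ ∈ S, _ = _
    rw [hSdef, Finset.sum_filter]
  · have h1 := congrFun (hreg χ hχ) x
    simp only [r, CfsgLib.Blk.regPart, Pi.smul_apply, smul_eq_mul] at h1
    rw [if_neg hx, if_neg hx] at h1
    rw [h1, ← Int.cast_natCast, Int.toNat_of_nonneg (he0 χ hχ)]
  · have h1 : ((∑ᶠ χ ∈ B, (e χ).toNat ^ 2 : ℕ) : ℤ) = D := by
      rw [CfsgLib.Blk.finsum_mem_eq_sum_ite, Nat.cast_sum, hD, hSdef, Finset.sum_filter]
      refine Finset.sum_congr rfl fun χ _ => ?_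
      split_ifs with h
      · rw [Nat.cast_pow, Int.toNat_of_nonneg (he0 χ h)]
      · rfl
    rw [CfsgLib.Blk.card_defectGroup hM hB hP, ← hd]
    exact_mod_cast h1.trans hDeq

end Cfsg.Agent.S4675
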