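import Cfsg.Statements.S4683
import Cfsg.Agent.Blk.SectionSplit
import Cfsg.Agent.Blk.Pair.Maximal
import Mathlib.LinearAlgebra.Trace

set_option autoImplicit false
open Cfsg

namespace Cfsg.Agent.S4683
open scoped CfsgLib.Char ComplexConjugate
set_option maxHeartbeats 1000000


/-- Fix a prime p and a maximal ideal M of the algebraic integers containing p, a p-block B of the finite group G, a p-element u and a p-block e of C = C_G(u) such that (⟨u⟩, e) is a Brauer pair of B (a Brauer element of B). For χ ∈ B let χ_u be the e-part of the class function c ↦ χ(u c) on C and χ_u' the e-part of c ↦ χ(u⁻¹ c). Then the sum over χ ∈ B and over the p-regular elements s of C of χ_u(s)·χ_u'(s⁻¹) equals the order of C times the p-regular rank of e (the number of irreducible Brauer characters of e). -/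
theorem result {G : Type*} [Group G] [Fintype G] (p : ℕ) [Fact p.Prime] (M : Ideal Cfsg.AlgInt) (hM : Cfsg.IsPModular p M) (B : Set (Cfsg.IrrCharacter G)) (u : G) (hu : ∃ k : ℕ, orderOf u = p ^ k) (e : Set (Cfsg.IrrCharacter (Subgroup.centralizer (Subgroup.zpowers u : Set G)))) (hBe : Cfsg.IsBrauerPairOf p M B (Subgroup.zpowers u) e) : ∑ᶠ χ ∈ B, ∑ᶠ s : Subgroup.centralizer (Subgroup.zpowers u : Set G), Cfsg.pRegularPart p (Cfsg.blockPart e (fun c : Subgroup.centralizer (Subgroup.zpowers u : Set G) => (χ : G → ℂ) (u * c))) s * Cfsg.blockPart e (fun c : Subgroup.centralizer (Subgroup.zpowers u : Set G) => (χ : G → ℂ) (u⁻¹ * c)) s⁻¹ = (Nat.card (Subgroup.centralizer (Subgroup.zpowers u : Set G)) : ℂ) * (Cfsg.blockRank p e : ℂ) := by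
  classical
  open CfsgLib.Blk CfsgLib.Blk.Pair CfsgLib.SectionSplit CfsgLib.Char in
  · haveI : M.IsMaximal := hM.2.1
    let H : Subgroup G := Subgroup.centralizer (Subgroup.zpowers u : Set G)
    have hH : Subgroup.centralizer ({u} : Set G) = H := by
      ext x
      simp only [H, Subgroup.mem_centralizer_iff, Set.mem_singleton_iff, SetLike.mem_coe, forall_eq]
      refine ⟨fun h y ⟨i, hi⟩ => hi ▸ (Commute.zpow_left h i).eq, fun h => h u (Subgroup.mem_zpowers u)⟩
    have he : Cfsg.IsPBlock M e := hBe.1.2
    have hB : Cfsg.IsPBlock M B := hBe.2.1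
    have hind : Cfsg.IsInducedBlock M H e B := by
      refine (isInducedBlock_iff H).2 ⟨he, hB, fun ξ hξ χ hχ a ha => ?_⟩
      have h := val_eq_lam hM hBe hξ hχ ha.redA
      rwa [val, lam_redA χ.2 ha, ← redA_resA, lam_redA ξ.2 (isClassCoeff_resA _ ha)] at h
    let v : Cfsg.IrrCharacter G → H → ℂ := fun χ => compL p u H e (χ : G → ℂ)
    have hv : ∀ χ, v χ ∈ regSpan p e := fun χ => compL_mem hM hH he (classFun_of_irr χ.2)
    have hv0 : ∀ χ, χ ∉ B → v χ = 0 := fun χ hχ => compL_char_eq_zero hM hu hH hind hχ
    have hsum : ∀ χ : Cfsg.IrrCharacter G,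
        ∑ᶠ s : H, Cfsg.pRegularPart p (Cfsg.blockPart e (fun c : H => (χ : G → ℂ) (u * c))) s *
          Cfsg.blockPart e (fun c : H => (χ : G → ℂ) (u⁻¹ * c)) s⁻¹ = ∑ s : H, v χ s * conj (v χ s) := by
      intro χ
      have hc := classFun_of_irr χ.2
      have hcomm : ∀ k : H, (k : G) * u = u * k := fun k => Subgroup.mem_centralizer_singleton_iff.1 (hH.symm ▸ k.2)
      have hf : Cfsg.IsClassFunction H (fun c : H => (χ : G → ℂ) (u * c)) := classFun_shiftL hH hc
      have hH' : Subgroup.centralizer ({u⁻¹} : Set G) = H := by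
        rw [← hH]
        ext x
        simp only [Subgroup.mem_centralizer_singleton_iff]
        exact Commute.inv_right_iff
      have hf' : Cfsg.IsClassFunction H (fun c : H => (χ : G → ℂ) (u⁻¹ * c)) := classFun_shiftL hH' hc
      rw [finsum_eq_sum_of_fintype]
      refine Finset.sum_congr rfl fun s _ => ?_
      by_cases hs : p ∣ orderOf s
      · simp only [v, compL, LinearMap.comp_apply, regL_val' _ _ hs]
        simp [Cfsg.pRegularPart, Cfsg.IsPRegular, hs]
      · simp only [v, compL, LinearMap.comp_apply, regL_val _ _ hs, bmul_apply]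
        rw [show Cfsg.pRegularPart p (Cfsg.blockPart e (fun c : H => (χ : G → ℂ) (u * c))) s =
          Cfsg.blockPart e (fun c : H => (χ : G → ℂ) (u * c)) s from if_pos hs]
        rw [blockPart_eq_sum hM he hf, blockPart_eq_sum hM he hf', map_sum]
        refine congrArg₂ (· * ·) rfl ?_
        conv_lhs => rw [← Equiv.sum_comp (Equiv.inv H)]
        refine Finset.sum_congr rfl fun k _ => ?_
        have hbc : Cfsg.blockCoeff e k⁻¹ = conj (Cfsg.blockCoeff e k) := by
          simp only [Cfsg.blockCoeff, map_mul, map_inv₀, map_natCast, finsum_mem_eq_sum_ite, map_sum]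
          refine congrArg _ (Finset.sum_congr rfl fun θ _ => ?_)
          split_ifs
          · obtain ⟨n, hn⟩ := charDegree_aux (isCharacter_of_isIrr θ.2)
            rw [map_mul, Complex.conj_conj, char_conj_eq (isCharacter_of_isIrr θ.2), Complex.conj_conj, hn, map_natCast]
          · simp
        rw [map_mul, Equiv.inv_apply, hbc]
        refine congrArg₂ (· * ·) rfl ?_
        show _ = conj ((χ : G → ℂ) (u * ((k * s : H) : G)))
        rw [← char_conj_eq (isCharacter_of_isIrr χ.2)]
        show (χ : G → ℂ) (u⁻¹ * ((k⁻¹ * s⁻¹ : H) : G)) = (χ : G → ℂ) (u * ((k * s : H) : G))⁻¹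
        rw [← hcomm (k * s), mul_inv_rev, Subgroup.coe_mul, Subgroup.coe_mul, Subgroup.coe_inv, Subgroup.coe_inv, mul_inv_rev]
        rw [← hc _ ((s : G)⁻¹)]
        congr 1
        have e1 : (s : G)⁻¹ * u⁻¹ = u⁻¹ * (s : G)⁻¹ := (Commute.inv_inv (hcomm s)).eq
        rw [← mul_assoc ((s : G)⁻¹) u⁻¹, e1]
        group
    let S := regSpan p e
    let φ : Cfsg.IrrCharacter G → S →ₗ[ℂ] ℂ := fun χ =>
      { toFun := fun w => ∑ s : H, w.1 s * conj (v χ s)
        map_add' := fun a b => by simp [add_mul, Finset.sum_add_distrib]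
        map_smul' := fun c a => by simp [Finset.mul_sum, mul_assoc] }
    let L : S →ₗ[ℂ] S := ∑ χ : Cfsg.IrrCharacter G, (φ χ).smulRight ⟨v χ, hv χ⟩
    have hclass : ∀ w ∈ S, Cfsg.IsClassFunction H w ∧ ∀ s, p ∣ orderOf s → w s = 0 := by
      intro w hw
      induction hw using Submodule.span_induction with
      | mem w hw =>
        obtain ⟨θ, -, rfl⟩ := hw
        refine ⟨fun g h => ?_, fun s hs => by simp [Cfsg.pRegularPart, Cfsg.IsPRegular, hs]⟩
        have ho : orderOf (h * g * h⁻¹) = orderOf g := orderOf_injective (MulAut.conj h).toMonoidHom (MulEquiv.injective _) g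
        simp only [Cfsg.pRegularPart, Cfsg.IsPRegular, ho, classFun_of_irr θ.2 g h]
        by_cases hg : p ∣ orderOf g <;> simp [hg]
      | zero => exact ⟨fun _ _ => rfl, fun _ _ => rfl⟩
      | add a c _ _ ha hc => exact ⟨fun g h => by simp [ha.1 g h, hc.1 g h], fun s hs => by simp [ha.2 s hs, hc.2 s hs]⟩
      | smul r a _ ha => exact ⟨fun g h => by simp [ha.1 g h], fun s hs => by simp [ha.2 s hs]⟩
    haveI : Fintype {b : Set (Cfsg.IrrCharacter H) // Cfsg.IsPBlock M b} := Fintype.ofFinite _
    have hφ : ∀ χ (w : S), φ χ w = ∑ s : H, w.1 s * conj ((χ : G → ℂ) (u * s)) := by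
      intro χ w
      have h := sum_compL hM u H (χ : G → ℂ)
      calc φ χ w = ∑ b : {b : Set (Cfsg.IrrCharacter H) // Cfsg.IsPBlock M b}, ∑ s : H, w.1 s * conj (compL p u H b.1 (χ : G → ℂ) s) := by
            rw [Finset.sum_eq_single ⟨e, he⟩ (fun b _ hne => regSpan_orth hM he b.2 (fun h => hne (Subtype.ext h.symm)) w.2
              (compL_mem hM hH b.2 (classFun_of_irr χ.2))) (by simp)]
            rfl
        _ = ∑ s : H, w.1 s * conj (regL p H (shiftL u H (χ : G → ℂ)) s) := by
            rw [Finset.sum_comm, ← h]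
            simp [Finset.mul_sum]
        _ = _ := Finset.sum_congr rfl fun s _ => by
            by_cases hs : p ∣ orderOf s
            · simp [(hclass _ w.2).2 s hs]
            · rw [regL_val _ _ hs]; rfl
    have hL : L = (Nat.card H : ℂ) • LinearMap.id := by
      ext w : 1
      apply Subtype.ext
      have e1 : (L w).1 = compL p u H e (∑ χ : Cfsg.IrrCharacter G, φ χ w • (χ : G → ℂ)) := by
        simp only [L, LinearMap.sum_apply, LinearMap.smulRight_apply, map_sum, map_smul, Submodule.coe_smul, AddSubmonoidClass.coe_finsetSum]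
        rfl
      set F : G → ℂ := ∑ χ : Cfsg.IrrCharacter G, φ χ w • (χ : G → ℂ) with hF
      have hFc : Cfsg.IsClassFunction G F := fun g h => by
        simp only [hF, Finset.sum_apply, Pi.smul_apply, classFun_of_irr (Subtype.prop _) g h]
      have e2 : regL p H (shiftL u H F) = (Nat.card H : ℂ) • w.1 := by
        funext t
        by_cases ht : p ∣ orderOf t
        · rw [regL_val' _ _ ht, Pi.smul_apply, (hclass _ w.2).2 t ht, smul_zero]
        rw [regL_val _ _ ht]
        show F (u * t) = _
        have hcnt : ∀ a b : G, ∑ χ : Cfsg.IrrCharacter G, (χ : G → ℂ) a * conj ((χ : G → ℂ) b) = ((Finset.univ.filter fun g : G => g * b * g⁻¹ = a).card : ℂ) := by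
          intro a b
          rw [second_orth]
          split_ifs with hab
          · obtain ⟨c, hc⟩ := isConj_iff.1 hab.symm
            rw [Nat.cast_inj, ← Fintype.card_subtype, ← Nat.card_eq_fintype_card]
            refine Nat.card_congr
              { toFun := fun d => ⟨d.1 * c, ?_⟩, invFun := fun g => ⟨g.1 * c⁻¹, ?_⟩, left_inv := fun d => by simp, right_inv := fun g => by simp }
            · calc d.1 * c * b * (d.1 * c)⁻¹ = d.1 * (c * b * c⁻¹) * (d.1)⁻¹ := by group
                _ = a := by rw [hc, Subgroup.mem_centralizer_singleton_iff.1 d.2, mul_inv_cancel_right]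
            · rw [Subgroup.mem_centralizer_singleton_iff]
              calc g.1 * c⁻¹ * a = g.1 * c⁻¹ * (c * b * c⁻¹) := by rw [hc]
                _ = g.1 * b * g.1⁻¹ * (g.1 * c⁻¹) := by group
                _ = a * (g.1 * c⁻¹) := by rw [g.2]
          · rw [Finset.filter_false_of_mem (fun g _ h => hab (isConj_iff.2 ⟨g, h⟩).symm), Finset.card_empty, Nat.cast_zero]
        calc F (u * t) = ∑ s : H, w.1 s * ∑ χ : Cfsg.IrrCharacter G, (χ : G → ℂ) (u * t) * conj ((χ : G → ℂ) (u * s)) := by
              simp only [hF, Finset.sum_apply, Pi.smul_apply, smul_eq_mul, hφ, Finset.sum_mul, Finset.mul_sum]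
              rw [Finset.sum_comm]
              exact Finset.sum_congr rfl fun _ _ => Finset.sum_congr rfl fun _ _ => by ring
          _ = ∑ s : H, w.1 s * ((Finset.univ.filter fun h : H => h * s * h⁻¹ = t).card : ℂ) := by
              refine Finset.sum_congr rfl fun s _ => ?_
              by_cases hs : p ∣ orderOf s
              · simp [(hclass _ w.2).2 s hs]
              rw [hcnt]
              congr 2
              symm
              have hps : ∀ r : H, ¬ p ∣ orderOf r → Cfsg.IsPPart p (u * (r : G)) u := fun r hr => ⟨r, rfl, (Subgroup.mem_centralizer_singleton_iff.1 (hH.symm ▸ r.2)).symm, hu, by rwa [Subgroup.orderOf_coe]⟩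
              refine Finset.card_bij (fun h _ => (h : G)) (fun h hh => ?_) (fun a _ b _ h => Subtype.ext h) fun g hg => ?_
              · rw [Finset.mem_filter] at hh ⊢
                refine ⟨Finset.mem_univ _, ?_⟩
                have hu' : (h : G) * u = u * h := Subgroup.mem_centralizer_singleton_iff.1 (hH.symm ▸ h.2)
                rw [← hh.2, Subgroup.coe_mul, Subgroup.coe_mul, Subgroup.coe_inv, ← mul_assoc, hu', mul_assoc u, mul_assoc u]
              · rw [Finset.mem_filter] at hg
                have h1 := isPPart_conj (hps s hs) g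
                rw [hg.2] at h1
                have hgu : g * u * g⁻¹ = u := isPPart_unique (Fact.out : p.Prime) h1 (hps t ht)
                have hgH : g ∈ H := hH ▸ Subgroup.mem_centralizer_singleton_iff.2 (mul_inv_eq_iff_eq_mul.1 hgu)
                refine ⟨⟨g, hgH⟩, Finset.mem_filter.2 ⟨Finset.mem_univ _, Subtype.ext ?_⟩, rfl⟩
                have := hg.2
                rw [← mul_assoc, mul_inv_eq_iff_eq_mul.1 hgu, mul_assoc u, mul_assoc u] at this
                simpa using mul_left_cancel this
          _ = ∑ h : H, w.1 (h⁻¹ * t * h) := by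
              simp only [Finset.card_filter, Nat.cast_sum, Finset.mul_sum]
              rw [Finset.sum_comm]
              refine Finset.sum_congr rfl fun h _ => ?_
              rw [Finset.sum_eq_single (h⁻¹ * t * h)]
              · simp [mul_assoc]
              · intro s _ hne
                rw [if_neg]
                · simp
                · rintro rfl; exact hne (by group)
              · simp
          _ = _ := by
              have hw : ∀ h : H, w.1 (h⁻¹ * t * h) = w.1 t := fun h => by simpa using (hclass _ w.2).1 t h⁻¹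
              simp [hw]
      rw [e1]
      show _ = (Nat.card H : ℂ) • w.1
      rw [← e2]
      let y : {b : Set (Cfsg.IrrCharacter H) // Cfsg.IsPBlock M b} → H → ℂ := fun b =>
        compL p u H b.1 F - if b.1 = e then regL p H (shiftL u H F) else 0
      have hy : ∀ b, y b ∈ regSpan p b.1 := fun b => by
        refine Submodule.sub_mem _ (compL_mem hM hH b.2 hFc) ?_
        split_ifs with h
        · rw [e2, h]; exact Submodule.smul_mem _ _ w.2
        · exact Submodule.zero_mem _
      have hy0 : ∑ b, y b = 0 := by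
        simp only [y, Finset.sum_sub_distrib, sum_compL hM]
        rw [Finset.sum_eq_single ⟨e, he⟩ (fun b _ hne => if_neg fun h => hne (Subtype.ext h)) (by simp), if_pos rfl, sub_self]
      simpa [y, sub_eq_zero] using regSpan_indep hM y hy hy0 ⟨e, he⟩
    have htr := congrArg (LinearMap.trace ℂ S) hL
    rw [map_smul, LinearMap.trace_id, smul_eq_mul] at htr
    simp only [L, map_sum, LinearMap.trace_smulRight] at htr
    rw [show Cfsg.blockRank p e = Module.finrank ℂ S from rfl]
    refine Eq.trans ?_ htr
    simp only [finsum_mem_eq_sum_ite]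
    refine Finset.sum_congr rfl fun χ _ => ?_
    split_ifs with hχ
    · exact hsum χ
    · simp [φ, hv0 χ hχ]

end Cfsg.Agent.S4683
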