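import Cfsg.Statements.S4693
import Cfsg.Agent.Blk.Pair.Nilpotent

set_option autoImplicit false
open Cfsg

namespace Cfsg.Agent.S4693
open CfsgLib.Blk CfsgLib.Blk.Pair in
theorem centric_local {G : Type*} [Group G] [Fintype G] {p : ℕ} [Fact p.Prime]
    {M : Ideal Cfsg.AlgInt} [M.IsPrime] (hM : Cfsg.IsPModular p M) {B : Set (Cfsg.IrrCharacter G)}
    {P : Subgroup G} {e : Set (Cfsg.IrrCharacter (Subgroup.centralizer (P : Set G)))}
    {F : Cfsg.FusionSystem P} (hF : Cfsg.IsBlockFusionSystemOn p M B P e F) {Q : Subgroup G}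
    [hQn : Q.Normal] {f : Set (Cfsg.IrrCharacter (Cn Q))} (hle : Cfsg.SubpairLE p M Q f P e)
    (hcen : F.IsCentric Q) {T : Subgroup G} (hT : T = Q ⊔ Cn Q) {F' : Set (Cfsg.IrrCharacter T)}
    (hF' : Cfsg.IsPBlock M F') (hFb : bid M F' = CfsgLib.Blk.resA T (idA M Q f))
    (hfixT : Fix T (idA M Q f)) : Cfsg.IsNilpotentBlock p M F' := by
  have hmax := hF.1
  have he := hmax.1.1
  have hfp := subpairLE_isBrauerPair he hle
  have hTN : T ≤ Subgroup.normalizer (Q : Set G) := by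
    rw [Subgroup.normalizer_eq_top]; exact le_top
  have hQT : Q ≤ T := hT ▸ le_sup_left
  have hCT : Cn Q ≤ T := hT ▸ le_sup_right
  have hmul : ∀ y ∈ T, ∃ q ∈ Q, ∃ c ∈ Cn Q, q * c = y := by
    intro y hy
    rw [hT, sup_comm, Subgroup.mem_sup_of_normal_right] at hy
    obtain ⟨c, hc, q, hq, rfl⟩ := hy
    refine ⟨c * q * c⁻¹, hQn.conj_mem q hq c, c, hc, by simp⟩
  obtain ⟨D, hD⟩ := exists_isDefectGroup hM hF'
  have hQD := le_defectGroup_stabilizer hM hF' hfp.1 hQT hTN hD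
  obtain ⟨x, -, hxD⟩ := local_exists_conj hM hF' hFb hTN hfixT hmax
    ((pairOf_congr hM hle).1 hmax.1) hD (hC_stabilizer hCT hQD)
  have hDQ : ∀ d : T, d ∈ D → (d : G) ∈ Q := by
    intro d hd
    obtain ⟨q, hq, c, hc, hqc⟩ := hmul d d.2
    have hcD : c ∈ D.map T.subtype := by
      have h1 : q⁻¹ * (d : G) ∈ D.map T.subtype :=
        mul_mem (inv_mem (hQD hq)) ⟨d, hd, rfl⟩
      rwa [← hqc, inv_mul_cancel_left] at h1
    have hx : x * c * x⁻¹ ∈ P ⊓ Cn Q := ⟨hxD ⟨c, hcD, rfl⟩, fun z hz => by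
      have h1 := hc (x⁻¹ * z * x) (by simpa using hQn.conj_mem z hz x⁻¹)
      calc z * (x * c * x⁻¹) = x * ((x⁻¹ * z * x) * c) * x⁻¹ := by group
        _ = x * c * x⁻¹ * z := by rw [h1]; group⟩
    have h2 := hQn.conj_mem _ (hcen.2 Q (CfsgLib.Fus.isConj_refl hcen.1) hx) x⁻¹
    rw [← hqc]
    exact mul_mem hq (by simpa [mul_assoc] using h2)
  refine ⟨hF', fun R h hRh y _ _ hr => ?_⟩
  obtain ⟨z, hz⟩ := exists_conj_le_defectGroup hM hRh hD
  obtain ⟨q, hq, c, hc, hqc⟩ := hmul y y.2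
  have hy : (y : G) ∈ Cn Q := by
    refine mem_Cn_of_regular hfp.1 (hTN y.2)
      (show ¬ p ∣ orderOf (y : G) by rw [Subgroup.orderOf_coe]; exact hr) hq fun u hu => ?_
    rw [← hqc, show q * c * u * (q * c)⁻¹ = q * (c * u * c⁻¹) * q⁻¹ by group,
      ← hc u hu, mul_inv_cancel_right]
  intro r hr'
  have hrQ : (r : G) ∈ Q := by
    have h1 := hDQ _ (hz ⟨r, hr', rfl⟩)
    have h2 := hQn.conj_mem _ h1 (z : G)⁻¹
    simpa [mul_assoc] using h2
  exact Subtype.ext (hy (r : G) hrQ)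


/-- Fix a prime p and a maximal ideal M of the algebraic integers containing p, a p-block B of the finite group G with maximal Brauer pair (P, e) and fusion system F on P, and a Brauer pair (Q, f) ≤ (P, e) with Q centric in F. Suppose every element of G normalizes Q and stabilizes f. Then the idempotent of B agrees with that of f modulo M at every element of G, and f is the idempotent of a nilpotent block of Q·C_G(Q): some p-block of Q·C_G(Q) has the idempotent coefficients of f and is nilpotent. -/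
theorem result {G : Type*} [Group G] [Fintype G] (p : ℕ) [Fact p.Prime] (M : Ideal Cfsg.AlgInt) (hM : Cfsg.IsPModular p M) (B : Set (Cfsg.IrrCharacter G)) (P : Subgroup G) (e : Set (Cfsg.IrrCharacter (Subgroup.centralizer (P : Set G)))) (hmax : Cfsg.IsMaximalBrauerPair p M B P e) (F : Cfsg.FusionSystem P) (hF : Cfsg.IsBlockFusionSystemOn p M B P e F) (Q : Subgroup G) (f : Set (Cfsg.IrrCharacter (Subgroup.centralizer (Q : Set G)))) (hQP : Q ≤ P) (hf : Cfsg.IsPBlock M f) (hle : Cfsg.SubpairLE p M Q f P e) (hcen : F.IsCentric Q) (hG : ∀ x : G, x ∈ Subgroup.normalizer (Q : Set G) ∧ Cfsg.StabilizesBlock (Subgroup.centralizer (Q : Set G)) f x) : (∀ g : G, Cfsg.MemLocalIdeal M (Cfsg.blockCoeff B g - Cfsg.subgroupBlockCoeff (Subgroup.centralizer (Q : Set G)) f g)) ∧ ∃ F' : Set (Cfsg.IrrCharacter ↥(Q ⊔ Subgroup.centralizer (Q : Set G))), Cfsg.IsPBlock M F' ∧ (∀ t : ↥(Q ⊔ Subgroup.centralizer (Q : Set G)), Cfsg.blockCoeff F' t = Cfsg.subgroupBlockCoeff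 (Subgroup.centralizer (Q : Set G)) f (t : G)) ∧ Cfsg.IsNilpotentBlock p M F' := by
  haveI := hM.2.1.isPrime
  have he := hmax.1.1
  haveI : Q.Normal := Subgroup.normalizer_eq_top_iff.1 (eq_top_iff.2 fun x _ => (hG x).1)
  have hfp := CfsgLib.Blk.Pair.subpairLE_isBrauerPair he hle
  have hfix : ∀ x : G, CfsgLib.Blk.Pair.cjA x (CfsgLib.Blk.Pair.idA M Q f) =
      CfsgLib.Blk.Pair.idA M Q f := fun x =>
    ((CfsgLib.Blk.Pair.stabilizesBlock_iff hM hf x).1 (hG x).2).2
  refine ⟨fun g => ?_, ?_⟩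
  · rw [CfsgLib.Blk.Pair.blockCoeff_eq_trace hM ((CfsgLib.Blk.Pair.pairOf_congr hM hle).1 hmax.1)
      ⊤ (fun x => iff_of_true (Subgroup.mem_top x) (hfix x)) g]
    have hinv : ∀ x : G, Cfsg.subgroupBlockCoeff (Subgroup.centralizer (Q : Set G)) f
        (x⁻¹ * g * x) = Cfsg.subgroupBlockCoeff (Subgroup.centralizer (Q : Set G)) f g := by
      intro x
      have hK := CfsgLib.Blk.Pair.Cn_normal_conj (P := Q) inferInstance x
      have h0 : CfsgLib.Blk.Pair.mvSet (CfsgLib.Blk.Pair.cjIso x hK) f = f := by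
        refine CfsgLib.Blk.Pair.bid_inj hM (CfsgLib.Blk.Pair.isPBlock_mvSet _ hf) hf
          (CfsgLib.Blk.Pair.inA_injective _ ?_)
        rw [CfsgLib.Blk.Pair.inA_bid_mvSet]
        exact hfix x
      conv_rhs => rw [← h0, CfsgLib.Blk.Pair.subgroupBlockCoeff_mvSet]
    simp only [hinv, Finset.sum_const, Finset.card_univ, Subgroup.card_top,
      Nat.card_eq_fintype_card, nsmul_eq_mul]
    rw [← mul_assoc, inv_mul_cancel₀ (Nat.cast_ne_zero.2 Fintype.card_ne_zero), one_mul, sub_self]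
    exact CfsgLib.Blk.memLocalIdeal_zero
  · obtain ⟨F', hF', hFc⟩ := CfsgLib.Blk.Pair.exists_local_block hM hfp
      (T := Q ⊔ Subgroup.centralizer (Q : Set G)) le_sup_left le_sup_right
      (fun x _ => (hG x).1) (fun x _ => hfix x)
    exact ⟨F', hF', hFc, centric_local hM hF hle hcen rfl hF'
      (CfsgLib.Blk.Pair.bid_eq_resA_of_sbc hFc) fun x _ => hfix x⟩

end Cfsg.Agent.S4693
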