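import Cfsg.Statements.S4694
import Cfsg.Agent.Blk.CentralQuotient
import Cfsg.Agent.Blk.Pair.Local
import Cfsg.Agent.Blk.Bounds
import Cfsg.Agent.Blk.MinMax
import Cfsg.Agent.Char.ExtCrit

set_option autoImplicit false
open Cfsg

namespace Cfsg.Agent.S4694
open CfsgLib.Char
open scoped ComplexConjugate CfsgLib.Char

theorem const_constituent {N : Type*} [Group N] [Fintype N] {f : N → ℂ} (hf : Cfsg.IsCharacter N f)
    {η : N → ℂ} (hη : Cfsg.IsIrrCharacter N η) (hc : Cfsg.classInner f η ≠ 0) {x : N}
    (hx : f x = f 1) : η x = η 1 := by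
  have hsub := isCharacter_sub_constituent hf hη hc
  have h1 := char_norm_le (isCharacter_of_isIrr hη) x
  have h2 := char_norm_le hsub x
  have e2 := char_one_eq hsub
  have e3 := irr_one_eq hη
  rw [Pi.sub_apply, e3] at e2
  rw [Pi.sub_apply, hx] at h2
  have h4 : (f 1).re - (η x).re ≤ (Cfsg.charDegree (f - η) : ℝ) := by
    have := (Complex.re_le_norm (f 1 - η x)).trans h2
    simpa using this
  have h5 : (f 1).re = (Cfsg.charDegree η : ℝ) + (Cfsg.charDegree (f - η) : ℝ) := by
    have := congrArg Complex.re e2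
    simp only [Complex.sub_re, Complex.natCast_re] at this
    linarith
  have h6 : (Cfsg.charDegree η : ℝ) ≤ (η x).re := by linarith
  have h7 : (η x).re ≤ ‖η x‖ := Complex.re_le_norm _
  have h8 : ‖η x‖ = (Cfsg.charDegree η : ℝ) := le_antisymm h1 (h6.trans h7)
  have h9 : (η x).re = (Cfsg.charDegree η : ℝ) := le_antisymm (h8 ▸ h7) h6
  have h10 : (η x).im = 0 := by
    have := Complex.sq_norm (η x)
    rw [Complex.normSq_apply, h8, h9] at this
    exact mul_self_eq_zero.1 (by linarith [this, sq (Cfsg.charDegree η : ℝ)])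
  rw [e3]
  exact Complex.ext (by simp [h9]) (by simp [h10])

theorem deg_sq_le {S : Type*} [Group S] [Fintype S] (Q : Subgroup S) {η : S → ℂ}
    (hη : Cfsg.IsIrrCharacter S η) (hQ : ∀ q ∈ Q, η q = η 1) :
    Cfsg.charDegree η * Cfsg.charDegree η * Nat.card Q ≤ Nat.card S := by
  classical
  haveI := Fintype.ofFinite Q
  have h := irr_inner_self hη
  rw [classInner_def, inv_mul_eq_iff_eq_mul₀ (natCard_ne_zero S), mul_one] at h
  have h' : ∑ g : S, Complex.normSq (η g) = (Nat.card S : ℝ) := by
    have := congrArg Complex.re h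
    simpa [Complex.re_sum, Complex.mul_conj] using this
  have hle : ∑ g ∈ Finset.univ.filter (· ∈ Q), Complex.normSq (η g) ≤ (Nat.card S : ℝ) := by
    rw [← h']
    exact Finset.sum_le_sum_of_subset_of_nonneg (Finset.filter_subset _ _)
      fun g _ _ => Complex.normSq_nonneg _
  rw [Finset.sum_congr rfl (g := fun _ => ((Cfsg.charDegree η * Cfsg.charDegree η : ℕ) : ℝ))
    fun g hg => by rw [hQ g (Finset.mem_filter.1 hg).2, irr_one_eq hη, Complex.normSq_natCast]; simp,
    Finset.sum_const, nsmul_eq_mul, ← Nat.cast_mul, Nat.cast_le] at hle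
  rwa [← Fintype.card_subtype, ← Nat.card_eq_fintype_card, mul_comm] at hle


/-- Fix a prime p and a maximal ideal M of the algebraic integers containing p, a p-block B of the finite group G and a Brauer pair (Q, e) of B. Let T be the stabilizer of e in N_G(Q) and suppose that (Q, e) carries a weight: the block of T whose idempotent is that of e contains an irreducible character χ that is constant on the cosets of Q and whose degree has p-part equal to the p-part of the index of Q in T. Then Z(Q) is a defect group of e as a block of C_G(Q), and Q is the largest normal p-subgroup of T: every p-subgroup of T normalized by T lies in Q. -/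
theorem result {G : Type*} [Group G] [Fintype G] (p : ℕ) [Fact p.Prime] (M : Ideal Cfsg.AlgInt) (hM : Cfsg.IsPModular p M) (B : Set (Cfsg.IrrCharacter G)) (Q : Subgroup G) (e : Set (Cfsg.IrrCharacter (Subgroup.centralizer (Q : Set G)))) (hQe : Cfsg.IsBrauerPairOf p M B Q e) (T : Subgroup G) (hT : ∀ y : G, y ∈ T ↔ y ∈ Subgroup.normalizer (Q : Set G) ∧ Cfsg.StabilizesBlock (Subgroup.centralizer (Q : Set G)) e y) (F' : Set (Cfsg.IrrCharacter T)) (hF' : Cfsg.IsPBlock M F') (hF'e : ∀ t : T, Cfsg.blockCoeff F' t = Cfsg.subgroupBlockCoeff (Subgroup.centralizer (Q : Set G)) e (t : G)) (χ : Cfsg.IrrCharacter T) (hχ : χ ∈ F') (hχQ : ∀ q : G, q ∈ Q → ∀ t : T, ∀ t' : T, (t' : G) = q * (t : G) → (χ : T → ℂ) t' = (χ : T → ℂ) t) (hdeg : (Cfsg.charDegree (χ : T → ℂ)).factorization p + (Nat.card Q).factorization p = (Nat.card T).factorization p) : Cfsg.IsDefectGroup p M e ((Q ⊓ Subgroup.centralizer (Q : Set G)).subgroupOf (Subgroup.centralizer (Q : Set G))) ∧ ∀ R : Subgroup G, R ≤ T → IsPGroup p R → (∀ t ∈ T, t ∈ Subgroup.normalizer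 (R : Set G)) → R ≤ Q := by
  classical
  haveI : M.IsPrime := hM.2.1.isPrime
  have hp : p.Prime := Fact.out
  obtain ⟨hpair, -, -⟩ := hQe
  obtain ⟨⟨hQT, hCT, -⟩, -⟩ := CfsgLib.Blk.Pair.stabilizer_block hM hpair T hT
  have hQp : IsPGroup p Q := hpair.1
  have heblk : Cfsg.IsPBlock M e := hpair.2
  haveI := Fintype.ofFinite T
  have hTQ : T ≤ Subgroup.normalizer (Q : Set G) := fun x hx => ((hT x).1 hx).1
  have hTC : T ≤ Subgroup.normalizer ((Subgroup.centralizer (Q : Set G)) : Set G) := fun x hx => ((hT x).1 hx).2.1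
  have hχq : ∀ q : T, (q : G) ∈ Q → (χ : T → ℂ) q = (χ : T → ℂ) 1 := fun q hq =>
    hχQ q hq 1 q (by simp)
  obtain ⟨zQ, hzQ⟩ := IsPGroup.iff_card.1 hQp
  have hQfac : (Nat.card Q).factorization p = zQ := by rw [hzQ, hp.factorization_pow]; simp
  -- degree bound for normal subgroups containing `Q`
  have hbound : ∀ (S : Subgroup T) [S.Normal] [Fintype S], Q.subgroupOf T ≤ S →
      ∃ η : S → ℂ, Cfsg.IsIrrCharacter S η ∧
        Cfsg.classInner (fun s : S => (χ : T → ℂ) s) η ≠ 0 ∧
        (∀ s : S, ((s : T) : G) ∈ Q → η s = η 1) ∧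
        (Nat.card S).factorization p ≤ (Cfsg.charDegree η).factorization p + zQ := by
    intro S _ _ hQS
    obtain ⟨η, hη, hηc⟩ := exists_constituent_res (N := S) χ.2
    refine ⟨η, hη, hηc, fun s hs => const_constituent
      (isCharacter_restrict S (isCharacter_of_isIrr χ.2)) hη hηc (hχq (s : T) hs), ?_⟩
    obtain ⟨k, hk, hkd⟩ := degree_quotient χ.2 hη hηc
    rw [irr_one_eq χ.2, irr_one_eq hη] at hk
    have hk' : Cfsg.charDegree (χ : T → ℂ) = k * Cfsg.charDegree η := by exact_mod_cast hk
    have hk0 : k ≠ 0 := fun h => (charDegree_pos χ.2).ne' (by rw [hk', h, zero_mul])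
    have h1 : (Cfsg.charDegree (χ : T → ℂ)).factorization p ≤
        S.index.factorization p + (Cfsg.charDegree η).factorization p := by
      rw [hk', Nat.factorization_mul hk0 (charDegree_pos hη).ne', Finsupp.add_apply]
      exact Nat.add_le_add_right
        ((Nat.factorization_le_iff_dvd hk0 Subgroup.index_ne_zero_of_finite).2 hkd p) _
    have h2 : (Nat.card T).factorization p =
        (Nat.card S).factorization p + S.index.factorization p := by
      rw [← S.card_mul_index, Nat.factorization_mul Nat.card_pos.ne'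
        Subgroup.index_ne_zero_of_finite, Finsupp.add_apply]
    rw [hQfac] at hdeg
    omega
  refine ⟨?_, ?_⟩
  · -- the defect group of `e`
    set Z : Subgroup (Subgroup.centralizer (Q : Set G)) := (Q ⊓ (Subgroup.centralizer (Q : Set G))).subgroupOf (Subgroup.centralizer (Q : Set G)) with hZdef
    have hZc : Z ≤ Subgroup.center (Subgroup.centralizer (Q : Set G)) := by
      intro z hz
      rw [Subgroup.mem_center_iff]
      intro c
      exact Subtype.ext (Subgroup.mem_centralizer_iff.1 c.2 (z : G) (Subgroup.mem_subgroupOf.1 hz).1).symm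
    haveI : Z.Normal := ⟨fun z hz g => by
      rw [Subgroup.mem_center_iff.1 (hZc hz) g, mul_inv_cancel_right]; exact hz⟩
    have hZp : IsPGroup p Z :=
      (hQp.to_le inf_le_left).of_equiv (Subgroup.subgroupOfEquivOfLe inf_le_right).symm
    set N : Subgroup T := ((Subgroup.centralizer (Q : Set G)) ⊔ Q).subgroupOf T with hNdef
    haveI : N.Normal := Subgroup.normal_subgroupOf_of_le_normalizer
      (fun x hx => Subgroup.normalizer_inf_normalizer_le_normalizer_sup _ _ ⟨hTC hx, hTQ hx⟩)
    haveI := Fintype.ofFinite N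
    obtain ⟨η, hη, hηc, hηQ, hηd⟩ := hbound N (Subgroup.comap_mono le_sup_right)
    let g : (Subgroup.centralizer (Q : Set G)) × Q →* N :=
      { toFun := fun x => ⟨⟨(x.1 : G) * x.2, T.mul_mem (hCT x.1.2) (hQT x.2.2)⟩,
          ((Subgroup.centralizer (Q : Set G)) ⊔ Q).mul_mem (Subgroup.mem_sup_left x.1.2) (Subgroup.mem_sup_right x.2.2)⟩
        map_one' := by apply Subtype.ext; apply Subtype.ext; simp
        map_mul' := fun x y => by
          apply Subtype.ext; apply Subtype.ext
          show (x.1 : G) * y.1 * ((x.2 : G) * y.2) = (x.1 : G) * x.2 * ((y.1 : G) * y.2)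
          have h := Subgroup.mem_centralizer_iff.1 y.1.2 (x.2 : G) x.2.2
          rw [mul_assoc, mul_assoc, ← mul_assoc (y.1 : G), ← h, mul_assoc] }
    have hgs : Function.Surjective g := by
      rintro ⟨⟨x, hxT⟩, hx⟩
      have hx' : x ∈ (Subgroup.centralizer (Q : Set G)) ⊔ Q := hx
      rw [sup_comm] at hx'
      rw [← SetLike.mem_coe, Subgroup.coe_mul_of_right_le_normalizer_left Q _
        (Subgroup.centralizer_le_normalizer _)] at hx'
      obtain ⟨q, hq, c, hc, rfl⟩ := Set.mem_mul.1 hx'
      refine ⟨(⟨c, hc⟩, ⟨q, hq⟩), Subtype.ext (Subtype.ext ?_)⟩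
      exact (Subgroup.mem_centralizer_iff.1 hc q hq).symm
    let f : (Subgroup.centralizer (Q : Set G)) →* N := g.comp (MonoidHom.inl (Subgroup.centralizer (Q : Set G)) Q)
    have hfx : ∀ x : (Subgroup.centralizer (Q : Set G)) × Q, η (g x) = η (f x.1) := by
      intro x
      obtain ⟨K, -, hK, hKm⟩ := exists_kernel (isCharacter_of_isIrr hη)
      have hq : g (1, x.2) ∈ K := (hK _).2 (hηQ _ (by
        show ((1 : (Subgroup.centralizer (Q : Set G))) : G) * (x.2 : G) ∈ Q
        rw [Subgroup.coe_one, one_mul]; exact x.2.2))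
      rw [show g x = g (1, x.2) * f x.1 by
        rw [show f x.1 = g (x.1, 1) from rfl, ← map_mul, Prod.mk_mul_mk, one_mul, mul_one]]
      exact hKm _ hq _
    set ψ₀ : (Subgroup.centralizer (Q : Set G)) → ℂ := η ∘ f with hψ₀
    have hψc : Cfsg.IsCharacter (Subgroup.centralizer (Q : Set G)) ψ₀ := isCharacter_comp f (isCharacter_of_isIrr hη)
    haveI := Fintype.ofFinite (Subgroup.centralizer (Q : Set G))
    haveI := Fintype.ofFinite Q
    have hnorm : Cfsg.classInner ψ₀ ψ₀ = 1 := by
      rw [← irr_inner_self hη, ← classInner_comp g hgs η η, classInner_def, classInner_def,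
        Fintype.sum_prod_type]
      simp only [Function.comp_apply, hfx, Finset.sum_const, Finset.card_univ, nsmul_eq_mul]
      rw [Nat.card_prod, Nat.cast_mul, ← Finset.mul_sum, mul_inv, Nat.card_eq_fintype_card (α := Q)]
      field_simp
      simp [ψ₀]
    have hψ : Cfsg.IsIrrCharacter (Subgroup.centralizer (Q : Set G)) ψ₀ := by
      rcases isIrr_or_neg_of_norm (G := (Subgroup.centralizer (Q : Set G))) (f := ψ₀)
        ⟨ψ₀, 0, hψc, isCharacter_zero, by simp⟩ hnorm with h | h
      · exact h
      · exfalso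
        obtain ⟨a, ha, hae⟩ := irr_deg h
        obtain ⟨b, hb, hbe⟩ := irr_deg hη
        rw [Pi.neg_apply, hψ₀, Function.comp_apply, map_one, hbe] at hae
        have h0 : ((a + b : ℕ) : ℂ) = 0 := by push_cast; linear_combination -hae
        rw [Nat.cast_eq_zero] at h0
        omega
    have hψd : Cfsg.charDegree ψ₀ = Cfsg.charDegree η := by
      simp [Cfsg.charDegree, hψ₀, map_one]
    -- membership in `e`
    let i : (Subgroup.centralizer (Q : Set G)) →* T := Subgroup.inclusion hCT
    have hψin : Cfsg.classInner ((χ : T → ℂ) ∘ i) ψ₀ ≠ 0 := by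
      have hsub := isCharacter_sub_constituent
        (isCharacter_restrict N (isCharacter_of_isIrr χ.2)) hη hηc
      intro h0
      have hsplit : (χ : T → ℂ) ∘ i = ψ₀ + ((fun n : N => (χ : T → ℂ) n) - η) ∘ f := by
        funext c
        have hc : (i c) = ((f c : N) : T) := Subtype.ext (by
          show (c : G) = (c : G) * ((1 : Q) : G); simp)
        simp [hψ₀, hc]
      rw [hsplit] at h0
      have := inner_zero_of_summand hψc (isCharacter_comp f hsub) (isCharacter_of_isIrr hψ) h0
      rw [irr_inner_self hψ] at this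
      exact one_ne_zero this
    have hψe : (⟨ψ₀, hψ⟩ : Cfsg.IrrCharacter (Subgroup.centralizer (Q : Set G))) ∈ e := by
      have h1 := CfsgLib.Blk.sum_blockCoeff_mul F' χ
      rw [if_pos hχ] at h1
      have h2 : ∑ t : T, Cfsg.blockCoeff F' t * (χ : T → ℂ) t =
          ∑ c : (Subgroup.centralizer (Q : Set G)), Cfsg.blockCoeff e c * (χ : T → ℂ) (i c) := by
        rw [← Finset.sum_subset (Finset.subset_univ (Finset.univ.filter fun t : T => (t : G) ∈ (Subgroup.centralizer (Q : Set G))))
          fun t _ ht => by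
            rw [hF'e, Cfsg.subgroupBlockCoeff, dif_neg fun h => ht
              (Finset.mem_filter.2 ⟨Finset.mem_univ _, h⟩), zero_mul]]
        refine Finset.sum_bij' (fun t ht => (⟨(t : G), (Finset.mem_filter.1 ht).2⟩ : (Subgroup.centralizer (Q : Set G))))
          (fun c _ => i c) (fun _ _ => Finset.mem_univ _)
          (fun c _ => Finset.mem_filter.2 ⟨Finset.mem_univ _, c.2⟩) (fun t _ => rfl) (fun c _ => rfl)
          fun t ht => ?_
        rw [hF'e, Cfsg.subgroupBlockCoeff, dif_pos (Finset.mem_filter.1 ht).2]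
        rfl
      rw [h2] at h1
      have hch : Cfsg.IsCharacter (Subgroup.centralizer (Q : Set G)) ((χ : T → ℂ) ∘ i) := isCharacter_comp i (isCharacter_of_isIrr χ.2)
      have hdec := classFun_eq_sum (classFun_of_char hch)
      choose m hm using fun ξ : Cfsg.IrrCharacter (Subgroup.centralizer (Q : Set G)) => inner_char_irr hch ξ.2
      have hc1 : ∀ c : (Subgroup.centralizer (Q : Set G)), (χ : T → ℂ) (i c) = ∑ ξ : Cfsg.IrrCharacter (Subgroup.centralizer (Q : Set G)), (m ξ : ℂ) * (ξ : (Subgroup.centralizer (Q : Set G)) → ℂ) c := by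
        intro c
        have := congrFun hdec c
        simpa [Finset.sum_apply, hm] using this
      have h3 : ((∑ ξ : Cfsg.IrrCharacter (Subgroup.centralizer (Q : Set G)), m ξ * if ξ ∈ e then Cfsg.charDegree (ξ : (Subgroup.centralizer (Q : Set G)) → ℂ) else 0 : ℕ) : ℂ) =
          (∑ ξ : Cfsg.IrrCharacter (Subgroup.centralizer (Q : Set G)), m ξ * Cfsg.charDegree (ξ : (Subgroup.centralizer (Q : Set G)) → ℂ) : ℕ) := by
        have e1 : (χ : T → ℂ) 1 = ((∑ ξ : Cfsg.IrrCharacter (Subgroup.centralizer (Q : Set G)), m ξ * Cfsg.charDegree (ξ : (Subgroup.centralizer (Q : Set G)) → ℂ) : ℕ) : ℂ) := by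
          rw [← map_one i, hc1 1]
          push_cast
          exact Finset.sum_congr rfl fun ξ _ => by rw [irr_one_eq ξ.2]
        rw [← e1, ← h1]
        conv_rhs => rw [Finset.sum_congr rfl fun c _ => congrArg (Cfsg.blockCoeff e c * ·) (hc1 c)]
        simp only [Finset.mul_sum]
        rw [Finset.sum_comm]
        push_cast
        refine Finset.sum_congr rfl fun ξ _ => ?_
        rw [Finset.sum_congr rfl fun c _ => mul_left_comm (Cfsg.blockCoeff e c) (m ξ : ℂ) _,
          ← Finset.mul_sum, CfsgLib.Blk.sum_blockCoeff_mul e ξ]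
        split_ifs <;> simp [irr_one_eq ξ.2]
      have h4 := Nat.cast_injective h3
      by_contra hne
      have hmψ : 0 < m ⟨ψ₀, hψ⟩ := Nat.pos_of_ne_zero fun h0 => hψin (by
        rw [show ψ₀ = ((⟨ψ₀, hψ⟩ : Cfsg.IrrCharacter (Subgroup.centralizer (Q : Set G))) : (Subgroup.centralizer (Q : Set G)) → ℂ) from rfl, hm, h0, Nat.cast_zero])
      refine (Finset.sum_lt_sum (fun ξ _ => ?_) ⟨⟨ψ₀, hψ⟩, Finset.mem_univ _, ?_⟩).ne h4
      · exact Nat.mul_le_mul_left _ (by split_ifs <;> simp)
      · rw [if_neg hne, mul_zero]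
        exact Nat.mul_pos hmψ (charDegree_pos hψ)
    -- `Z` lies in the kernel
    have hψZ : ∀ z : (Subgroup.centralizer (Q : Set G)), z ∈ Z → ψ₀ z = ψ₀ 1 := by
      intro z hz
      show η (f z) = η (f 1)
      rw [map_one]
      refine hηQ _ ?_
      show (z : G) * ((1 : Q) : G) ∈ Q
      rw [Subgroup.coe_one, mul_one]
      exact (Subgroup.mem_subgroupOf.1 hz).1
    haveI := Fintype.ofFinite ((Subgroup.centralizer (Q : Set G)) ⧸ Z)
    obtain ⟨ψ', hψ', hcomp⟩ := irr_descend (QuotientGroup.mk' Z) (QuotientGroup.mk'_surjective Z) hψ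
      (fun k hk => hψZ k ((QuotientGroup.eq_one_iff k).1 hk))
    obtain ⟨D, hD⟩ := CfsgLib.Blk.exists_isDefectGroup hM heblk
    have hbarD := CfsgLib.CentralQuotient.defect_bar Z hZc hZp hM heblk hD
    have hbarB := CfsgLib.CentralQuotient.isPBlock_bar Z hZc hZp hM heblk
    have hmem : (⟨ψ', hψ'⟩ : Cfsg.IrrCharacter ((Subgroup.centralizer (Q : Set G)) ⧸ Z)) ∈ CfsgLib.CentralQuotient.bar Z e := by
      show CfsgLib.Blk.inflIrr Z _ ∈ e
      convert hψe using 1
      exact Subtype.ext hcomp
    have hdegψ : Cfsg.charDegree ψ' = Cfsg.charDegree ψ₀ := by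
      rw [← hcomp]; simp [Cfsg.charDegree]
    have hcards : (Nat.card N).factorization p = (Nat.card (Subgroup.centralizer (Q : Set G))).factorization p + zQ -
        (Nat.card Z).factorization p ∧ (Nat.card Z).factorization p ≤ zQ := by
      have hker : Nat.card g.ker = Nat.card Z := by
        refine Nat.card_congr
          { toFun := fun x => ⟨x.1.1, ?_⟩
            invFun := fun z => ⟨(z.1, ⟨(z.1 : G)⁻¹, Q.inv_mem (Subgroup.mem_subgroupOf.1 z.2).1⟩), ?_⟩
            left_inv := ?_
            right_inv := fun z => rfl }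
        · rw [Subgroup.mem_subgroupOf]
          refine ⟨?_, x.1.1.2⟩
          have h : (x.1.1 : G) * x.1.2 = 1 :=
            congrArg (fun n : N => ((n : T) : G)) (MonoidHom.mem_ker.1 x.2)
          rw [eq_inv_of_mul_eq_one_left h]
          exact Q.inv_mem x.1.2.2
        · rw [MonoidHom.mem_ker]
          apply Subtype.ext; apply Subtype.ext
          show (z.1 : G) * (z.1 : G)⁻¹ = 1
          rw [mul_inv_cancel]
        · intro x
          have h : (x.1.1 : G) * x.1.2 = 1 :=
            congrArg (fun n : N => ((n : T) : G)) (MonoidHom.mem_ker.1 x.2)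
          refine Subtype.ext (Prod.ext rfl (Subtype.ext ?_))
          show (x.1.1 : G)⁻¹ = x.1.2
          exact inv_eq_of_mul_eq_one_right h
      have h1 : Nat.card (Subgroup.centralizer (Q : Set G)) * Nat.card Q = Nat.card N * Nat.card Z := by
        rw [← Nat.card_prod, Subgroup.card_eq_card_quotient_mul_card_subgroup g.ker, hker,
          Nat.card_congr (QuotientGroup.quotientKerEquivOfSurjective g hgs).toEquiv]
      have h2 := congrArg (fun n : ℕ => n.factorization p) h1
      simp only [Nat.factorization_mul Nat.card_pos.ne' Nat.card_pos.ne', Finsupp.add_apply,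
        hQfac] at h2
      have h3 : (Nat.card Z).factorization p ≤ zQ := by
        have hdvd : Nat.card Z ∣ Nat.card Q := by
          rw [Nat.card_congr (Subgroup.subgroupOfEquivOfLe (inf_le_right : Q ⊓ (Subgroup.centralizer (Q : Set G)) ≤ (Subgroup.centralizer (Q : Set G)))).toEquiv]
          exact Subgroup.card_dvd_of_le inf_le_left
        rw [← hQfac]
        exact (Nat.factorization_le_iff_dvd Nat.card_pos.ne' Nat.card_pos.ne').2 hdvd p
      exact ⟨by omega, h3⟩
    have hfull : CfsgLib.Blk.pExp p ((Subgroup.centralizer (Q : Set G)) ⧸ Z) ≤ (Cfsg.charDegree ψ').factorization p := by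
      have h1 : (Nat.card (Subgroup.centralizer (Q : Set G))).factorization p =
          (Nat.card ((Subgroup.centralizer (Q : Set G)) ⧸ Z)).factorization p + (Nat.card Z).factorization p := by
        rw [Subgroup.card_eq_card_quotient_mul_card_subgroup Z,
          Nat.factorization_mul Nat.card_pos.ne' Nat.card_pos.ne', Finsupp.add_apply]
      show (Nat.card ((Subgroup.centralizer (Q : Set G)) ⧸ Z)).factorization p ≤ _
      rw [hdegψ, hψd]
      omega
    have hd0 : Cfsg.blockDefect p (CfsgLib.CentralQuotient.bar Z e) = 0 := by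
      have h1 := CfsgLib.Blk.degExp_eq_height_add (p := p) hM hbarB hmem
      have h2 : (Cfsg.charDegree ψ').factorization p ≤ CfsgLib.Blk.pExp p ((Subgroup.centralizer (Q : Set G)) ⧸ Z) :=
        CfsgLib.Blk.degExp_le hψ'
      have h3 := CfsgLib.Blk.blockDefect_le (p := p) hM (CfsgLib.CentralQuotient.bar Z e)
      have h1' : (Cfsg.charDegree ψ').factorization p = CfsgLib.Blk.pExp p ((Subgroup.centralizer (Q : Set G)) ⧸ Z) -
          Cfsg.blockDefect p (CfsgLib.CentralQuotient.bar Z e) +
          Cfsg.blockHeight p (CfsgLib.CentralQuotient.bar Z e) ψ' := h1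
      rcases Nat.eq_zero_or_pos (Cfsg.blockHeight p (CfsgLib.CentralQuotient.bar Z e) ψ') with h0 | h0
      · omega
      · have := (CfsgLib.Blk.height_bounds hM hbarB hmem h0).2
        simp only at this
        omega
    have hDmap : D.map (QuotientGroup.mk' Z) = ⊥ := by
      apply Subgroup.card_eq_one.1
      rw [CfsgLib.Blk.card_defectGroup hM hbarB hbarD, hd0, pow_zero]
    have hDZ : D = Z := by
      refine le_antisymm ?_ (CfsgLib.Blk.normal_pgroup_le_defectGroup hM heblk Z hZp hD)
      rwa [Subgroup.map_eq_bot_iff, QuotientGroup.ker_mk'] at hDmap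
    exact hDZ ▸ hD
  · intro R hR hRp hRn
    set S : Subgroup T := (R ⊔ Q).subgroupOf T with hSdef
    haveI : S.Normal := Subgroup.normal_subgroupOf_of_le_normalizer
      (fun x hx => Subgroup.normalizer_inf_normalizer_le_normalizer_sup _ _ ⟨hRn x hx, hTQ hx⟩)
    haveI := Fintype.ofFinite S
    have hSp : IsPGroup p ↥(R ⊔ Q) :=
      hRp.to_sup_of_normal_right' hQp (hR.trans hTQ)
    obtain ⟨sR, hsR⟩ := IsPGroup.iff_card.1 hSp
    have hScard : Nat.card S = p ^ sR := by
      rw [← hsR]; exact Nat.card_congr (Subgroup.subgroupOfEquivOfLe (sup_le hR hQT)).toEquiv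
    obtain ⟨η, hη, -, hηQ, hηd⟩ := hbound S (Subgroup.comap_mono le_sup_right)
    have hle := deg_sq_le ((Q.subgroupOf T).subgroupOf S) hη
      (fun q hq => hηQ q (Subgroup.mem_subgroupOf.1 (Subgroup.mem_subgroupOf.1 hq)))
    rw [Nat.card_congr (Subgroup.subgroupOfEquivOfLe
      (show Q.subgroupOf T ≤ S from Subgroup.comap_mono le_sup_right)).toEquiv,
      Nat.card_congr (Subgroup.subgroupOfEquivOfLe hQT).toEquiv, hzQ, hScard] at hle
    obtain ⟨a, -, ha⟩ := (Nat.dvd_prime_pow hp).1 (hScard ▸ degree_dvd_card hη)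
    rw [ha, ← pow_add, ← pow_add, Nat.pow_le_pow_iff_right hp.one_lt] at hle
    rw [hScard, hp.factorization_pow, Finsupp.single_eq_same, ha, hp.factorization_pow,
      Finsupp.single_eq_same] at hηd
    have hsz : sR ≤ zQ := by omega
    have hRQ : R ⊔ Q = Q := (Subgroup.eq_of_le_of_card_ge le_sup_right (by
      rw [hsR, hzQ]; exact Nat.pow_le_pow_right hp.pos hsz)).symm
    exact hRQ ▸ le_sup_left

end Cfsg.Agent.S4694
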