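import Cfsg.Statements.S4708
import Cfsg.Agent.Blk.PrincipalNormal

set_option autoImplicit false
open Cfsg

namespace Cfsg.Agent.S4708

open CfsgLib.Char CfsgLib.Blk


/-- Let p be a prime, M a maximal ideal of the algebraic integers containing p, G a finite group and H a normal subgroup. Write λ(X) for the sum of the squares of the degrees of the irreducible characters in the principal p-block of a group X. Then λ(H) ≤ λ(G) ≤ [G : H]·λ(H). -/
theorem result {G : Type*} [Group G] [Finite G] (p : ℕ) [Fact p.Prime] (M : Ideal Cfsg.AlgInt) (hM : Cfsg.IsPModular p M) (H : Subgroup G) [H.Normal] : (∑ᶠ θ ∈ Cfsg.principalBlock M H, Cfsg.charDegree (θ : H → ℂ) ^ 2) ≤ (∑ᶠ χ ∈ Cfsg.principalBlock M G, Cfsg.charDegree (χ : G → ℂ) ^ 2) ∧ (∑ᶠ χ ∈ Cfsg.principalBlock M G, Cfsg.charDegree (χ : G → ℂ) ^ 2) ≤ H.index * ∑ᶠ θ ∈ Cfsg.principalBlock M H, Cfsg.charDegree (θ : H → ℂ) ^ 2 := by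
  classical
  haveI := CfsgLib.Blk.IsPModular.isPrime hM
  haveI := Fintype.ofFinite G
  haveI := Fintype.ofFinite H
  -- multiplicities
  choose m hm using fun (χ : IrrCharacter G) (θ : IrrCharacter H) =>
    inner_char_char (isCharacter_restrict H (isCharacter_of_isIrr χ.2)) (isCharacter_of_isIrr θ.2)
  have hstab : ∀ χ ∈ principalBlock M G, ∀ θ : IrrCharacter H, m χ θ ≠ 0 →
      θ ∈ principalBlock M H := by
    intro χ hχ θ hθ
    have hcon : classInner (fun n : H => (χ : G → ℂ) n) (θ : H → ℂ) ≠ 0 := by
      rw [hm]; exact Nat.cast_ne_zero.2 hθ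
    let T : IrrCharacter H := ⟨fun _ => 1, isIrr_one⟩
    let TG : IrrCharacter G := ⟨fun _ => 1, isIrr_one⟩
    have hT : classInner (fun n : H => (TG : G → ℂ) n) (T : H → ℂ) ≠ 0 := by
      rw [irr_inner_self isIrr_one]; exact one_ne_zero
    obtain ⟨θ', hθ', g, e⟩ := covered_conj hM (c := principalBlock M H) ⟨T, rfl⟩
      (sameBlock_refl _ : T ∈ principalBlock M H)
      (fun n => red_centralChar_eq (χ := TG) hχ (sameBlock_refl _) hT n) hcon
    show SameBlock M (fun _ : H => (1 : ℂ)) (θ : H → ℂ)
    rw [e, conjN_eq_comp]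
    exact (Pair.sameBlock_mvChar (φ := (MulAut.conjNormal g : MulAut H).symm)
      (χ := T) (ψ := θ')).2 hθ'
  have hdeg : ∀ χ : IrrCharacter G, charDegree (χ : G → ℂ) =
      ∑ θ : IrrCharacter H, m χ θ * charDegree (θ : H → ℂ) := by
    intro χ
    have h := congrFun (classFun_eq_sum (f := fun n : H => (χ : G → ℂ) n)
      (classFun_of_char (isCharacter_restrict H (isCharacter_of_isIrr χ.2)))) 1
    simp only [Finset.sum_apply, Pi.smul_apply, smul_eq_mul, hm, Subgroup.coe_one] at h
    rw [irr_one_eq χ.2] at h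
    simp only [irr_one_eq (Subtype.prop _)] at h
    exact_mod_cast h
  have hind : ∀ θ : IrrCharacter H, H.index * charDegree (θ : H → ℂ) =
      ∑ χ : IrrCharacter G, m χ θ * charDegree (χ : G → ℂ) := by
    intro θ
    have h := congrFun (classFun_eq_sum (indFun_classFun H (θ : H → ℂ))) 1
    simp only [Finset.sum_apply, Pi.smul_apply, smul_eq_mul, indFun_one] at h
    have e : ∀ χ : IrrCharacter G, classInner (indFun H (θ : H → ℂ)) (χ : G → ℂ) = (m χ θ : ℂ) :=
      fun χ => by
        rw [frobenius H _ (classFun_of_irr χ.2), ← classInner_conj, hm, Complex.conj_natCast]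
    simp only [e, irr_one_eq (Subtype.prop _)] at h
    exact_mod_cast h
  rw [finsum_mem_eq_sum_ite, finsum_mem_eq_sum_ite]
  have key : ∀ χ ∈ principalBlock M G, charDegree (χ : G → ℂ) ^ 2 =
      ∑ θ : IrrCharacter H, (if θ ∈ principalBlock M H then
        m χ θ * charDegree (χ : G → ℂ) * charDegree (θ : H → ℂ) else 0) := by
    intro χ hχ
    rw [sq]
    conv_lhs => rw [hdeg χ, Finset.sum_mul]
    refine Finset.sum_congr rfl fun θ _ => ?_
    split_ifs with hθ
    · rw [← hdeg χ]; ring
    · rw [show m χ θ = 0 by by_contra h; exact hθ (hstab χ hχ θ h), zero_mul, zero_mul]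
  constructor
  · calc ∑ θ : IrrCharacter H, (if θ ∈ principalBlock M H then charDegree (θ : H → ℂ) ^ 2 else 0)
        ≤ ∑ θ : IrrCharacter H, ∑ χ : IrrCharacter G, (if χ ∈ principalBlock M G then
          (if θ ∈ principalBlock M H then
            m χ θ * charDegree (χ : G → ℂ) * charDegree (θ : H → ℂ) else 0) else 0) := by
          refine Finset.sum_le_sum fun θ _ => ?_
          by_cases hθ : θ ∈ principalBlock M H
          · obtain ⟨χ, hχ, hc⟩ := exists_principal_over hM H hθ
            refine le_trans ?_ (Finset.single_le_sum (fun χ _ => Nat.zero_le _) (Finset.mem_univ χ))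
            rw [if_pos hχ, if_pos hθ, if_pos hθ, sq]
            have h1 : 1 ≤ m χ θ := Nat.one_le_iff_ne_zero.2 fun h => hc (by rw [hm, h, Nat.cast_zero])
            have h2 : charDegree (θ : H → ℂ) ≤ charDegree (χ : G → ℂ) := by
              rw [hdeg χ]
              exact le_trans (Nat.le_mul_of_pos_left _ h1)
                (Finset.single_le_sum (f := fun θ : IrrCharacter H => m χ θ * charDegree (θ : H → ℂ))
                  (fun _ _ => Nat.zero_le _) (Finset.mem_univ θ))
            exact Nat.mul_le_mul_right _ (le_trans h2 (Nat.le_mul_of_pos_left _ h1))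
          · rw [if_neg hθ]; exact Nat.zero_le _
      _ = _ := by
          rw [Finset.sum_comm]
          refine Finset.sum_congr rfl fun χ _ => ?_
          split_ifs with hχ
          · exact (key χ hχ).symm
          · exact Finset.sum_const_zero
  · calc ∑ χ : IrrCharacter G, (if χ ∈ principalBlock M G then charDegree (χ : G → ℂ) ^ 2 else 0)
        ≤ ∑ χ : IrrCharacter G, ∑ θ : IrrCharacter H, (if θ ∈ principalBlock M H then
            m χ θ * charDegree (χ : G → ℂ) * charDegree (θ : H → ℂ) else 0) := by
          refine Finset.sum_le_sum fun χ _ => ?_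
          split_ifs with hχ
          · exact (key χ hχ).le
          · exact Nat.zero_le _
      _ = _ := by
          rw [Finset.sum_comm, Finset.mul_sum]
          refine Finset.sum_congr rfl fun θ _ => ?_
          split_ifs
          · rw [← Finset.sum_mul, ← hind θ]; ring
          · simp

end Cfsg.Agent.S4708
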