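import Cfsg.Statements.S4711
import Cfsg.Agent.Blk.Principal
import Cfsg.Agent.S0938
import Cfsg.Agent.Solv.PLengthOne
import Cfsg.Agent.Char.NormalSum
import Cfsg.Agent.Char.Clifford

set_option autoImplicit false
open Cfsg

namespace Cfsg.Agent.S4711

open CfsgLib.Char CfsgLib.Blk
open scoped ComplexConjugate

/-- Let p be a prime, M a maximal ideal of the algebraic integers containing p, G a finite group, P a Sylow p-subgroup and N = N_G(P). Then G has p-length 1 (G = O_{p',p,p'}(G)) if and only if every irreducible character in the principal p-block of G restricts to an irreducible character of N. -/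
theorem result {G : Type*} [Group G] [Finite G] (p : ℕ) [Fact p.Prime] (M : Ideal Cfsg.AlgInt) (hM : Cfsg.IsPModular p M) (P : Sylow p G) : Cfsg.PLengthLE p 1 G ↔ ∀ χ ∈ Cfsg.principalBlock M G, Cfsg.IsIrrCharacter ↥(Subgroup.normalizer ((P : Subgroup G) : Set G)) (fun n : ↥(Subgroup.normalizer ((P : Subgroup G) : Set G)) => (χ : G → ℂ) n) := by
  classical
  haveI := Fintype.ofFinite G
  haveI : M.IsPrime := hM.2.1.isPrime
  have hp : p.Prime := Fact.out
  set O := pPrimeCore p G with hO
  haveI hOn : O.Normal := CfsgLib.Solv.pPrimeCore_normal G p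
  have hOp : ¬ p ∣ Nat.card O := CfsgLib.Solv.not_dvd_card_pPrimeCore
  set q := QuotientGroup.mk' O
  have hq : Function.Surjective q := QuotientGroup.mk'_surjective O
  set N := Subgroup.normalizer ((P : Subgroup G) : Set G)
  let Pb : Sylow p (G ⧸ O) := P.mapSurjective hq
  constructor
  · intro hlen χ hχ
    -- the image of `P` is normal
    set U1 := (upperPSeries p G 1).1
    have hU1 : U1 = O := by
      show (pPrimeCore p (G ⧸ (⊥ : Subgroup G))).comap (QuotientGroup.mk' ⊥) = _
      rw [hO, ← CfsgLib.Solv.map_pPrimeCore_equiv (p := p) (QuotientGroup.quotientBot (G := G)).symm]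
      exact Subgroup.comap_map_eq_self_of_injective (f := QuotientGroup.mk' (⊥ : Subgroup G))
        (fun a b hab => by simpa [QuotientGroup.eq, inv_mul_eq_one] using hab) _
    have hidx : ¬ p ∣ (pCore p (G ⧸ U1)).index := by
      have h3 : (pPrimeCore p (G ⧸ (upperPSeries p G 2).1)).comap
          (QuotientGroup.mk' (upperPSeries p G 2).1) = ⊤ := hlen
      have h4 : pPrimeCore p (G ⧸ (upperPSeries p G 2).1) = ⊤ := eq_top_iff.2 fun x _ => by
        obtain ⟨g, rfl⟩ := QuotientGroup.mk'_surjective (upperPSeries p G 2).1 x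
        exact (Subgroup.eq_top_iff' _).1 h3 g
      have h5 : ¬ p ∣ Nat.card (pPrimeCore p (G ⧸ (upperPSeries p G 2).1)) :=
        CfsgLib.Solv.not_dvd_card_pPrimeCore
      rw [h4, Subgroup.card_top, ← Subgroup.index_eq_card] at h5
      have h6 : (upperPSeries p G 2).1 = (pCore p (G ⧸ U1)).comap (QuotientGroup.mk' U1) := rfl
      rwa [h6, Subgroup.index_comap_of_surjective _ (QuotientGroup.mk'_surjective _)] at h5
    have hidx' : ¬ p ∣ (pCore p (G ⧸ O)).index := by
      have e := QuotientGroup.quotientMulEquivOfEq hU1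
      rw [← CfsgLib.Solv.map_pCore_equiv (p := p) e]
      simpa [Subgroup.index_map_equiv] using hidx
    have hPb : (Pb : Subgroup (G ⧸ O)) = pCore p (G ⧸ O) := by
      have hle := CfsgLib.Solv.pCore_le_sylow Pb
      refine le_antisymm ?_ hle
      obtain ⟨j, hj⟩ := IsPGroup.iff_card.1 Pb.isPGroup'
      obtain ⟨i, -, hi⟩ := (Nat.dvd_prime_pow hp).1 (hj ▸
        Subgroup.relIndex_dvd_card (pCore p (G ⧸ O)) (Pb : Subgroup (G ⧸ O)))
      rcases Nat.eq_zero_or_pos i with rfl | hi0
      · exact Subgroup.relIndex_eq_one.1 (by rw [hi, pow_zero])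
      · haveI := CfsgLib.Solv.pCore_normal (G ⧸ O) p
        exact absurd ((hi ▸ dvd_pow_self p hi0.ne').trans (Subgroup.relIndex_dvd_index_of_normal _ _)) hidx'
    haveI hKn : ((P : Subgroup G) ⊔ O).Normal := by
      have h1 : ((P : Subgroup G).map q).Normal := by
        show (Pb : Subgroup (G ⧸ O)).Normal
        rw [hPb]; exact CfsgLib.Solv.pCore_normal (G ⧸ O) p
      have := Subgroup.Normal.comap h1 q
      rwa [Subgroup.comap_map_eq, QuotientGroup.ker_mk'] at this
    have hfr : N ⊔ ((P : Subgroup G) ⊔ O) = ⊤ := Sylow.normalizer_sup_eq_top' P le_sup_left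
    have hsurj : Function.Surjective (q.comp N.subtype) := by
      have h1 : N ⊔ O = ⊤ := by
        rw [← hfr]
        refine le_antisymm (sup_le le_sup_left (le_sup_of_le_right le_sup_right))
          (sup_le le_sup_left (sup_le (le_sup_of_le_left Subgroup.le_normalizer) le_sup_right))
      intro x
      obtain ⟨g, rfl⟩ := hq x
      obtain ⟨a, ha, b, hb, rfl⟩ := Subgroup.mem_sup_of_normal_right.1 (h1 ▸ Subgroup.mem_top g : g ∈ N ⊔ O)
      exact ⟨⟨a, ha⟩, by rw [map_mul, show q b = 1 from (QuotientGroup.eq_one_iff b).2 hb, mul_one]; rfl⟩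
    haveI := Fintype.ofFinite (G ⧸ O)
    haveI := Fintype.ofFinite N
    obtain ⟨χ', hχ', he⟩ := irr_descend q hq χ.2 fun k hk =>
      principal_apply_one hM hχ O hOp ((QuotientGroup.eq_one_iff k).1 hk)
    have h := irr_comp (q.comp N.subtype) hsurj hχ'
    convert h using 1
    funext n
    exact (congrFun he (n : G)).symm
  · intro hirr
    haveI := Fintype.ofFinite N
    haveI := Fintype.ofFinite (P : Subgroup G)
    set K := Subgroup.normalClosure ((P : Subgroup G) : Set G)
    haveI : K.Normal := Subgroup.normalClosure_normal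
    haveI : ((P : Subgroup G).subgroupOf N).Normal := Subgroup.normal_in_normalizer
    haveI := Fintype.ofFinite ((P : Subgroup G).subgroupOf N)
    let inK : IrrCharacter G → Prop := fun χ => ∀ k ∈ K, (χ : G → ℂ) k = (χ : G → ℂ) 1
    -- sums over `P`
    have hsum : ∀ χ ∈ principalBlock M G, ∑ x : (P : Subgroup G), (χ : G → ℂ) (x : G) =
        if inK χ then (Nat.card P : ℂ) * (χ : G → ℂ) 1 else 0 := by
      intro χ hχ
      split_ifs with hk
      · rw [Finset.sum_congr rfl fun (x : (P : Subgroup G)) _ => hk x (Subgroup.subset_normalClosure x.2),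
          Finset.sum_const, Finset.card_univ, nsmul_eq_mul, Nat.card_eq_fintype_card]
      · have he : ∑ x : (P : Subgroup G).subgroupOf N, (χ : G → ℂ) ((x : N) : G) =
            ∑ x : (P : Subgroup G), (χ : G → ℂ) (x : G) :=
          Fintype.sum_equiv (Subgroup.subgroupOfEquivOfLe Subgroup.le_normalizer).toEquiv _ _ fun x => rfl
        rw [← he]
        refine (irr_sum_zero_or_kernel (N := (P : Subgroup G).subgroupOf N) (hirr χ hχ)).resolve_right
          fun hker => hk ?_
        obtain ⟨Kχ, hKχn, hKχ, -⟩ := exists_kernel (isCharacter_of_isIrr χ.2)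
        haveI := hKχn
        intro k hk'
        refine (hKχ k).1 (Subgroup.normalClosure_le_normal ?_ hk')
        intro x hx
        exact (hKχ x).2 (hker ⟨x, Subgroup.le_normalizer hx⟩ hx)
    set B := Finset.univ.filter (· ∈ principalBlock M G)
    -- the key identity at regular elements
    have hkey : ∀ g : G, ¬ p ∣ orderOf g →
        ∑ χ ∈ B, (χ : G → ℂ) g * conj ((χ : G → ℂ) 1) =
          ∑ χ ∈ B, (χ : G → ℂ) g * (if inK χ then (Nat.card P : ℂ) * conj ((χ : G → ℂ) 1) else 0) := by
      intro g hg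
      have h1 : ∀ χ ∈ B, (χ : G → ℂ) g * (if inK χ then (Nat.card P : ℂ) * conj ((χ : G → ℂ) 1) else 0) =
          ∑ x : (P : Subgroup G), (χ : G → ℂ) g * conj ((χ : G → ℂ) (x : G)) := by
        intro χ hχ
        rw [← Finset.mul_sum, ← map_sum, hsum χ (Finset.mem_filter.1 hχ).2]
        split_ifs <;> simp
      rw [Finset.sum_congr rfl h1, Finset.sum_comm, Finset.sum_eq_single (1 : (P : Subgroup G))]
      · simp
      · intro x _ hx
        obtain ⟨j, hj⟩ := P.isPGroup'.exists_orderOf_eq_pow x
        rw [← Subgroup.orderOf_coe] at hj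
        have hne : ¬ IsConj 1 (x : G) := fun h => hx (Subtype.ext (isConj_one_right.1 h))
        have h := block_orth hM (isPBlock_principalBlock (M := M) (G := G)) (isPPart_one_of_regular hg)
          (isPPart_self ⟨j, hj⟩ hp) hne
        rw [finsum_mem_eq_sum_ite, ← Finset.sum_filter] at h
        exact h
      · exact fun h => absurd (Finset.mem_univ _) h
    -- regular elements of `K` lie in the kernel of the block
    obtain ⟨K0, hK0n, hK0, hK0p, -⟩ := Cfsg.Agent.S0938.result p M hM (principalBlock M G)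
      isPBlock_principalBlock ⟨_, isIrr_one⟩ one_mem_principalBlock
    have hK0O : K0 ≤ O := by
      haveI := hK0n
      exact CfsgLib.Solv.le_pPrimeCore ((hp.coprime_iff_not_dvd.2 hK0p).symm)
    have hreg : ∀ k ∈ K, ¬ p ∣ orderOf k → k ∈ O := by
      intro k hk hkr
      apply hK0O
      rw [← SetLike.mem_coe, hK0]
      intro χ hχ
      have h1 := hkey k hkr
      have h2 := hkey 1 (by rw [orderOf_one]; exact hp.not_dvd_one)
      have h3 : ∑ χ ∈ B, (χ : G → ℂ) k * conj ((χ : G → ℂ) 1) =
          ∑ χ ∈ B, (χ : G → ℂ) 1 * conj ((χ : G → ℂ) 1) := by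
        rw [h1, h2]
        refine Finset.sum_congr rfl fun ψ _ => ?_
        split_ifs with h
        · rw [h k hk]
        · simp
      have hre : ∀ ψ : IrrCharacter G, ((ψ : G → ℂ) k).re ≤ (charDegree (ψ : G → ℂ) : ℝ) :=
        fun ψ => (Complex.re_le_norm _).trans (char_norm_le (isCharacter_of_isIrr ψ.2) _)
      have h4 := congrArg Complex.re h3
      rw [Complex.re_sum, Complex.re_sum] at h4
      have h5 : ∀ ψ ∈ B, ((ψ : G → ℂ) k * conj ((ψ : G → ℂ) 1)).re ≤
          ((ψ : G → ℂ) 1 * conj ((ψ : G → ℂ) 1)).re := fun ψ _ => by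
        rw [irr_one_eq ψ.2]
        simp only [Complex.conj_natCast, Complex.mul_re, Complex.natCast_re, Complex.natCast_im,
          mul_zero, sub_zero]
        exact mul_le_mul_of_nonneg_right (hre ψ) (Nat.cast_nonneg _)
      have h6 := (Finset.sum_eq_sum_iff_of_le h5).1 h4 χ (by simp [B, hχ])
      rw [irr_one_eq χ.2] at h6 ⊢
      simp only [Complex.conj_natCast, Complex.mul_re, Complex.natCast_re, Complex.natCast_im,
        mul_zero, sub_zero] at h6
      have hd : (0 : ℝ) < charDegree (χ : G → ℂ) := by exact_mod_cast charDegree_pos χ.2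
      have h7 : ((χ : G → ℂ) k).re = (charDegree (χ : G → ℂ) : ℝ) := mul_right_cancel₀ hd.ne' h6
      have h8 := char_norm_le (isCharacter_of_isIrr χ.2) k
      have him : ((χ : G → ℂ) k).im = 0 := by
        have h9 : Complex.normSq ((χ : G → ℂ) k) ≤ (charDegree (χ : G → ℂ) : ℝ) ^ 2 := by
          rw [Complex.normSq_eq_norm_sq]; exact pow_le_pow_left₀ (norm_nonneg _) h8 2
        rw [Complex.normSq_apply, h7] at h9
        nlinarith [mul_self_nonneg ((χ : G → ℂ) k).im]
      exact Complex.ext (by simp [h7]) (by simp [him])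
    haveI : (K.map q).Normal := Subgroup.Normal.map inferInstance q hq
    have hKb : IsPGroup p (K.map q) := by
      rintro ⟨_, k, hk, rfl⟩
      set v := (orderOf k).factorization p
      refine ⟨v, Subtype.ext ?_⟩
      show (q k) ^ p ^ v = 1
      rw [← map_pow]
      refine (QuotientGroup.eq_one_iff _).2 (hreg _ (K.pow_mem hk _) ?_)
      rw [orderOf_pow_of_dvd (pow_ne_zero _ hp.ne_zero) (Nat.ordProj_dvd _ _)]
      exact Nat.not_dvd_ordCompl hp (orderOf_pos k).ne'
    refine CfsgLib.Solv.PLen.pLengthLE_one_of_index fun hdvd => Pb.not_dvd_index (hdvd.trans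
      (Subgroup.index_dvd_of_le ?_))
    refine le_trans ?_ (CfsgLib.Solv.le_pCore hKb)
    exact Subgroup.map_mono (fun x hx => Subgroup.subset_normalClosure hx)

end Cfsg.Agent.S4711
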