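import Cfsg.Statements.S4714
import Cfsg.Agent.Blk.Canonical

set_option autoImplicit false
open Cfsg

namespace Cfsg.Agent.S4714

set_option linter.style.haveILetI false
open CfsgLib.Char CfsgLib.Blk

/-- Let p be a prime, M a maximal ideal of the algebraic integers containing p, D a p-subgroup of the finite group G with G = D·C_G(D), and B a p-block with defect group D. Let χ be a member of B having D in its kernel (there is exactly one, the canonical character of B). Then the irreducible characters in B are exactly the functions θ on G for which there is an irreducible character ζ of D such that θ(yx) = ζ(y)χ(x) whenever y ∈ D, x has order prime to p and x commutes with y, and θ(z) = 0 whenever the p-part of z does not lie in D. -/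
theorem result {G : Type*} [Group G] [Finite G] (p : ℕ) [Fact p.Prime] (M : Ideal Cfsg.AlgInt) (hM : Cfsg.IsPModular p M) (D : Subgroup G) (hD : IsPGroup p D) (hG : D ⊔ Subgroup.centralizer (D : Set G) = ⊤) (B : Set (Cfsg.IrrCharacter G)) (hB : Cfsg.IsPBlock M B) (hBD : Cfsg.IsDefectGroup p M B D) (χ : Cfsg.IrrCharacter G) (hχ : χ ∈ B) (hχD : ∀ y ∈ D, (χ : G → ℂ) y = (χ : G → ℂ) 1) : (∀ θ : Cfsg.IrrCharacter G, θ ∈ B ↔ ∃ ζ : Cfsg.IrrCharacter D, (∀ (y : D) (x : G), ¬ p ∣ orderOf x → Commute (y : G) x → (θ : G → ℂ) ((y : G) * x) = (ζ : D → ℂ) y * (χ : G → ℂ) x) ∧ (∀ z : G, (∀ y : G, Cfsg.IsPPart p z y → y ∉ D) → (θ : G → ℂ) z = 0)) ∧ ∀ ζ : Cfsg.IrrCharacter D, ∃ θ ∈ B, (∀ (y : D) (x : G), ¬ p ∣ orderOf x → Commute (y : G) x → (θ : G → ℂ) ((y : G) * x) = (ζ : D → ℂ) y * (χ : G → ℂ) x) ∧ (∀ z : G, (∀ y : G, Cfsg.IsPPart p z y → y ∉ D) → (θ : G → ℂ) z = 0) := by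
  classical
  haveI := CfsgLib.Blk.IsPModular.isPrime hM
  haveI := Fintype.ofFinite G
  haveI := Fintype.ofFinite D
  haveI := normal_of_pc_top hG
  obtain ⟨F, hF, hsur, -⟩ := canonical_param hD hG hM hB hBD hχ hχD
  have hprop : ∀ ζ : IrrCharacter D,
      (∀ (y : D) (x : G), ¬ p ∣ orderOf x → Commute (y : G) x →
        (F ζ : G → ℂ) ((y : G) * x) = (ζ : D → ℂ) y * (χ : G → ℂ) x) ∧
      (∀ z : G, (∀ y : G, Cfsg.IsPPart p z y → y ∉ D) → (F ζ : G → ℂ) z = 0) := by
    intro ζ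
    rw [(hF ζ).2]
    exact ⟨fun y x hx _ => secFun_mul hD hG _ _ y hx,
      fun z hz => secFun_out _ _ (hz _ (ppOf_spec p z))⟩
  refine ⟨fun θ => ⟨fun hθ => ?_, ?_⟩, fun ζ => ⟨F ζ, (hF ζ).1, hprop ζ⟩⟩
  · obtain ⟨ζ, rfl⟩ := hsur θ hθ
    exact ⟨ζ, hprop ζ⟩
  · rintro ⟨ζ, h1, h2⟩
    have he : θ = F ζ := by
      refine Subtype.ext (funext fun g => ?_)
      rw [(hF ζ).2]
      by_cases hg : ppOf p g ∈ D
      · have hr := ppOf_inv_mul_regular p g
        have e1 := h1 ⟨_, hg⟩ _ hr (sec_commute hD hG ⟨_, hg⟩ hr)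
        have e2 := secFun_mul hD hG (χ : G → ℂ) (ζ : D → ℂ) ⟨_, hg⟩ hr
        simp only [mul_inv_cancel_left] at e1 e2
        rw [e1, e2]
      · rw [secFun_out _ _ hg]
        exact h2 g fun y hy => by rw [← ppOf_eq hy]; exact hg
    exact he ▸ (hF ζ).1

end Cfsg.Agent.S4714
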