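import Cfsg.Statements.S4716
import Cfsg.Agent.Blk.Contrib

set_option autoImplicit false
open Cfsg

namespace Cfsg.Agent.S4716

set_option linter.style.haveILetI false
open CfsgLib.Char CfsgLib.Blk
open scoped ComplexConjugate

/-- The power of `y` gives the same bound. -/
theorem bound_pow {G : Type*} [Group G] [Finite G] [Fintype G] {p : ℕ} [Fact p.Prime]
    {M : Ideal Cfsg.AlgInt} [M.IsPrime] (hM : Cfsg.IsPModular p M) {C : Subgroup G} [Fintype C]
    {b : Set (Cfsg.IrrCharacter C)} (hb : Cfsg.IsPBlock M b) {y : G} {k : ℕ}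
    (hy : orderOf y = p ^ k) (hC : Subgroup.centralizer ({y} : Set G) = C) (hyC : y ∈ C)
    (n : Cfsg.IrrCharacter G → Cfsg.IrrCharacter C → ℕ)
    (hn : ∀ χ : Cfsg.IrrCharacter G, ∀ x : C, (χ : G → ℂ) x = ∑ η, (n χ η : ℂ) * (η : C → ℂ) x)
    (z : Cfsg.IrrCharacter C → ℂ)
    (hz : ∀ (η : Cfsg.IrrCharacter C) (j : ℕ) (x : C),
      (η : C → ℂ) ((⟨y, hyC⟩ : C) ^ j * x) = z η ^ j * (η : C → ℂ) x)
    (S : Finset (Cfsg.IrrCharacter G)) {j : ℕ} (hj : j.Coprime (orderOf y)) :
    ∑ χ ∈ S, ∑ χ' ∈ S, ‖Cfsg.classInner (secVec b p (n χ) fun η => z η ^ j)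
      (secVec b p (n χ') fun η => z η ^ j)‖ ^ 2 ≤ (Cfsg.blockRank p b : ℝ) := by
  have hord : orderOf (y ^ j) = p ^ k := by rw [Nat.Coprime.orderOf_pow hj.symm, hy]
  obtain ⟨m, hm⟩ := exists_pow_eq_self_of_coprime hj
  refine contributions_bound b hM hb (y := y ^ j) ?_ ⟨k, hord⟩ (pow_mem hyC j) n hn _ ?_ S
  · rw [← hC]
    ext x
    simp only [Subgroup.mem_centralizer_singleton_iff]
    refine ⟨fun h => ?_, fun h => (Commute.pow_right h j)⟩
    have h' : Commute x (y ^ j) := h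
    have := h'.pow_right m
    rwa [hm] at this
  · intro η x
    exact hz η j x

/-- Let p be a prime, M a maximal ideal of the algebraic integers containing p, and B a p-block of defect d of the finite group G all of whose irreducible characters have height zero. Let y be a p-element, C = C_G(y), and b a block of C inducing B and having the same defect d (a major subsection). Then k(B)^2 ≤ p^(2d)·l(b), where k(B) is the number of irreducible characters in B and l(b) the p-regular rank of b (its number of irreducible Brauer characters); in particular (y = 1) k(B)^2 ≤ p^(2d)·l(B). -/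
theorem result {G : Type*} [Group G] [Finite G] (p : ℕ) [Fact p.Prime] (M : Ideal Cfsg.AlgInt) (hM : Cfsg.IsPModular p M) (B : Set (Cfsg.IrrCharacter G)) (hB : Cfsg.IsPBlock M B) (d : ℕ) (hd : Cfsg.blockDefect p B = d) (hh : ∀ χ ∈ B, Cfsg.blockHeight p B (χ : G → ℂ) = 0) (y : G) (hy : ∃ k : ℕ, orderOf y = p ^ k) (b : Set (Cfsg.IrrCharacter ↥(Subgroup.centralizer ({y} : Set G)))) (hind : Cfsg.IsInducedBlock M (Subgroup.centralizer ({y} : Set G)) b B) (hbd : Cfsg.blockDefect p b = d) : Nat.card B ^ 2 ≤ p ^ (2 * d) * Cfsg.blockRank p b := by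
  classical
  haveI := CfsgLib.Blk.IsPModular.isPrime hM
  haveI := Fintype.ofFinite G
  haveI := Fintype.ofFinite ↥(Subgroup.centralizer ({y} : Set G))
  obtain ⟨k, hk⟩ := hy
  obtain ⟨hb, -, -⟩ := (isInducedBlock_iff _).1 hind
  have hyC : y ∈ Subgroup.centralizer ({y} : Set G) := Subgroup.mem_centralizer_singleton_iff.2 rfl
  have hres := fun χ : Cfsg.IrrCharacter G => isCharacter_restrict
    (Subgroup.centralizer ({y} : Set G)) (isCharacter_of_isIrr χ.2)
  choose n hn' using fun (χ : Cfsg.IrrCharacter G)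
    (η : Cfsg.IrrCharacter ↥(Subgroup.centralizer ({y} : Set G))) => inner_char_irr (hres χ) η.2
  have hn : ∀ (χ : Cfsg.IrrCharacter G) (x : ↥(Subgroup.centralizer ({y} : Set G))),
      (χ : G → ℂ) x = ∑ η, (n χ η : ℂ) * (η : ↥(Subgroup.centralizer ({y} : Set G)) → ℂ) x := by
    intro χ x
    rw [congrFun (classFun_eq_sum (classFun_of_char (hres χ))) x]
    simp [hn']
  have hyx : ∀ x : ↥(Subgroup.centralizer ({y} : Set G)),
      Commute (⟨y, hyC⟩ : ↥(Subgroup.centralizer ({y} : Set G))) x := fun x =>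
    Subtype.ext (Subgroup.mem_centralizer_singleton_iff.1 x.2).symm
  choose z hz1 hz using fun η => exists_central_scalar η hyx
  have hord : orderOf (⟨y, hyC⟩ : ↥(Subgroup.centralizer ({y} : Set G))) = orderOf y :=
    (Subgroup.orderOf_coe _).symm
  simp only [hord] at hz1
  -- integer Cartan data and exponents
  have ha : ∀ η η' : Cfsg.IrrCharacter ↥(Subgroup.centralizer ({y} : Set G)), η ∈ b →
      ∃ a : ℤ, (a : ℂ) = (p : ℂ) ^ Cfsg.blockDefect p b *
        Cfsg.classInner (regPart p (η : ↥(Subgroup.centralizer ({y} : Set G)) → ℂ))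
          (η' : ↥(Subgroup.centralizer ({y} : Set G)) → ℂ) := fun η η' hη => by
    obtain ⟨a, u, -, -, -, h, -⟩ := exists_regCartan hM hb hη η'
    exact ⟨a, h⟩
  have hae : ∀ η η' : Cfsg.IrrCharacter ↥(Subgroup.centralizer ({y} : Set G)), ∃ a : ℤ, η ∈ b →
      (a : ℂ) = (p : ℂ) ^ Cfsg.blockDefect p b *
        Cfsg.classInner (regPart p (η : ↥(Subgroup.centralizer ({y} : Set G)) → ℂ))
          (η' : ↥(Subgroup.centralizer ({y} : Set G)) → ℂ) := fun η η' => by
    by_cases h : η ∈ b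
    · exact (ha η η' h).imp fun a h' _ => h'
    · exact ⟨0, fun h' => absurd h' h⟩
  choose a ha0' using hae
  set N := orderOf y with hN
  have hN0 : N ≠ 0 := (orderOf_pos y).ne'
  obtain ⟨ζ, hζ⟩ : ∃ ζ : ℂ, IsPrimitiveRoot ζ N := ⟨_, Complex.isPrimitiveRoot_exp N hN0⟩
  haveI : NeZero N := ⟨hN0⟩
  choose e he he' using fun η => hζ.eq_pow_of_pow_eq_one (hz1 η)
  let P : Cfsg.IrrCharacter G → Cfsg.IrrCharacter G → Polynomial ℤ := fun χ χ' =>
    ∑ η, ∑ η', if η ∈ b then (if η' ∈ b then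
      Polynomial.C ((n χ η : ℤ) * (n χ' η' : ℤ) * a η η') * Polynomial.X ^ (e η + (N - 1) * e η')
        else 0) else 0
  have hval : ∀ j : ℕ, ∀ χ χ' : Cfsg.IrrCharacter G, Polynomial.aeval (ζ ^ j) (P χ χ') =
      (p : ℂ) ^ Cfsg.blockDefect p b * Cfsg.classInner (secVec b p (n χ) fun η => z η ^ j)
        (secVec b p (n χ') fun η => z η ^ j) := by
    intro j χ χ'
    simp only [secVec, classInner_sum_left, P, map_sum, Finset.mul_sum]
    refine Finset.sum_congr rfl fun η _ => ?_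
    rw [classInner_smul_left, classInner_sum_right, Finset.mul_sum, Finset.mul_sum]
    refine Finset.sum_congr rfl fun η' _ => ?_
    have hrr : Cfsg.classInner
        (regPart p (η : ↥(Subgroup.centralizer ({y} : Set G)) → ℂ))
        (regPart p (η' : ↥(Subgroup.centralizer ({y} : Set G)) → ℂ)) =
      Cfsg.classInner (regPart p (η : ↥(Subgroup.centralizer ({y} : Set G)) → ℂ))
        (η' : ↥(Subgroup.centralizer ({y} : Set G)) → ℂ) := by
      simp only [classInner_def, regPart]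
      refine congrArg _ (Finset.sum_congr rfl fun x _ => ?_)
      split_ifs <;> simp
    rw [classInner_smul_right, hrr]
    by_cases h : η ∈ b
    · by_cases h' : η' ∈ b
      · simp only [h, h', if_true, map_mul, map_intCast, map_natCast, map_pow, Polynomial.aeval_X,
          Int.cast_mul, Int.cast_natCast, ha0' η η' h, pow_add, pow_mul, eq_intCast]
        have hc : (ζ ^ j) ^ (N - 1) = conj (ζ ^ j) := by
          have h1 : (ζ ^ j) ^ N = 1 := by rw [← pow_mul, mul_comm, pow_mul, hζ.pow_eq_one, one_pow]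
          rw [← Complex.inv_eq_conj (Complex.norm_eq_one_of_pow_eq_one h1 hN0)]
          refine eq_inv_of_mul_eq_one_left ?_
          rw [← pow_succ, Nat.sub_add_cancel (Nat.pos_of_ne_zero hN0), h1]
        rw [hc]
        simp only [← he', map_pow, ← pow_mul]
        rw [mul_comm j (e η), mul_comm j (e η')]
        ring
      · simp [h, h']
    · simp [h]
  have hne : ∀ χ ∈ B, ∀ χ' ∈ B, ∀ ζ' ∈ primitiveRoots N ℂ,
      Polynomial.aeval ζ' (P χ χ') ≠ 0 := by
    intro χ hχ χ' hχ' ζ' hζ'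
    have hpN : ζ' ^ (p ^ k) = 1 := by
      rw [← hk]
      exact ((mem_primitiveRoots (Nat.pos_of_ne_zero hN0)).1 hζ').pow_eq_one
    refine fun h0 => contribution_unit b hM hb hind hχ hχ' (hh χ hχ) (hh χ' hχ') n hn a ha0' ?_
    have h1 : red M (Polynomial.aeval ζ' (P χ χ')) = ((∑ η, ∑ η', if η ∈ b then
        (if η' ∈ b then (n χ η : ℤ) * (n χ' η' : ℤ) * a η η' else 0) else 0 : ℤ) : Res M) := by
      rw [red_aeval_root hM hpN]
      congr 1
      simp only [P, Polynomial.eval_finset_sum]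
      refine Finset.sum_congr rfl fun η _ => Finset.sum_congr rfl fun η' _ => ?_
      split_ifs <;> simp
    rw [h0, red_zero] at h1
    haveI := charP_res (M := M) hM
    exact (CharP.intCast_eq_zero_iff (Res M) p _).1 h1.symm
  have hbound : ∀ ζ' ∈ primitiveRoots N ℂ,
      ∑ χ ∈ B.toFinset, ∑ χ' ∈ B.toFinset, ‖Polynomial.aeval ζ' (P χ χ')‖ ^ 2 ≤
        ((p : ℝ) ^ d) ^ 2 * (Cfsg.blockRank p b : ℝ) := by
    intro ζ' hζ'
    obtain ⟨j, -, hj, rfl⟩ := (hζ.isPrimitiveRoot_iff (ξ := ζ')).1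
      ((mem_primitiveRoots (Nat.pos_of_ne_zero hN0)).1 hζ')
    simp only [hval, norm_mul, mul_pow, norm_pow, Complex.norm_natCast, ← Finset.mul_sum, hbd]
    refine mul_le_mul_of_nonneg_left ?_ (sq_nonneg _)
    exact bound_pow hM hb hk rfl hyC n hn z (fun η j' x => hz η j' x) _ hj
  have hsum : ((primitiveRoots N ℂ).card : ℝ) * (Nat.card B : ℝ) ^ 2 ≤
      ((primitiveRoots N ℂ).card : ℝ) * (((p : ℝ) ^ d) ^ 2 * (Cfsg.blockRank p b : ℝ)) := by
    have hcardB : (Nat.card B : ℝ) = (B.toFinset.card : ℝ) := by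
      rw [Set.toFinset_card, Nat.card_eq_fintype_card]
    calc ((primitiveRoots N ℂ).card : ℝ) * (Nat.card B : ℝ) ^ 2
        = ∑ χ ∈ B.toFinset, ∑ χ' ∈ B.toFinset, ((primitiveRoots N ℂ).card : ℝ) := by
          simp only [Finset.sum_const, nsmul_eq_mul, hcardB]
          ring
      _ ≤ ∑ χ ∈ B.toFinset, ∑ χ' ∈ B.toFinset, ∑ ζ' ∈ primitiveRoots N ℂ,
            ‖Polynomial.aeval ζ' (P χ χ')‖ ^ 2 :=
          Finset.sum_le_sum fun χ hχ => Finset.sum_le_sum fun χ' hχ' =>
            card_le_sum_primitive hN0 _ (hne χ (Set.mem_toFinset.1 hχ) χ' (Set.mem_toFinset.1 hχ'))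
      _ = ∑ ζ' ∈ primitiveRoots N ℂ, ∑ χ ∈ B.toFinset, ∑ χ' ∈ B.toFinset,
            ‖Polynomial.aeval ζ' (P χ χ')‖ ^ 2 :=
          (Finset.sum_congr rfl fun χ _ => Finset.sum_comm).trans Finset.sum_comm
      _ ≤ ∑ _ζ' ∈ primitiveRoots N ℂ, ((p : ℝ) ^ d) ^ 2 * (Cfsg.blockRank p b : ℝ) :=
          Finset.sum_le_sum hbound
      _ = _ := by rw [Finset.sum_const, nsmul_eq_mul]
  have hpos : (0 : ℝ) < ((primitiveRoots N ℂ).card : ℝ) :=
    Nat.cast_pos.2 (Finset.card_pos.2 ⟨ζ, (mem_primitiveRoots (Nat.pos_of_ne_zero hN0)).2 hζ⟩)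
  have h := le_of_mul_le_mul_left hsum hpos
  rw [← pow_mul, mul_comm d 2] at h
  exact_mod_cast h

end Cfsg.Agent.S4716
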