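import Cfsg.Statements.S4717
import Cfsg.Agent.Blk.Regular
import Cfsg.Agent.Blk.SecondMain
import Cfsg.Agent.Blk.BrauerCorr

set_option autoImplicit false
open Cfsg

namespace Cfsg.Agent.S4717

open CfsgLib.Blk CfsgLib.Char

/-- Let p be a prime, M a maximal ideal of the algebraic integers containing p, and r a natural number; say that a finite group X has deficiency class r when X has no non-principal p-block of defect ≥ r. If G has deficiency class r then so does the centralizer of every p-element of G; conversely, if r > 0 and the centralizer of every element of order p has deficiency class r, then G has deficiency class r. -/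
theorem result {G : Type*} [Group G] [Finite G] (p : ℕ) [Fact p.Prime] (M : Ideal Cfsg.AlgInt) (hM : Cfsg.IsPModular p M) (r : ℕ) : ((∀ B' : Set (Cfsg.IrrCharacter G), Cfsg.IsPBlock M B' → B' ≠ Cfsg.principalBlock M G → Cfsg.blockDefect p B' < r) → ∀ y : G, (∃ k : ℕ, orderOf y = p ^ k) → (∀ B' : Set (Cfsg.IrrCharacter ↥(Subgroup.centralizer ({y} : Set G))), Cfsg.IsPBlock M B' → B' ≠ Cfsg.principalBlock M ↥(Subgroup.centralizer ({y} : Set G)) → Cfsg.blockDefect p B' < r)) ∧ (0 < r → (∀ y : G, orderOf y = p → (∀ B' : Set (Cfsg.IrrCharacter ↥(Subgroup.centralizer ({y} : Set G))), Cfsg.IsPBlock M B' → B' ≠ Cfsg.principalBlock M ↥(Subgroup.centralizer ({y} : Set G)) → Cfsg.blockDefect p B' < r)) → (∀ B' : Set (Cfsg.IrrCharacter G), Cfsg.IsPBlock M B' → B' ≠ Cfsg.principalBlock M G → Cfsg.blockDefect p B' < r)) := by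
  haveI := CfsgLib.Blk.IsPModular.isPrime hM
  have hp : p.Prime := Fact.out
  constructor
  · intro hdef y hy b hb hne
    obtain ⟨B, hB⟩ := inducedBlockDefined_centralizer hM hy hb
    have hBne : B ≠ principalBlock M G := fun h => hne ((thirdMain hM _ hB).1 h)
    obtain ⟨D, hD⟩ := exists_isDefectGroup hM hb
    obtain ⟨E, hE, hDE⟩ := exists_defectGroup_ge hM hB hD
    refine lt_of_le_of_lt ?_ (hdef B hB.2.1 hBne)
    have h := Subgroup.card_le_of_le hDE
    rw [Subgroup.card_map_of_injective Subtype.val_injective, card_defectGroup hM hb hD,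
      card_defectGroup hM hB.2.1 hE] at h
    exact (Nat.pow_le_pow_iff_right hp.one_lt).1 h
  · intro hr hdef B hB hne
    by_contra hge
    rw [not_lt] at hge
    obtain ⟨D, hD⟩ := exists_isDefectGroup hM hB
    have hcard := card_defectGroup hM hB hD
    have hDp := IsDefectGroup.isPGroup hD
    haveI : Nontrivial D := by
      rw [← Finite.one_lt_card_iff_nontrivial, hcard]
      exact Nat.one_lt_pow (by omega) hp.one_lt
    obtain ⟨n, hn0, hn⟩ := (IsPGroup.nontrivial_iff_card
      (hDp.to_subgroup (Subgroup.center D))).1 hDp.center_nontrivial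
    obtain ⟨z, hz⟩ := exists_prime_orderOf_dvd_card' (G := Subgroup.center D) p
      (by rw [hn]; exact dvd_pow_self p hn0.ne')
    rw [← Subgroup.orderOf_coe, ← Subgroup.orderOf_coe] at hz
    obtain ⟨z, hzD, hzo, hzc⟩ : ∃ z ∈ D, orderOf z = p ∧ ∀ d ∈ D, d * z = z * d :=
      ⟨_, ((z : D)).2, hz, fun d hd =>
        congrArg Subtype.val (Subgroup.mem_center_iff.1 z.2 ⟨d, hd⟩)⟩
    obtain ⟨g, hg, hs⟩ := isDefectGroup_iff.1 hD
    have hgz : g * z = z * g := (Subgroup.mem_centralizer_singleton_iff.1 (hs.le hzD)).symm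
    have hpz : ∃ k : ℕ, orderOf z = p ^ k := ⟨1, by simp [hzo]⟩
    have hcz : ∀ c ∈ Subgroup.centralizer ({z} : Set G), Commute c z := fun c hc =>
      Subgroup.mem_centralizer_singleton_iff.1 hc
    obtain ⟨b, hb, hbu⟩ := exists_induced_of_unit hM (Subgroup.zpowers z)
      (Subgroup.centralizer ({z} : Set G)) (isPGroup_zpowers hpz)
      (Subgroup.zpowers_le.2 (Subgroup.mem_centralizer_singleton_iff.2 rfl))
      (fun c hc => Subgroup.mem_centralizer_singleton_iff.2 (hc z (Subgroup.mem_zpowers z)).symm)
      (fun c hc => by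
        rw [Subgroup.mem_normalizer_iff]
        intro y
        constructor
        · rintro ⟨i, rfl⟩
          exact ⟨i, by show z ^ i = c * z ^ i * c⁻¹
                       rw [((hcz c hc).zpow_right i).eq, mul_inv_cancel_right]⟩
        · rintro ⟨i, hi⟩
          have hi' : z ^ i = c * y * c⁻¹ := hi
          refine ⟨i, ?_⟩
          show z ^ i = y
          calc z ^ i = c⁻¹ * (c * z ^ i) := by group
            _ = c⁻¹ * (z ^ i * c) := by rw [((hcz c hc).zpow_right i).eq]
            _ = y := by rw [hi']; group)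
      hB ⟨g, Subgroup.mem_centralizer_singleton_iff.2 hgz⟩
      (fun w hw => by
        obtain ⟨i, rfl⟩ := Subgroup.mem_zpowers_iff.1 hw
        exact (((show Commute g z from hgz)).zpow_right i).symm.eq) hg.2.1
    obtain ⟨E, hE⟩ := exists_isDefectGroup hM hb.1
    have hle : D ≤ Subgroup.centralizer ({z} : Set G) := fun d hd =>
      Subgroup.mem_centralizer_singleton_iff.2 (hzc d hd)
    obtain ⟨x, hx⟩ := minmax_le hM hb.1 hE _ hbu
      (Q := D.subgroupOf (Subgroup.centralizer ({z} : Set G)))
      (hDp.of_equiv (Subgroup.subgroupOfEquivOfLe hle).symm) (fun d hd =>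
        Subgroup.mem_centralizer_singleton_iff.2 (Subtype.ext
          (Subgroup.mem_centralizer_singleton_iff.1 (hs.le (Subgroup.mem_subgroupOf.1 hd)))))
    have hlt := hdef z hzo b hb.1 fun h => hne ((thirdMain hM _ hb).2 h)
    have h := Subgroup.card_le_of_le hx
    rw [Subgroup.card_map_of_injective (MulEquiv.injective _),
      Nat.card_congr (Subgroup.subgroupOfEquivOfLe hle).toEquiv, hcard,
      card_defectGroup hM hb.1 hE] at h
    have := (Nat.pow_le_pow_iff_right hp.one_lt).1 h
    omega

end Cfsg.Agent.S4717
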