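import Cfsg.Statements.S4718
import Cfsg.Agent.Blk.Bounds

set_option autoImplicit false
universe u
open Cfsg

namespace Cfsg.Agent.S4718

theorem landau : ∀ (k : ℕ) (r : ℚ), ∃ N : ℕ, ∀ n : Fin k → ℕ, (∀ i, 0 < n i) →
    ∑ i, (1 : ℚ) / (n i : ℚ) = r → ∀ i, n i ≤ N := by
  intro k
  induction k with
  | zero => exact fun r => ⟨0, fun n _ _ i => i.elim0⟩
  | succ k ih =>
    intro r
    choose N hN using fun m : ℕ => ih (r - 1 / (m : ℚ))
    refine ⟨⌈((k + 1 : ℕ) : ℚ) / r⌉₊ +
      ∑ m ∈ Finset.range (⌈((k + 1 : ℕ) : ℚ) / r⌉₊ + 1), N m, fun n hn hr => ?_⟩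
    obtain ⟨j, -, hj⟩ := Finset.exists_min_image (Finset.univ : Finset (Fin (k + 1))) n
      Finset.univ_nonempty
    have hj0 : (0 : ℚ) < n j := Nat.cast_pos.2 (hn j)
    have hrpos : 0 < r := hr ▸ Finset.sum_pos (fun i _ => by
      have : (0 : ℚ) < n i := Nat.cast_pos.2 (hn i)
      positivity) Finset.univ_nonempty
    have hle : r ≤ ((k + 1 : ℕ) : ℚ) / n j := by
      rw [← hr]
      refine (Finset.sum_le_sum (g := fun _ => (1 : ℚ) / n j) fun i _ => ?_).trans_eq ?_
      · exact one_div_le_one_div_of_le hj0 (Nat.cast_le.2 (hj i (Finset.mem_univ i)))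
      · rw [Finset.sum_const, Finset.card_univ, Fintype.card_fin, nsmul_eq_mul]
        ring
    have hjle : n j ≤ ⌈((k + 1 : ℕ) : ℚ) / r⌉₊ := by
      refine Nat.cast_le.1 (le_trans ?_ (Nat.le_ceil _))
      rw [le_div_iff₀ hrpos]
      calc (n j : ℚ) * r ≤ n j * (((k + 1 : ℕ) : ℚ) / n j) := by gcongr
        _ = _ := by field_simp
    intro i
    rcases eq_or_ne i j with rfl | hij
    · exact le_add_right hjle
    obtain ⟨i', rfl⟩ := Fin.exists_succAbove_eq hij
    have hsum : ∑ l, (1 : ℚ) / (n (j.succAbove l) : ℚ) = r - 1 / (n j : ℚ) := by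
      rw [← hr, Fin.sum_univ_succAbove _ j]
      ring
    refine le_add_left ((hN (n j) (fun l => n (j.succAbove l)) (fun l => hn _) hsum i').trans ?_)
    exact Finset.single_le_sum (fun m _ => Nat.zero_le (N m))
      (Finset.mem_range.2 (Nat.lt_succ_of_le hjle))

theorem exists_bound (k : ℕ) : ∃ N : ℕ, ∀ (G : Type u) [Group G] [Finite G],
    Nat.card (ConjClasses G) ≤ k → Nat.card G ≤ N := by
  choose N hN using fun j : ℕ => landau j 1
  refine ⟨∑ j ∈ Finset.range (k + 1), N j, fun G _ _ hk => ?_⟩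
  classical
  haveI := Fintype.ofFinite G
  haveI : Fintype (ConjClasses G) := Fintype.ofFinite _
  let e := Fintype.equivFin (ConjClasses G)
  let n : Fin (Fintype.card (ConjClasses G)) → ℕ := fun i =>
    Nat.card (Subgroup.centralizer ({(e.symm i).out} : Set G))
  have hsum : ∑ i, (1 : ℚ) / (n i : ℚ) = 1 := by
    rw [Fintype.sum_equiv e.symm _ (fun C : ConjClasses G =>
      (1 : ℚ) / (Nat.card (Subgroup.centralizer ({C.out} : Set G)) : ℚ)) (fun i => rfl)]
    have h1 : ∀ C : ConjClasses G, (1 : ℚ) / (Nat.card (Subgroup.centralizer ({C.out} : Set G)) : ℚ)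
        = (Nat.card {x : G // IsConj C.out x} : ℚ) / Nat.card G := by
      intro C
      rw [CfsgLib.Char.card_isConj, ← (Subgroup.centralizer ({C.out} : Set G)).card_mul_index]
      push_cast
      rw [mul_comm, div_mul_cancel_left₀ (Nat.cast_ne_zero.2 Subgroup.FiniteIndex.index_ne_zero),
        one_div]
    simp only [h1, ← Finset.sum_div, ← Nat.cast_sum]
    rw [div_eq_one_iff_eq (Nat.cast_ne_zero.2 Nat.card_pos.ne'), Nat.cast_inj, ← Nat.card_sigma]
    refine Nat.card_congr ⟨fun q => (q.2 : G), fun x => ⟨ConjClasses.mk x, x,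
      ConjClasses.mk_eq_mk_iff_isConj.1 (Quotient.out_eq (ConjClasses.mk x))⟩, ?_, fun x => rfl⟩
    rintro ⟨C, x, hx⟩
    obtain rfl : C = ConjClasses.mk x := (Quotient.out_eq C).symm.trans
      (ConjClasses.mk_eq_mk_iff_isConj.2 hx)
    rfl
  have hone := hN _ n (fun i => Nat.card_pos) hsum (e (ConjClasses.mk 1))
  have h1 : n (e (ConjClasses.mk 1)) = Nat.card G := by
    have h2 : (e.symm (e (ConjClasses.mk (1 : G)))).out = 1 := by
      rw [Equiv.symm_apply_apply]
      exact isConj_one_left.1 (ConjClasses.mk_eq_mk_iff_isConj.1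
        (Quotient.out_eq (ConjClasses.mk (1 : G))))
    simp only [n]
    rw [h2, show Subgroup.centralizer ({(1 : G)} : Set G) = ⊤ from
      eq_top_iff.2 fun x _ => Subgroup.mem_centralizer_singleton_iff.2 (by simp), Subgroup.card_top]
  rw [h1] at hone
  refine hone.trans (Finset.single_le_sum (fun m _ => Nat.zero_le (N m)) (Finset.mem_range.2 ?_))
  rw [Nat.card_eq_fintype_card] at hk
  omega

/-- Let p be a prime and a a natural number. There is a bound N such that every finite group whose Sylow p-subgroups have order p^a and whose only p-block (relative to a maximal ideal of the algebraic integers containing p) is the principal block has order at most N. -/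
theorem result (p : ℕ) [Fact p.Prime] (a : ℕ) : ∃ N : ℕ, ∀ (G : Type u) [Group G] [Finite G] (M : Ideal Cfsg.AlgInt), Cfsg.IsPModular p M → (Nat.card G).factorization p = a → (∀ B : Set (Cfsg.IrrCharacter G), Cfsg.IsPBlock M B → B = Cfsg.principalBlock M G) → Nat.card G ≤ N := by
  obtain ⟨N, hN⟩ := exists_bound (p ^ (2 * a))
  refine ⟨N, fun G _ _ M hM ha hone => ?_⟩
  classical
  haveI := CfsgLib.Blk.IsPModular.isPrime hM
  haveI := Fintype.ofFinite G
  have huniv : principalBlock M G = Set.univ :=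
    Set.eq_univ_of_forall fun χ => by
      rw [← hone _ (CfsgLib.Blk.blockOf_isPBlock χ)]
      exact CfsgLib.Blk.sameBlock_refl _
  have hk := CfsgLib.Blk.card_block_le hM (CfsgLib.Blk.isPBlock_principalBlock (M := M) (G := G))
  rw [huniv, Nat.card_coe_set_eq, Set.ncard_univ, CfsgLib.Char.card_irr_eq_card_conjClasses] at hk
  refine hN G (hk.trans (Nat.pow_le_pow_right (Fact.out : p.Prime).pos ?_))
  exact Nat.mul_le_mul_left 2 ((CfsgLib.Blk.blockDefect_le (p := p) hM _).trans_eq ha)

end Cfsg.Agent.S4718
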