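import Cfsg.Statements.S4719
import Cfsg.Agent.S4717
import Cfsg.Agent.S4718
import Cfsg.Agent.Blk.Domination
import Cfsg.Agent.Blk.Defect
import Cfsg.Agent.Blk.Inflate
import Cfsg.Agent.Blk.MinMax
import Cfsg.Agent.Blk.FourBound

set_option autoImplicit false
universe u
open Cfsg

namespace Cfsg.Agent.S4719

set_option linter.style.haveILetI false
set_option linter.unusedSectionVars false
open CfsgLib.Blk CfsgLib.Char
open scoped ComplexConjugate

section

variable {H : Type u} [Group H] [Finite H] {p : ℕ} [Fact p.Prime] {M : Ideal AlgInt} [M.IsPrime]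
  (Z : Subgroup H) [Z.Normal]

theorem regular_lift_unique (hZc : Z ≤ Subgroup.center H) (hZp : IsPGroup p Z) {g g' : H}
    (hg : ¬ p ∣ orderOf g) (hg' : ¬ p ∣ orderOf g')
    (h : QuotientGroup.mk' Z g = QuotientGroup.mk' Z g') : g = g' := by
  have hp : p.Prime := Fact.out
  have hz : g⁻¹ * g' ∈ Z := QuotientGroup.eq.1 h
  have hcomm : Commute g g' := by
    have := Subgroup.mem_center_iff.1 (hZc hz) g
    show g * g' = g' * g
    calc g * g' = g * (g * (g⁻¹ * g')) := by group
      _ = g * ((g⁻¹ * g') * g) := by rw [this]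
      _ = g' * g := by group
  obtain ⟨k, hk⟩ := IsPGroup.iff_orderOf.1 hZp ⟨_, hz⟩
  rw [Subgroup.orderOf_mk] at hk
  have hd : orderOf (g⁻¹ * g') ∣ Nat.lcm (orderOf g) (orderOf g') := by
    have := (hcomm.inv_left).orderOf_mul_dvd_lcm
    rwa [orderOf_inv] at this
  rw [hk] at hd
  rcases Nat.eq_zero_or_pos k with rfl | hk0
  · rw [pow_zero, orderOf_eq_one_iff, inv_mul_eq_one] at hk
    exact hk
  · exfalso
    have hd' := ((dvd_pow_self p hk0.ne').trans hd).trans (Nat.lcm_dvd_mul _ _)
    rcases hp.dvd_mul.1 hd' with h | h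
    · exact hg h
    · exact hg' h

/-- Characters of the quotient by a central `p`-subgroup lie in one block when their inflations do. -/
theorem mem_of_infl (hM : IsPModular p M) (hZc : Z ≤ Subgroup.center H) (hZp : IsPGroup p Z)
    {b : Set (IrrCharacter (H ⧸ Z))} (hb : IsPBlock M b) {χ ψ : IrrCharacter (H ⧸ Z)} (hχ : χ ∈ b)
    (h : SameBlock M (inflIrr Z χ : H → ℂ) (inflIrr Z ψ : H → ℂ)) : ψ ∈ b := by
  classical
  haveI := Fintype.ofFinite H
  haveI := Fintype.ofFinite (H ⧸ Z)
  have hp : p.Prime := Fact.out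
  let a : MonoidAlgebra (locRing M) H :=
    MonoidAlgebra.ofCoeff (Finsupp.equivFunOnFinite.symm fun g =>
      if p ∣ orderOf g then 0 else (blockIdem hM hb).coeff (QuotientGroup.mk' Z g))
  have hac : ∀ g, a.coeff g =
      if p ∣ orderOf g then 0 else (blockIdem hM hb).coeff (QuotientGroup.mk' Z g) := fun g => by
    simp [a]
  have ha : IsClassCoeff a := by
    intro g k
    have e : orderOf (k * g * k⁻¹) = orderOf g := (MulAut.conj k).orderOf_eq g
    rw [hac, hac, e, show QuotientGroup.mk' Z (k * g * k⁻¹) =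
      QuotientGroup.mk' Z k * QuotientGroup.mk' Z g * (QuotientGroup.mk' Z k)⁻¹ by simp,
      isClassCoeff_blockIdem hM hb]
  have hq : quotA Z a = blockIdem hM hb := by
    refine MonoidAlgebra.ext (Finsupp.ext fun q => ?_)
    rw [coeff_quotA]
    by_cases hq : p ∣ orderOf q
    · have h0 : (blockIdem hM hb).coeff q = 0 :=
        Subtype.ext (by rw [coeff_blockIdem]; exact blockCoeff_eq_zero_of_singular hM hb hq)
      rw [h0]
      refine Finset.sum_eq_zero fun g _ => ?_
      split_ifs with hg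
      · rw [hac, hg, h0, ite_self]
      · rfl
    · obtain ⟨g₀, hg₀⟩ := QuotientGroup.mk'_surjective Z q
      obtain ⟨x, v, hv, hcom, ⟨k, hk⟩, hvr⟩ := exists_isPPart hp g₀
      have hvq : QuotientGroup.mk' Z v = q := by
        have hx1 : orderOf (QuotientGroup.mk' Z x) ∣ p ^ k := hk ▸ orderOf_map_dvd _ x
        obtain ⟨j, -, hj⟩ := (Nat.dvd_prime_pow hp).1 hx1
        rcases Nat.eq_zero_or_pos j with rfl | hj0
        · rw [pow_zero, orderOf_eq_one_iff] at hj
          rw [← hg₀, ← hv, map_mul, hj, one_mul]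
        · exfalso
          refine hq ?_
          have hc : Commute (QuotientGroup.mk' Z x) (QuotientGroup.mk' Z v) := hcom.map _
          have hcop : (orderOf (QuotientGroup.mk' Z x)).Coprime (orderOf (QuotientGroup.mk' Z v)) := by
            rw [hj]
            exact Nat.Coprime.pow_left j ((hp.coprime_iff_not_dvd).2
              fun h => hvr (h.trans (orderOf_map_dvd _ v)))
          rw [← hg₀, ← hv, map_mul, hc.orderOf_mul_eq_mul_orderOf_of_coprime hcop, hj]
          exact (dvd_pow_self p hj0.ne').mul_right _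
      rw [Finset.sum_eq_single v]
      · rw [if_pos hvq, hac, if_neg hvr, hvq]
      · intro g _ hgv
        split_ifs with hg
        · rw [hac, if_pos]
          by_contra hgr
          exact hgv (regular_lift_unique Z hZc hZp hgr hvr (hg.trans hvq.symm))
        · rfl
      · simp
  have e := omegaBar_congr (inflIrr Z χ).2 (inflIrr Z ψ).2 h ha
  rw [omegaBar, omegaBar, ← omega_quotA, ← omega_quotA, hq, omega_blockIdem, omega_blockIdem,
    if_pos hχ] at e
  by_contra hψ
  rw [if_neg hψ, red_one, red_zero] at e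
  exact one_ne_zero e

/-- A non-principal block of the quotient by a central `p`-subgroup lies under a non-principal
block of larger defect. -/
theorem exists_above (hM : IsPModular p M) (hZc : Z ≤ Subgroup.center H) (hZp : IsPGroup p Z)
    (hZ1 : Z ≠ ⊥) {b : Set (IrrCharacter (H ⧸ Z))} (hb : IsPBlock M b)
    (hne : b ≠ principalBlock M (H ⧸ Z)) :
    ∃ B : Set (IrrCharacter H), IsPBlock M B ∧ B ≠ principalBlock M H ∧
      blockDefect p b < blockDefect p B := by
  obtain ⟨χ, hχ⟩ := isPBlock_nonempty hb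
  refine ⟨blockOf M (inflIrr Z χ : H → ℂ), blockOf_isPBlock _, fun hpr => hne ?_, ?_⟩
  · refine eq_of_mem_of_mem hb isPBlock_principalBlock (χ := ⟨_, isIrr_one⟩) ?_ one_mem_principalBlock
    refine mem_of_infl Z hM hZc hZp hb hχ ?_
    have h1 : inflIrr Z (⟨_, isIrr_one⟩ : IrrCharacter (H ⧸ Z)) = ⟨_, isIrr_one⟩ := Subtype.ext rfl
    rw [h1]
    refine sameBlock_of_mem isPBlock_principalBlock ?_ one_mem_principalBlock
    rw [← hpr]
    exact mem_blockOf.2 (sameBlock_refl _)
  · have hB := blockOf_isPBlock (M := M) (inflIrr Z χ)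
    have hdom : Dominated Z (blockOf M (inflIrr Z χ : H → ℂ)) b := fun ψ hψ =>
      (mem_inflIrr_iff Z hM hB (sameBlock_of_mem hb hχ hψ)).1 (mem_blockOf.2 (sameBlock_refl _))
    obtain ⟨Db, hDb⟩ := exists_isDefectGroup hM hb
    obtain ⟨D, hD, hle⟩ := exists_defectGroup_map_ge Z hM hB hb hdom hDb
    have hZD := normal_pgroup_le_defectGroup hM hB Z hZp hD
    have h1 := CfsgLib.Solv.card_map_mk' Z D
    rw [inf_eq_right.2 hZD, card_defectGroup hM hB hD] at h1
    have h2 := Subgroup.card_le_of_le hle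
    rw [card_defectGroup hM hb hDb] at h2
    have h3 : 1 < Nat.card Z := (Subgroup.one_lt_card_iff_ne_bot Z).2 hZ1
    refine (Nat.pow_lt_pow_iff_right (Fact.out : p.Prime).one_lt).1 ?_
    rw [← h1]
    exact lt_of_le_of_lt h2 (lt_mul_of_one_lt_right Nat.card_pos h3)

end

open CfsgLib.FourBound in
theorem aux : ∀ a : ℕ, ∃ N : ℕ, ∀ (G : Type u) [Group G] [Finite G] (M : Ideal AlgInt) (r : ℕ),
    IsPModular 2 M → (Nat.card G).factorization 2 ≤ a →
    (∀ B : Set (IrrCharacter G), IsPBlock M B → B ≠ principalBlock M G → blockDefect 2 B < r) →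
    (∃ E : Subgroup G, (∀ x ∈ E, ∀ y ∈ E, x * y = y * x) ∧ (∀ x ∈ E, x * x = 1) ∧
      Nat.card E = 2 ^ (r + 1)) → Nat.card G ≤ N := by
  classical
  haveI : Fact (Nat.Prime 2) := ⟨Nat.prime_two⟩
  intro a
  induction a with
  | zero =>
    refine ⟨0, fun G _ _ M r _ ha _ hE => ?_⟩
    obtain ⟨E, -, -, hE⟩ := hE
    have h2 : 2 ∣ Nat.card G :=
      (hE ▸ dvd_pow_self 2 (Nat.succ_ne_zero r) : 2 ∣ Nat.card E).trans (Subgroup.card_subgroup_dvd_card E)
    have := Nat.Prime.factorization_pos_of_dvd Nat.prime_two Nat.card_pos.ne' h2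
    omega
  | succ a ih =>
    obtain ⟨N₀, hN₀⟩ := ih
    choose N₁ hN₁ using fun b => Cfsg.Agent.S4718.result.{u} 2 b
    refine ⟨max ((Finset.range (a + 2)).sup N₁) (bnd (a + 1) (2 * N₀)),
      fun G _ _ M r hM ha hdef hE => ?_⟩
    haveI := CfsgLib.Blk.IsPModular.isPrime hM
    obtain ⟨E, hEc, hE2, hEcard⟩ := hE
    rcases Nat.eq_zero_or_pos r with rfl | hr
    · refine le_trans (hN₁ _ G M hM rfl fun B hB => ?_) ((Finset.le_sup (Finset.mem_range.2
        (Nat.lt_succ_of_le ha))).trans (le_max_left _ _))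
      by_contra hne
      exact Nat.not_lt_zero _ (hdef B hB hne)
    refine le_trans ?_ (le_max_right _ _)
    -- the centralizers of the involutions in `E`
    have hcen : ∀ y ∈ E, y ≠ 1 → Nat.card (Subgroup.centralizer ({y} : Set G)) ≤ 2 * N₀ := by
      intro y hy hy1
      set H := Subgroup.centralizer ({y} : Set G) with hH
      have hoy : orderOf y = 2 := orderOf_two (hE2 y hy) hy1
      have hdefH := (Cfsg.Agent.S4717.result 2 M hM r).1 hdef y ⟨1, by rw [hoy, pow_one]⟩
      let yH : H := ⟨y, Subgroup.mem_centralizer_singleton_iff.2 rfl⟩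
      have hoyH : orderOf yH = 2 := by rw [← Subgroup.orderOf_coe]; exact hoy
      set Z := Subgroup.zpowers yH with hZ
      have hZcard : Nat.card Z = 2 := by rw [hZ, Nat.card_zpowers, hoyH]
      have hZc : Z ≤ Subgroup.center H := by
        rw [hZ, Subgroup.zpowers_le]
        exact Subgroup.mem_center_iff.2 fun g => Subtype.ext (Subgroup.mem_centralizer_singleton_iff.1 g.2)
      haveI : Z.Normal := ⟨fun z hz g => by
        rw [Subgroup.mem_center_iff.1 (hZc hz) g, mul_inv_cancel_right]; exact hz⟩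
      have hZp : IsPGroup 2 Z := IsPGroup.of_card (n := 1) (by rw [hZcard, pow_one])
      have hcard : Nat.card H = Nat.card (H ⧸ Z) * 2 := by
        rw [← hZcard]; exact Subgroup.card_eq_card_quotient_mul_card_subgroup Z
      have hEH : E ≤ H := fun x hx => Subgroup.mem_centralizer_singleton_iff.2 (hEc x hx y hy)
      have hQ : Nat.card (H ⧸ Z) ≤ N₀ := by
        refine hN₀ (H ⧸ Z) M (r - 1) hM ?_ (fun b hb hne => ?_) ?_
        · have h := (Nat.factorization_le_iff_dvd (Nat.card_pos (α := H)).ne' (Nat.card_pos (α := G)).ne').2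
            (Subgroup.card_subgroup_dvd_card H) 2
          rw [hcard, Nat.factorization_mul Nat.card_pos.ne' two_ne_zero] at h
          simp only [Finsupp.coe_add, Pi.add_apply, Nat.Prime.factorization_self Nat.prime_two] at h
          omega
        · obtain ⟨B, hB, hBne, hlt⟩ := exists_above Z hM hZc hZp
            (fun h => by rw [h, Subgroup.card_bot] at hZcard; omega) hb hne
          have := hdefH B hB hBne
          omega
        · refine ⟨(E.subgroupOf H).map (QuotientGroup.mk' Z), ?_, ?_, ?_⟩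
          · rintro - ⟨x, hx, rfl⟩ - ⟨z, hz, rfl⟩
            rw [← map_mul, ← map_mul]
            exact congrArg _ (Subtype.ext (hEc x hx z hz))
          · rintro - ⟨x, hx, rfl⟩
            rw [← map_mul, show x * x = 1 from Subtype.ext (hE2 x hx), map_one]
          · have h := CfsgLib.Solv.card_map_mk' Z (E.subgroupOf H)
            rw [Nat.card_congr (Subgroup.subgroupOfEquivOfLe hEH).toEquiv, hEcard,
              inf_eq_right.2 (show Z ≤ E.subgroupOf H by
                rw [hZ, Subgroup.zpowers_le, Subgroup.mem_subgroupOf]; exact hy), hZcard] at h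
            rw [Nat.sub_add_cancel hr]
            rw [pow_succ] at h
            exact mul_right_cancel₀ two_ne_zero h
      rw [hcard, mul_comm]
      exact Nat.mul_le_mul_left 2 hQ
    have hfour : 4 ≤ Nat.card E := by
      rw [hEcard]
      calc 4 = 2 ^ 2 := by norm_num
        _ ≤ 2 ^ (r + 1) := Nat.pow_le_pow_right (by norm_num) (by omega)
    haveI := Fintype.ofFinite E
    obtain ⟨u, -, hu1⟩ := Finset.exists_mem_ne (s := (Finset.univ : Finset E))
      (by rw [Finset.card_univ, ← Nat.card_eq_fintype_card]; omega) 1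
    obtain ⟨v, hv, hvu⟩ := Finset.exists_mem_ne (s := (Finset.univ : Finset E).erase 1)
      (by rw [Finset.card_erase_of_mem (Finset.mem_univ _), Finset.card_univ,
            ← Nat.card_eq_fintype_card]; omega) u
    have hv1 : v ≠ 1 := (Finset.mem_erase.1 hv).1
    have hne : (u : G) ≠ v := fun e => hvu (Subtype.ext e.symm)
    refine card_le (a + 1) (2 * N₀) G (u : G) v (hE2 u u.2) (hE2 v v.2) (hEc u u.2 v v.2)
      (fun e => hu1 (Subtype.ext e)) (fun e => hv1 (Subtype.ext e)) hne ha
      (hcen u u.2 fun e => hu1 (Subtype.ext e)) (hcen v v.2 fun e => hv1 (Subtype.ext e))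
      (hcen _ (mul_mem u.2 v.2) fun e => hne ?_)
    calc (u : G) = u * ((v : G) * v) := by rw [hE2 v v.2, mul_one]
      _ = v := by rw [← mul_assoc, e, one_mul]

/-- For every natural number a there is a bound N with the following property. Let G be a finite group with Sylow 2-subgroups of order 2^a and r ≥ 0 such that G has no non-principal 2-block (relative to a maximal ideal of the algebraic integers containing 2) of defect ≥ r, and suppose a Sylow 2-subgroup of G contains an elementary abelian subgroup of order 2^(r+1). Then the order of G is at most N. -/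
theorem result (a : ℕ) : ∃ N : ℕ, ∀ (G : Type u) [Group G] [Finite G] (M : Ideal Cfsg.AlgInt) (r : ℕ) (P : Sylow 2 G), Cfsg.IsPModular 2 M → Nat.card P = 2 ^ a → (∀ B : Set (Cfsg.IrrCharacter G), Cfsg.IsPBlock M B → B ≠ Cfsg.principalBlock M G → Cfsg.blockDefect 2 B < r) → (∃ E : Subgroup G, E ≤ (P : Subgroup G) ∧ IsMulCommutative E ∧ (∀ x ∈ E, x * x = 1) ∧ Nat.card E = 2 ^ (r + 1)) → Nat.card G ≤ N := by
  haveI : Fact (Nat.Prime 2) := ⟨Nat.prime_two⟩
  obtain ⟨N, hN⟩ := aux.{u} a
  refine ⟨N, fun G _ _ M r P hM hP hdef hE => hN G M r hM ?_ hdef ?_⟩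
  · refine le_of_eq (Nat.pow_right_injective le_rfl ?_)
    show 2 ^ (Nat.card G).factorization 2 = 2 ^ a
    rw [← P.card_eq_multiplicity, hP]
  · obtain ⟨E, -, hc, h2, hcard⟩ := hE
    exact ⟨E, fun x hx y hy => congrArg Subtype.val (hc.is_comm.comm ⟨x, hx⟩ ⟨y, hy⟩), h2, hcard⟩

end Cfsg.Agent.S4719
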