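import Cfsg.Statements.S4720
import Cfsg.Agent.Blk.Principal

set_option autoImplicit false
open Cfsg

namespace Cfsg.Agent.S4720

set_option linter.style.haveILetI false
set_option linter.unusedSectionVars false
open CfsgLib.Char CfsgLib.Blk
open scoped ComplexConjugate

variable {G : Type*} [Group G] [Finite G]

private theorem card_fiber (N : Subgroup G) [Fintype N] [DecidableEq G] (y x : G) (n₀ : N)
    (h : (n₀ : G) * y * (n₀ : G)⁻¹ = x) :
    (Finset.univ.filter fun n : N => (n : G) * y * (n : G)⁻¹ = x).card =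
      Nat.card ↥(N ⊓ Subgroup.centralizer ({y} : Set G)) := by
  classical
  rw [← Fintype.card_subtype, ← Nat.card_eq_fintype_card]
  refine Nat.card_congr ⟨fun n => ⟨(n₀ : G)⁻¹ * (n.1 : G), ?_⟩, fun c => ⟨⟨(n₀ : G) * c, ?_⟩, ?_⟩,
    fun n => ?_, fun c => ?_⟩
  · refine Subgroup.mem_inf.2 ⟨mul_mem (inv_mem n₀.2) n.1.2, ?_⟩
    have h2 : (n.1 : G) * y * (n.1 : G)⁻¹ = (n₀ : G) * y * (n₀ : G)⁻¹ := n.2.trans h.symm
    rw [Subgroup.mem_centralizer_singleton_iff]
    calc (n₀ : G)⁻¹ * n.1 * y = (n₀ : G)⁻¹ * ((n.1 : G) * y * (n.1 : G)⁻¹) * n.1 := by group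
      _ = y * ((n₀ : G)⁻¹ * n.1) := by rw [h2]; group
  · exact mul_mem n₀.2 (Subgroup.mem_inf.1 c.2).1
  · have hc := Subgroup.mem_centralizer_singleton_iff.1 (Subgroup.mem_inf.1 c.2).2
    show (n₀ : G) * c * y * ((n₀ : G) * c)⁻¹ = x
    rw [mul_assoc (n₀ : G) (c : G) y, hc, ← h]; group
  · exact Subtype.ext (Subtype.ext (by simp))
  · exact Subtype.ext (by simp)

/-- Let p be a prime, M a maximal ideal of the algebraic integers containing p, P a p-subgroup of the finite group G, N a subgroup with P ≤ N ≤ N_G(P), and U a nonempty subset of P normalized by N such that an element of U and an element of P that are conjugate in G are already conjugate in N, and such that λ(C_G(y)) = w·#C_N(y) for every y ∈ U with one rational number w, where λ(X) denotes the sum of the squares of the degrees of the irreducible characters in the principal p-block of X. For a complex function θ on P and χ in the principal block of G put a_χ(θ) = #P⁻¹ Σ_{y ∈ P}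 χ(y) θ(y⁻¹). Then for generalized characters θ, η of P with θ vanishing outside U, Σ_χ a_χ(θ)·conj(a_χ(η)) = (w/#P²)·Σ_{y ∈ P} θ(y)·conj(Σ_{x ∈ N} η(x y x⁻¹)) (η extended by zero off P; the conjugates lie in P), the first sum over the principal p-block of G. -/
theorem result {G : Type*} [Group G] [Finite G] (p : ℕ) [Fact p.Prime] (M : Ideal Cfsg.AlgInt) (hM : Cfsg.IsPModular p M) (P : Subgroup G) (hP : IsPGroup p P) (N : Subgroup G) (hPN : P ≤ N) (hNN : N ≤ Subgroup.normalizer (P : Set G)) (U : Set G) (hUne : U.Nonempty) (hUP : U ⊆ (P : Set G)) (hUN : ∀ n ∈ N, ∀ u ∈ U, n * u * n⁻¹ ∈ U) (hfus : ∀ u ∈ U, ∀ g : G, g * u * g⁻¹ ∈ (P : Set G) → ∃ n ∈ N, n * u * n⁻¹ = g * u * g⁻¹) (w : ℚ) (hw : ∀ y ∈ U, ((∑ᶠ ψ ∈ Cfsg.principalBlock M ↥(Subgroup.centralizer ({y} : Set G)), Cfsg.charDegree (ψ : ↥(Subgroup.centralizer ({y} : Set G)) → ℂ) ^ 2) : ℚ) = w * Nat.card ↥(N ⊓ Subgroup.centralizer ({y} : Set G))) (θ η : ↥P → ℂ) (hθ : Cfsg.IsGeneralizedCharacter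 ↥P θ) (hη : Cfsg.IsGeneralizedCharacter ↥P η) (hθU : ∀ y : ↥P, (y : G) ∉ U → θ y = 0) : ∑ᶠ χ ∈ Cfsg.principalBlock M G, ((Nat.card ↥P : ℂ)⁻¹ * ∑ᶠ y : ↥P, (χ : G → ℂ) (y : G) * θ y⁻¹) * (starRingEnd ℂ) ((Nat.card ↥P : ℂ)⁻¹ * ∑ᶠ y : ↥P, (χ : G → ℂ) (y : G) * η y⁻¹) = ((w : ℂ) / ((Nat.card ↥P : ℂ) ^ 2)) * ∑ᶠ y : ↥P, θ y * (starRingEnd ℂ) (∑ᶠ x : ↥N, Cfsg.extendByZero P η ((x : G) * (y : G) * (x : G)⁻¹)) := by
  classical
  haveI := Fintype.ofFinite G
  haveI : Fintype P := Fintype.ofFinite _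
  haveI : Fintype N := Fintype.ofFinite _
  haveI := CfsgLib.Blk.IsPModular.isPrime hM
  have hp : p.Prime := Fact.out
  obtain ⟨B, hBd⟩ : ∃ B, B = Cfsg.principalBlock M G := ⟨_, rfl⟩
  have hB : IsPBlock M B := hBd ▸ isPBlock_principalBlock
  obtain ⟨S, hS⟩ : ∃ S : G → G → ℂ, ∀ a b, S a b = ∑ χ : IrrCharacter G,
      (if χ ∈ B then (χ : G → ℂ) a * conj ((χ : G → ℂ) b) else 0) := ⟨_, fun _ _ => rfl⟩
  have hpe : ∀ y : P, ∃ k : ℕ, orderOf (y : G) = p ^ k := fun y => by
    obtain ⟨k, hk⟩ := IsPGroup.iff_orderOf.1 hP y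
    exact ⟨k, by rw [Subgroup.orderOf_coe, hk]⟩
  -- the column at a member of `U`
  have hcol : ∀ y : P, (y : G) ∈ U → ∀ x : P,
      S x y = if IsConj (y : G) (x : G) then
        (w : ℂ) * (Nat.card ↥(N ⊓ Subgroup.centralizer ({(y : G)} : Set G)) : ℂ) else 0 := by
    intro y hy x
    split_ifs with hc
    · have e1 : S x y = ∑ χ : IrrCharacter G,
          (if χ ∈ B then (χ : G → ℂ) y * conj ((χ : G → ℂ) y) else 0) := by
        rw [hS]
        exact Finset.sum_congr rfl fun χ _ => by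
          rw [classFun_isConj (classFun_of_irr χ.2) hc]
      have h := principal_transfer hM (hpe y) (Subgroup.centralizer ({(y : G)} : Set G)) rfl 1
        (by simpa using hp.ne_one)
      simp only [OneMemClass.coe_one, mul_one] at h
      rw [e1, hBd, h]
      have h2 := congrArg (fun q : ℚ => (q : ℂ)) (hw y hy)
      rw [Rat.cast_mul, Rat.cast_natCast, finsum_mem_eq_sum_ite, Rat.cast_sum] at h2
      rw [← h2]
      refine Finset.sum_congr rfl fun ψ _ => ?_
      split_ifs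
      · rw [Rat.cast_pow, Rat.cast_natCast, irr_one_eq ψ.2, Complex.conj_natCast, sq]
      · simp
    · have h := block_orth hM hB (isPPart_self (hpe x) hp) (isPPart_self (hpe y) hp)
        (fun h => hc h.symm)
      rw [finsum_mem_eq_sum_ite] at h
      rw [hS]; exact h
  -- the class sum of `η`
  have hN : ∀ y : P, (y : G) ∈ U →
      ∑ x : P, η x * (if IsConj (y : G) (x : G) then
        (Nat.card ↥(N ⊓ Subgroup.centralizer ({(y : G)} : Set G)) : ℂ) else 0) =
      ∑ n : N, Cfsg.extendByZero P η ((n : G) * (y : G) * (n : G)⁻¹) := by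
    intro y hy
    have hmem : ∀ n : N, (n : G) * (y : G) * (n : G)⁻¹ ∈ P := fun n => hUP (hUN n n.2 y hy)
    have he : ∀ n : N, Cfsg.extendByZero P η ((n : G) * (y : G) * (n : G)⁻¹) = η ⟨_, hmem n⟩ :=
      fun n => Subtype.val_injective.extend_apply η 0 ⟨_, hmem n⟩
    rw [Finset.sum_congr rfl fun n _ => he n,
      ← Finset.sum_fiberwise Finset.univ (fun n : N => (⟨_, hmem n⟩ : P))]
    refine Finset.sum_congr rfl fun x _ => ?_
    rw [Finset.sum_congr rfl (g := fun _ => η x) fun n hn => by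
      rw [(Finset.mem_filter.1 hn).2], Finset.sum_const, nsmul_eq_mul, mul_comm]
    congr 1
    split_ifs with hc
    · obtain ⟨g, hg⟩ := isConj_iff.1 hc
      obtain ⟨n, hn, hne⟩ := hfus y hy g (hg ▸ x.2)
      rw [← card_fiber N (y : G) (x : G) ⟨n, hn⟩ (hne.trans hg)]
      congr 2
      exact Finset.filter_congr fun m _ => by rw [Subtype.ext_iff]
    · rw [eq_comm, Nat.cast_eq_zero, Finset.card_eq_zero, Finset.filter_eq_empty_iff]
      intro n _ hn
      exact hc (isConj_iff.2 ⟨n, congrArg Subtype.val hn⟩)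
  -- the two coefficients
  have hcoef : ∀ (φ : P → ℂ) (χ : IrrCharacter G), ∑ᶠ y : ↥P, (χ : G → ℂ) (y : G) * φ y⁻¹ =
      ∑ y : P, φ y * conj ((χ : G → ℂ) (y : G)) := by
    intro φ χ
    rw [finsum_eq_sum_of_fintype]
    refine Fintype.sum_equiv (Equiv.inv P) _ _ fun y => ?_
    rw [Equiv.inv_apply, Subgroup.coe_inv, char_conj_eq (isCharacter_of_isIrr χ.2), Complex.conj_conj]
    ring
  rw [finsum_mem_eq_sum_ite, finsum_eq_sum_of_fintype]
  simp only [hcoef, finsum_eq_sum_of_fintype, map_mul, map_inv₀, Complex.conj_natCast]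
  have hL : ∑ χ : IrrCharacter G, (if χ ∈ Cfsg.principalBlock M G then
      ((Nat.card ↥P : ℂ)⁻¹ * ∑ y : P, θ y * conj ((χ : G → ℂ) (y : G))) *
        ((Nat.card ↥P : ℂ)⁻¹ * conj (∑ y : P, η y * conj ((χ : G → ℂ) (y : G)))) else 0) =
      ((Nat.card ↥P : ℂ) ^ 2)⁻¹ * ∑ y : P, ∑ x : P, θ y * conj (η x) * S x y := by
    simp only [hS, Finset.mul_sum, hBd]
    symm
    rw [Finset.sum_comm_cycle]
    refine Finset.sum_congr rfl fun χ _ => ?_
    split_ifs with h
    · rw [map_sum, Finset.mul_sum, Finset.sum_mul_sum]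
      refine Finset.sum_congr rfl fun y _ => Finset.sum_congr rfl fun x _ => ?_
      rw [map_mul, Complex.conj_conj]
      ring
    · simp
  rw [hL, div_eq_mul_inv, mul_comm (w : ℂ) _, mul_assoc, Finset.mul_sum (a := (w : ℂ))]
  congr 1
  refine Finset.sum_congr rfl fun y _ => ?_
  by_cases hy : (y : G) ∈ U
  swap
  · simp [hθU y hy]
  rw [← hN y hy, map_sum, Finset.mul_sum, Finset.mul_sum]
  refine Finset.sum_congr rfl fun x _ => ?_
  rw [hcol y hy x, map_mul, apply_ite conj, Complex.conj_natCast, map_zero]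
  split_ifs <;> ring

end Cfsg.Agent.S4720
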