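import Cfsg.Statements.S4721
import Cfsg.Agent.Blk.ExcSylow
import Cfsg.Agent.Blk.InvolRel

set_option autoImplicit false
open Cfsg

namespace Cfsg.Agent.S4721

set_option linter.style.haveILetI false
set_option linter.unusedSectionVars false
open CfsgLib.Char CfsgLib.Blk CfsgLib.Blk.Exc CfsgLib.Inv Finset
open scoped ComplexConjugate

universe u

variable {G : Type u} [Group G] [Finite G] {p : ℕ} [Fact p.Prime] (P : Sylow p G)

/-- An element of order a power of `p` centralizing `y ∈ P` is conjugate in the centralizer into `P`. -/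
theorem exists_conj_mem (hab : IsMulCommutative ↥(P : Subgroup G)) {y w : G}
    (hy : y ∈ (P : Subgroup G)) (hw : ∃ k : ℕ, orderOf w = p ^ k) (hcomm : w * y = y * w) :
    ∃ d : G, d * y * d⁻¹ = y ∧ d * w * d⁻¹ ∈ (P : Subgroup G) := by
  set H := Subgroup.centralizer ({y} : Set G) with hH
  have hPH : (P : Subgroup G) ≤ H := fun v hv =>
    Subgroup.mem_centralizer_singleton_iff.2 (by
      simpa using congrArg Subtype.val (hab.is_comm.comm (⟨v, hv⟩ : ↥(P : Subgroup G)) ⟨y, hy⟩))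
  have hidx : ¬ p ∣ ((P : Subgroup G).subgroupOf H).index := fun h =>
    P.not_dvd_index (h.trans (Subgroup.relIndex_dvd_index_of_le hPH))
  let PS : Sylow p H := (P.2.of_equiv (Subgroup.subgroupOfEquivOfLe hPH).symm).toSylow hidx
  let w' : H := ⟨w, Subgroup.mem_centralizer_singleton_iff.2 hcomm⟩
  obtain ⟨k, hk⟩ := hw
  have hk' : orderOf w' = p ^ k := by rw [← Subgroup.orderOf_coe]; exact hk
  obtain ⟨Q, hQ⟩ := (IsPGroup.of_card (p := p) (G := Subgroup.zpowers w') (n := k)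
    (by rw [Nat.card_zpowers, hk'])).exists_le_sylow
  obtain ⟨g, hg⟩ := MulAction.exists_smul_eq H Q PS
  have hwP : g * w' * g⁻¹ ∈ (PS : Subgroup H) := by
    rw [← hg, Sylow.coe_subgroup_smul]
    exact ⟨w', hQ (Subgroup.mem_zpowers _), rfl⟩
  refine ⟨g, ?_, Subgroup.mem_subgroupOf.1 hwP⟩
  rw [Subgroup.mem_centralizer_singleton_iff.1 g.2]
  group

theorem main {M : Ideal AlgInt} (hM : IsPModular p M) (hab : IsMulCommutative ↥(P : Subgroup G))
    (hCN : (Subgroup.centralizer ((P : Subgroup G) : Set G)).relIndex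
      (Subgroup.normalizer ((P : Subgroup G) : Set G)) = 3)
    (hfrob : ∀ y : G, y ∈ (P : Subgroup G) → y ≠ 1 →
      Subgroup.centralizer ({y} : Set G) ⊓ Subgroup.normalizer ((P : Subgroup G) : Set G) =
        Subgroup.centralizer ((P : Subgroup G) : Set G))
    (D : Data P M 3) (hX : Nat.card D.X = 3)
    (ha : ∀ χ ∈ D.X, D.a χ = 1 ∨ D.a χ = -1) (δ : ℤ) (hδ : δ = 1 ∨ δ = -1)
    (σ : Fin D.t ≃ Fin D.t)
    (coef : ∀ ψ : Lin P, ψ ≠ 1 → ∀ i, D.d - D.δ * (if i = D.idx ψ then 1 else 0) =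
      if i = σ (D.idx ψ) then -δ else 0)
    (t : G) (ht : orderOf t = 2) (hgen : ∀ K : Subgroup G, K.Normal → t ∈ K → K = ⊤) :
    Nat.card {χ : IrrCharacter G // χ ∈ D.X ∧ (χ : G → ℂ) ≠ (fun _ => 1) ∧ D.a χ = -1} +
        (if δ = 1 then 1 else 0) = 2 ∧
      ∀ η ∈ Set.range D.μ, IsSquare (charDegree (η : G → ℂ) *
        ∏ᶠ χ ∈ {χ : IrrCharacter G | χ ∈ D.X ∧ (χ : G → ℂ) ≠ fun _ => 1}, charDegree (χ : G → ℂ)) := by
  classical
  haveI := CfsgLib.Blk.IsPModular.isPrime hM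
  haveI := Fintype.ofFinite G
  haveI := hab
  haveI := finite_lin P hab
  haveI : Fintype (Lin P) := Fintype.ofFinite _
  haveI : Fintype ↥(P : Subgroup G) := Fintype.ofFinite _
  haveI : Fintype ↥(Subgroup.normalizer ((P : Subgroup G) : Set G)) := Fintype.ofFinite _
  have hp : p.Prime := Fact.out
  -- move the involution into the Sylow subgroup
  obtain ⟨t, ht, hgen, htP⟩ : ∃ t : G, orderOf t = 2 ∧
      (∀ K : Subgroup G, K.Normal → t ∈ K → K = ⊤) ∧ (p = 2 → t ∈ (P : Subgroup G)) := by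
    by_cases hp2 : p = 2
    · obtain ⟨d, -, hd⟩ := exists_conj_mem P hab (one_mem _) (w := t) ⟨1, by rw [ht, hp2, pow_one]⟩
        (by simp)
      refine ⟨d * t * d⁻¹, ?_, fun K hK h => hgen K hK ?_, fun _ => hd⟩
      · rw [← ht]
        exact (MulAut.conj d).orderOf_eq t
      · have := hK.conj_mem _ h d⁻¹
        simpa [mul_assoc] using this
    · exact ⟨t, ht, hgen, fun h => absurd h hp2⟩
  have htt : t * t = 1 := invol_mul_self ht
  have htinv : t⁻¹ = t := invol_inv ht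
  -- the normalizer is transitive of odd order on the nontrivial elements
  set C := Subgroup.centralizer ((P : Subgroup G) : Set G) with hC
  have hcube : ∀ n : ↥(Subgroup.normalizer ((P : Subgroup G) : Set G)), (n : G) ^ 3 ∈ C := by
    intro n
    haveI : (C.subgroupOf (Subgroup.normalizer ((P : Subgroup G) : Set G))).Normal := by
      refine ⟨fun c hc k => Subgroup.mem_subgroupOf.2 fun w hw => ?_⟩
      have h1 : (k : G)⁻¹ * w * k ∈ (P : Subgroup G) := (cjP P k ⟨w, hw⟩).2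
      have h2 := Subgroup.mem_subgroupOf.1 hc _ h1
      simp only [Subgroup.coe_mul, Subgroup.coe_inv]
      calc w * ((k : G) * c * (k : G)⁻¹) = k * ((k : G)⁻¹ * w * k * c) * (k : G)⁻¹ := by group
        _ = (k : G) * c * (k : G)⁻¹ * w := by rw [h2]; group
    have h := Subgroup.pow_index_mem (C.subgroupOf (Subgroup.normalizer ((P : Subgroup G) : Set G))) n
    rw [show (C.subgroupOf (Subgroup.normalizer ((P : Subgroup G) : Set G))).index = 3 from hCN] at h
    simpa [Subgroup.mem_subgroupOf] using h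
  have hinv : ∀ y : G, y ∈ (P : Subgroup G) → IsConj y y⁻¹ → y * y = 1 := by
    intro y hy hc
    by_cases hy1 : y = 1
    · simp [hy1]
    obtain ⟨n, hn⟩ := fusion P hab hy (inv_mem hy) hc
    have h2 : ((n ^ 2 : ↥(Subgroup.normalizer ((P : Subgroup G) : Set G))) : G) ∈ C := by
      refine (fix_iff P hfrob hy hy1 _).1 ?_
      push_cast
      calc (n : G) ^ 2 * y * ((n : G) ^ 2)⁻¹ = n * (n * y * (n : G)⁻¹) * (n : G)⁻¹ := by rw [pow_two]; group
        _ = n * y⁻¹ * (n : G)⁻¹ := by rw [hn]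
        _ = (n * y * (n : G)⁻¹)⁻¹ := by group
        _ = y := by rw [hn, inv_inv]
    have h1 : (n : G) ∈ C := by
      have := C.mul_mem (C.inv_mem h2) (hcube n)
      push_cast at this
      simpa [pow_succ, mul_assoc] using this
    have e := (fix_iff P hfrob hy hy1 n).2 h1
    rw [hn] at e
    exact inv_eq_iff_mul_eq_one.1 e
  -- a linear character trivial on the conjugates of the involution
  obtain ⟨ψ, hψ, hψt⟩ : ∃ ψ : Lin P, ψ ≠ 1 ∧
      (p = 2 → ∀ y : ↥(P : Subgroup G), IsConj t (y : G) → ψ y = 1) := by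
    by_cases hp2 : p = 2
    · have htP' := htP hp2
      have ht1 : t ≠ 1 := fun e => by simp [e] at ht
      let O := {y : ↥(P : Subgroup G) // IsConj t (y : G)}
      haveI : Fintype O := Fintype.ofFinite _
      have hO : Nat.card O ≤ 3 := by
        have h : Fintype.card ↥(Subgroup.normalizer ((P : Subgroup G) : Set G)) =
            ∑ _y : O, Nat.card ↥C := by
          rw [← Finset.card_univ, Finset.card_eq_sum_card_fiberwise
            (f := fun n : ↥(Subgroup.normalizer ((P : Subgroup G) : Set G)) => (⟨⟨(n : G) * t * (n : G)⁻¹,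
              (Subgroup.mem_normalizer_iff.1 n.2 t).1 htP'⟩, isConj_iff.2 ⟨n, rfl⟩⟩ : O))
            (t := univ) (fun _ _ => by simp)]
          refine Finset.sum_congr rfl fun y _ => ?_
          obtain ⟨n₀, hn₀⟩ := fusion P hab htP' y.1.2 y.2
          refine Eq.trans ?_ (card_conj_fiber P hfrob htP' ht1 n₀ hn₀)
          exact congrArg Finset.card (Finset.filter_congr fun n _ => by
            simp [O, Subtype.ext_iff])
        rw [Finset.sum_const, Finset.card_univ, smul_eq_mul] at h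
        have h' : Nat.card ↥(Subgroup.normalizer ((P : Subgroup G) : Set G)) = Nat.card ↥C * 3 := by
          rw [← hCN, ← Subgroup.relIndex_bot_left, ← Subgroup.relIndex_bot_left]
          exact (Subgroup.relIndex_mul_relIndex _ _ _ bot_le
            (Subgroup.centralizer_le_normalizer _)).symm
        rw [Nat.card_eq_fintype_card, h, mul_comm] at h'
        rw [Nat.card_eq_fintype_card]
        exact (Nat.eq_of_mul_eq_mul_left Nat.card_pos h').le
      have hq : 8 < Nat.card ↥(P : Subgroup G) := by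
        have h2 : 2 ∣ Nat.card ↥(P : Subgroup G) := by
          have := Subgroup.orderOf_dvd_natCard _ htP'
          rwa [ht] at this
        have := D.card_eq
        have := D.one_lt
        omega
      have hsq : ∀ (ψ : Lin P) (y : O), ψ y.1 = 1 ∨ ψ y.1 = -1 := by
        intro ψ y
        have h : (y.1 : G) * y.1 = 1 := by
          obtain ⟨c, hc⟩ := isConj_iff.1 y.2
          rw [← hc]
          calc c * t * c⁻¹ * (c * t * c⁻¹) = c * (t * t) * c⁻¹ := by group
            _ = 1 := by rw [htt]; group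
        have h' : ψ y.1 * ψ y.1 = 1 := by
          rw [← map_mul, show y.1 * y.1 = 1 from Subtype.ext h, map_one]
        rcases mul_self_eq_one_iff.1 (congrArg Units.val h') with e | e
        · exact Or.inl (Units.ext e)
        · exact Or.inr (Units.ext e)
      let F : Lin P → O → Bool := fun ψ y => decide (ψ y.1 = 1)
      have hninj : ¬ Function.Injective F := fun hF => by
        have h := Nat.card_le_card_of_injective F hF
        rw [card_lin P hab, Nat.card_fun, Nat.card_eq_fintype_card (α := Bool), Fintype.card_bool] at h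
        have := Nat.pow_le_pow_right (show 0 < 2 by norm_num) hO
        omega
      simp only [Function.Injective, not_forall] at hninj
      obtain ⟨ψ₁, ψ₂, he, hne⟩ := hninj
      refine ⟨ψ₁ * ψ₂⁻¹, fun h => hne (mul_inv_eq_one.1 h), fun _ y hy => ?_⟩
      have e := congrFun he ⟨y, hy⟩
      simp only [F, decide_eq_decide] at e
      rw [MonoidHom.mul_apply, MonoidHom.inv_apply, mul_inv_eq_one]
      rcases hsq ψ₁ ⟨y, hy⟩ with e1 | e1 <;> rcases hsq ψ₂ ⟨y, hy⟩ with e2 | e2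
      · rw [e1, e2]
      · rw [e1, e.1 e1]
      · rw [e.2 e2, e2]
      · rw [e1, e2]
    · obtain ⟨ψ, hψ, -⟩ := D.idx_surj ⟨0, lt_trans zero_lt_one D.one_lt⟩
      exact ⟨ψ, hψ, fun h => absurd h hp2⟩
  -- the relations
  obtain ⟨B, hBdef⟩ : ∃ B, B = principalBlock M G := ⟨_, rfl⟩
  have hB : IsPBlock M B := hBdef ▸ isPBlock_principalBlock
  let V : IrrCharacter G → ℤ := fun χ => D.a χ - D.δ * (if D.μ (D.idx ψ) = χ then 1 else 0)
  have hθ : ∀ y : ↥(P : Subgroup G), (1 - conj (ψ y : ℂ)) ≠ 0 → ψ y ≠ 1 := fun y hy e => hy (by simp [e])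
  have hθ1 : ∀ y : ↥(P : Subgroup G), ψ y ≠ 1 → (y : G) ≠ 1 := fun y hy e => hy (by
    rw [show y = 1 from Subtype.ext e, map_one])
  have hst : ∀ y : ↥(P : Subgroup G), ψ y ≠ 1 → ∀ s x : G, IsConj t s → IsPPart p (s * t)⁻¹ x →
      ¬ IsConj (y : G) x := by
    intro y hy s x hs hx hc
    have hs2 : s⁻¹ = s := by
      obtain ⟨c, rfl⟩ := isConj_iff.1 hs
      rw [mul_inv_rev, mul_inv_rev, inv_inv, htinv, mul_assoc]
    have hz : (s * t)⁻¹ = t * s := by rw [mul_inv_rev, htinv, hs2]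
    rw [hz] at hx
    have hzt : t * (t * s) * t⁻¹ = (t * s)⁻¹ := by
      rw [← mul_assoc, htt, one_mul, mul_inv_rev, hs2]
    have htx : t * x * t⁻¹ = x⁻¹ := by
      have h1 := isPPart_conj hx t
      rw [hzt] at h1
      exact isPPart_unique hp h1 (isPPart_inv hx)
    obtain ⟨c, hc⟩ := isConj_iff.1 hc.symm
    have hyy : (y : G) * y = 1 := by
      refine hinv _ y.2 (isConj_iff.2 ⟨c * t * c⁻¹, ?_⟩)
      rw [← hc]
      calc c * t * c⁻¹ * (c * x * c⁻¹) * (c * t * c⁻¹)⁻¹ = c * (t * x * t⁻¹) * c⁻¹ := by group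
        _ = (c * x * c⁻¹)⁻¹ := by rw [htx]; group
    have hp2 : p = 2 := by
      by_contra hp2
      obtain ⟨k, hk⟩ := IsPGroup.iff_orderOf.1 P.2 y
      rw [← Subgroup.orderOf_coe] at hk
      have h2 : orderOf (y : G) ∣ 2 := orderOf_dvd_of_pow_eq_one (by rw [pow_two, hyy])
      rcases (Nat.dvd_prime Nat.prime_two).1 h2 with h | h
      · exact hθ1 y hy (orderOf_eq_one_iff.1 h)
      · have : 2 ∣ p ^ k := by rw [← hk, h]
        exact hp2 ((Nat.prime_dvd_prime_iff_eq Nat.prime_two hp).1 (Nat.prime_two.dvd_of_dvd_pow this)).symm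
    have hxx : x * x = 1 := by
      have : c * (x * x) * c⁻¹ = 1 := by rw [← hyy, ← hc]; group
      exact conj_eq_one_iff.1 this
    have hxi : x⁻¹ = x := inv_eq_of_mul_eq_one_right hxx
    rw [hxi, mul_inv_eq_iff_eq_mul] at htx
    obtain ⟨v, hxv, hcv, -, hv⟩ := hx
    have htv : t * v * t⁻¹ = v⁻¹ := by
      refine mul_left_cancel (a := x) ?_
      calc x * (t * v * t⁻¹) = t * (x * v) * t⁻¹ := by rw [← mul_assoc, ← mul_assoc, ← htx]; group
        _ = (t * s)⁻¹ := by rw [hxv, hzt]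
        _ = x * v⁻¹ := by rw [← hxv, mul_inv_rev, hxi, (hcv.inv_right).eq]
    obtain ⟨k, hk⟩ : ∃ k, orderOf v = 2 * k + 1 := by
      rw [hp2] at hv
      exact ⟨orderOf v / 2, by omega⟩
    have hxw : Commute x (v ^ (k + 1)) := hcv.pow_right _
    have hww : v ^ (k + 1) * v ^ (k + 1) = v := by
      rw [← pow_add, show k + 1 + (k + 1) = orderOf v + 1 by omega, pow_succ, pow_orderOf_eq_one,
        one_mul]
    have htw : t * v ^ (k + 1) * t⁻¹ = (v ^ (k + 1))⁻¹ := by
      rw [← conj_pow, htv, inv_pow]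
    generalize v ^ (k + 1) = w at hxw hww htw
    have hxt : IsConj (x * t) t := by
      refine IsConj.trans (isConj_iff.2 ⟨w⁻¹, ?_⟩) hs.symm
      have e1 : t * w = w⁻¹ * t := mul_inv_eq_iff_eq_mul.1 htw
      calc w⁻¹ * (x * t) * w⁻¹⁻¹ = w⁻¹ * x * (t * w) := by group
        _ = x * (w⁻¹ * w⁻¹ * t) := by rw [e1, ← hxw.inv_right.eq]; group
        _ = x * ((w * w)⁻¹ * t) := by group
        _ = s := by
          rw [hww, show v⁻¹ * t = t * v from (mul_inv_eq_iff_eq_mul.1 htv).symm, ← mul_assoc, ← htx,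
            mul_assoc, hxv, ← mul_assoc, htt, one_mul]
    obtain ⟨d, hdy, hdt⟩ := exists_conj_mem P hab y.2 (w := c * t * c⁻¹)
      ⟨1, by rw [pow_one, hp2, ← ht]; exact (MulAut.conj c).orderOf_eq t⟩ (by
        rw [← hc]
        calc c * t * c⁻¹ * (c * x * c⁻¹) = c * (t * x) * c⁻¹ := by group
          _ = c * x * c⁻¹ * (c * t * c⁻¹) := by rw [htx]; group)
    have h1 : ψ ⟨_, hdt⟩ = 1 := hψt hp2 _ (isConj_iff.2 ⟨d * c, by group⟩)
    have h2 : ψ (y * ⟨_, hdt⟩) = 1 := by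
      refine hψt hp2 _ (hxt.symm.trans (isConj_iff.2 ⟨d * c, ?_⟩))
      rw [Subgroup.coe_mul]
      calc d * c * (x * t) * (d * c)⁻¹ = d * (c * x * c⁻¹) * d⁻¹ * (d * (c * t * c⁻¹) * d⁻¹) := by group
        _ = _ := by rw [hc, hdy]
    rw [map_mul, h1, mul_one] at h2
    exact hy h2
  have hrel := invol_relations hM hB (P := (P : Subgroup G)) P.2 ht
    (fun y => 1 - conj (ψ y : ℂ)) (Nat.card ↥(P : Subgroup G) : ℂ)⁻¹ (fun χ => (V χ : ℂ))
    (fun χ hχ => D.coef ψ hψ χ (hBdef ▸ hχ))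
    (fun y hy => hθ1 y (hθ y hy))
    (fun h y hy hc => hθ y hy (hψt h y hc.symm))
    (fun y hy => hst y (hθ y hy))
  simp only [← finsum_mem_eq_sum_ite, hBdef] at hrel
  -- the three characters
  obtain ⟨A, A', hAA, hXeq⟩ : ∃ A A', A ≠ A' ∧
      D.X \ {(⟨_, isIrr_one⟩ : IrrCharacter G)} = {A, A'} := by
    refine Set.ncard_eq_two.1 ?_
    rw [Set.ncard_sdiff_singleton_of_mem D.one_mem_X, ← Nat.card_coe_set_eq, hX]
  set one : IrrCharacter G := ⟨_, isIrr_one⟩ with hone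
  have hA : A ∈ D.X \ {one} := by rw [hXeq]; simp
  have hA' : A' ∈ D.X \ {one} := by rw [hXeq]; simp
  have hXset : D.X = insert one {A, A'} := by
    rw [← hXeq, Set.insert_diff_singleton, Set.insert_eq_of_mem D.one_mem_X]
  have hXne : {χ : IrrCharacter G | χ ∈ D.X ∧ (χ : G → ℂ) ≠ fun _ => 1} = {A, A'} := by
    rw [← hXeq]
    ext χ
    simp only [Set.mem_ofPred_eq, Set.mem_sdiff, Set.mem_singleton_iff]
    exact and_congr_right fun _ => not_congr ⟨fun e => Subtype.ext e, fun e => congrArg Subtype.val e⟩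
  set j := σ (D.idx ψ) with hj
  have hVμ : ∀ i, V (D.μ i) = if i = j then -δ else 0 := by
    intro i
    simp only [V, D.a_μ, D.inj.eq_iff]
    rw [← coef ψ hψ i]
    simp only [eq_comm]
  have hVX : ∀ χ ∈ D.X, V χ = D.a χ := fun χ hχ => by
    simp only [V, if_neg (hχ.2 _), mul_zero, sub_zero]
  have hsum : ∀ F : IrrCharacter G → ℂ, ∑ᶠ χ ∈ principalBlock M G, (V χ : ℂ) * F χ =
      F one + (D.a A : ℂ) * F A + (D.a A' : ℂ) * F A' + (-δ : ℂ) * F (D.μ j) := by
    intro F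
    rw [D.sum_split, hXset, finsum_mem_insert _ (by
        simp only [Set.mem_insert_iff, Set.mem_singleton_iff, not_or]
        exact ⟨fun e => hA.2 e.symm, fun e => hA'.2 e.symm⟩) (Set.toFinite _),
      finsum_mem_pair hAA, hVX one D.one_mem_X, hVX A hA.1, hVX A' hA'.1, hone, D.a_one,
      Finset.sum_eq_single j (fun i _ h => by simp [hVμ, h]) (by simp), hVμ, if_pos rfl]
    push_cast
    ring
  obtain ⟨T, hT⟩ : ∃ T : IrrCharacter G → ℤ, ∀ χ : IrrCharacter G, (χ : G → ℂ) t = T χ :=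
    ⟨_, fun χ : IrrCharacter G => (char_apply_int_of_sq (isCharacter_of_isIrr χ.2) htt).choose_spec⟩
  have hne : ∀ χ : IrrCharacter G, χ ≠ one → T χ ≠ (charDegree (χ : G → ℂ) : ℤ) := by
    intro χ hχ e
    obtain ⟨K, hK, hKmem, -⟩ := exists_kernel (isCharacter_of_isIrr χ.2)
    have htop := hgen K hK ((hKmem t).2 (by rw [hT, e, irr_one_eq χ.2, Int.cast_natCast]))
    have hc : ∀ g, (χ : G → ℂ) g = (χ : G → ℂ) 1 := fun g =>
      (hKmem g).1 (htop ▸ Subgroup.mem_top g)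
    have h := irr_inner_ne χ.2 isIrr_one fun e => hχ (Subtype.ext e)
    rw [classInner_def] at h
    simp only [hc, map_one, mul_one, Finset.sum_const, nsmul_eq_mul, Finset.card_univ,
      ← Nat.card_eq_fintype_card] at h
    rw [inv_mul_cancel_left₀ (natCard_ne_zero G)] at h
    exact irr_one_ne_zero χ.2 h
  obtain ⟨f, hf⟩ : ∃ f : IrrCharacter G → ℤ, ∀ χ : IrrCharacter G, f χ = (charDegree (χ : G → ℂ) : ℤ) := ⟨_, fun _ => rfl⟩
  have hfC : ∀ χ : IrrCharacter G, (χ : G → ℂ) 1 = (f χ : ℂ) := fun χ => by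
    rw [irr_one_eq χ.2, hf, Int.cast_natCast]
  have hfpos : ∀ χ, 0 < f χ := fun χ => by rw [hf]; exact_mod_cast charDegree_pos χ.2
  obtain ⟨r2, r3, r1⟩ := hrel
  rw [hsum] at r1 r2 r3
  simp only [hfC, hT] at r1 r2 r3
  have hf1 : f one = 1 := by
    have h : (f one : ℂ) = 1 := by rw [← hfC]
    exact_mod_cast h
  have hT1 : T one = 1 := by
    have h : (T one : ℂ) = 1 := by rw [← hT]
    exact_mod_cast h
  rw [hf1] at r1 r2
  rw [hT1] at r1 r3
  have R2 : 1 + D.a A * f A + D.a A' * f A' + -δ * f (D.μ j) = 0 := by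
    apply Int.cast_injective (α := ℂ)
    push_cast at r2 ⊢
    exact r2
  have R3 : 1 + D.a A * T A + D.a A' * T A' + -δ * T (D.μ j) = 0 := by
    apply Int.cast_injective (α := ℂ)
    push_cast at r3 ⊢
    exact r3
  have R1 : (1 : ℚ) + D.a A * ((T A : ℚ) ^ 2 / f A) + D.a A' * ((T A' : ℚ) ^ 2 / f A') +
      (-δ : ℤ) * ((T (D.μ j) : ℚ) ^ 2 / f (D.μ j)) = 0 := by
    apply Rat.cast_injective (α := ℂ)
    push_cast at r1 ⊢
    rw [← r1]
    ring
  obtain ⟨hcount, hsquare⟩ := signs_of_relations (hfpos A) (hfpos A') (hfpos _) (ha A hA.1) (ha A' hA'.1)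
    (by rcases hδ with h | h <;> simp [h]) (hf A ▸ hne A hA.2) (hf A' ▸ hne A' hA'.2)
    (hf (D.μ j) ▸ hne _ (fun e => D.one_ne j (congrArg Subtype.val e))) R2 R3 R1
  refine ⟨?_, fun η hη => ?_⟩
  · rw [← hcount]
    have e : {χ : IrrCharacter G | χ ∈ D.X ∧ (χ : G → ℂ) ≠ (fun _ => 1) ∧ D.a χ = -1} =
        (({A, A'} : Finset (IrrCharacter G)).filter fun χ => D.a χ = -1 : Finset _) := by
      ext χ
      have := Set.ext_iff.1 hXne χ
      simp only [Set.mem_ofPred_eq, Set.mem_insert_iff, Set.mem_singleton_iff] at this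
      simp only [Set.mem_ofPred_eq, Finset.coe_filter, Finset.mem_insert, Finset.mem_singleton,
        ← and_assoc, this]
    change Nat.card ({χ : IrrCharacter G | χ ∈ D.X ∧ (χ : G → ℂ) ≠ (fun _ => 1) ∧ D.a χ = -1} : Set _) + _ = _
    rw [e, Nat.card_coe_set_eq, Set.ncard_coe_finset, Finset.card_filter, Finset.sum_pair hAA]
    simp only [neg_inj]
  · obtain ⟨i, rfl⟩ := hη
    have hdeg : (charDegree (D.μ i : G → ℂ) : ℤ) = f (D.μ j) := by
      have h := D.regular_eq i j (g := 1) (by simpa using hp.ne_one)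
      rw [hfC, hfC] at h
      rw [← hf]
      exact_mod_cast h
    rw [hXne, finprod_mem_pair hAA, ← Int.isSquare_natCast_iff]
    push_cast
    rw [hdeg, ← hf, ← hf]
    convert hsquare using 1
    ring

/-- Let p be a prime, M a maximal ideal of the algebraic integers containing p, and G a finite group with a nontrivial abelian Sylow p-subgroup P, N = N_G(P), C = C_G(P), such that N/C is cyclic of order 3, #P > 4, and C_G(y) ∩ N = C for every non-identity y ∈ P. Then the principal p-block is the disjoint union of a set X of exactly 3 characters containing the principal character and a set Y of (#P − 1)/3 characters, with signs a_χ = ±1 (χ ∈ X, a = 1 at the principal character) and δ = ±1 such that every χ ∈ X takes the value a_χ at every element whose p-part is a non-identity element of P, and there is a map ζ from the non-principal linear characters of P onto Y, constant on N-conjugacy classes, with ζ_ψ(z) = δ·Σ ψ'(y) over the N-orbit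 of ψ, for z with p-part y ≠ 1 in P. If moreover G has an involution lying in no proper normal subgroup of G, then exactly two of the three numbers −δ and a_χ (χ ∈ X non-principal) equal −1, and the product of the degrees of the two non-principal members of X and of any member of Y is a perfect square. -/
theorem result {G : Type*} [Group G] [Finite G] (p : ℕ) [Fact p.Prime] (M : Ideal Cfsg.AlgInt) (hM : Cfsg.IsPModular p M) (P : Sylow p G) (hab : IsMulCommutative P) (hP1 : Nat.card P ≠ 1) (hCN : (Subgroup.centralizer ((P : Subgroup G) : Set G)).relIndex (Subgroup.normalizer ((P : Subgroup G) : Set G)) = 3) (hcyc : ∃ g : G, g ∈ Subgroup.normalizer ((P : Subgroup G) : Set G) ∧ Subgroup.centralizer ((P : Subgroup G) : Set G) ⊔ Subgroup.zpowers g = Subgroup.normalizer ((P : Subgroup G) : Set G)) (hm2 : 3 + 1 < Nat.card P) (hfrob : ∀ y : G, y ∈ (P : Subgroup G) → y ≠ 1 → Subgroup.centralizer ({y} : Set G) ⊓ Subgroup.normalizer ((P : Subgroup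 G) : Set G) = Subgroup.centralizer ((P : Subgroup G) : Set G)) : ∃ (X Y : Set (Cfsg.IrrCharacter G)), Cfsg.principalBlock M G = X ∪ Y ∧ Disjoint X Y ∧ Nat.card X = 3 ∧ Nat.card Y = (Nat.card P - 1) / 3 ∧ (∃ χ₁ ∈ X, (χ₁ : G → ℂ) = fun _ => 1) ∧ ∃ (a : Cfsg.IrrCharacter G → ℤ) (δ : ℤ) (ζ : (↥(P : Subgroup G) →* ℂˣ) → Cfsg.IrrCharacter G), (δ = 1 ∨ δ = -1) ∧ (∀ χ ∈ X, (a χ = 1 ∨ a χ = -1) ∧ ∀ z y : G, Cfsg.IsPPart p z y → y ∈ (P : Subgroup G) → y ≠ 1 → (χ : G → ℂ) z = (a χ : ℂ)) ∧ (∀ ψ : ↥(P : Subgroup G) →* ℂˣ, ψ ≠ 1 → ζ ψ ∈ Y) ∧ (∀ η ∈ Y, ∃ ψ : ↥(P : Subgroup G) →* ℂˣ, ψ ≠ 1 ∧ ζ ψ = η) ∧ (∀ ψ ψ' : ↥(P : Subgroup G) →* ℂˣ, ψ ≠ 1 → (∃ n : G, n ∈ Subgroup.normalizer ((P : Subgroup G) : Set G) ∧ ∀ w w' : ↥(P : Subgroup G), (w' : G) = n * w * n⁻¹ → ψ' w' = ψ w) → ζ ψ' = ζ ψ) ∧ (∀ ψ : ↥(P : Subgroup G) →* ℂˣ, ψ ≠ 1 → ∀ (z : G) (y : ↥(P : Subgroup G)), Cfsg.IsPPart p z (y : G) → (y : G) ≠ 1 → (ζ ψ : G → ℂ) z = (δ : ℂ) * ∑ᶠ ψ' ∈ {ψ' : ↥(P : Subgroup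 G) →* ℂˣ | ∃ n : G, n ∈ Subgroup.normalizer ((P : Subgroup G) : Set G) ∧ ∀ w w' : ↥(P : Subgroup G), (w' : G) = n * w * n⁻¹ → ψ' w' = ψ w}, ((ψ' y : ℂˣ) : ℂ)) ∧ ((∃ t : G, orderOf t = 2 ∧ ∀ K : Subgroup G, K.Normal → t ∈ K → K = ⊤) → Nat.card {χ : Cfsg.IrrCharacter G // χ ∈ X ∧ (χ : G → ℂ) ≠ (fun _ => 1) ∧ a χ = -1} + (if δ = 1 then 1 else 0) = 2 ∧ ∀ η ∈ Y, IsSquare (Cfsg.charDegree (η : G → ℂ) * ∏ᶠ χ ∈ {χ : Cfsg.IrrCharacter G | χ ∈ X ∧ (χ : G → ℂ) ≠ fun _ => 1}, Cfsg.charDegree (χ : G → ℂ))) := by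
  classical
  haveI := CfsgLib.Blk.IsPModular.isPrime hM
  haveI := hab
  haveI := finite_lin P hab
  haveI : Fintype (Lin P) := Fintype.ofFinite _
  haveI : Fintype ↥(P : Subgroup G) := Fintype.ofFinite _
  have hp : p.Prime := Fact.out
  obtain ⟨D⟩ := exists_data P hM hab hfrob 3 hm2 hCN
  have hn := D.norm_X
  have hs := D.card_X_le_sum
  have hXpos : 1 ≤ Nat.card D.X := by
    haveI : Nonempty D.X := ⟨⟨_, D.one_mem_X⟩⟩
    exact Nat.card_pos
  have ht2 : (2 : ℤ) ≤ D.t := by exact_mod_cast D.one_lt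
  have htq := D.card_eq
  have hpk : ∃ k, Nat.card ↥(P : Subgroup G) = p ^ k := IsPGroup.iff_card.1 P.2
  -- the possible cases
  obtain ⟨hsum3, hcases⟩ : ∑ᶠ χ ∈ D.X, D.a χ ^ 2 = 3 ∧ (D.d = 0 ∨ (D.d = D.δ ∧ D.t = 2)) := by
    by_cases hd : D.d = 0
    · refine ⟨?_, Or.inl hd⟩
      rw [hd] at hn
      push_cast at hn
      linarith
    have hd2 : 0 < D.d ^ 2 := sq_pos_of_ne_zero hd
    have hle : (D.t : ℤ) * D.d ^ 2 ≤ 2 + 2 * (D.δ * D.d) := by
      push_cast at hn
      have : (1 : ℤ) ≤ Nat.card D.X := by exact_mod_cast hXpos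
      linarith
    have hdd : D.d = D.δ := by
      rcases D.sign with h | h <;> rw [h] at hle ⊢ <;>
        rcases lt_trichotomy D.d 0 with h' | h' | h' <;> nlinarith
    rw [hdd] at hle hn
    have hδ2 : D.δ * D.δ = 1 := by rcases D.sign with h | h <;> simp [h]
    rw [pow_two, hδ2] at hle hn
    rw [mul_assoc, hδ2] at hn
    push_cast at hn
    obtain ⟨k, hk⟩ := hpk
    rcases (by omega : D.t = 2 ∨ D.t = 3 ∨ D.t = 4) with h | h | h
    · exact ⟨by rw [h] at hn; push_cast at hn; linarith, Or.inr ⟨hdd, h⟩⟩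
    · exfalso
      have h10 : p ^ k = 10 := by rw [← hk]; rw [h] at htq; omega
      have e2 := (Nat.prime_dvd_prime_iff_eq Nat.prime_two hp).1
        (Nat.prime_two.dvd_of_dvd_pow (n := k) (by rw [h10]; norm_num))
      have e5 := (Nat.prime_dvd_prime_iff_eq (by norm_num : Nat.Prime 5) hp).1
        ((by norm_num : Nat.Prime 5).dvd_of_dvd_pow (n := k) (by rw [h10]; norm_num))
      omega
    · exfalso
      have hX1 : D.X = {(⟨_, isIrr_one⟩ : IrrCharacter G)} := by
        refine (Set.eq_singleton_iff_unique_mem).2 ⟨D.one_mem_X, fun χ hχ => ?_⟩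
        have : Nat.card D.X ≤ 1 := by rw [h] at hn; push_cast at hn; omega
        exact congrArg Subtype.val ((Finite.card_le_one_iff_subsingleton.1 this).elim
          (⟨χ, hχ⟩ : D.X) ⟨_, D.one_mem_X⟩)
      obtain ⟨i₀⟩ : Nonempty (Fin D.t) := ⟨⟨0, by omega⟩⟩
      have hr := D.regular_X i₀ (g := 1) (by simpa using hp.ne_one)
      rw [hX1, finsum_mem_singleton, D.a_one, h, hdd, irr_one_eq (D.μ _).2] at hr
      generalize hfd : charDegree (D.μ i₀ : G → ℂ) = f at hr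
      have hr' : ((4 * D.δ - D.δ) * (f : ℤ) + 1 : ℤ) = 0 := by
        apply Int.cast_injective (α := ℂ)
        push_cast at hr ⊢
        linear_combination hr
      rcases D.sign with e | e <;> rw [e] at hr' <;> omega
  have hfin := finsum_mem_eq_finite_toFinset_sum (fun χ => D.a χ ^ 2) (Set.toFinite D.X)
  have hsmall : ∀ χ ∈ D.X, D.a χ = 1 ∨ D.a χ = -1 := by
    intro χ hχ
    have h : D.a χ ^ 2 ≤ 3 := by
      rw [← hsum3, hfin]
      exact Finset.single_le_sum (f := fun χ => D.a χ ^ 2) (fun x _ => sq_nonneg _)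
        ((Set.Finite.mem_toFinset _).2 hχ)
    have := D.a_ne χ hχ.1 hχ.2
    have : D.a χ < 2 := by nlinarith
    have : -2 < D.a χ := by nlinarith
    omega
  have hX : Nat.card D.X = 3 := by
    have h : ∑ᶠ χ ∈ D.X, D.a χ ^ 2 = (Nat.card D.X : ℤ) := by
      rw [hfin, Nat.card_coe_set_eq, Set.ncard_eq_toFinset_card _ (Set.toFinite _),
        Finset.card_eq_sum_ones, Nat.cast_sum]
      refine Finset.sum_congr rfl fun χ hχ => ?_
      rcases hsmall χ ((Set.Finite.mem_toFinset _).1 hχ) with e | e <;> simp [e]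
    rw [hsum3] at h
    exact_mod_cast h.symm
  obtain ⟨σ, δ, hδ, hval, hcoef⟩ : ∃ (σ : Fin D.t ≃ Fin D.t) (δ : ℤ), (δ = 1 ∨ δ = -1) ∧
      (∀ ψ : Lin P, ψ ≠ 1 → ∀ (z : G) (y : ↥(P : Subgroup G)), IsPPart p z (y : G) → (y : G) ≠ 1 →
        (D.μ (σ (D.idx ψ)) : G → ℂ) z = (δ : ℂ) * ∑ᶠ ψ' ∈ {ψ' : Lin P | Rel P ψ ψ'}, (ψ' y : ℂ)) ∧
      (∀ ψ : Lin P, ψ ≠ 1 → ∀ i, D.d - D.δ * (if i = D.idx ψ then 1 else 0) =
        if i = σ (D.idx ψ) then -δ else 0) := by
    rcases hcases with hd | ⟨hd, ht⟩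
    · refine ⟨Equiv.refl _, D.δ, D.sign, fun ψ hψ z y hz hy => ?_, fun ψ _ i => ?_⟩
      · rw [Equiv.refl_apply, D.value_μ ψ hψ z y hz hy, hd, Int.cast_zero, zero_add]
      · rw [hd, Equiv.refl_apply]
        split_ifs <;> simp
    · have h2 : ∀ i j : Fin D.t, i ≠ j → ∀ k, k = i ∨ k = j := by
        intro i j hij k
        simp only [Fin.ext_iff, ne_eq] at hij ⊢
        have := i.2; have := j.2; have := k.2
        omega
      let a₀ : Fin D.t := ⟨0, by omega⟩
      let a₁ : Fin D.t := ⟨1, by omega⟩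
      have ha01 : a₀ ≠ a₁ := by simp [a₀, a₁, Fin.ext_iff]
      let σ : Fin D.t ≃ Fin D.t := Equiv.swap a₀ a₁
      have hσ : ∀ i, σ i ≠ i := by
        intro i
        rcases h2 a₀ a₁ ha01 i with rfl | rfl
        · simp [σ, ha01.symm]
        · simp [σ, ha01]
      refine ⟨σ, -D.δ, by rcases D.sign with h | h <;> simp [h], fun ψ hψ z y hz hy => ?_, fun ψ _ i => ?_⟩
      · obtain ⟨ψ₂, hψ₂, e₂⟩ := D.idx_surj (σ (D.idx ψ))
        rw [← e₂, D.value_μ ψ₂ hψ₂ z y hz hy, hd, finsum_mem_eq_sum_ite, finsum_mem_eq_sum_ite]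
        have h0 := sum_all_lin P hab (y := y) fun e => hy (by rw [e]; rfl)
        rw [Finset.sum_congr rfl (g := fun ψ' : Lin P => (if ψ' = 1 then (1 : ℂ) else 0) +
          (if ψ' ∈ {ψ' | Rel P ψ₂ ψ'} then (ψ' y : ℂ) else 0) +
          (if ψ' ∈ {ψ' | Rel P ψ ψ'} then (ψ' y : ℂ) else 0)) fun ψ' _ => ?_,
          Finset.sum_add_distrib, Finset.sum_add_distrib, Finset.sum_ite_eq' univ (1 : Lin P),
          if_pos (Finset.mem_univ _)] at h0
        · push_cast
          linear_combination (D.δ : ℂ) * h0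
        · simp only [Set.mem_ofPred_eq]
          by_cases h1 : ψ' = 1
          · subst h1
            have n1 : ∀ {φ : Lin P}, φ ≠ 1 → ¬ Rel P φ 1 := fun hφ ⟨n, e⟩ => twist_ne_one P n hφ e
            rw [if_pos rfl, if_neg (n1 hψ₂), if_neg (n1 hψ)]
            simp
          · rw [if_neg h1, if_congr (D.idx_iff ψ₂ ψ' hψ₂ h1).symm rfl rfl,
              if_congr (D.idx_iff ψ ψ' hψ h1).symm rfl rfl, e₂]
            rcases h2 _ _ (hσ (D.idx ψ)) (D.idx ψ') with e | e
            · rw [e, if_pos rfl, if_neg (hσ _).symm, zero_add, add_zero]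
            · rw [e, if_neg (hσ _), if_pos rfl, zero_add, zero_add]
      · rw [hd]
        by_cases e : i = D.idx ψ
        · rw [if_pos e, if_neg (e ▸ (hσ _).symm)]
          ring
        · rw [if_neg e, if_pos ((h2 _ _ (hσ (D.idx ψ)) i).resolve_right e)]
          ring
  refine ⟨D.X, Set.range D.μ, D.block_eq, D.disjoint, hX, by rw [D.card_range, D.t_eq (by norm_num)],
    ⟨_, D.one_mem_X, rfl⟩, D.a, δ, fun ψ => D.μ (σ (D.idx ψ)), hδ,
    fun χ hχ => ⟨hsmall χ hχ, D.value χ hχ.1 hχ.2⟩, fun ψ _ => ⟨_, rfl⟩, ?_,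
    fun ψ ψ' hψ h => congrArg (fun i => D.μ (σ i)) (D.idx_eq_of_conj hψ h), ?_, ?_⟩
  · rintro η ⟨i, rfl⟩
    obtain ⟨ψ, hψ, e⟩ := D.idx_surj (σ.symm i)
    exact ⟨ψ, hψ, by simp [e]⟩
  · intro ψ hψ z y hz hy
    rw [← Data.orbit_eq]
    exact hval ψ hψ z y hz hy
  · rintro ⟨t, ht, hgen⟩
    exact main P hM hab hCN hfrob D hX hsmall δ hδ σ hcoef t ht hgen

end Cfsg.Agent.S4721
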