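import Cfsg.Statements.S4722
import Cfsg.Agent.Blk.Principal
import Cfsg.Agent.Blk.ZStarBasic
import Cfsg.Agent.Fus.CoreBasic

set_option autoImplicit false
open Cfsg

namespace Cfsg.Agent.S4722

set_option linter.style.haveILetI false
set_option linter.unusedSectionVars false
open CfsgLib.Char CfsgLib.Blk CfsgLib.Inv
open scoped ComplexConjugate

/-- Let M be a maximal ideal of the algebraic integers containing 2, P a 2-subgroup of the finite group G, U a subset of P, and t an involution of G such that no element of U is inverted by any conjugate of t. Let θ be a generalized character of P vanishing outside U, and for χ in the principal 2-block B₀ put a_χ = #P⁻¹ Σ_{y ∈ P} χ(y) θ(y⁻¹). Then Σ_{χ ∈ B₀} a_χ χ(t)^2/χ(1) = 0, Σ_{χ ∈ B₀} a_χ χ(1) = 0 and Σ_{χ ∈ B₀} a_χ χ(t) = 0. If moreover #P⁻¹ Σ_{y ∈ P} θ(y) ≠ 0, then either at least two of the a_χ have positive real part and at least two have negative real part, or G has a proper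 normal subgroup containing O_2'(G) and t. -/
theorem result {G : Type*} [Group G] [Finite G] (M : Ideal Cfsg.AlgInt) (hM : Cfsg.IsPModular 2 M) (P : Subgroup G) (hP : IsPGroup 2 P) (U : Set G) (hUP : U ⊆ (P : Set G)) (t : G) (ht : orderOf t = 2) (hinv : ∀ u ∈ U, ∀ g : G, (g * t * g⁻¹) * u * (g * t * g⁻¹)⁻¹ ≠ u⁻¹) (θ : ↥P → ℂ) (hθ : Cfsg.IsGeneralizedCharacter ↥P θ) (hθU : ∀ y : ↥P, (y : G) ∉ U → θ y = 0) : (∑ᶠ χ ∈ Cfsg.principalBlock M G, ((Nat.card ↥P : ℂ)⁻¹ * ∑ᶠ y : ↥P, (χ : G → ℂ) (y : G) * θ y⁻¹) * (χ : G → ℂ) t ^ 2 / (χ : G → ℂ) 1 = 0) ∧ (∑ᶠ χ ∈ Cfsg.principalBlock M G, ((Nat.card ↥P : ℂ)⁻¹ * ∑ᶠ y : ↥P, (χ : G → ℂ) (y : G) * θ y⁻¹) * (χ : G → ℂ) 1 = 0) ∧ (∑ᶠ χ ∈ Cfsg.principalBlock M G, ((Nat.card ↥P : ℂ)⁻¹ * ∑ᶠ y : ↥P, (χ : G → ℂ) (y : G) * θ y⁻¹) * (χ : G → ℂ) t = 0) ∧ ((Nat.card ↥P : ℂ)⁻¹ * ∑ᶠ y : ↥P, θ y ≠ 0 → (2 ≤ Nat.card {χ : Cfsg.IrrCharacter G // χ ∈ Cfsg.principalBlock M G ∧ 0 < (((Nat.card ↥P : ℂ)⁻¹ * ∑ᶠ y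 : ↥P, (χ : G → ℂ) (y : G) * θ y⁻¹)).re} ∧ 2 ≤ Nat.card {χ : Cfsg.IrrCharacter G // χ ∈ Cfsg.principalBlock M G ∧ (((Nat.card ↥P : ℂ)⁻¹ * ∑ᶠ y : ↥P, (χ : G → ℂ) (y : G) * θ y⁻¹)).re < 0}) ∨ ∃ K : Subgroup G, K.Normal ∧ K ≠ ⊤ ∧ Cfsg.pPrimeCore 2 G ≤ K ∧ t ∈ K) := by
  classical
  haveI := Fintype.ofFinite G
  haveI : Fintype P := Fintype.ofFinite _
  haveI : Fact (Nat.Prime 2) := ⟨Nat.prime_two⟩
  haveI := CfsgLib.Blk.IsPModular.isPrime hM
  have hp : Nat.Prime 2 := Nat.prime_two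
  have ht2 : t * t = 1 := invol_mul_self ht
  have htinv : t⁻¹ = t := invol_inv ht
  obtain ⟨B, hBd⟩ : ∃ B, B = Cfsg.principalBlock M G := ⟨_, rfl⟩
  have hB : IsPBlock M B := hBd ▸ isPBlock_principalBlock
  rw [← hBd]
  have hsum : ∀ f : ↥P → ℂ, ∑ᶠ y : ↥P, f y = ∑ y : ↥P, f y := fun f =>
    finsum_eq_sum_of_fintype f
  simp only [hsum]
  obtain ⟨a, ha⟩ : ∃ a : IrrCharacter G → ℂ, ∀ χ,
      a χ = (Nat.card ↥P : ℂ)⁻¹ * ∑ y : P, (χ : G → ℂ) (y : G) * θ y⁻¹ := ⟨_, fun _ => rfl⟩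
  simp only [← ha]
  simp only [finsum_mem_eq_sum_ite]
  -- integrality
  have haint : ∀ χ : IrrCharacter G, ∃ n : ℤ, a χ = n := by
    intro χ
    obtain ⟨φ, ψ, hφ, hψ, hθe⟩ := hθ
    have hres := isCharacter_restrict P (isCharacter_of_isIrr χ.2)
    obtain ⟨m, hm⟩ := inner_char_char hres hφ
    obtain ⟨k, hk⟩ := inner_char_char hres hψ
    refine ⟨(m : ℤ) - k, ?_⟩
    push_cast
    rw [← hm, ← hk, ← classInner_sub_right, ← hθe, ha, classInner_def]
    congr 1
    refine Finset.sum_congr rfl fun y _ => ?_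
    rw [gen_conj_eq ⟨φ, ψ, hφ, hψ, hθe⟩ y]
  choose n hn using haint
  -- elements where `θ` is supported
  have hsupp : ∀ y : P, θ y⁻¹ ≠ 0 → ∀ g : G,
      (g * t * g⁻¹) * (y : G) * (g * t * g⁻¹)⁻¹ ≠ (y : G)⁻¹ := by
    intro y hy g h
    have hU : (y : G)⁻¹ ∈ U := by
      by_contra hh
      exact hy (hθU _ (by simpa using hh))
    refine hinv _ hU g ?_
    rw [inv_inv]
    calc g * t * g⁻¹ * (y : G)⁻¹ * (g * t * g⁻¹)⁻¹
        = (g * t * g⁻¹ * (y : G) * (g * t * g⁻¹)⁻¹)⁻¹ := by group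
      _ = (y : G) := by rw [h, inv_inv]
  have hU1 : ∀ y : P, θ y⁻¹ ≠ 0 → (y : G) ≠ 1 := fun y hy h => hsupp y hy 1 (by simp [h])
  have hUt : ∀ y : P, θ y⁻¹ ≠ 0 → ¬ IsConj (y : G) t := by
    intro y hy hc
    obtain ⟨c, hc⟩ := isConj_iff.1 hc.symm
    refine hsupp y hy c ?_
    rw [hc, mul_inv_cancel_right, eq_comm, ← hc, mul_inv_rev, mul_inv_rev, inv_inv, htinv, mul_assoc]
  have hpe : ∀ y : P, ∃ k : ℕ, orderOf (y : G) = 2 ^ k := fun y => by
    obtain ⟨k, hk⟩ := IsPGroup.iff_orderOf.1 hP y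
    exact ⟨k, by rw [Subgroup.orderOf_coe, hk]⟩
  have key : ∀ F : IrrCharacter G → ℂ,
      (∀ y : P, θ y⁻¹ ≠ 0 →
        ∑ χ : IrrCharacter G, (if χ ∈ B then (χ : G → ℂ) (y : G) * F χ else 0) = 0) →
      ∑ χ : IrrCharacter G, (if χ ∈ B then a χ * F χ else 0) = 0 := by
    intro F hF
    have e : ∑ χ : IrrCharacter G, (if χ ∈ B then a χ * F χ else 0) =
        (Nat.card ↥P : ℂ)⁻¹ * ∑ y : P, θ y⁻¹ *
          ∑ χ : IrrCharacter G, (if χ ∈ B then (χ : G → ℂ) (y : G) * F χ else 0) := by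
      simp only [ha, Finset.mul_sum]
      rw [Finset.sum_comm]
      refine Finset.sum_congr rfl fun χ _ => ?_
      split_ifs
      · rw [Finset.sum_mul]
        exact Finset.sum_congr rfl fun y _ => by ring
      · simp
    rw [e, Finset.sum_eq_zero fun y _ => ?_, mul_zero]
    by_cases hy : θ y⁻¹ = 0
    · rw [hy, zero_mul]
    · rw [hF y hy, mul_zero]
  have horth : ∀ (y : P) (b x : G), IsPPart 2 b x → ¬ IsConj (y : G) x →
      ∑ χ : IrrCharacter G, (if χ ∈ B then (χ : G → ℂ) (y : G) * conj ((χ : G → ℂ) b) else 0) = 0 := by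
    intro y b x hx hxy
    have h := block_orth hM hB (isPPart_self (hpe y) hp) hx hxy
    rwa [finsum_mem_eq_sum_ite] at h
  have htr : ∀ χ : IrrCharacter G, conj ((χ : G → ℂ) t) = (χ : G → ℂ) t := fun χ => by
    rw [← char_conj_eq (isCharacter_of_isIrr χ.2), htinv]
  -- the three relations
  have r2 : ∑ χ : IrrCharacter G, (if χ ∈ B then a χ * (χ : G → ℂ) 1 else 0) = 0 := by
    refine key _ fun y hy => ?_
    refine Eq.trans (Finset.sum_congr rfl fun χ _ => ?_)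
      (horth y 1 1 (isPPart_one_of_regular (by simp)) fun h => hU1 y hy (isConj_one_left.1 h))
    rw [irr_one_eq χ.2, Complex.conj_natCast]
  have r3 : ∑ χ : IrrCharacter G, (if χ ∈ B then a χ * (χ : G → ℂ) t else 0) = 0 := by
    refine key _ fun y hy => ?_
    refine Eq.trans (Finset.sum_congr rfl fun χ _ => ?_)
      (horth y t t (isPPart_self ⟨1, by simp [ht]⟩ hp) (hUt y hy))
    rw [htr]
  have r1 : ∑ χ : IrrCharacter G,
      (if χ ∈ B then a χ * (χ : G → ℂ) t ^ 2 / (χ : G → ℂ) 1 else 0) = 0 := by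
    have h : ∑ χ : IrrCharacter G,
        (if χ ∈ B then a χ * ((χ : G → ℂ) t ^ 2 / (χ : G → ℂ) 1) else 0) = 0 := by
      refine key _ fun y hy => ?_
      have hi : ((Subgroup.centralizer ({t} : Set G)).index : ℂ) ≠ 0 :=
        Nat.cast_ne_zero.2 Subgroup.index_ne_zero_of_finite
      refine mul_left_cancel₀ hi ?_
      rw [mul_zero, Finset.mul_sum]
      have e : ∀ χ : IrrCharacter G, ((Subgroup.centralizer ({t} : Set G)).index : ℂ) *
          (if χ ∈ B then (χ : G → ℂ) (y : G) * ((χ : G → ℂ) t ^ 2 / (χ : G → ℂ) 1) else 0) =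
          ∑ s : G, (if IsConj t s then
            (if χ ∈ B then (χ : G → ℂ) (y : G) * conj ((χ : G → ℂ) (s * t)⁻¹) else 0) else 0) := by
        intro χ
        by_cases hχ : χ ∈ B
        · simp only [if_pos hχ]
          rw [Finset.sum_congr rfl (g := fun s => (χ : G → ℂ) (y : G) *
            (if IsConj t s then (χ : G → ℂ) (s * t) else 0)) fun s _ => by
              rw [char_conj_eq (isCharacter_of_isIrr χ.2), Complex.conj_conj]; split_ifs <;> simp,
            ← Finset.mul_sum, sum_class_translate χ.2]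
          ring
        · simp [hχ]
      simp only [e]
      rw [Finset.sum_comm]
      refine Finset.sum_eq_zero fun s _ => ?_
      split_ifs with hs
      swap
      · simp
      have hs2 : s⁻¹ = s := by
        obtain ⟨c, rfl⟩ := isConj_iff.1 hs
        rw [mul_inv_rev, mul_inv_rev, inv_inv, htinv, mul_assoc]
      obtain ⟨x, hx⟩ := exists_isPPart hp (s * t)⁻¹
      refine horth y _ x hx fun hc => ?_
      have h1 := isPPart_conj hx t
      have h2 := isPPart_inv hx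
      have e2 : t * (s * t)⁻¹ * t⁻¹ = ((s * t)⁻¹)⁻¹ := by
        rw [inv_inv, mul_inv_rev, hs2, htinv, ← mul_assoc, ht2, one_mul]
      rw [e2] at h1
      have h3 : t * x * t⁻¹ = x⁻¹ := isPPart_unique hp h1 h2
      obtain ⟨c, hc'⟩ := isConj_iff.1 hc
      refine hsupp y hy c⁻¹ ?_
      have hy' : (y : G) = c⁻¹ * x * c := by rw [← hc']; group
      rw [hy', show (c⁻¹ * x * c)⁻¹ = c⁻¹ * x⁻¹ * c by group, ← h3]
      group
    refine Eq.trans (Finset.sum_congr rfl fun χ _ => ?_) h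
    split_ifs <;> ring
  refine ⟨r1, r2, r3, fun h0 => ?_⟩
  -- real versions
  choose T hT using fun χ : IrrCharacter G => char_apply_int_of_sq (isCharacter_of_isIrr χ.2) ht2
  obtain ⟨d, hd⟩ : ∃ d : IrrCharacter G → ℝ, ∀ χ, d χ = (charDegree (χ : G → ℂ) : ℝ) :=
    ⟨_, fun _ => rfl⟩
  have hdpos : ∀ χ, 0 < d χ := fun χ => by rw [hd]; exact_mod_cast charDegree_pos χ.2
  have hdC : ∀ χ : IrrCharacter G, ((d χ : ℝ) : ℂ) = (χ : G → ℂ) 1 := fun χ => by
    rw [hd, irr_one_eq χ.2, Complex.ofReal_natCast]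
  have hre : ∀ χ, (a χ).re = (n χ : ℝ) := fun χ => by rw [hn, Complex.intCast_re]
  have R2 : ∑ χ : IrrCharacter G, (if χ ∈ B then (n χ : ℝ) * d χ else 0) = 0 := by
    apply Complex.ofReal_injective
    rw [Complex.ofReal_sum, Complex.ofReal_zero, ← r2]
    refine Finset.sum_congr rfl fun χ _ => ?_
    split_ifs
    · rw [Complex.ofReal_mul, hdC, hn, Complex.ofReal_intCast]
    · simp
  have R3 : ∑ χ : IrrCharacter G, (if χ ∈ B then (n χ : ℝ) * (T χ : ℝ) else 0) = 0 := by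
    apply Complex.ofReal_injective
    rw [Complex.ofReal_sum, Complex.ofReal_zero, ← r3]
    refine Finset.sum_congr rfl fun χ _ => ?_
    split_ifs
    · rw [Complex.ofReal_mul, hT, hn, Complex.ofReal_intCast, Complex.ofReal_intCast]
    · simp
  have R1 : ∑ χ : IrrCharacter G,
      (if χ ∈ B then (n χ : ℝ) * (T χ : ℝ) ^ 2 / d χ else 0) = 0 := by
    apply Complex.ofReal_injective
    rw [Complex.ofReal_sum, Complex.ofReal_zero, ← r1]
    refine Finset.sum_congr rfl fun χ _ => ?_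
    split_ifs
    · rw [Complex.ofReal_div, Complex.ofReal_mul, Complex.ofReal_pow, hdC, hT, hn,
        Complex.ofReal_intCast, Complex.ofReal_intCast]
    · simp
  obtain ⟨one, hone⟩ : ∃ o : IrrCharacter G, o = ⟨_, isIrr_one⟩ := ⟨_, rfl⟩
  have honev : (one : G → ℂ) = fun _ => 1 := by rw [hone]
  have honeB : one ∈ B := by rw [hone, hBd]; exact one_mem_principalBlock
  have hone0 : n one ≠ 0 := by
    intro h
    refine h0 ?_
    have h1 := ha one
    rw [hn one, h, Int.cast_zero, honev] at h1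
    simp only [one_mul] at h1
    have h2 : ∑ y : P, θ y⁻¹ = ∑ y : P, θ y := Fintype.sum_equiv (Equiv.inv P) _ _ fun y => rfl
    rw [← h2]
    exact h1.symm
  by_cases hcount : 2 ≤ Nat.card {χ : Cfsg.IrrCharacter G // χ ∈ B ∧ 0 < (a χ).re} ∧
      2 ≤ Nat.card {χ : Cfsg.IrrCharacter G // χ ∈ B ∧ (a χ).re < 0}
  · exact Or.inl hcount
  right
  -- all members have one ratio
  obtain ⟨μ, hμB, hμ0, hsign⟩ : ∃ μ ∈ B, n μ ≠ 0 ∧
      ((∀ χ ∈ B, χ ≠ μ → 0 ≤ n χ) ∨ ∀ χ ∈ B, χ ≠ μ → n χ ≤ 0) := by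
    have hex : (∃ χ ∈ B, 0 < n χ) ∧ ∃ χ ∈ B, n χ < 0 := by
      have hpos : ∀ s : ℤ, s ≠ 0 → (∀ χ ∈ B, 0 ≤ s * n χ) → False := by
        intro s hs hall
        have h : ∑ χ : IrrCharacter G, (if χ ∈ B then (s : ℝ) * n χ * d χ else 0) = 0 := by
          have h2 := congrArg (fun u : ℝ => (s : ℝ) * u) R2
          simp only [mul_zero, Finset.mul_sum] at h2
          refine Eq.trans ?_ h2
          exact Finset.sum_congr rfl fun χ _ => by split_ifs <;> ring
        have h' := (Finset.sum_eq_zero_iff_of_nonneg fun χ _ => ?_).1 h one (Finset.mem_univ _)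
        · rw [if_pos honeB] at h'
          rcases mul_eq_zero.1 h' with h' | h'
          · rcases mul_eq_zero.1 h' with h' | h'
            · exact hs (by exact_mod_cast h')
            · exact hone0 (by exact_mod_cast h')
          · exact (hdpos one).ne' h'
        · split_ifs with hχ
          · have hz : (0 : ℝ) ≤ (s : ℝ) * n χ := by exact_mod_cast hall χ hχ
            exact mul_nonneg hz (hdpos χ).le
          · exact le_rfl
      constructor <;> by_contra hcon <;> push Not at hcon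
      · exact hpos (-1) (by norm_num) fun χ hχ => by linarith [hcon χ hχ]
      · exact hpos 1 one_ne_zero fun χ hχ => by linarith [hcon χ hχ]
    obtain ⟨⟨p₀, hp₀, hp₀'⟩, q₀, hq₀, hq₀'⟩ := hex
    rcases not_and_or.1 hcount with h | h <;> rw [not_le] at h
    · refine ⟨p₀, hp₀, hp₀'.ne', Or.inr fun χ hχ hne => ?_⟩
      by_contra hlt
      refine absurd h (not_lt.2 (Nat.succ_le_of_lt (Finite.one_lt_card_iff_nontrivial.2
        ⟨⟨χ, hχ, ?_⟩, ⟨p₀, hp₀, ?_⟩, fun e => hne (congrArg Subtype.val e)⟩)))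
      · rw [hre]; exact_mod_cast not_le.1 hlt
      · rw [hre]; exact_mod_cast hp₀'
    · refine ⟨q₀, hq₀, hq₀'.ne, Or.inl fun χ hχ hne => ?_⟩
      by_contra hlt
      refine absurd h (not_lt.2 (Nat.succ_le_of_lt (Finite.one_lt_card_iff_nontrivial.2
        ⟨⟨χ, hχ, ?_⟩, ⟨q₀, hq₀, ?_⟩, fun e => hne (congrArg Subtype.val e)⟩)))
      · rw [hre]; exact_mod_cast not_le.1 hlt
      · rw [hre]; exact_mod_cast hq₀'
  obtain ⟨r, hr⟩ : ∃ r : ℝ, r = (T μ : ℝ) / d μ := ⟨_, rfl⟩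
  have hall : ∑ χ : IrrCharacter G,
      (if χ ∈ B then (n χ : ℝ) * (d χ * ((T χ : ℝ) / d χ - r) ^ 2) else 0) = 0 := by
    rw [Finset.sum_congr rfl (g := fun χ => (if χ ∈ B then (n χ : ℝ) * (T χ : ℝ) ^ 2 / d χ else 0) -
      2 * r * (if χ ∈ B then (n χ : ℝ) * (T χ : ℝ) else 0) +
      r ^ 2 * (if χ ∈ B then (n χ : ℝ) * d χ else 0)) fun χ _ => ?_,
      Finset.sum_add_distrib, Finset.sum_sub_distrib, ← Finset.mul_sum, ← Finset.mul_sum, R1, R2, R3]
    · ring
    · have := (hdpos χ).ne'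
      split_ifs
      · field_simp; ring
      · ring
  have hratio : ∀ χ ∈ B, n χ ≠ 0 → (T χ : ℝ) = r * d χ := by
    intro χ hχ hn0
    have hzero : (if χ ∈ B then (n χ : ℝ) * (d χ * ((T χ : ℝ) / d χ - r) ^ 2) else 0) = 0 := by
      rcases hsign with hs | hs
      · refine (Finset.sum_eq_zero_iff_of_nonneg fun ψ _ => ?_).1 hall χ (Finset.mem_univ _)
        split_ifs with hψ
        · by_cases hψμ : ψ = μ
          · rw [hψμ, hr, sub_self]; simp
          · exact mul_nonneg (by exact_mod_cast hs ψ hψ hψμ)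
              (mul_nonneg (hdpos ψ).le (sq_nonneg _))
        · exact le_rfl
      · refine (Finset.sum_eq_zero_iff_of_nonpos fun ψ _ => ?_).1 hall χ (Finset.mem_univ _)
        split_ifs with hψ
        · by_cases hψμ : ψ = μ
          · rw [hψμ, hr, sub_self]; simp
          · exact mul_nonpos_of_nonpos_of_nonneg (by exact_mod_cast hs ψ hψ hψμ)
              (mul_nonneg (hdpos ψ).le (sq_nonneg _))
        · exact le_rfl
    rw [if_pos hχ, mul_eq_zero, mul_eq_zero, sq_eq_zero_iff, sub_eq_zero,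
      div_eq_iff (hdpos χ).ne'] at hzero
    rcases hzero with h | h | h
    · exact absurd (by exact_mod_cast h) hn0
    · exact absurd h (hdpos χ).ne'
    · exact h
  have hr1 : r = 1 := by
    have h := hratio one honeB hone0
    have hT1 : ((T one : ℤ) : ℂ) = 1 := by rw [← hT, honev]
    have hd1 : ((d one : ℝ) : ℂ) = 1 := by rw [hdC, honev]
    have hT1' : T one = 1 := by exact_mod_cast hT1
    have hd1' : d one = 1 := by exact_mod_cast hd1
    rw [hT1', hd1', Int.cast_one, mul_one] at h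
    exact h.symm
  obtain ⟨χ, hχ, hχ1, hχ0⟩ : ∃ χ ∈ B, χ ≠ one ∧ n χ ≠ 0 := by
    by_contra hcon
    push Not at hcon
    rw [Finset.sum_eq_single one, if_pos honeB, mul_eq_zero] at R2
    · exact hone0 (by exact_mod_cast R2.resolve_right (hdpos one).ne')
    · intro χ _ hne
      split_ifs with h
      · simp [hcon χ h hne]
      · rfl
    · simp
  obtain ⟨K, hK, hKmem, -⟩ := exists_kernel (isCharacter_of_isIrr χ.2)
  refine ⟨K, hK, fun htop => ?_, fun g hg => ?_, ?_⟩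
  · have hc : ∀ g, (χ : G → ℂ) g = (χ : G → ℂ) 1 := fun g =>
      (hKmem g).1 (htop ▸ Subgroup.mem_top g)
    have h := irr_inner_ne χ.2 isIrr_one fun e => hχ1 (Subtype.ext (e.trans honev.symm))
    rw [classInner_def] at h
    simp only [hc, map_one, mul_one, Finset.sum_const, nsmul_eq_mul, Finset.card_univ,
      ← Nat.card_eq_fintype_card] at h
    rw [inv_mul_cancel_left₀ (natCard_ne_zero G)] at h
    exact irr_one_ne_zero χ.2 h
  · haveI := CfsgLib.Fus.normal_pPrimeCore (G := G) 2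
    exact (hKmem g).2 (principal_apply_one hM (hBd ▸ hχ) _
      ((Nat.Prime.coprime_iff_not_dvd hp).1
        (CfsgLib.Fus.coprime_card_pPrimeCore (G := G) 2).symm) hg)
  · rw [hKmem, hT, ← hdC, ← Complex.ofReal_intCast, hratio χ hχ hχ0, hr1, one_mul]

end Cfsg.Agent.S4722
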