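import Cfsg.Statements.S4723
import Cfsg.Agent.Blk.Bounds
import Cfsg.Agent.Char.Clifford
import Cfsg.Agent.Blk.Contrib
import Cfsg.Agent.Inv.CharP2
import Mathlib.GroupTheory.Sylow

set_option autoImplicit false
open Cfsg

namespace Cfsg.Agent.S4723

open CfsgLib.Char CfsgLib.Blk MonoidAlgebra
open scoped ComplexConjugate

/-- Let p be a prime, M a maximal ideal of the algebraic integers containing p, H a normal subgroup of the finite group G and b a p-block of H. Let T be the stabilizer of b in G. Then b contains a character θ of height zero whose own stabilizer in G (the elements g with θ(g h g⁻¹) = θ(h) for all h ∈ H) has index prime to p in T, i.e. contains a Sylow p-subgroup of T. -/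
theorem result {G : Type*} [Group G] [Finite G] (p : ℕ) [Fact p.Prime] (M : Ideal Cfsg.AlgInt) (hM : Cfsg.IsPModular p M) (H : Subgroup G) [H.Normal] (b : Set (Cfsg.IrrCharacter ↥H)) (hb : Cfsg.IsPBlock M b) (T : Subgroup G) (hT : (∀ g : G, g ∈ T ↔ ∀ θ ∈ b, ∀ θ' : Cfsg.IrrCharacter ↥H, (∀ h h' : ↥H, (h' : G) = g * h * g⁻¹ → (θ' : ↥H → ℂ) h' = (θ : ↥H → ℂ) h) → θ' ∈ b)) : ∃ θ ∈ b, Cfsg.blockHeight p b (θ : ↥H → ℂ) = 0 ∧ ∃ S : Subgroup G, S ≤ T ∧ (∀ g : G, g ∈ S ↔ (g ∈ T ∧ ∀ h h' : ↥H, (h' : G) = g * h * g⁻¹ → (θ : ↥H → ℂ) h' = (θ : ↥H → ℂ) h)) ∧ ¬ p ∣ S.relIndex T := by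
  classical
  haveI : M.IsPrime := hM.2.1.isPrime
  haveI := Fintype.ofFinite G
  haveI := Fintype.ofFinite H
  haveI : Fintype (ConjClasses H) := Fintype.ofFinite _
  haveI : CharP (Res M) p := charP_res hM
  have hp : p.Prime := Fact.out
  obtain ⟨θ₀, hθ₀⟩ := isPBlock_nonempty hb
  -- the operators
  let cj : G → H ≃* H := fun g => (MulAut.conjNormal g : MulAut H)
  have hcj : ∀ g (h : H), ((cj g h : H) : G) = g * h * g⁻¹ := fun g h => MulAut.conjNormal_apply g h
  have hTb : ∀ g ∈ T, ∀ θ ∈ b, (⟨conjN (θ : H → ℂ) g⁻¹, irr_conjN θ.2 g⁻¹⟩ : IrrCharacter H) ∈ b := by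
    intro g hg θ hθ
    refine (hT g).mp hg θ hθ _ fun h h' e => ?_
    show (θ : H → ℂ) ⟨g⁻¹ * (h' : G) * g⁻¹⁻¹, _⟩ = (θ : H → ℂ) h
    refine congrArg (θ : H → ℂ) (Subtype.ext ?_)
    show g⁻¹ * (h' : G) * g⁻¹⁻¹ = (h : G)
    rw [e]; group
  obtain ⟨S₀⟩ : Nonempty (Sylow p T) := inferInstance
  set S : Subgroup G := (S₀ : Subgroup T).map T.subtype with hS
  have hST : S ≤ T := Subgroup.map_subtype_le _
  have hSp : IsPGroup p S := S₀.isPGroup'.map _
  letI actI : MulAction S (IrrCharacter H) :=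
    { smul := fun s θ => ⟨conjN (θ : H → ℂ) (s : G)⁻¹, irr_conjN θ.2 (s : G)⁻¹⟩
      one_smul := fun θ => Subtype.ext (by
        show conjN (θ : H → ℂ) ((1 : S) : G)⁻¹ = _
        rw [OneMemClass.coe_one, inv_one, conjN_one])
      mul_smul := fun s t θ => Subtype.ext (by
        show conjN (θ : H → ℂ) ((s * t : S) : G)⁻¹ = conjN (conjN (θ : H → ℂ) (t : G)⁻¹) (s : G)⁻¹
        rw [conjN_mul, Subgroup.coe_mul, mul_inv_rev]) }
  have hsmul : ∀ (s : S) (θ : IrrCharacter H) (h : H),
      ((s • θ : IrrCharacter H) : H → ℂ) h = (θ : H → ℂ) (cj (s : G)⁻¹ h) := fun s θ h =>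
    congrArg (θ : H → ℂ) (Subtype.ext (by rw [hcj]))
  have hSb : ∀ (s : S) (θ : IrrCharacter H), s • θ ∈ b ↔ θ ∈ b := fun s θ =>
    ⟨fun h => by
      have h2 : (s⁻¹ : S) • s • θ ∈ b := hTb _ (hST (S.inv_mem s.2)) _ h
      rwa [inv_smul_smul] at h2, fun h => hTb _ (hST s.2) _ h⟩
  have hcoeff : ∀ (s : S) (h : H), blockCoeff b (cj (s : G) h) = blockCoeff b h := by
    intro s h
    simp only [blockCoeff, finsum_mem_eq_sum_ite]
    congr 1
    refine (Fintype.sum_equiv (MulAction.toPerm s) _ _ fun θ => ?_).symm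
    show _ = if s • θ ∈ b then _ else _
    refine if_congr (hSb s θ).symm ?_ rfl
    simp only [MulAction.toPerm_apply]
    rw [hsmul, hsmul, map_one]
    congr 2
    exact (congrArg (θ : H → ℂ) (Subtype.ext (by rw [hcj, hcj]; group))).symm
  -- a fixed defect class
  letI actC : MulAction S (ConjClasses H) :=
    { smul := fun s C => ConjClasses.map (cj (s : G)).toMonoidHom C
      one_smul := fun C => by
        obtain ⟨h, rfl⟩ := ConjClasses.exists_rep C
        show ConjClasses.mk (cj ((1 : S) : G) h) = _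
        exact congrArg _ (Subtype.ext (by rw [hcj]; simp))
      mul_smul := fun s t C => by
        obtain ⟨h, rfl⟩ := ConjClasses.exists_rep C
        show ConjClasses.mk (cj ((s * t : S) : G) h) = ConjClasses.mk (cj (s : G) (cj (t : G) h))
        exact congrArg _ (Subtype.ext (by rw [hcj, hcj, hcj]; push_cast; group)) }
  let term : ConjClasses H → Res M := fun C =>
    red M (blockCoeff b C.out) * red M (centralChar (θ₀ : H → ℂ) C.out)
  have hterm : ∀ h : H, term (ConjClasses.mk h) =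
      red M (blockCoeff b h) * red M (centralChar (θ₀ : H → ℂ) h) := by
    intro h
    have hc : IsConj h (ConjClasses.mk h).out :=
      ConjClasses.mk_eq_mk_iff_isConj.mp (Quotient.out_eq (ConjClasses.mk h)).symm
    obtain ⟨c, hc⟩ := isConj_iff.mp hc
    simp only [term]
    rw [← hc, blockCoeff_conj, ← omegaBar_classSum θ₀.2, ← omegaBar_classSum θ₀.2]
    congr 2
    ext x
    rw [coeff_classSum, coeff_classSum]
    congr 1
    exact if_congr ⟨fun h' => (isConj_iff.mpr ⟨c, rfl⟩).trans h', fun h' =>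
      (isConj_iff.mpr ⟨c, rfl⟩ : IsConj h _).symm.trans h'⟩ rfl rfl
  have hfixterm : ∀ (s : S) (C : ConjClasses H), term (s • C) = term C := by
    intro s C
    obtain ⟨h, rfl⟩ := ConjClasses.exists_rep C
    show term (ConjClasses.mk (cj (s : G) h)) = _
    rw [hterm, hterm, hcoeff]
    congr 1
    have h2 := sameBlock_of_mem hb ((hSb s⁻¹ θ₀).mpr hθ₀) hθ₀
    have h3 := (sameBlock_iff_red (s⁻¹ • θ₀ : IrrCharacter H).2 θ₀.2).mp h2 h
    rw [← h3]
    congr 1
    simp only [centralChar]
    rw [hsmul, hsmul, map_one, Subgroup.coe_inv, inv_inv]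
    congr 2
    norm_cast
    rw [← card_isConj, ← card_isConj]
    exact (Nat.card_congr ((cj (s : G)).toEquiv.subtypeEquiv fun x =>
      ⟨fun e => MonoidHom.map_isConj (cj (s : G)).toMonoidHom e, fun e => by simpa using MonoidHom.map_isConj (cj (s : G)).symm.toMonoidHom e⟩)).symm
  have htot : ∑ C : ConjClasses H, term C = 1 := by
    have h1 := omegaBar_eq_sum θ₀.2 (isClassCoeff_blockIdem hM hb)
    have h2 : omegaBar (θ₀ : H → ℂ) (blockIdem hM hb) = 1 := by
      show red M (omega _ _) = 1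
      rw [omega_blockIdem hM hb θ₀, if_pos hθ₀, red_one]
    rw [h2] at h1
    rw [h1]
    refine Finset.sum_congr rfl fun C _ => ?_
    rw [← red_coe, coeff_blockIdem]
  obtain ⟨C, hCfix, hC0⟩ : ∃ C : ConjClasses H, (∀ s : S, s • C = C) ∧ term C ≠ 0 := by
    by_contra hc
    push Not at hc
    rw [sum_eq_sum_fixedPoints hSp term hfixterm] at htot
    refine zero_ne_one (α := Res M) ?_
    rw [← htot]
    refine (Finset.sum_eq_zero fun C hC => hc C ?_).symm
    intro s
    have h9 := (Finset.mem_filter.mp hC).2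
    exact h9 s
  obtain ⟨x, rfl⟩ := ConjClasses.exists_rep C
  rw [hterm] at hC0
  have hdef : IsDefectClass M b x := by
    refine ⟨blockCoeff_mem hM hb x, fun hm => hC0 ?_, fun χ hχ hm => hC0 ?_⟩
    · rw [(red_eq_zero_iff (blockCoeff_mem hM hb x)).mpr hm, zero_mul]
    · rw [← (sameBlock_iff_red χ.2 θ₀.2).mp (sameBlock_of_mem hb hχ hθ₀) x,
        (red_eq_zero_iff (centralChar_mem χ.2 x)).mpr hm, mul_zero]
  have hxreg : ¬ p ∣ orderOf x := isDefectClass_regular hM hb hdef
  -- a Sylow subgroup of the centraliser above H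
  set L := (H ⊔ S) ⊓ Subgroup.centralizer ({(x : G)} : Set G) with hL
  obtain ⟨R₀⟩ : Nonempty (Sylow p L) := inferInstance
  set R := (R₀ : Subgroup L).map L.subtype with hR
  have hRp : IsPGroup p R := R₀.isPGroup'.map _
  have hRL : R ≤ L := Subgroup.map_subtype_le _
  set D : Subgroup H := R.subgroupOf H with hD
  set CH := Subgroup.centralizer ({x} : Set H) with hCH
  have hCHL : ∀ c : H, c ∈ CH ↔ (c : G) ∈ L := fun c => by
    rw [hCH, hL, Subgroup.mem_inf, Subgroup.mem_centralizer_singleton_iff,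
      Subgroup.mem_centralizer_singleton_iff]
    exact ⟨fun e => ⟨Subgroup.mem_sup_left c.2, congrArg Subtype.val e⟩, fun e => Subtype.ext e.2⟩
  have hDC : D ≤ CH := fun c hc => (hCHL c).mpr (hRL hc)
  haveI hnL : (H.subgroupOf L).Normal := inferInstance
  have hDsyl : ¬ p ∣ D.relIndex CH := by
    intro hd
    obtain ⟨P₁, hP₁⟩ := CfsgLib.Inv.sylow_inf_normal R₀ (H.subgroupOf L)
    have h2 : ¬ p ∣ ((R₀ : Subgroup L) ⊓ H.subgroupOf L).relIndex (H.subgroupOf L) := by
      rw [← hP₁, Subgroup.relIndex, show ((P₁ : Subgroup (H.subgroupOf L)).map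
        (H.subgroupOf L).subtype).subgroupOf (H.subgroupOf L) = (P₁ : Subgroup (H.subgroupOf L)) from
        Subgroup.comap_map_eq_self_of_injective (H.subgroupOf L).subtype_injective _]
      exact P₁.not_dvd_index
    refine h2 ?_
    convert hd using 1
    rw [← Subgroup.relIndex_map_map_of_injective _ _ (f := L.subtype) L.subtype_injective,
      ← Subgroup.relIndex_map_map_of_injective D CH (f := H.subtype) H.subtype_injective]
    congr 1
    · rw [Subgroup.map_inf _ _ _ L.subtype_injective, ← hR, Subgroup.subgroupOf_map_subtype,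
        hD, Subgroup.subgroupOf_map_subtype]
      exact le_antisymm (fun g hg => ⟨hg.1, hg.2.1⟩) (fun g hg => ⟨hg.1, hg.2, hRL hg.1⟩)
    · rw [Subgroup.subgroupOf_map_subtype]
      ext g
      constructor
      · intro hg; exact ⟨⟨g, hg.1⟩, (hCHL _).mpr hg.2, rfl⟩
      · rintro ⟨c, hc, rfl⟩; exact ⟨c.2, (hCHL c).mp hc⟩
  have hDp : IsPGroup p D := hRp.comap_of_injective H.subtype H.subtype_injective
  set D₁ : Sylow p CH := (hDp.comap_of_injective CH.subtype CH.subtype_injective).toSylow hDsyl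
    with hD₁
  have hDdef : IsDefectGroup p M b D :=
    ⟨x, hdef, D₁, (Subgroup.map_subgroupOf_eq_of_le hDC).symm⟩
  set d := blockDefect p b
  have hDcard : Nat.card D = p ^ d := card_defectGroup hM hb hDdef
  -- every element of S is an element of H times an element of R
  have hHR : ∀ s ∈ S, ∃ h ∈ H, ∃ r ∈ R, s = h * r := by
    intro s hs
    have hcl : ∀ t ∈ S, ∃ h ∈ H, h * t ∈ L := by
      intro t ht
      have e := hCfix ⟨t, ht⟩
      change ConjClasses.mk (cj t x) = ConjClasses.mk x at e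
      obtain ⟨c, hc⟩ := isConj_iff.mp (ConjClasses.mk_eq_mk_iff_isConj.mp e)
      refine ⟨c, c.2, Subgroup.mul_mem _ (Subgroup.mem_sup_left c.2) (Subgroup.mem_sup_right ht), ?_⟩
      have hc' := congrArg (Subtype.val : H → G) hc
      push_cast at hc'
      rw [hcj] at hc'
      refine Subgroup.mem_centralizer_singleton_iff.mpr ?_
      conv_rhs => rw [← hc']
      group
    let f : L →* G ⧸ H := (QuotientGroup.mk' H).comp L.subtype
    have hrange : f.range = S.map (QuotientGroup.mk' H) := by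
      ext q
      constructor
      · rintro ⟨⟨l, hl⟩, rfl⟩
        obtain ⟨h, hh, t, ht, rfl⟩ := Subgroup.mem_sup_of_normal_left.mp hl.1
        exact ⟨t, ht, by simp [f, (QuotientGroup.eq_one_iff h).mpr hh]⟩
      · rintro ⟨t, ht, rfl⟩
        obtain ⟨h, hh, hl⟩ := hcl t ht
        exact ⟨⟨_, hl⟩, by simp [f, (QuotientGroup.eq_one_iff h).mpr hh]⟩
    have hpr : IsPGroup p f.range := hrange ▸ hSp.map _
    let R₁ := R₀.mapSurjective f.rangeRestrict_surjective
    have htop : (R₁ : Subgroup f.range) = ⊤ := by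
      obtain ⟨j, hj⟩ := IsPGroup.iff_card.mp hpr
      exact Subgroup.eq_top_of_card_eq _ (by
        rw [R₁.card_eq_multiplicity, hj, hp.factorization_pow, Finsupp.single_eq_same])
    have hs' : (QuotientGroup.mk' H) s ∈ f.range := hrange ▸ ⟨s, hs, rfl⟩
    have : (⟨_, hs'⟩ : f.range) ∈ (R₁ : Subgroup f.range) := htop ▸ Subgroup.mem_top _
    obtain ⟨l, hl, he⟩ := this
    have he' : ((l : G) : G ⧸ H) = (s : G ⧸ H) := congrArg Subtype.val he
    refine ⟨s * (l : G)⁻¹, ?_, (l : G), ⟨l, hl, rfl⟩, by group⟩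
    have h5 := (inferInstance : H.Normal).conj_mem _ (QuotientGroup.eq.mp he') (l : G)
    have h6 : (l : G) * ((l : G)⁻¹ * s) * (l : G)⁻¹ = s * (l : G)⁻¹ := by group
    rwa [h6] at h5
  -- the invariant multiplicities
  haveI := Fintype.ofFinite D
  set E : Subgroup H := Subgroup.zpowers x ⊔ D with hE
  have hxD : ∀ u ∈ D, u * x = x * u := fun u hu =>
    Subgroup.mem_centralizer_singleton_iff.mp (hDC hu)
  haveI : (D.subgroupOf E).Normal := by
    rw [Subgroup.normal_subgroupOf_iff_le_normalizer le_sup_right]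
    refine sup_le (Subgroup.zpowers_le.mpr ?_) Subgroup.le_normalizer
    rw [Subgroup.mem_normalizer_iff]
    intro y
    constructor
    · intro hy; rw [show x * y * x⁻¹ = y by rw [← hxD y hy, mul_inv_cancel_right]]; exact hy
    · intro hy
      have h1 := hxD _ hy
      have h2 : x * y * x⁻¹ = y := by
        have h3 : x * (x * y * x⁻¹) = x * y := by rw [← h1]; group
        exact mul_left_cancel h3
      rwa [h2] at hy
  let m : IrrCharacter H → ℂ := fun θ =>
    (Nat.card D : ℂ)⁻¹ * ∑ u : D, conj ((θ : H → ℂ) (x * (u : H)))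
  have hm : ∀ θ, m θ ∈ locRing M := by
    intro θ
    haveI : Fintype (D.subgroupOf E) := Fintype.ofFinite _
    have h1 : (fun e : E => conj ((θ : H → ℂ) e)) ∈ locChar M E := restrict_mem_locChar E
      (F := fun h => conj ((θ : H → ℂ) h)) (by
      have := smul_char_mem_locChar (M := M) (one_mem (locRing M)) (isCharacter_conj (isCharacter_of_isIrr θ.2))
      rwa [one_smul] at this)
    have h2 := avg_mem (D.subgroupOf E) h1 ⟨x, Subgroup.mem_sup_left (Subgroup.mem_zpowers x)⟩
    rw [Nat.card_congr (Subgroup.subgroupOfEquivOfLe (le_sup_right : D ≤ E)).toEquiv] at h2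
    convert h2 using 2
    exact (Fintype.sum_equiv (Subgroup.subgroupOfEquivOfLe (le_sup_right : D ≤ E)).toEquiv _ _
      fun u => rfl).symm
  have hminv : ∀ (s : S) (θ : IrrCharacter H), m (s • θ) = m θ := by
    intro s θ
    obtain ⟨h, hh, r, hr, he⟩ := hHR ((s : G)⁻¹) (S.inv_mem s.2)
    have hrD : ∀ u : H, u ∈ D → cj r u ∈ D := fun u hu => by
      show ((cj r u : H) : G) ∈ R
      rw [hcj]
      exact R.mul_mem (R.mul_mem hr hu) (R.inv_mem hr)
    let eD : D ≃ D :=
      { toFun := fun u => ⟨cj r u, hrD u u.2⟩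
        invFun := fun u => ⟨(cj r).symm u, by
          show (((cj r).symm (u : H) : H) : G) ∈ R
          have h9 : (((cj r).symm (u : H) : H) : G) = r⁻¹ * ((u : H) : G) * r := by
            have h8 := hcj r ((cj r).symm u)
            rw [(cj r).apply_symm_apply] at h8
            rw [h8]; group
          rw [h9]
          exact R.mul_mem (R.mul_mem (R.inv_mem hr) u.2) hr⟩
        left_inv := fun u => Subtype.ext ((cj r).symm_apply_apply _)
        right_inv := fun u => Subtype.ext ((cj r).apply_symm_apply _) }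
    simp only [m]
    congr 1
    refine Fintype.sum_equiv eD _ _ fun u => ?_
    rw [hsmul, he]
    have hrx : cj r x = x := Subtype.ext (by
      rw [hcj, mul_inv_eq_iff_eq_mul]
      exact Subgroup.mem_centralizer_singleton_iff.mp (hRL hr).2)
    have e1 : cj (h * r) (x * (u : H)) = ⟨h, hh⟩ * (x * cj r (u : H)) * ⟨h, hh⟩⁻¹ := by
      refine Subtype.ext ?_
      rw [hcj]
      push_cast
      rw [hcj]
      have hrx' := congrArg (Subtype.val : H → G) hrx
      rw [hcj] at hrx'
      conv_rhs => rw [← hrx']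
      group
    rw [e1, classFun_of_irr θ.2]
    rfl
  -- the weighted sum
  obtain ⟨n, hn, hnp⟩ := exists_card_eq (p := p) (G := H)
  have hsum : ∑ θ : IrrCharacter H, (if θ ∈ b then (θ : H → ℂ) 1 * m θ else 0) =
      (Nat.card H : ℂ) / (p : ℂ) ^ d * blockCoeff b x := by
    have h1 : ∀ u : D, blockCoeff b (x * (u : H)) = if u = 1 then blockCoeff b x else 0 := by
      intro u
      by_cases hu : u = 1
      · rw [if_pos hu, hu, OneMemClass.coe_one, mul_one]
      rw [if_neg hu]
      refine blockCoeff_eq_zero_of_singular hM hb ?_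
      have hcom : Commute x (u : H) := (hxD u u.2).symm
      obtain ⟨k, hk⟩ := hDp.exists_orderOf_eq_pow u
      have hk0 : k ≠ 0 := fun e => hu (orderOf_eq_one_iff.mp (by rw [hk, e, pow_zero]))
      have hco : (orderOf x).Coprime (orderOf (u : H)) := by
        rw [Subgroup.orderOf_coe, hk]
        exact ((hp.coprime_iff_not_dvd.mpr hxreg).symm).pow_right k
      rw [hcom.orderOf_mul_eq_mul_orderOf_of_coprime hco, Subgroup.orderOf_coe, hk]
      exact Dvd.dvd.mul_left (dvd_pow_self p hk0) _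
    have h2 : (Nat.card H : ℂ) * ∑ u : D, blockCoeff b (x * (u : H)) =
        (Nat.card D : ℂ) * ∑ θ : IrrCharacter H, (if θ ∈ b then (θ : H → ℂ) 1 * m θ else 0) := by
      simp only [blockCoeff, finsum_mem_eq_sum_ite]
      rw [← Finset.mul_sum, ← mul_assoc, mul_inv_cancel₀ (natCard_ne_zero H), one_mul,
        Finset.sum_comm, Finset.mul_sum]
      refine Finset.sum_congr rfl fun θ _ => ?_
      by_cases h : θ ∈ b
      · simp only [if_pos h, m]
        rw [← Finset.mul_sum, ← mul_assoc, mul_comm (Nat.card D : ℂ), mul_assoc ((θ : H → ℂ) 1),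
          ← mul_assoc (Nat.card D : ℂ), mul_inv_cancel₀ (natCard_ne_zero D), one_mul]
      · simp [if_neg h]
    rw [Finset.sum_congr rfl fun u _ => h1 u, Finset.sum_ite_eq' Finset.univ (1 : D),
      if_pos (Finset.mem_univ _), hDcard] at h2
    rw [div_mul_eq_mul_div, h2]
    push_cast
    field_simp [prime_cast_ne_zero (p := p)]
  have hdn : d ≤ pExp p H := Nat.sub_le _ _
  set e := pExp p H - d with hedef
  have hdeg : ∀ θ ∈ b, ∃ k : ℕ, (θ : H → ℂ) 1 = (p : ℂ) ^ e * (k : ℂ) ∧
      (blockHeight p b (θ : H → ℂ) ≠ 0 → p ∣ k) := by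
    intro θ hθ
    obtain ⟨k, hk, hkp⟩ := exists_deg_eq (p := p) θ.2
    have hle := sub_le_degExp hM hDdef hDcard hθ
    refine ⟨p ^ (degExp p (θ : H → ℂ) - e) * k, ?_, fun hne => ?_⟩
    · rw [hk]; push_cast; rw [← mul_assoc, ← pow_add, Nat.add_sub_cancel' hle]
    · refine Dvd.dvd.mul_right (dvd_pow_self p fun h0 => hne ?_) _
      rw [blockHeight, sInf_degExp hM hb hDdef hDcard]
      exact h0
  choose! k hk hkp using hdeg
  have hkinv : ∀ (s : S) θ, θ ∈ b → k (s • θ) = k θ := fun s θ hθ => by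
    have h1 := hk _ ((hSb s θ).mpr hθ)
    rw [hsmul, map_one, hk θ hθ] at h1
    exact_mod_cast (mul_left_cancel₀ (pow_ne_zero e (prime_cast_ne_zero (p := p))) h1).symm
  let F : IrrCharacter H → Res M := fun θ => if θ ∈ b then (k θ : Res M) * red M (m θ) else 0
  have hF : ∑ θ, F θ ≠ 0 := by
    have h1 : ∑ θ : IrrCharacter H, (if θ ∈ b then (k θ : ℂ) * m θ else 0) =
        (n : ℂ) * blockCoeff b x := by
      have h2 : ∑ θ : IrrCharacter H, (if θ ∈ b then (θ : H → ℂ) 1 * m θ else 0) =
          (p : ℂ) ^ e * ∑ θ : IrrCharacter H, (if θ ∈ b then (k θ : ℂ) * m θ else 0) := by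
        rw [Finset.mul_sum]
        refine Finset.sum_congr rfl fun θ _ => ?_
        split_ifs with h
        · rw [hk θ h, mul_assoc]
        · rw [mul_zero]
      rw [h2, hn] at hsum
      apply mul_left_cancel₀ (pow_ne_zero e (prime_cast_ne_zero (p := p)))
      rw [hsum]
      push_cast
      rw [show pExp p H = e + d by omega, pow_add]
      field_simp [prime_cast_ne_zero (p := p)]
    have hmem : ∀ θ : IrrCharacter H, (if θ ∈ b then (k θ : ℂ) * m θ else 0) ∈ locRing M := by
      intro θ; split_ifs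
      · exact mul_mem (natCast_mem _ _) (hm θ)
      · exact zero_mem _
    have h3 := congrArg (red M) h1
    rw [red_sum _ _ fun θ _ => hmem θ, red_mul (natCast_mem _ _) (blockCoeff_mem hM hb x),
      red_natCast] at h3
    have h4 : ∑ θ, F θ = (n : Res M) * red M (blockCoeff b x) := by
      rw [← h3]
      refine Finset.sum_congr rfl fun θ _ => ?_
      simp only [F]
      split_ifs
      · rw [red_mul (natCast_mem _ _) (hm θ), red_natCast]
      · rw [red_zero]
    rw [h4]
    refine mul_ne_zero (fun h => hnp ((CharP.cast_eq_zero_iff (Res M) p n).mp h)) (left_ne_zero_of_mul hC0)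
  obtain ⟨θ, hθfix, hθF⟩ : ∃ θ : IrrCharacter H, (∀ s : S, s • θ = θ) ∧ F θ ≠ 0 := by
    by_contra hc
    push Not at hc
    refine hF ?_
    rw [sum_eq_sum_fixedPoints hSp F (fun s θ => by
      by_cases h : θ ∈ b
      · simp only [F, if_pos h, if_pos ((hSb s θ).mpr h), hkinv s θ h, hminv]
      · simp only [F, if_neg h, if_neg fun h' => h ((hSb s θ).mp h')])]
    exact Finset.sum_eq_zero fun θ hθ => hc θ (Finset.mem_filter.mp hθ).2
  have hθb : θ ∈ b := by
    by_contra h
    exact hθF (if_neg h)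
  have h0 : blockHeight p b (θ : H → ℂ) = 0 := by
    by_contra h
    refine hθF ?_
    simp only [F, if_pos hθb, (CharP.cast_eq_zero_iff (Res M) p _).mpr (hkp θ hθb h), zero_mul]
  refine ⟨θ, hθb, h0, T ⊓ inertia (θ : H → ℂ), inf_le_left, fun g => ?_, fun hd => ?_⟩
  · rw [Subgroup.mem_inf, mem_inertia']
    refine and_congr_right fun _ => ⟨fun h a a' e => ?_, fun h a => h a _ rfl⟩
    rw [show a' = ⟨g * a * g⁻¹, (inferInstance : H.Normal).conj_mem a a.2 g⟩ from Subtype.ext e]
    exact h a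
  · have hle : S ≤ T ⊓ inertia (θ : H → ℂ) := le_inf hST fun s hs => by
      rw [mem_inertia']
      intro a
      have h1 := congrFun (congrArg Subtype.val (hθfix ⟨s, hs⟩⁻¹)) a
      rw [hsmul] at h1
      rw [← h1]
      exact congrArg (θ : H → ℂ) (Subtype.ext (by rw [hcj]; simp))
    refine S₀.not_dvd_index (hd.trans ?_)
    have h1 := Subgroup.index_dvd_of_le (show (S₀ : Subgroup T) ≤ (T ⊓ inertia (θ : H → ℂ)).subgroupOf T
      from fun t ht => hle ⟨t, ht, rfl⟩)
    exact h1

end Cfsg.Agent.S4723
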