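import Cfsg.Statements.S4726
import Cfsg.Agent.Blk.PiKer

set_option autoImplicit false
open Cfsg

namespace Cfsg.Agent.S4726

set_option linter.style.haveILetI false
open CfsgLib.Char CfsgLib.Blk CfsgLib.Blk.Pair

/-- Let p be a prime, M a maximal ideal of the algebraic integers containing p, H a subgroup of the finite group G and b a p-block of H with defect group D₀ such that C_G(D₀) ≤ H. Then b induces a block of G, and for every block B of G induced by b there is a defect group D of B with Z(D) ≤ Z(D₀) ≤ D₀ ≤ D (as subgroups of G). In particular, if the defect groups of B are abelian then D₀ is a defect group of B. -/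
theorem result {G : Type*} [Group G] [Finite G] (p : ℕ) [Fact p.Prime] (M : Ideal Cfsg.AlgInt) (hM : Cfsg.IsPModular p M) (H : Subgroup G) (b : Set (Cfsg.IrrCharacter ↥H)) (hb : Cfsg.IsPBlock M b) (D₀ : Subgroup ↥H) (hD₀ : Cfsg.IsDefectGroup p M b D₀) (hC : Subgroup.centralizer ((D₀.map H.subtype : Subgroup G) : Set G) ≤ H) : Cfsg.InducedBlockDefined M H b ∧ ∀ B : Set (Cfsg.IrrCharacter G), Cfsg.IsInducedBlock M H b B → (∃ D : Subgroup G, Cfsg.IsDefectGroup p M B D ∧ (Subgroup.center ↥D).map D.subtype ≤ ((Subgroup.center ↥D₀).map D₀.subtype).map H.subtype ∧ ((Subgroup.center ↥D₀).map D₀.subtype).map H.subtype ≤ D₀.map H.subtype ∧ D₀.map H.subtype ≤ D) ∧ (∀ D : Subgroup G, Cfsg.IsDefectGroup p M B D → IsMulCommutative ↥D → Cfsg.IsDefectGroup p M B (D₀.map H.subtype)) := by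
  classical
  haveI := CfsgLib.Blk.IsPModular.isPrime hM
  obtain ⟨Q, hQ, rfl⟩ : ∃ Q : Subgroup G, Q ≤ H ∧ Q.subgroupOf H = D₀ :=
    ⟨D₀.map H.subtype, Subgroup.map_subtype_le _, by
      rw [← Subgroup.comap_subtype, Subgroup.comap_map_eq_self_of_injective H.subtype_injective]⟩
  rw [Subgroup.map_subgroupOf_eq_of_le hQ] at hC ⊢
  obtain ⟨f', hf'⟩ := exists_maximal_of_defectGroup hM hb hD₀
  have hsub := subSet_symm hC hQ f'
  set f := mvSet (cnEquiv hC hQ).symm f' with hfdef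
  have hfp : Cfsg.IsBrauerPair p M Q f :=
    ⟨hf'.1.1.1.of_equiv (Subgroup.subgroupOfEquivOfLe hQ), isPBlock_mvSet _ hf'.1.1.2⟩
  constructor
  · obtain ⟨B, hB, -⟩ := existsUnique_block hM hfp
    refine ⟨B, (isInducedBlock_iff H).2 ⟨hb, hB.2.1, fun ξ hξ χ hχ a ha => ?_⟩⟩
    obtain ⟨η, hη⟩ := isPBlock_nonempty hfp.2
    have hη' : mvChar (cnEquiv hC hQ) η ∈ f' := hsub ▸ (mem_mvSet _).2 hη
    have h1 := val_eq_lam hM hf'.1 hη' hξ (isClassCoeff_resA H ha.redA)
    rw [val_resA hC hQ, val_eq_lam hM hB hη hχ ha.redA, ← redA_resA,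
      lam_redA χ.2 ha, lam_redA ξ.2 (isClassCoeff_resA H ha)] at h1
    exact h1.symm
  intro B hind
  obtain ⟨g, hg, hgg⟩ := pairOf_induced hM hind hQ hC hf'.1
  obtain ⟨P, e, hmax, hle⟩ := exists_maximal_ge hM Q hg
  have hPD := isDefectGroup_of_maximal hM hmax
  have hQP := subpairLE_le hle
  have hZ : (Subgroup.center P).map P.subtype ≤ Q := by
    set Z := (Subgroup.center P).map P.subtype with hZdef
    have hZP : Z ≤ P := Subgroup.map_subtype_le _
    have hcomm : ∀ z ∈ Z, ∀ y ∈ P, y * z = z * y := by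
      rintro _ ⟨z, hz, rfl⟩ y hy
      exact congrArg Subtype.val (Subgroup.mem_center_iff.1 hz ⟨y, hy⟩)
    have hZC : Z ≤ Cn Q := fun z hz q hq => hcomm z hz q (hQP hq)
    have hRN : Q ⊔ Z ≤ Subgroup.normalizer (Q : Set G) :=
      sup_le Subgroup.le_normalizer (hZC.trans (Cn_le_normalizer Q))
    obtain ⟨k, hk, hkle⟩ := exists_subpair hM P hmax.1.1 (sup_le hQP hZP)
    have hn := normalSubpair_of_le hM hk (subpair_between hM hk le_sup_left hle hkle) hRN
    have hRH : Q ⊔ Z ≤ H := sup_le hQ (hZC.trans hC)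
    have hCR : Cn (Q ⊔ Z) ≤ H := (Cn_antitone le_sup_left).trans hC
    have h1 := (normalSubpair_subSet_iff hM hC hQ hCR hRH hg.1 hk).2 hn
    rw [hgg] at h1
    have h2 := hf'.2 _ _ ((pairOf_congr_normal hM h1).2 hf'.1) (Relation.ReflTransGen.single h1)
    have h3 := congrArg (Subgroup.map H.subtype) h2
    rw [Subgroup.map_subgroupOf_eq_of_le hRH, Subgroup.map_subgroupOf_eq_of_le hQ] at h3
    exact h3 ▸ le_sup_right
  refine ⟨⟨P, hPD, ?_, ?_, hQP⟩, fun D hD hcomm => ?_⟩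
  · rintro _ ⟨z, hz, rfl⟩
    have hzQ : (z : G) ∈ Q := hZ ⟨z, hz, rfl⟩
    refine ⟨⟨(z : G), hQ hzQ⟩, ⟨⟨⟨(z : G), hQ hzQ⟩, Subgroup.mem_subgroupOf.2 hzQ⟩, ?_, rfl⟩, rfl⟩
    refine Subgroup.mem_center_iff.2 fun y => Subtype.ext (Subtype.ext ?_)
    have e := congrArg Subtype.val
      (Subgroup.mem_center_iff.1 hz ⟨_, hQP (Subgroup.mem_subgroupOf.1 y.2)⟩)
    simpa using e
  · rintro _ ⟨z, hz, rfl⟩
    obtain ⟨w, -, rfl⟩ := hz
    exact Subgroup.mem_subgroupOf.1 w.2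
  · obtain ⟨x, hx⟩ := isDefectGroup_conj_eq hM hind.2.1 hD hPD
    have hPQ : P ≤ Q := fun z hz => hZ ⟨⟨z, hz⟩, Subgroup.mem_center_iff.2 fun y => Subtype.ext ?_, rfl⟩
    · exact le_antisymm hQP hPQ ▸ hPD
    · have hz' : x * z * x⁻¹ ∈ D := hx ▸ ⟨z, hz, rfl⟩
      have hy' : x * (y : G) * x⁻¹ ∈ D := hx ▸ ⟨y, y.2, rfl⟩
      have := congrArg Subtype.val
        (hcomm.is_comm.comm (⟨_, hy'⟩ : D) ⟨_, hz'⟩)
      have h4 : (y : G) * (z * x⁻¹) = z * ((y : G) * x⁻¹) := by simpa [mul_assoc] using this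
      rw [← mul_assoc, ← mul_assoc] at h4
      exact mul_right_cancel h4

end Cfsg.Agent.S4726
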