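import Cfsg.Statements.S4727
import Cfsg.Agent.Blk.PiKer
import Cfsg.Agent.Blk.SecondMain

set_option autoImplicit false
open Cfsg

namespace Cfsg.Agent.S4727

set_option linter.style.haveILetI false
open CfsgLib.Char CfsgLib.Blk CfsgLib.Blk.Pair

/-- Let p be a prime, π a set of primes containing p, M a maximal ideal of the algebraic integers containing p, and B a p-block of the finite group G with defect group D; let B₁ be the block of N_G(D) with defect group D that induces B (the Brauer correspondent of B). Suppose every element of O_π'(N_G(D)), the largest normal subgroup of N_G(D) whose order has no prime divisor in π, lies in the kernel of every member of B₁. If y is a p-element whose centralizer C has a normal Hall π'-subgroup (every element of C whose order has no prime divisor in π lies in O_π'(C)), then χ(y x) = χ(y) for every χ ∈ B and every x ∈ C whose order has no prime divisor in π. -/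
theorem result {G : Type*} [Group G] [Finite G] (p : ℕ) [Fact p.Prime] (M : Ideal Cfsg.AlgInt) (hM : Cfsg.IsPModular p M) (π : Set ℕ) (hpπ : p ∈ π) (B : Set (Cfsg.IrrCharacter G)) (hB : Cfsg.IsPBlock M B) (D : Subgroup G) (hBD : Cfsg.IsDefectGroup p M B D) (B₁ : Set (Cfsg.IrrCharacter ↥(Subgroup.normalizer (D : Set G)))) (hB₁ : Cfsg.IsInducedBlock M (Subgroup.normalizer (D : Set G)) B₁ B) (hB₁D : Cfsg.IsDefectGroup p M B₁ (D.subgroupOf (Subgroup.normalizer (D : Set G)))) (hker : ∀ n : ↥(Subgroup.normalizer (D : Set G)), n ∈ Cfsg.piCore {q | q ∉ π} ↥(Subgroup.normalizer (D : Set G)) → n ∈ Cfsg.blockKer B₁) (y : G) (hy : ∃ k : ℕ, orderOf y = p ^ k) (hC : ∀ x : ↥(Subgroup.centralizer ({y} : Set G)), (∀ q : ℕ, q.Prime → q ∣ orderOf x → q ∉ π) → x ∈ Cfsg.piCore {q | q ∉ π} ↥(Subgroup.centralizer ({y} : Set G))) : ∀ χ ∈ B, ∀ x : G, x ∈ Subgroup.centralizer ({y} : Set G) → (∀ q : ℕ, q.Prime → q ∣ orderOf x → q ∉ π) → (χ : G → ℂ) (y * x) = (χ : G → ℂ) y := by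
  classical
  haveI := CfsgLib.Blk.IsPModular.isPrime hM
  haveI := Fintype.ofFinite G
  intro χ hχ x hx hxπ
  obtain ⟨e, hmax, hk⟩ := exists_maximal_kills hM hpπ hBD hB₁ hB₁D
  set C := Subgroup.centralizer ({y} : Set G) with hCdef
  haveI := Fintype.ofFinite C
  have hyC : y ∈ C := Subgroup.mem_centralizer_singleton_iff.2 rfl
  have hx' : Commute y x := (Subgroup.mem_centralizer_singleton_iff.1 hx).symm
  have hxK : (⟨x, hx⟩ : C) ∈ Cfsg.piCore {q | q ∉ π} C := hC ⟨x, hx⟩ fun q hq hd =>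
    hxπ q hq (by rwa [← Subgroup.orderOf_coe] at hd)
  have hxreg : ¬ p ∣ orderOf x := fun hd => hxπ p Fact.out hd hpπ
  have hpart : Cfsg.IsPPart p (y * x) y := ⟨x, rfl, hx', hy, hxreg⟩
  have hpart' : Cfsg.IsPPart p y y := isPPart_self hy Fact.out
  have hres := isCharacter_restrict C (isCharacter_of_isIrr χ.2)
  choose n hn' using fun η : Cfsg.IrrCharacter C => inner_char_irr hres η.2
  have hn : ∀ k : C, (χ : G → ℂ) k = ∑ η, (n η : ℂ) * (η : C → ℂ) k := by
    intro k
    rw [congrFun (classFun_eq_sum (classFun_of_char hres)) k]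
    simp [hn']
  haveI : Fintype {b : Set (Cfsg.IrrCharacter C) // Cfsg.IsPBlock M b} := Fintype.ofFinite _
  have hsplit : ∀ h : C, (χ : G → ℂ) h =
      ∑ b : {b : Set (Cfsg.IrrCharacter C) // Cfsg.IsPBlock M b},
        ∑ k : C, Cfsg.blockCoeff b.1 k * (χ : G → ℂ) ((k : G) * h) := by
    intro h
    rw [Finset.sum_comm]
    simp only [← Finset.sum_mul, sum_blocks_blockCoeff hM]
    simp
  have hpartb : ∀ (b : {b : Set (Cfsg.IrrCharacter C) // Cfsg.IsPBlock M b}) (h : C),
      ∑ k : C, Cfsg.blockCoeff b.1 k * (χ : G → ℂ) ((k : G) * h) =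
        ∑ η : Cfsg.IrrCharacter C, if η ∈ b.1 then (n η : ℂ) * (η : C → ℂ) h else 0 := by
    intro b h
    have e1 : ∀ k : C, (χ : G → ℂ) ((k : G) * h) =
        ∑ η : Cfsg.IrrCharacter C, (n η : ℂ) * (η : C → ℂ) (k * h) := fun k => by
      rw [← Subgroup.coe_mul]; exact hn _
    simp only [e1, Finset.mul_sum]
    rw [Finset.sum_comm]
    refine Finset.sum_congr rfl fun η _ => ?_
    simp only [mul_left_comm (Cfsg.blockCoeff b.1 _) (n η : ℂ), ← Finset.mul_sum,
      sum_blockCoeff_mul_char hM b.2 η h]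
    split_ifs <;> simp
  rw [show y * x = ((⟨y, hyC⟩ * ⟨x, hx⟩ : C) : G) from rfl, hsplit,
    show (χ : G → ℂ) y = (χ : G → ℂ) ((⟨y, hyC⟩ : C) : G) from rfl, hsplit]
  refine Finset.sum_congr rfl fun b _ => ?_
  obtain ⟨B', hind⟩ := inducedBlockDefined_centralizer hM hy b.2
  by_cases hBB : B' = B
  · subst hBB
    obtain ⟨D₀, hD₀⟩ := exists_isDefectGroup hM b.2
    have hyn : (Subgroup.zpowers (⟨y, hyC⟩ : C)).Normal := ⟨fun z hz c => by
      obtain ⟨i, rfl⟩ := Subgroup.mem_zpowers_iff.1 hz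
      have hc : Commute c (⟨y, hyC⟩ : C) :=
        Subtype.ext (Subgroup.mem_centralizer_singleton_iff.1 c.2)
      rw [(hc.zpow_right i).eq, mul_inv_cancel_right]
      exact Subgroup.zpow_mem _ (Subgroup.mem_zpowers _) i⟩
    obtain ⟨j, hj⟩ := hy
    have hyD : (⟨y, hyC⟩ : C) ∈ D₀ := normal_pgroup_le_defectGroup hM b.2 _
      (isPGroup_zpowers ⟨j, by rw [← Subgroup.orderOf_coe]; exact hj⟩) hD₀ (Subgroup.mem_zpowers _)
    have hCD : Cn (D₀.map C.subtype) ≤ C := fun g hg =>
      Subgroup.mem_centralizer_singleton_iff.2 (hg y ⟨_, hyD, rfl⟩).symm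
    have hker := piCore_le_blockKer hM hpπ hmax (hk.1 hker) hind hD₀ hCD ⟨x, hx⟩ hxK
    rw [hpartb, hpartb]
    refine Finset.sum_congr rfl fun η _ => ?_
    split_ifs with hη
    · obtain ⟨K, -, hK, hKmul⟩ := exists_kernel (isCharacter_of_isIrr η.2)
      have hcx : Commute (⟨y, hyC⟩ : C) ⟨x, hx⟩ := Subtype.ext hx'
      rw [hcx.eq, hKmul _ ((hK _).2 (hker η hη))]
    · rfl
  · have hχ' : χ ∉ B' := fun h => hBB (eq_of_mem_of_mem hind.2.1 hB h hχ)
    exact (secondMain hM C hind (h := y * x) (mul_mem hyC hx) hpart le_rfl hχ').trans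
      (secondMain hM C hind hyC hpart' le_rfl hχ').symm

end Cfsg.Agent.S4727
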