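import Cfsg.Statements.S4728
import Cfsg.Agent.Blk.PiKer

set_option autoImplicit false
open Cfsg

namespace Cfsg.Agent.S4728

set_option linter.style.haveILetI false
open CfsgLib.Char CfsgLib.Blk CfsgLib.Blk.Pair

/-- Let p be a prime, π a set of primes containing p, M a maximal ideal of the algebraic integers containing p, B a p-block of the finite group G with defect group D, and B₁ the block of N_G(D) with defect group D inducing B. Let D₀ be a p-subgroup, H₀ = D₀·C_G(D₀), and b a block of H₀ inducing B. Write O_π'(X) for the largest normal subgroup of X whose order has no prime divisor in π. Suppose that O_π'(C_G(D₀)) is a normal Hall π'-subgroup of C_G(D₀) (it contains every element of C_G(D₀) whose order has no prime divisor in π) and that every element of it lies in the kernel of every member of b. Then every element of O_π'(N_G(D)) lies in the kernel of every member of B₁. -/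
theorem result {G : Type*} [Group G] [Finite G] (p : ℕ) [Fact p.Prime] (M : Ideal Cfsg.AlgInt) (hM : Cfsg.IsPModular p M) (π : Set ℕ) (hpπ : p ∈ π) (B : Set (Cfsg.IrrCharacter G)) (hB : Cfsg.IsPBlock M B) (D : Subgroup G) (hBD : Cfsg.IsDefectGroup p M B D) (B₁ : Set (Cfsg.IrrCharacter ↥(Subgroup.normalizer (D : Set G)))) (hB₁ : Cfsg.IsInducedBlock M (Subgroup.normalizer (D : Set G)) B₁ B) (hB₁D : Cfsg.IsDefectGroup p M B₁ (D.subgroupOf (Subgroup.normalizer (D : Set G)))) (D₀ : Subgroup G) (hD₀ : IsPGroup p D₀) (H₀ : Subgroup G) (hH₀ : H₀ = D₀ ⊔ Subgroup.centralizer (D₀ : Set G)) (b : Set (Cfsg.IrrCharacter ↥H₀)) (hb : Cfsg.IsInducedBlock M H₀ b B) (hcompl : ∀ x : ↥(Subgroup.centralizer (D₀ : Set G)), (∀ q : ℕ, q.Prime → q ∣ orderOf x → q ∉ π) → x ∈ Cfsg.piCore {q | q ∉ π} ↥(Subgroup.centralizer (D₀ : Set G))) (hkerb : ∀ x : ↥(Subgroup.centralizer (D₀ : Set G)), x ∈ Cfsg.piCore {q | q ∉ π} ↥(Subgroup.centralizer (D₀ : Set G)) → ∀ θ ∈ b, ∀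 h : ↥H₀, (h : G) = (x : G) → (θ : ↥H₀ → ℂ) h = (θ : ↥H₀ → ℂ) 1) : ∀ n : ↥(Subgroup.normalizer (D : Set G)), n ∈ Cfsg.piCore {q | q ∉ π} ↥(Subgroup.normalizer (D : Set G)) → n ∈ Cfsg.blockKer B₁ := by
  classical
  haveI := CfsgLib.Blk.IsPModular.isPrime hM
  obtain ⟨e, hmax, hk⟩ := exists_maximal_kills hM hpπ hBD hB₁ hB₁D
  subst hH₀
  set H₀ := D₀ ⊔ Subgroup.centralizer (D₀ : Set G) with hH₀def
  obtain ⟨hb', -, -⟩ := (isInducedBlock_iff H₀).1 hb
  have hQ : D₀ ≤ H₀ := le_sup_left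
  have hC : Cn D₀ ≤ H₀ := le_sup_right
  haveI : (D₀.subgroupOf H₀).Normal :=
    Subgroup.normal_subgroupOf_of_le_normalizer (le_normalizer_pc D₀)
  have hp0 : IsPGroup p (D₀.subgroupOf H₀) :=
    hD₀.of_equiv (Subgroup.subgroupOfEquivOfLe hQ).symm
  obtain ⟨f', hf'⟩ := exists_pairOf_of_normal hM hp0 hb'
  obtain ⟨f, hf, hff⟩ := pairOf_induced hM hb hQ hC hf'
  refine hk.2 (piKills_maximal hM hpπ hmax hf hcompl ?_)
  let L : Subgroup H₀ := ((Cfsg.piCore {q | q ∉ π} (Cn D₀)).map (Cn D₀).subtype).subgroupOf H₀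
  have hLn : L.Normal :=
    Subgroup.normal_subgroupOf_of_le_normalizer
      (le_normalizer_map_piCore (le_normalizer_pc D₀))
  have hL : ¬ p ∣ Nat.card L := fun hd => not_dvd_card_piCore (X := Cn D₀) hpπ (hd.trans (by
    rw [card_subgroupOf_eq_inf, ← Subgroup.card_map_of_injective
      (K := Cfsg.piCore {q | q ∉ π} (Cn D₀)) (Cn D₀).subtype_injective]
    exact Subgroup.card_dvd_of_le inf_le_left))
  have h1 := (kernel_iff_of_pairOf hM hf' L hL).1 (fun z hz θ hθ => by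
    obtain ⟨x, hx, hxe⟩ := Subgroup.mem_subgroupOf.1 hz
    exact hkerb x hx θ hθ z hxe.symm)
  intro η hη y hy
  rw [← hff] at h1
  have h2 := h1 _ ((mem_mvSet _).2 hη) (cnEquiv hC hQ y) (Subgroup.mem_subgroupOf.2 ⟨y, hy, rfl⟩)
  rwa [mvChar_apply, mvChar_apply, MulEquiv.symm_apply_apply, map_one] at h2

end Cfsg.Agent.S4728
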