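import Cfsg.Statements.S4729
import Cfsg.Agent.Char.Central
import Cfsg.Agent.Blk.Local
import Cfsg.Agent.Blk.Core
import Mathlib.GroupTheory.Abelianization.Defs

set_option autoImplicit false
open Cfsg

namespace Cfsg.Agent.S4729

open CfsgLib.Char CfsgLib.Blk

/-- Let p be a prime, M a maximal ideal of the algebraic integers containing p, G a finite perfect group and P a Sylow p-subgroup. If the principal p-block of G contains a faithful irreducible character of degree less than 2p, then the centralizer of P is a p-group. -/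
theorem result {G : Type*} [Group G] [Finite G] (p : ℕ) [Fact p.Prime] (M : Ideal Cfsg.AlgInt) (hM : Cfsg.IsPModular p M) (hperf : commutator G = ⊤) (P : Sylow p G) (χ : Cfsg.IrrCharacter G) (hχ : χ ∈ Cfsg.principalBlock M G) (hfaith : ∀ g : G, (χ : G → ℂ) g = (χ : G → ℂ) 1 → g = 1) (hdeg : Cfsg.charDegree (χ : G → ℂ) < 2 * p) : IsPGroup p ↥(Subgroup.centralizer ((P : Subgroup G) : Set G)) := by
  classical
  haveI := Fintype.ofFinite G
  haveI : M.IsPrime := hM.2.1.isPrime
  have hp : p.Prime := Fact.out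
  set CP := Subgroup.centralizer ((P : Subgroup G) : Set G)
  intro g
  set v := (orderOf g).factorization p
  refine ⟨v, ?_⟩
  set y : G := ((g ^ p ^ v : CP) : G) with hy
  suffices y = 1 from Subtype.ext this
  have hoy : orderOf y = orderOf g / p ^ v := by
    rw [hy, Subgroup.orderOf_coe, orderOf_pow_of_dvd (pow_ne_zero _ hp.ne_zero) (Nat.ordProj_dvd _ _)]
  have hreg : ¬ p ∣ orderOf y := hoy ▸ Nat.not_dvd_ordCompl hp (orderOf_pos g).ne'
  set o := orderOf y with ho
  have hopos : 0 < o := orderOf_pos y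
  set d := charDegree (χ : G → ℂ) with hd
  have hcong : ∀ k : ℕ, MemLocalIdeal M ((χ : G → ℂ) (y ^ k) - (d : ℂ)) := by
    intro k
    have hle : (P : Subgroup G) ≤ Subgroup.centralizer ({y ^ k} : Set G) := fun x hx => by
      rw [Subgroup.mem_centralizer_singleton_iff]
      exact Subgroup.mem_centralizer_iff.mp (CP.pow_mem (g ^ p ^ v : CP).2 k) x hx
    have hndvd : ¬ p ∣ (Subgroup.centralizer ({y ^ k} : Set G)).index := fun h =>
      P.not_dvd_index (h.trans (Subgroup.index_dvd_of_le hle))
    have h := hχ (y ^ k)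
    rw [centralChar, centralChar, mul_one, div_one, irr_one_eq χ.2, ← hd] at h
    have h2 := memLocalIdeal_mul_left (mul_mem (natCast_mem _ d) (natCast_inv_mem hM hndvd))
      (memLocalIdeal_neg h)
    have hi0 : ((Subgroup.centralizer ({y ^ k} : Set G)).index : ℂ) ≠ 0 :=
      Nat.cast_ne_zero.mpr Subgroup.index_ne_zero_of_finite
    have hd0 : (d : ℂ) ≠ 0 := Nat.cast_ne_zero.mpr (charDegree_pos χ.2).ne'
    convert h2 using 1
    field_simp
    ring
  obtain ⟨n, ρ, hρi, hρ⟩ := χ.2
  have hfin : Module.finrank ℂ (Fin n → ℂ) = d := by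
    have h1 := irr_one_eq χ.2
    rw [← hρ, Representation.char_one] at h1
    rw [hd, ← hρ]; exact_mod_cast h1
  obtain ⟨ζ, hζ, hpow, hsum, hdet⟩ := exists_roots ρ y
  -- multiplicities of the non-trivial eigenvalues are divisible by `p`
  have hmult : ∀ i, ζ i ≠ 1 → p ∣ (Finset.univ.filter (fun j => ζ j = ζ i)).card := by
    intro i hi
    have hi0 : ζ i ≠ 0 := fun h => by
      have := hζ i
      rw [h, zero_pow hopos.ne'] at this
      exact zero_ne_one this
    have hgeo : ∀ z : ℂ, z ^ o = 1 → z ≠ 1 → ∑ k ∈ Finset.range o, z ^ k = 0 := fun z hz hz1 => by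
      rw [geom_sum_eq hz1, hz, sub_self, zero_div]
    have hint : ∀ k : ℕ, ((ζ i)⁻¹) ^ k ∈ locRing M := fun k => by
      have h1 : IsIntegral ℤ ((ζ i)⁻¹) := by
        refine IsIntegral.of_pow hopos ?_
        rw [inv_pow, hζ i, inv_one]
        exact isIntegral_one
      exact integral_mem (h1.pow k)
    have hS : MemLocalIdeal M
        (∑ k ∈ Finset.range o, ((ζ i)⁻¹) ^ k * ((χ : G → ℂ) (y ^ k) - (d : ℂ))) :=
      memLocalIdeal_sum _ _ fun k _ => memLocalIdeal_mul_left (hint k) (hcong k)
    have hev : ∑ k ∈ Finset.range o, ((ζ i)⁻¹) ^ k * ((χ : G → ℂ) (y ^ k) - (d : ℂ)) =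
        ((o * (Finset.univ.filter (fun j => ζ j = ζ i)).card : ℕ) : ℂ) := by
      simp only [mul_sub, Finset.sum_sub_distrib]
      rw [← Finset.sum_mul, hgeo _ (by rw [inv_pow, hζ i, inv_one]) (by simpa using hi), zero_mul,
        sub_zero]
      simp only [← hρ, hpow, Finset.mul_sum, ← mul_pow]
      rw [Finset.sum_comm, Nat.cast_mul, mul_comm (o : ℂ),
        ← Finset.sum_boole (fun j => ζ j = ζ i), Finset.sum_mul]
      refine Finset.sum_congr rfl fun j _ => ?_
      split_ifs with hj
      · rw [hj, inv_mul_cancel₀ hi0]; simp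
      · rw [hgeo _ (by rw [mul_pow, inv_pow, hζ i, hζ j, inv_one, one_mul]) (fun h => hj ?_),
          zero_mul]
        rw [inv_mul_eq_iff_eq_mul₀ hi0, mul_one] at h
        exact h
    rw [hev, natCast_memLocalIdeal_iff hM] at hS
    exact (hp.dvd_mul.mp hS).resolve_left hreg
  -- the determinant is trivial
  have hdet1 : ∏ j, ζ j = 1 := by
    rw [← hdet]
    set D : G →* ℂˣ := ((LinearMap.det : _ →* ℂ).comp ρ).toHomUnits
    have h1 : D y = 1 := MonoidHom.mem_ker.1 (Abelianization.commutator_subset_ker D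
      (hperf ▸ Subgroup.mem_top y))
    exact congrArg Units.val h1
  have hall : ∀ i, ζ i = 1 := by
    by_contra hne
    push Not at hne
    obtain ⟨i, hi⟩ := hne
    set S := Finset.univ.filter (fun j => ζ j = ζ i)
    have hcardle : ∀ T : Finset (Fin (Module.finrank ℂ (Fin n → ℂ))), T.card ≤ d := fun T => by
      refine (Finset.card_le_univ T).trans ?_
      rw [Fintype.card_fin, hfin]
    have hSp : S.card = p := by
      obtain ⟨c, hc⟩ := hmult i hi
      have hpos : 0 < S.card := Finset.card_pos.mpr ⟨i, by simp [S]⟩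
      have h2 := hcardle S
      rw [hc] at h2 hpos ⊢
      have : c < 2 := by
        by_contra h3
        push Not at h3
        have := Nat.mul_le_mul_left p h3
        omega
      have : c = 1 := by
        rcases Nat.eq_zero_or_pos c with rfl | h4
        · simp at hpos
        · omega
      rw [this, mul_one]
    have hrest : ∀ j, j ∉ S → ζ j = 1 := by
      intro j hj
      by_contra hj1
      set T := Finset.univ.filter (fun k => ζ k = ζ j)
      have hdis : Disjoint S T := Finset.disjoint_left.mpr fun k hk hk' => hj (by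
        simp only [S, T, Finset.mem_filter, Finset.mem_univ, true_and] at hk hk' ⊢
        rw [← hk', hk])
      have h1 := hcardle (S ∪ T)
      rw [Finset.card_union_of_disjoint hdis, hSp] at h1
      have h2 : p ≤ T.card := Nat.le_of_dvd (Finset.card_pos.mpr ⟨j, by simp [T]⟩) (hmult j hj1)
      omega
    rw [← Finset.prod_subset (Finset.subset_univ S) (fun j _ hj => hrest j hj),
      Finset.prod_congr rfl (fun j hj => (Finset.mem_filter.mp hj).2), Finset.prod_const, hSp] at hdet1
    have h1 : orderOf (ζ i) ∣ p := orderOf_dvd_of_pow_eq_one hdet1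
    have h2 : orderOf (ζ i) ∣ o := orderOf_dvd_of_pow_eq_one (hζ i)
    exact hi (orderOf_eq_one_iff.mp (Nat.eq_one_of_dvd_coprimes
      (hp.coprime_iff_not_dvd.mpr hreg) h1 h2))
  refine hfaith y ?_
  rw [irr_one_eq χ.2, ← hd, ← hρ, hsum, Finset.sum_congr rfl fun j _ => hall j]
  simp [hfin]

end Cfsg.Agent.S4729
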