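import Cfsg.Statements.S4730
import Cfsg.Agent.Char.Codegree
import Cfsg.Agent.Char.Burnside
import Cfsg.Agent.Blk.Local
import Cfsg.Agent.Blk.Core

set_option autoImplicit false
open Cfsg

namespace Cfsg.Agent.S4730

open CfsgLib.Char CfsgLib.Blk

/-- Let p be a prime, M a maximal ideal of the algebraic integers containing p, and G a finite group with trivial centre, Sylow p-subgroup P of order p^a and centre Z(P) of order p^b. If χ is a faithful irreducible character of G whose degree is a power of p, then the p-block of χ has defect at most a − b; in particular, if P is abelian then χ lies in a block of defect zero. -/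
theorem result {G : Type*} [Group G] [Finite G] (p : ℕ) [Fact p.Prime] (M : Ideal Cfsg.AlgInt) (hM : Cfsg.IsPModular p M) (hZ : Subgroup.center G = ⊥) (P : Sylow p G) (a b : ℕ) (ha : Nat.card P = p ^ a) (hb : Nat.card (Subgroup.center ↥(P : Subgroup G)) = p ^ b) (χ : Cfsg.IrrCharacter G) (hfaith : ∀ g : G, (χ : G → ℂ) g = (χ : G → ℂ) 1 → g = 1) (n : ℕ) (hdeg : Cfsg.charDegree (χ : G → ℂ) = p ^ n) : Cfsg.blockDefect p (Cfsg.blockOf M (χ : G → ℂ)) ≤ a - b ∧ (IsMulCommutative ↥(P : Subgroup G) → Cfsg.blockDefect p (Cfsg.blockOf M (χ : G → ℂ)) = 0) := by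
  classical
  haveI := Fintype.ofFinite G
  haveI : M.IsPrime := hM.2.1.isPrime
  have hp : p.Prime := Fact.out
  set B := blockOf M (χ : G → ℂ)
  have hχB : χ ∈ B := sameBlock_refl _
  set Z : Subgroup G := (Subgroup.center (P : Subgroup G)).map (P : Subgroup G).subtype
  haveI := Fintype.ofFinite Z
  have hZcard : Nat.card Z = p ^ b := by
    rw [Subgroup.card_map_of_injective (P : Subgroup G).subtype_injective, hb]
  have hdvd : ∀ z ∈ Z, ¬ p ∣ (Subgroup.centralizer ({z} : Set G)).index := by
    rintro z ⟨y, hy, rfl⟩ h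
    refine P.not_dvd_index (h.trans (Subgroup.index_dvd_of_le fun x hx => ?_))
    rw [Subgroup.mem_centralizer_singleton_iff]
    exact congrArg Subtype.val (Subgroup.mem_center_iff.mp hy ⟨x, hx⟩)
  -- `χ` vanishes on the non-trivial elements of the centre of `P`
  have hvan : ∀ z ∈ Z, z ≠ 1 → (χ : G → ℂ) z = 0 := by
    intro z hz hz1
    have hcop : Nat.Coprime (charDegree (χ : G → ℂ)) (Subgroup.centralizer ({z} : Set G)).index := by
      rw [hdeg]; exact (hp.coprime_iff_not_dvd.mpr (hdvd z hz)).pow_left n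
    rcases burnside_zero_or_norm χ.2 z hcop with h0 | hn
    · exact h0
    exfalso
    obtain ⟨d, ρ, hρi, hρ⟩ := χ.2
    have hfin : (Module.finrank ℂ (Fin d → ℂ)) = charDegree (χ : G → ℂ) := by
      have h1 := irr_one_eq χ.2
      rw [← hρ, Representation.char_one] at h1
      rw [← hρ]; exact_mod_cast h1
    obtain ⟨w, hw⟩ := rep_scalar_of_norm ρ z (by rw [hfin, hρ]; exact hn)
    have hinj : Function.Injective ρ := by
      intro x y hxy
      have h1 : ρ (x * y⁻¹) = 1 := by
        rw [map_mul, hxy, ← map_mul, mul_inv_cancel, map_one]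
      refine mul_inv_eq_one.mp (hfaith _ ?_)
      rw [← hρ]
      exact congrArg (LinearMap.trace ℂ (Fin d → ℂ)) (h1.trans (map_one ρ).symm)
    have hc := central_of_scalar_faithful hinj hw
    rw [hZ, Subgroup.mem_bot] at hc
    exact hz1 hc
  -- the degrees of the block are divisible by the order of the centre of `P`
  have hmin : ∀ ψ ∈ B, b ≤ (charDegree (ψ : G → ℂ)).factorization p := by
    intro ψ hψ
    by_contra hlt
    push Not at hlt
    set d := charDegree (ψ : G → ℂ) with hd
    have hd0 : d ≠ 0 := (charDegree_pos ψ.2).ne'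
    set m := d.factorization p with hm
    obtain ⟨d', hd'⟩ := Nat.ordProj_dvd d p
    rw [← hm] at hd'
    have hd'p : ¬ p ∣ d' := by
      have := Nat.not_dvd_ordCompl hp hd0
      rw [← hm, hd', Nat.mul_div_cancel_left _ (pow_pos hp.pos m)] at this
      exact this
    have hpm : ((p : ℂ) ^ m) ≠ 0 := pow_ne_zero _ (Nat.cast_ne_zero.mpr hp.ne_zero)
    have hterm : ∀ z ∈ Z, z ≠ 1 → MemLocalIdeal M ((ψ : G → ℂ) z / (p : ℂ) ^ m) := by
      intro z hz hz1
      have h := hψ z
      have hχ0 : centralChar (χ : G → ℂ) z = 0 := by rw [centralChar, hvan z hz hz1]; simp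
      rw [hχ0, zero_sub] at h
      have h' := memLocalIdeal_neg h
      rw [neg_neg, centralChar, irr_one_eq ψ.2, ← hd, hd', Nat.cast_mul, Nat.cast_pow] at h'
      have h2 := memLocalIdeal_mul_left
        (mul_mem (natCast_mem _ d') (natCast_inv_mem hM (hdvd z hz))) h'
      have hi0 : ((Subgroup.centralizer ({z} : Set G)).index : ℂ) ≠ 0 :=
        Nat.cast_ne_zero.mpr Subgroup.index_ne_zero_of_finite
      have hd'0 : (d' : ℂ) ≠ 0 := Nat.cast_ne_zero.mpr (fun h0 => hd'p (h0 ▸ dvd_zero p))
      convert h2 using 1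
      field_simp
    obtain ⟨j, hj⟩ := inner_char_irr (isCharacter_restrict Z (isCharacter_of_isIrr ψ.2)) isIrr_one
    rw [classInner_def, inv_mul_eq_iff_eq_mul₀ (natCard_ne_zero Z), hZcard] at hj
    simp only [map_one, mul_one] at hj
    rw [← Finset.add_sum_erase Finset.univ _ (Finset.mem_univ (1 : Z)), OneMemClass.coe_one,
      irr_one_eq ψ.2, ← hd, hd'] at hj
    have hrest : MemLocalIdeal M ((∑ z ∈ Finset.univ.erase (1 : Z), (ψ : G → ℂ) (z : G)) / (p : ℂ) ^ m) := by
      rw [Finset.sum_div]
      exact memLocalIdeal_sum _ _ fun z hz => hterm z z.2 fun h =>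
        Finset.ne_of_mem_erase hz (Subtype.ext h)
    have hbig : MemLocalIdeal M ((p ^ (b - m) * j : ℕ) : ℂ) :=
      (natCast_memLocalIdeal_iff hM _).mpr ((dvd_pow_self p (by omega)).mul_right j)
    have he : (d' : ℂ) = ((p ^ (b - m) * j : ℕ) : ℂ) -
        (∑ z ∈ Finset.univ.erase (1 : Z), (ψ : G → ℂ) (z : G)) / (p : ℂ) ^ m := by
      push_cast at hj ⊢
      rw [eq_sub_iff_add_eq]
      field_simp
      rw [show b = m + (b - m) by omega, pow_add] at hj
      linear_combination hj
    exact hd'p ((natCast_memLocalIdeal_iff hM d').mp (he ▸ memLocalIdeal_sub hbig hrest))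
  have hGa : (Nat.card G).factorization p = a := by
    have h := P.card_eq_multiplicity
    rw [ha] at h
    exact (Nat.pow_right_injective hp.two_le h).symm
  have hle : blockDefect p B ≤ a - b := by
    rw [blockDefect, hGa]
    refine Nat.sub_le_sub_left ?_ a
    refine le_csInf ⟨_, χ, hχB, rfl⟩ ?_
    rintro _ ⟨ψ, hψ, rfl⟩
    exact hmin ψ hψ
  refine ⟨hle, fun hab => ?_⟩
  have hab' : Subgroup.center (P : Subgroup G) = ⊤ :=
    Subgroup.eq_top_iff' _ |>.mpr fun x => Subgroup.mem_center_iff.mpr fun y => hab.is_comm.comm y x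
  rw [hab', Subgroup.card_top] at hb
  have : b = a := (Nat.pow_right_injective hp.two_le (ha.symm.trans hb)).symm
  omega

end Cfsg.Agent.S4730
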