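import Cfsg.Statements.S4731
import Cfsg.Agent.Blk.Orth
import Cfsg.Agent.Char.Clifford
import Cfsg.Agent.Char.Classes

set_option autoImplicit false
open Cfsg

namespace Cfsg.Agent.S4731

open CfsgLib.Char CfsgLib.Blk
open scoped ComplexConjugate

/-- Let p ≠ q be primes, M_p and M_q maximal ideals of the algebraic integers containing p and q respectively, and G a finite group with no element of order pq; let q^b be the q-part of the order of G. For a p-block B_p (relative to M_p), a q-block B_q (relative to M_q) and a p-singular element y, the sum of χ(1)χ(y) over the irreducible characters χ lying in both B_p and B_q is q^b times an algebraic integer. -/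
theorem result {G : Type*} [Group G] [Finite G] (p q : ℕ) [Fact p.Prime] [Fact q.Prime] (hpq : p ≠ q) (Mp Mq : Ideal Cfsg.AlgInt) (hMp : Cfsg.IsPModular p Mp) (hMq : Cfsg.IsPModular q Mq) (hno : ∀ g : G, orderOf g ≠ p * q) (b : ℕ) (hb : (Nat.card G).factorization q = b) (Bp : Set (Cfsg.IrrCharacter G)) (hBp : Cfsg.IsPBlock Mp Bp) (Bq : Set (Cfsg.IrrCharacter G)) (hBq : Cfsg.IsPBlock Mq Bq) (y : G) (hy : p ∣ orderOf y) : ∃ ω : Cfsg.AlgInt, ∑ᶠ χ ∈ Bp ∩ Bq, (Cfsg.charDegree (χ : G → ℂ) : ℂ) * (χ : G → ℂ) y = (q : ℂ) ^ b * (ω : ℂ) := by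
  classical
  haveI := Fintype.ofFinite G
  have hp : p.Prime := Fact.out
  have hq : q.Prime := Fact.out
  haveI := CfsgLib.Blk.IsPModular.isPrime hMp
  haveI := CfsgLib.Blk.IsPModular.isPrime hMq
  set S : Finset (IrrCharacter G) := Finset.univ.filter (· ∈ Bp ∩ Bq) with hS
  set X : G → ℂ := fun g => ∑ χ ∈ S, (χ : G → ℂ) y * conj ((χ : G → ℂ) g) with hX
  -- the sum over `Bp` vanishes at `p`-regular elements
  have hφ : ∀ h : G, ¬ p ∣ orderOf h →
      ∑ χ ∈ Finset.univ.filter (· ∈ Bp), (χ : G → ℂ) y * conj ((χ : G → ℂ) h) = 0 := by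
    intro h hh
    obtain ⟨x, hx⟩ := exists_isPPart hp y
    have hne : ¬ IsConj x 1 := fun hc => by
      have h1 := isConj_one_right.mp hc.symm
      exact ((isPPart_eq_one_iff hp hx).mp h1) hy
    rw [Finset.sum_filter, ← CfsgLib.Blk.finsum_mem_eq_sum_ite]
    exact block_orth hMp hBp hx (isPPart_one_of_regular hh) hne
  -- hence the sum over the intersection vanishes at `q`-singular elements
  have hvan : ∀ g : G, q ∣ orderOf g → X g = 0 := by
    intro g hg
    have key : (Nat.card G : ℂ) * X g = ∑ h : G,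
        (∑ χ ∈ Finset.univ.filter (· ∈ Bp), (χ : G → ℂ) y * conj ((χ : G → ℂ) h)) *
          (∑ ψ ∈ Finset.univ.filter (· ∈ Bq), (ψ : G → ℂ) h * conj ((ψ : G → ℂ) g)) := by
      have hin : ∀ χ ψ : IrrCharacter G, ∑ h : G, conj ((χ : G → ℂ) h) * (ψ : G → ℂ) h =
          if χ = ψ then (Nat.card G : ℂ) else 0 := by
        intro χ ψ
        have h1 := irr_inner ψ.2 χ.2
        rw [classInner_def, inv_mul_eq_iff_eq_mul₀ (Nat.cast_ne_zero.mpr Nat.card_pos.ne')] at h1
        rw [Finset.sum_congr rfl fun h _ => mul_comm _ _, h1]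
        by_cases he : χ = ψ
        · subst he; simp
        · have : (ψ : G → ℂ) ≠ (χ : G → ℂ) := fun h => he (Subtype.ext h).symm
          simp [he, this]
      symm
      rw [Finset.sum_congr rfl fun h _ => Finset.sum_mul_sum _ _ _ _, Finset.sum_comm]
      rw [Finset.sum_congr rfl (g := fun χ : IrrCharacter G =>
        if χ ∈ Bq then (Nat.card G : ℂ) * ((χ : G → ℂ) y * conj ((χ : G → ℂ) g)) else 0) fun χ _ => ?_]
      · rw [← Finset.sum_filter, Finset.filter_filter, hX, Finset.mul_sum]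
        rfl
      rw [Finset.sum_comm, Finset.sum_congr rfl (g := fun ψ : IrrCharacter G =>
        ((χ : G → ℂ) y * conj ((ψ : G → ℂ) g)) *
          ∑ h : G, conj ((χ : G → ℂ) h) * (ψ : G → ℂ) h) fun ψ _ => ?_]
      · simp only [hin, mul_ite, mul_zero, Finset.sum_ite_eq, Finset.mem_filter, Finset.mem_univ,
          true_and]
        exact if_congr Iff.rfl (mul_comm _ _) rfl
      rw [Finset.mul_sum]
      exact Finset.sum_congr rfl fun h _ => by ring
    rw [Finset.sum_eq_zero fun h _ => ?_, mul_eq_zero] at key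
    · exact key.resolve_left (Nat.cast_ne_zero.mpr Nat.card_pos.ne')
    by_cases hh : q ∣ orderOf h
    · have hph : ¬ p ∣ orderOf h := fun hph =>
        hno (h ^ (orderOf h / (p * q))) (orderOf_pow_orderOf_div (orderOf_pos h).ne'
          (((Nat.coprime_primes hp hq).mpr hpq).mul_dvd_of_dvd_of_dvd hph hh))
      rw [hφ h hph, zero_mul]
    · obtain ⟨x, hx⟩ := exists_isPPart hq g
      have hne : ¬ IsConj 1 x := fun hc =>
        ((isPPart_eq_one_iff hq hx).mp (isConj_one_right.mp hc)) hg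
      rw [Finset.sum_filter (s := Finset.univ) (p := (· ∈ Bq)),
        ← CfsgLib.Blk.finsum_mem_eq_sum_ite,
        block_orth hMq hBq (isPPart_one_of_regular hh) hx hne, mul_zero]
  obtain ⟨Q⟩ : Nonempty (Sylow q G) := inferInstance
  haveI : Fintype (Q : Subgroup G) := Fintype.ofFinite _
  have hQ : Nat.card (Q : Subgroup G) = q ^ b := by rw [Q.card_eq_multiplicity, hb]
  have hone : ∑ a : (Q : Subgroup G), X (a : G) = X 1 := by
    refine (Finset.sum_eq_single (1 : (Q : Subgroup G)) (fun a _ ha => hvan _ ?_)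
      (fun h => absurd (Finset.mem_univ _) h)).trans (by rw [OneMemClass.coe_one])
    obtain ⟨k, hk⟩ := Q.isPGroup'.exists_orderOf_eq_pow a
    rw [Subgroup.orderOf_coe, hk]
    refine dvd_pow_self q fun hk0 => ha ?_
    rwa [hk0, pow_zero, orderOf_eq_one_iff] at hk
  choose n hn using fun χ : IrrCharacter G =>
    inner_char_irr (isCharacter_restrict (Q : Subgroup G) (isCharacter_of_isIrr χ.2)) isIrr_one
  have hsum : ∀ χ : IrrCharacter G, ∑ a : (Q : Subgroup G), conj ((χ : G → ℂ) (a : G)) =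
      (q : ℂ) ^ b * n χ := by
    intro χ
    have h1 := hn χ
    rw [classInner_def, inv_mul_eq_iff_eq_mul₀ (Nat.cast_ne_zero.mpr Nat.card_pos.ne'), hQ] at h1
    rw [← map_sum]
    simp only [map_one, mul_one] at h1
    rw [h1]
    simp
  refine ⟨⟨∑ χ ∈ S, (χ : G → ℂ) y * (n χ : ℂ), Subalgebra.sum_mem _ fun χ _ =>
    (char_isIntegral (isCharacter_of_isIrr χ.2) y).mul (isIntegral_natCast _)⟩, ?_⟩
  show _ = (q : ℂ) ^ b * ∑ χ ∈ S, (χ : G → ℂ) y * (n χ : ℂ)
  calc ∑ᶠ χ ∈ Bp ∩ Bq, (charDegree (χ : G → ℂ) : ℂ) * (χ : G → ℂ) y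
      = X 1 := by
        rw [CfsgLib.Blk.finsum_mem_eq_sum_ite, hX, hS, ← Finset.sum_filter]
        refine Finset.sum_congr rfl fun χ _ => ?_
        rw [irr_one_eq χ.2, Complex.conj_natCast, mul_comm]
    _ = ∑ a : (Q : Subgroup G), X (a : G) := hone.symm
    _ = _ := by
        rw [hX, Finset.sum_comm, Finset.mul_sum]
        refine Finset.sum_congr rfl fun χ _ => ?_
        rw [← Finset.mul_sum, hsum]
        ring

end Cfsg.Agent.S4731
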