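import Cfsg.Statements.S4733
import Cfsg.Agent.Blk.Bounds

set_option autoImplicit false
open Cfsg

namespace Cfsg.Agent.S4733

open CfsgLib.Char CfsgLib.Blk
open scoped ComplexConjugate


/-- Let p be a prime, M a maximal ideal of the algebraic integers containing p, and B a p-block of the finite group G with k irreducible characters and p-regular rank l (the number of irreducible Brauer characters). Then l ≤ k, and the following are equivalent: B has defect 0; k = l = 1; k = l. -/
theorem result {G : Type*} [Group G] [Finite G] (p : ℕ) [Fact p.Prime] (M : Ideal Cfsg.AlgInt) (hM : Cfsg.IsPModular p M) (B : Set (Cfsg.IrrCharacter G)) (hB : Cfsg.IsPBlock M B) : Cfsg.blockRank p B ≤ Nat.card B ∧ (Cfsg.blockDefect p B = 0 ↔ (Nat.card B = 1 ∧ Cfsg.blockRank p B = 1)) ∧ (Cfsg.blockDefect p B = 0 ↔ Nat.card B = Cfsg.blockRank p B) := by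
  classical
  haveI := CfsgLib.Blk.IsPModular.isPrime hM
  haveI := Fintype.ofFinite G
  haveI : Fintype B := Fintype.ofFinite _
  have hp : p.Prime := Fact.out
  let v : B → (G → ℂ) := fun χ => pRegularPart p ((χ : IrrCharacter G) : G → ℂ)
  have hr : Set.range v = (fun χ : IrrCharacter G => pRegularPart p (χ : G → ℂ)) '' B := by
    ext f
    exact ⟨fun ⟨χ, e⟩ => ⟨χ, χ.2, e⟩, fun ⟨χ, hχ, e⟩ => ⟨⟨χ, hχ⟩, e⟩⟩
  have hrank : blockRank p B = Set.finrank ℂ (Set.range v) := by rw [hr]; rfl
  have hcard : Nat.card B = Fintype.card B := Nat.card_eq_fintype_card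
  have hle : blockRank p B ≤ Nat.card B := by
    rw [hrank, hcard]; exact finrank_range_le_card v
  have hone : blockDefect p B = 0 → Nat.card B = 1 ∧ blockRank p B = 1 := by
    intro h0
    obtain ⟨χ, hχ⟩ := isPBlock_nonempty hB
    haveI : Nonempty B := ⟨⟨χ, hχ⟩⟩
    have h1 : Nat.card B = 1 := le_antisymm
      ((card_block_le hM hB).trans (by rw [h0, mul_zero, pow_zero])) Nat.card_pos
    refine ⟨h1, le_antisymm (h1 ▸ hle) ?_⟩
    rw [hrank, Nat.one_le_iff_ne_zero]
    intro hz
    have hv : v ⟨χ, hχ⟩ = 0 := by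
      have h2 : Submodule.span ℂ (Set.range v) = ⊥ := Submodule.finrank_eq_zero.1 hz
      exact (Submodule.span_eq_bot.1 h2) _ ⟨_, rfl⟩
    have h3 := congrFun hv 1
    simp only [v, pRegularPart, IsPRegular, orderOf_one, Nat.dvd_one, hp.ne_one, not_false_iff,
      if_true, Pi.zero_apply] at h3
    exact irr_one_ne_zero χ.2 h3
  have heq : Nat.card B = blockRank p B → blockDefect p B = 0 := by
    intro he
    have hli : LinearIndependent ℂ v :=
      linearIndependent_iff_card_eq_finrank_span.2 (by rw [← hcard, ← hrank, he])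
    have hvan : ∀ χ ∈ B, ∀ y : G, p ∣ orderOf y → (χ : G → ℂ) y = 0 := by
      intro χ hχ y hy
      have h0 : ∑ θ : B, conj (((θ : IrrCharacter G) : G → ℂ) y) • v θ = 0 := by
        funext u
        simp only [Finset.sum_apply, Pi.smul_apply, smul_eq_mul, Pi.zero_apply, v, pRegularPart]
        by_cases hu : IsPRegular p u
        · simp only [if_pos hu]
          obtain ⟨y₁, hy₁⟩ := exists_isPPart hp y
          have h1 := block_orth hM hB (isPPart_one_of_regular hu) hy₁ fun hc =>
            (isPPart_eq_one_iff hp hy₁).1 (isConj_one_right.1 hc) hy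
          rw [finsum_mem_eq_sum_ite, ← Finset.sum_filter,
            Finset.sum_subtype (p := fun x => x ∈ B) _ (fun x => by simp)] at h1
          refine Eq.trans (Finset.sum_congr rfl fun θ _ => mul_comm _ _) h1
        · simp [hu]
      have h2 := Fintype.linearIndependent_iff.1 hli _ h0 ⟨χ, hχ⟩
      simpa using h2
    obtain ⟨P⟩ := (inferInstance : Nonempty (Sylow p G))
    haveI := Fintype.ofFinite (P : Subgroup G)
    have hdvd : ∀ χ ∈ B, (Nat.card G).factorization p ≤
        (charDegree (χ : G → ℂ)).factorization p := by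
      intro χ hχ
      obtain ⟨n, hn⟩ := inner_char_char
        (isCharacter_restrict (P : Subgroup G) (isCharacter_of_isIrr χ.2))
        (isCharacter_of_isIrr (isIrr_one (G := (P : Subgroup G))))
      rw [classInner_def, Finset.sum_eq_single (1 : (P : Subgroup G))] at hn
      · simp only [Subgroup.coe_one, map_one, mul_one, irr_one_eq χ.2] at hn
        rw [inv_mul_eq_iff_eq_mul₀ (natCard_ne_zero _), ← Nat.cast_mul, Nat.cast_inj,
          P.card_eq_multiplicity] at hn
        exact (hp.pow_dvd_iff_le_factorization (charDegree_pos χ.2).ne').1 ⟨n, hn⟩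
      · intro q _ hq
        obtain ⟨k, hk⟩ := IsPGroup.iff_orderOf.1 P.2 q
        rw [hvan χ hχ, zero_mul]
        rw [Subgroup.orderOf_coe, hk]
        refine dvd_pow_self p fun e => hq ?_
        rw [e, pow_zero] at hk
        exact orderOf_eq_one_iff.1 hk
      · simp
    obtain ⟨χ, hχ⟩ := isPBlock_nonempty hB
    rw [blockDefect, Nat.sub_eq_zero_iff_le]
    exact le_csInf ⟨_, χ, hχ, rfl⟩ fun _ ⟨θ, hθ, e⟩ => e ▸ hdvd θ hθ
  exact ⟨hle, ⟨hone, fun h => heq (h.1.trans h.2.symm)⟩,
    ⟨fun h => (hone h).1.trans (hone h).2.symm, heq⟩⟩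

end Cfsg.Agent.S4733
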