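import Cfsg.Statements.S4735
import Cfsg.Agent.Blk.PrincipalSum
import Cfsg.Agent.Fus.CoreBasic

set_option autoImplicit false
open Cfsg

namespace Cfsg.Agent.S4735

set_option linter.unusedSectionVars false
open CfsgLib.Char CfsgLib.Blk
open scoped ComplexConjugate


/-- Let p be a prime, M a maximal ideal of the algebraic integers containing p, G a finite group, H = O_p'(G) and Ḡ = G/H. For x ∈ G write λ(G, x) for the sum of |χ(x)|^2 over the irreducible characters χ in the principal p-block of G. Then λ(G, x) is a positive integer, λ(G, x) = λ(Ḡ, x̄) where x̄ is the image of x, and λ(G, x) ≤ #C_Ḡ(x̄). Moreover λ(G, 1) = [G : H] if and only if the principal block is the only p-block of Ḡ. -/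
theorem result {G : Type*} [Group G] [Finite G] (p : ℕ) [Fact p.Prime] (M : Ideal Cfsg.AlgInt) (hM : Cfsg.IsPModular p M) (x : G) : (∃ n : ℕ, 0 < n ∧ ∑ᶠ χ ∈ Cfsg.principalBlock M G, Complex.normSq ((χ : G → ℂ) x) = n) ∧ ∑ᶠ χ ∈ Cfsg.principalBlock M G, Complex.normSq ((χ : G → ℂ) x) = ∑ᶠ ψ ∈ Cfsg.principalBlock M (G ⧸ Cfsg.pPrimeCore p G), Complex.normSq ((ψ : G ⧸ Cfsg.pPrimeCore p G → ℂ) (QuotientGroup.mk x)) ∧ ∑ᶠ χ ∈ Cfsg.principalBlock M G, Complex.normSq ((χ : G → ℂ) x) ≤ (Nat.card ↥(Subgroup.centralizer ({(QuotientGroup.mk x : G ⧸ Cfsg.pPrimeCore p G)} : Set (G ⧸ Cfsg.pPrimeCore p G))) : ℝ) ∧ ((∑ᶠ χ ∈ Cfsg.principalBlock M G, Cfsg.charDegree (χ : G → ℂ) ^ 2) = (Cfsg.pPrimeCore p G).index ↔ ∀ B : Set (Cfsg.IrrCharacter (G ⧸ Cfsg.pPrimeCore p G)), Cfsg.IsPBlock M B → B = Cfsg.principalBlock M (G ⧸ Cfsg.pPrimeCore p G)) := by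
  classical
  haveI := CfsgLib.Blk.IsPModular.isPrime hM
  haveI : (pPrimeCore p G).Normal := CfsgLib.Fus.normal_pPrimeCore p
  set H := pPrimeCore p G
  have hH : ¬ p ∣ Nat.card H :=
    (Fact.out : p.Prime).coprime_iff_not_dvd.1 (CfsgLib.Fus.coprime_card_pPrimeCore (G := G) p).symm
  have e0 := principalBlock_eq_image H hM hH
  have einj : Set.InjOn (infl H) (principalBlock M (G ⧸ H)) := (infl_injective H).injOn
  obtain ⟨hn1, hn2⟩ := normSq_sum_spec (p := p) hM x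
  have h2 : ∑ᶠ χ ∈ principalBlock M G, Complex.normSq ((χ : G → ℂ) x) =
      ∑ᶠ ψ ∈ principalBlock M (G ⧸ H), Complex.normSq ((ψ : G ⧸ H → ℂ) (QuotientGroup.mk x)) := by
    rw [e0, finsum_mem_image einj]
    rfl
  refine ⟨⟨_, hn1, hn2.choose_spec⟩, h2, h2 ▸ normSq_sum_le _ _, ?_⟩
  rw [show (∑ᶠ χ ∈ principalBlock M G, charDegree (χ : G → ℂ) ^ 2) =
      ∑ᶠ ψ ∈ principalBlock M (G ⧸ H), charDegree (ψ : G ⧸ H → ℂ) ^ 2 by
    rw [e0, finsum_mem_image einj]; rfl, Subgroup.index_eq_card]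
  exact deg_sq_eq_card_iff

end Cfsg.Agent.S4735
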