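import Cfsg.Statements.S4736
import Cfsg.Agent.S0915
import Cfsg.Agent.S4713
import Cfsg.Agent.Blk.Inflate
import Cfsg.Agent.Fus.CoreBasic
import Cfsg.Agent.Perm.HallHigman
import Cfsg.Agent.Solv.Basic
-- import your own Cfsg.Agent.* helpers here

set_option autoImplicit false
open Cfsg

namespace Cfsg.Agent.S4736

open CfsgLib.Char CfsgLib.Blk

/-- Let p be a prime, M a maximal ideal of the algebraic integers containing p, and G a finite p-solvable group with Sylow p-subgroup P. Then P is abelian if and only if every irreducible character in the principal p-block of G has height zero. -/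
theorem result {G : Type*} [Group G] [Finite G] (p : ℕ) [Fact p.Prime] (M : Ideal Cfsg.AlgInt) (hM : Cfsg.IsPModular p M) (hsolv : Cfsg.IsPSolvable p G) (P : Sylow p G) : IsMulCommutative P ↔ ∀ χ ∈ Cfsg.principalBlock M G, Cfsg.blockHeight p (Cfsg.principalBlock M G) (χ : G → ℂ) = 0 := by
  classical
  have hp : p.Prime := Fact.out
  haveI := CfsgLib.Blk.IsPModular.isPrime hM
  haveI : (Cfsg.pPrimeCore p G).Normal := CfsgLib.Fus.normal_pPrimeCore p
  set H := Cfsg.pPrimeCore p G with hH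
  have hcop : ¬ p ∣ Nat.card H :=
    hp.coprime_iff_not_dvd.1 (CfsgLib.Fus.coprime_card_pPrimeCore (G := G) p).symm
  have hbot : Cfsg.pPrimeCore p (G ⧸ H) = ⊥ := CfsgLib.Solv.pPrimeCore_quotient_self
  have hqs : Cfsg.IsPSolvable p (G ⧸ H) := CfsgLib.Perm.isPSolvable_quotient hsolv H
  let Pb : Sylow p (G ⧸ H) := P.mapSurjective (QuotientGroup.mk'_surjective H)
  have hPb : (Pb : Subgroup (G ⧸ H)) = (P : Subgroup G).map (QuotientGroup.mk' H) := rfl
  have hinj : ∀ x ∈ (P : Subgroup G), (QuotientGroup.mk' H) x = 1 → x = 1 := by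
    intro x hx h1
    have hxH : x ∈ H := (QuotientGroup.eq_one_iff x).1 h1
    obtain ⟨k, hk⟩ := IsPGroup.iff_orderOf.1 P.isPGroup' ⟨x, hx⟩
    rw [Subgroup.orderOf_mk] at hk
    rcases Nat.eq_zero_or_pos k with rfl | hk0
    · exact orderOf_eq_one_iff.1 (by simpa using hk)
    · exfalso
      have hd : orderOf x ∣ Nat.card H := by
        rw [← Subgroup.orderOf_mk x hxH]; exact orderOf_dvd_natCard _
      exact hcop ((hk ▸ dvd_pow_self p hk0.ne').trans hd)
  have hiff : IsMulCommutative P ↔ ((Pb : Subgroup (G ⧸ H)).Normal ∧ IsMulCommutative Pb) := by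
    constructor
    · intro hab
      have habb : IsMulCommutative Pb := by
        constructor; constructor
        rintro ⟨a, ha⟩ ⟨b, hb⟩
        obtain ⟨x, hx, rfl⟩ := ha
        obtain ⟨y, hy, rfl⟩ := hb
        apply Subtype.ext
        show QuotientGroup.mk' H x * QuotientGroup.mk' H y = QuotientGroup.mk' H y * QuotientGroup.mk' H x
        rw [← map_mul, ← map_mul]
        exact congrArg _ (congrArg Subtype.val (hab.is_comm.comm (⟨x, hx⟩ : P) ⟨y, hy⟩))
      refine ⟨?_, habb⟩
      haveI : (Cfsg.pCore p (G ⧸ H)).Normal := CfsgLib.Solv.pCore_normal _ p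
      have hle : Cfsg.pCore p (G ⧸ H) ≤ (Pb : Subgroup (G ⧸ H)) := CfsgLib.Solv.pCore_le_sylow Pb
      have hge : (Pb : Subgroup (G ⧸ H)) ≤ Cfsg.pCore p (G ⧸ H) := fun a ha =>
        CfsgLib.Perm.centralizer_pCore_le_of_pSolvable hqs hbot
          (Subgroup.mem_centralizer_iff.2 fun q hq =>
            congrArg Subtype.val (habb.is_comm.comm (⟨q, hle hq⟩ : Pb) ⟨a, ha⟩))
      rw [le_antisymm hge hle]
      infer_instance
    · rintro ⟨-, habb⟩
      constructor; constructor
      rintro ⟨x, hx⟩ ⟨y, hy⟩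
      apply Subtype.ext
      show x * y = y * x
      have h1 : QuotientGroup.mk' H x * QuotientGroup.mk' H y = QuotientGroup.mk' H y * QuotientGroup.mk' H x :=
        congrArg Subtype.val (habb.is_comm.comm (⟨_, Subgroup.mem_map_of_mem _ hx⟩ : Pb) ⟨_, Subgroup.mem_map_of_mem _ hy⟩)
      rw [← map_mul, ← map_mul] at h1
      have h2 : QuotientGroup.mk' H ((y * x)⁻¹ * (x * y)) = 1 := by rw [map_mul, map_inv, h1, inv_mul_cancel]
      have h3 := hinj _ (mul_mem (inv_mem (mul_mem hy hx)) (mul_mem hx hy)) h2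
      exact (inv_mul_eq_one.1 h3).symm
  rw [hiff, Cfsg.Agent.S4713.result p hqs Pb]
  have himg := principalBlock_eq_image H hM hcop
  have hall : ∀ ψ : Cfsg.IrrCharacter (G ⧸ H), ψ ∈ Cfsg.principalBlock M (G ⧸ H) := fun ψ =>
    Cfsg.Agent.S0915.result p M hM hqs hbot ⟨_, isIrr_one⟩ ψ
  have hinf : sInf ((fun ψ : Cfsg.IrrCharacter G => (Cfsg.charDegree (ψ : G → ℂ)).factorization p) ''
      Cfsg.principalBlock M G) = 0 := by
    refine Nat.sInf_eq_zero.2 (Or.inl ?_)
    haveI := Fintype.ofFinite (G ⧸ H)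
    let one : Cfsg.IrrCharacter (G ⧸ H) := ⟨_, isIrr_one⟩
    refine ⟨infl H one, himg ▸ ⟨one, hall one, rfl⟩, ?_⟩
    have h1 : Cfsg.charDegree (one : G ⧸ H → ℂ) = 1 := by
      have := irr_one_eq one.2
      exact Nat.cast_injective (R := ℂ) (by rw [Nat.cast_one]; exact this.symm.trans rfl)
    show (Cfsg.charDegree (infl H one : G → ℂ)).factorization p = 0
    rw [charDegree_infl, h1]
    simp
  constructor
  · intro h χ hχ
    rw [himg] at hχ
    obtain ⟨ψ, -, rfl⟩ := hχ
    rw [Cfsg.blockHeight, hinf, Nat.sub_zero, charDegree_infl]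
    exact Nat.factorization_eq_zero_of_not_dvd (h ψ)
  · intro h ψ hdvd
    have h1 := h (infl H ψ) (himg ▸ ⟨ψ, hall ψ, rfl⟩)
    rw [Cfsg.blockHeight, hinf, Nat.sub_zero, charDegree_infl] at h1
    exact (hp.factorization_pos_of_dvd (charDegree_pos ψ.2).ne' hdvd).ne' h1

end Cfsg.Agent.S4736
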