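import Cfsg.Statements.S4737
import Cfsg.Agent.Blk.Rank
import Cfsg.Agent.Blk.Inflate
import Cfsg.Agent.Blk.FirstMain
import Cfsg.Agent.Blk.NormalP

set_option autoImplicit false
open Cfsg

namespace Cfsg.Agent.S4737

open CfsgLib.Char CfsgLib.Blk MonoidAlgebra
open scoped ComplexConjugate
set_option linter.unusedSectionVars false
set_option linter.style.haveILetI false

/-- An element of order three times an involution of order three normalizes a four group. -/
theorem eq_one_of_order_three {G : Type*} [Group G] [Finite G] {x u : G}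
    (hx : ∀ Q : Subgroup G, IsPGroup 2 ↥Q → x ∈ Subgroup.normalizer (Q : Set G) → Q = ⊥)
    (hx3 : x ^ 3 = 1) (hxu : (x * u) ^ 3 = 1) (hu : u * u = 1) : u = 1 := by
  classical
  set a := x * u * x⁻¹ with ha
  set b := x⁻¹ * u * x with hb
  have hx' : x * x = x⁻¹ := eq_inv_of_mul_eq_one_left (by rw [← pow_three']; exact hx3)
  have hxi : x⁻¹ * x⁻¹ = x := by rw [← mul_inv_rev, hx', inv_inv]
  have haa : a * a = 1 := by
    rw [ha]; simp only [mul_assoc, inv_mul_cancel_left]
    rw [← mul_assoc u u, hu, one_mul, mul_inv_cancel]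
  have hbb : b * b = 1 := by
    rw [hb]; simp only [mul_assoc, mul_inv_cancel_left]
    rw [← mul_assoc u u, hu, one_mul, inv_mul_cancel]
  have h3 : a * b * u = 1 := by
    rw [← hxu, pow_three', ha, hb,
      show x * u * x⁻¹ * (x⁻¹ * u * x) = x * u * (x⁻¹ * x⁻¹) * u * x by group, hxi]
    simp only [mul_assoc]
  have inv_self : ∀ {c : G}, c * c = 1 → c⁻¹ = c := fun h => inv_eq_of_mul_eq_one_right h
  have hab : a * b = u := (eq_inv_of_mul_eq_one_left h3).trans (inv_self hu)
  have hba : b * a = u := by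
    have h := congrArg (·⁻¹) hab
    simpa only [mul_inv_rev, inv_self haa, inv_self hbb, inv_self hu] using h
  have hau : a * u = b := by rw [← hab, ← mul_assoc, haa, one_mul]
  have hua : u * a = b := by rw [← hba, mul_assoc, haa, mul_one]
  have hub : u * b = a := by rw [← hab, mul_assoc, hbb, mul_one]
  have hbu : b * u = a := by rw [← hba, ← mul_assoc, hbb, one_mul]
  let V : Subgroup G :=
    { carrier := {q | q = 1 ∨ q = u ∨ q = a ∨ q = b}
      one_mem' := Or.inl rfl
      mul_mem' := by
        rintro q r (rfl | rfl | rfl | rfl) (rfl | rfl | rfl | rfl) <;>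
          simp [hu, haa, hbb, hab, hba, hau, hua, hub, hbu]
      inv_mem' := by
        rintro q (rfl | rfl | rfl | rfl) <;>
          simp [inv_self hu, inv_self haa, inv_self hbb] }
  have hV : IsPGroup 2 V := by
    rintro ⟨q, rfl | rfl | rfl | rfl⟩ <;> refine ⟨1, Subtype.ext ?_⟩ <;> simp [sq, hu, haa, hbb]
  have hxV : x ∈ Subgroup.normalizer (V : Set G) := by
    refine Subgroup.mem_normalizer_fintype fun q hq => ?_
    rcases hq with rfl | rfl | rfl | rfl
    · exact Or.inl (by group)
    · exact Or.inr (Or.inr (Or.inl rfl))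
    · refine Or.inr (Or.inr (Or.inr ?_))
      rw [ha, hb, show x * (x * u * x⁻¹) * x⁻¹ = (x * x) * u * (x⁻¹ * x⁻¹) by group, hx', hxi]
    · refine Or.inr (Or.inl ?_)
      rw [hb]; group
  have h : u ∈ V := Or.inr (Or.inl rfl)
  rwa [hx V hV hxV, Subgroup.mem_bot] at h

/-- The separation identity. -/
theorem sum_sq_separated {G : Type*} [Group G] [Fintype G] {M : Ideal AlgInt} [M.IsPrime]
    {ι : Type*} [DecidableEq ι] (x : ι → G) (hx : ∀ i j, IsConj (x i) (x j) → i = j)
    (hsep : ∀ i j : ι, ∀ g u : G, IsConj (x i) g → IsConj (x j) (g * u) → u * u = 1 → u = 1)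
    [DecidablePred fun u : G => u * u = 1] (i j : ι) :
    ∑ u : G, (if u * u = 1 then
      ((classSum (locRing M) (x i)⁻¹ * classSum (locRing M) (x j)).coeff u : ℂ) else 0) =
      if i = j then ((Subgroup.centralizer ({x i} : Set G)).index : ℂ) else 0 := by
  classical
  have hcl : ∀ a b : G, IsConj a⁻¹ b ↔ IsConj a b⁻¹ := fun a b => by
    simp only [isConj_iff]
    refine exists_congr fun c => ?_
    rw [← inv_inj, mul_inv_rev, mul_inv_rev, inv_inv, inv_inv, mul_assoc]
  rw [Finset.sum_eq_single (1 : G)]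
  · rw [if_pos (one_mul 1), coeff_classSum_mul]
    simp only [mul_one, coeff_classSum, hcl]
    rw [← card_isConj, Nat.card_eq_fintype_card, Fintype.card_subtype]
    push_cast [apply_ite Subtype.val]
    split_ifs with hij
    · subst hij
      rw [← Fintype.sum_equiv (Equiv.inv G) (fun g => if IsConj (x i) g then (1 : ℂ) else 0) _
        fun g => by by_cases h : IsConj (x i) g <;> simp [h]]
      rw [Finset.sum_boole]
    · refine Finset.sum_eq_zero fun g _ => ?_
      split_ifs with h1 h2
      · exact absurd (hx i j (h1.trans h2.symm)) hij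
      · rfl
      · rfl
  · intro u _ hu1
    split_ifs with hu
    · rw [coeff_classSum_mul]
      push_cast [apply_ite Subtype.val]
      refine Finset.sum_eq_zero fun g _ => ?_
      split_ifs with h1
      · rw [coeff_classSum, if_neg]
        · rfl
        exact fun h2 => hu1 (hsep i j g⁻¹ u ((hcl _ _).1 h1) h2 hu)
      · rfl
    · rfl
  · simp

/-- The sum of the elements of square one. -/
noncomputable def sqSum {G : Type*} [Group G] [Finite G] (M : Ideal AlgInt) [M.IsPrime] :
    MonoidAlgebra (locRing M) G :=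
  haveI := Classical.decPred (fun u : G => u * u = 1)
  MonoidAlgebra.ofCoeff (Finsupp.equivFunOnFinite.symm fun u => if u * u = 1 then 1 else 0)

theorem coeff_sqSum {G : Type*} [Group G] [Finite G] (M : Ideal AlgInt) [M.IsPrime] (u : G)
    [Decidable (u * u = 1)] : (sqSum (G := G) M).coeff u = if u * u = 1 then 1 else 0 := by
  classical
  simp only [sqSum, MonoidAlgebra.coeff_ofCoeff, Finsupp.coe_equivFunOnFinite_symm]
  congr 1

theorem isClassCoeff_sqSum {G : Type*} [Group G] [Finite G] (M : Ideal AlgInt) [M.IsPrime] :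
    IsClassCoeff (sqSum (G := G) M) := by
  classical
  intro g h
  rw [coeff_sqSum, coeff_sqSum]
  refine if_congr ?_ rfl rfl
  rw [show h * g * h⁻¹ * (h * g * h⁻¹) = h * (g * g) * h⁻¹ by group, mul_inv_eq_one, mul_eq_left]

/-- In a block of positive defect the elements of square one have central character sum zero. -/
theorem omegaBar_sqSum {G : Type*} [Group G] [Finite G] {M : Ideal AlgInt} [M.IsPrime]
    (hM : IsPModular 2 M) {B : Set (IrrCharacter G)} (hB : IsPBlock M B) {D : Subgroup G}
    (hD : IsDefectGroup 2 M B D) (hD1 : D ≠ ⊥) {χ : IrrCharacter G} (hχ : χ ∈ B) :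
    omegaBar (χ : G → ℂ) (sqSum (G := G) M) = 0 := by
  classical
  haveI : Fact (Nat.Prime 2) := ⟨Nat.prime_two⟩
  haveI : CharP (Res M) 2 := charP_res hM
  haveI := Fintype.ofFinite G
  have hDp := IsDefectGroup.isPGroup hD
  set N := Subgroup.normalizer (D : Set G) with hN
  have hDN : D ≤ N := Subgroup.le_normalizer
  obtain ⟨b, hind, -⟩ := exists_induced_of_defectGroup hM hDN (Subgroup.centralizer_le_normalizer _)
    le_rfl hB hD
  haveI : (D.subgroupOf N).Normal := Subgroup.normal_subgroupOf_of_le_normalizer le_rfl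
  have hD' : IsPGroup 2 (D.subgroupOf N) := hDp.of_equiv (Subgroup.subgroupOfEquivOfLe hDN).symm
  obtain ⟨ξ, hξ, htriv⟩ := exists_trivial_on hM hind.1 _ hD'
  haveI := Fintype.ofFinite N
  haveI := Fintype.ofFinite (N ⧸ D.subgroupOf N)
  obtain ⟨ξ', hξ'⟩ := exists_infl (D.subgroupOf N) htriv
  rw [← ((isInducedBlock_iff N).1 hind).2.2 ξ hξ χ hχ _ (isClassCoeff_sqSum M),
    omegaBar_resA_brMap hM D N hDp hDN le_rfl ξ.2 (isClassCoeff_sqSum M), omegaBar, omega_eq]
  -- an involution in the centre of `D`
  haveI : Nontrivial D := (Subgroup.nontrivial_iff_ne_bot D).2 hD1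
  haveI := hDp.center_nontrivial
  obtain ⟨z, hz⟩ := exists_prime_orderOf_dvd_card' (G := Subgroup.center D) 2 (by
    obtain ⟨m, hm⟩ := IsPGroup.iff_card.1 (hDp.to_subgroup (Subgroup.center D))
    rw [hm]
    refine dvd_pow_self 2 fun h => ?_
    have := Finite.one_lt_card (α := Subgroup.center D)
    rw [hm, h, pow_zero] at this
    exact lt_irrefl _ this)
  set z0 : G := ((z : D) : G) with hz0
  have hz2 : z0 * z0 = 1 := by
    have h := pow_orderOf_eq_one z
    rw [hz, sq] at h
    exact congrArg (fun w : Subgroup.center D => ((w : D) : G)) h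
  have hz1 : z0 ≠ 1 := by
    intro h
    have : z = 1 := Subtype.ext (Subtype.ext h)
    rw [this, orderOf_one] at hz
    norm_num at hz
  have hzD : z0 ∈ D := (z : D).2
  have hzC : z0 ∈ Subgroup.centralizer (D : Set G) := fun d hd =>
    congrArg Subtype.val (Subgroup.mem_center_iff.1 z.2 ⟨d, hd⟩)
  -- the fibres are even
  set c : N → Prop := fun h => (h : G) ∈ Subgroup.centralizer (D : Set G) ∧ (h : G) * (h : G) = 1
  have hcoeff : ∀ h : N, (((resA N (brMap D (sqSum (G := G) M))).coeff h : locRing M) : ℂ) =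
      if c h then (1 : ℂ) else 0 := by
    intro h
    rw [coeff_resA, coeff_brMap, coeff_sqSum]
    simp only [c]
    split_ifs <;> simp_all
  set S : N ⧸ D.subgroupOf N → Finset N := fun x =>
    Finset.univ.filter (fun h : N => (h : N ⧸ D.subgroupOf N) = x ∧ c h)
  have hceq : ∀ h : N, c h → c (⟨z0, hDN hzD⟩ * h) := by
    rintro h ⟨h1, h2⟩
    refine ⟨mul_mem hzC h1, ?_⟩
    show z0 * (h : G) * (z0 * (h : G)) = 1
    rw [show z0 * (h : G) * (z0 * (h : G)) = z0 * ((h : G) * z0) * (h : G) by group, ← h1 z0 hzD,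
      show z0 * (z0 * (h : G)) * (h : G) = z0 * z0 * ((h : G) * (h : G)) by group, hz2, h2, one_mul]
  have heven : ∀ x, Even (S x).card := by
    intro x
    rw [← ZMod.natCast_eq_zero_iff_even, Finset.cast_card]
    refine Finset.sum_involution (fun h _ => ⟨z0, hDN hzD⟩ * h) (fun h _ => CharTwo.add_self_eq_zero 1)
      (fun h _ _ e => hz1 (congrArg Subtype.val (mul_eq_right.1 e))) (fun h hh => ?_)
      (fun h _ => ?_)
    · obtain ⟨-, hx, hc⟩ := Finset.mem_filter.1 hh
      refine Finset.mem_filter.2 ⟨Finset.mem_univ _, ?_, hceq h hc⟩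
      rw [QuotientGroup.mk_mul, (QuotientGroup.eq_one_iff (⟨z0, hDN hzD⟩ : N)).2
        (Subgroup.mem_subgroupOf.2 hzD), one_mul, hx]
    · rw [← mul_assoc, show (⟨z0, hDN hzD⟩ : N) * ⟨z0, hDN hzD⟩ = 1 from Subtype.ext hz2, one_mul]
  have hconj : ∀ (k h : N), c h → c (k * h * k⁻¹) := by
    rintro k h ⟨h1, h2⟩
    refine ⟨fun d hd => ?_, ?_⟩
    · have hd' : (k : G)⁻¹ * d * k ∈ D := by
        simpa using (Subgroup.mem_normalizer_iff.1 (N.inv_mem k.2) d).1 hd
      have h3 := h1 _ hd'
      show d * ((k : G) * h * (k : G)⁻¹) = (k : G) * h * (k : G)⁻¹ * d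
      calc d * ((k : G) * h * (k : G)⁻¹) = (k : G) * (((k : G)⁻¹ * d * k) * h) * (k : G)⁻¹ := by group
        _ = (k : G) * (h * ((k : G)⁻¹ * d * k)) * (k : G)⁻¹ := by rw [h3]
        _ = _ := by group
    · show (k : G) * h * (k : G)⁻¹ * ((k : G) * h * (k : G)⁻¹) = 1
      rw [show (k : G) * h * (k : G)⁻¹ * ((k : G) * h * (k : G)⁻¹) = k * ((h : G) * h) * (k : G)⁻¹ by
        group, h2, mul_one, mul_inv_cancel]
  let a' : MonoidAlgebra (locRing M) (N ⧸ D.subgroupOf N) :=
    MonoidAlgebra.ofCoeff (Finsupp.equivFunOnFinite.symm fun x => (((S x).card / 2 : ℕ) : locRing M))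
  have ha' : IsClassCoeff a' := by
    intro x k
    obtain ⟨k, rfl⟩ := QuotientGroup.mk'_surjective _ k
    simp only [a', MonoidAlgebra.coeff_ofCoeff, Finsupp.coe_equivFunOnFinite_symm]
    congr 2
    refine Finset.card_bij' (fun h _ => k⁻¹ * h * k) (fun h _ => k * h * k⁻¹)
      (fun h hh => ?_) (fun h hh => ?_) (fun h _ => by group) (fun h _ => by group)
    · obtain ⟨-, hx, hc⟩ := Finset.mem_filter.1 hh
      refine Finset.mem_filter.2 ⟨Finset.mem_univ _, ?_, by simpa using hconj k⁻¹ h hc⟩
      rw [QuotientGroup.mk_mul, QuotientGroup.mk_mul, QuotientGroup.mk_inv, hx,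
        QuotientGroup.mk'_apply]
      group
    · obtain ⟨-, hx, hc⟩ := Finset.mem_filter.1 hh
      refine Finset.mem_filter.2 ⟨Finset.mem_univ _, ?_, hconj k h hc⟩
      rw [QuotientGroup.mk_mul, QuotientGroup.mk_mul, QuotientGroup.mk_inv, hx,
        QuotientGroup.mk'_apply]
  have hkey : (∑ h : N, (((resA N (brMap D (sqSum (G := G) M))).coeff h : locRing M) : ℂ) *
      (ξ : N → ℂ) h) / (ξ : N → ℂ) 1 =
      2 * omega (ξ' : N ⧸ D.subgroupOf N → ℂ) a' := by
    rw [omega_eq, ← hξ', infl_apply, QuotientGroup.mk_one, ← mul_div_assoc]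
    congr 1
    simp only [hcoeff, infl_apply, ite_mul, one_mul, zero_mul]
    rw [← Finset.sum_filter, ← Finset.sum_fiberwise (g := fun h : N => (h : N ⧸ D.subgroupOf N)),
      Finset.mul_sum]
    refine Finset.sum_congr rfl fun x _ => ?_
    rw [Finset.filter_filter,
      show Finset.univ.filter (fun h : N => c h ∧ (h : N ⧸ D.subgroupOf N) = x) = S x from
        Finset.filter_congr fun h _ => and_comm,
      Finset.sum_congr rfl (g := fun _ => (ξ' : N ⧸ D.subgroupOf N → ℂ) x)
        (fun h hh => by rw [(Finset.mem_filter.1 hh).2.1]),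
      Finset.sum_const, nsmul_eq_mul]
    obtain ⟨m, hm⟩ := heven x
    simp only [a', MonoidAlgebra.coeff_ofCoeff, Finsupp.coe_equivFunOnFinite_symm]
    rw [hm, show (m + m) / 2 = m by omega]
    push_cast
    ring
  rw [hkey, show (2 : ℂ) = ((2 : ℕ) : ℂ) by norm_num,
    red_mul (natCast_mem _ 2) (omega_mem ξ'.2 ha'), red_natCast, CharP.cast_eq_zero, zero_mul]


/-- Let G be a finite group of order divisible by 6. Then the number of irreducible characters of G whose degree has the same 2-part as the order of G (the characters of 2-defect zero, each forming a 2-block of defect zero on its own) is at least the number of conjugacy classes of elements of order 3 that normalize no nontrivial 2-subgroup of G. In particular G has a 2-block of defect zero as soon as some element of order 3 normalizes no nontrivial 2-subgroup. -/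
theorem result {G : Type*} [Group G] [Finite G] (h6 : 6 ∣ Nat.card G) : Nat.card {C : ConjClasses G // ∃ g ∈ C.carrier, orderOf g = 3 ∧ ∀ Q : Subgroup G, IsPGroup 2 ↥Q → g ∈ Subgroup.normalizer (Q : Set G) → Q = ⊥} ≤ Nat.card {χ : Cfsg.IrrCharacter G // (Cfsg.charDegree (χ : G → ℂ)).factorization 2 = (Nat.card G).factorization 2} := by
  classical
  haveI := Fintype.ofFinite G
  haveI : Fact (Nat.Prime 2) := ⟨Nat.prime_two⟩
  obtain ⟨M, hM⟩ := exists_isPModular (q := 2) Nat.prime_two
  haveI := CfsgLib.Blk.IsPModular.isPrime hM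
  haveI : CharP (Res M) 2 := charP_res hM
  set ι := {C : ConjClasses G // ∃ g ∈ C.carrier, orderOf g = 3 ∧ ∀ Q : Subgroup G, IsPGroup 2 ↥Q →
    g ∈ Subgroup.normalizer (Q : Set G) → Q = ⊥}
  haveI : Fintype ι := Fintype.ofFinite _
  choose x hxC hx3 hxQ using fun i : ι => i.2
  have hxmk : ∀ i : ι, ConjClasses.mk (x i) = i.1 := fun i => ConjClasses.mem_carrier_iff_mk_eq.1 (hxC i)
  have hinj : ∀ i j : ι, IsConj (x i) (x j) → i = j := fun i j h => Subtype.ext (by
    rw [← hxmk i, ← hxmk j, ConjClasses.mk_eq_mk_iff_isConj.2 h])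
  have hpow : ∀ (i : ι) (h : G), IsConj (x i) h → h ^ 3 = 1 := by
    intro i h hh
    obtain ⟨c, rfl⟩ := isConj_iff.1 hh
    rw [conj_pow, ← hx3 i, pow_orderOf_eq_one, mul_one, mul_inv_cancel]
  have hsep : ∀ i j : ι, ∀ g u : G, IsConj (x i) g → IsConj (x j) (g * u) → u * u = 1 → u = 1 := by
    intro i j g u h1 h2 hu
    obtain ⟨c, rfl⟩ := isConj_iff.1 h1
    have h3 := eq_one_of_order_three (hxQ i) (hpow i _ (IsConj.refl _)) (u := c⁻¹ * u * c)
      (by
        rw [show x i * (c⁻¹ * u * c) = c⁻¹ * (c * x i * c⁻¹ * u) * c⁻¹⁻¹ by group, conj_pow,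
          hpow j _ h2, mul_one, mul_inv_cancel])
      (by rw [show c⁻¹ * u * c * (c⁻¹ * u * c) = c⁻¹ * (u * u) * c by group, hu, mul_one,
        inv_mul_cancel])
    rwa [show c⁻¹ * u * c = c⁻¹ * u * c⁻¹⁻¹ by rw [inv_inv], mul_inv_eq_one, mul_eq_left] at h3
  have hodd : ∀ i : ι, ¬ 2 ∣ Nat.card (Subgroup.centralizer ({x i} : Set G)) := by
    intro i hdvd
    obtain ⟨t, ht⟩ := exists_prime_orderOf_dvd_card' 2 hdvd
    have hto : orderOf (t : G) = 2 := by rw [Subgroup.orderOf_coe, ht]
    have hcomm : Commute (t : G) (x i) := Subgroup.mem_centralizer_singleton_iff.1 t.2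
    have h := hxQ i (Subgroup.zpowers (t : G))
      (IsPGroup.of_card (n := 1) (by rw [Nat.card_zpowers, hto, pow_one])) ?_
    · rw [Subgroup.zpowers_eq_bot] at h
      rw [h, orderOf_one] at hto
      norm_num at hto
    · refine Subgroup.mem_normalizer_fintype fun q hq => ?_
      obtain ⟨n, rfl⟩ := Subgroup.mem_zpowers_iff.1 hq
      rw [show x i * (t : G) ^ n * (x i)⁻¹ = (t : G) ^ n by
        rw [← (hcomm.zpow_left n).eq, mul_inv_cancel_right]]
      exact Subgroup.zpow_mem _ (Subgroup.mem_zpowers _) n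
  set a := sqSum (G := G) M with ha
  have hac := isClassCoeff_sqSum (G := G) M
  set Z := {χ : IrrCharacter G // (charDegree (χ : G → ℂ)).factorization 2 = (Nat.card G).factorization 2}
  haveI : Fintype Z := Fintype.ofFinite _
  -- the characters of positive defect drop out
  have hzero : ∀ χ : IrrCharacter G, (charDegree (χ : G → ℂ)).factorization 2 ≠
      (Nat.card G).factorization 2 → omegaBar (χ : G → ℂ) a = 0 := by
    intro χ hne
    have hB : IsPBlock M (blockOf M (χ : G → ℂ)) := blockOf_isPBlock χ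
    obtain ⟨D, hD⟩ := exists_isDefectGroup hM hB
    refine omegaBar_sqSum hM hB hD (fun hbot => hne ?_) (sameBlock_refl _)
    have h1 := sub_le_degExp hM hD (d := 0) (by rw [hbot, Subgroup.card_bot, pow_zero])
      (χ := χ) (sameBlock_refl _)
    have h2 := degExp_le (p := 2) χ.2
    simp only [degExp, pExp] at h1 h2
    omega
  have hgram : ∀ i j : ι, ∑ χ : IrrCharacter G, (χ : G → ℂ) (x i)⁻¹ * (χ : G → ℂ) (x j) *
      omega (χ : G → ℂ) a =
      if i = j then (Nat.card (Subgroup.centralizer ({x i} : Set G)) : ℂ) else 0 := by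
    intro i j
    have h1 := sum_sq_separated (M := M) x hinj hsep i j
    simp only [omega_inversion ((isClassCoeff_classSum _ _).mul (isClassCoeff_classSum _ _))] at h1
    have hcl : Subgroup.centralizer ({(x i)⁻¹} : Set G) = Subgroup.centralizer ({x i} : Set G) := by
      ext y
      simp only [Subgroup.mem_centralizer_singleton_iff]
      exact ⟨fun h => by simpa using (Commute.inv_right (h : Commute y _)).eq,
        fun h => (Commute.inv_right (h : Commute y _)).eq⟩
    have hS : ∀ χ : IrrCharacter G, ∑ u : G, (if u * u = 1 then conj ((χ : G → ℂ) u) else 0) =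
        omega (χ : G → ℂ) a * (χ : G → ℂ) 1 := by
      intro χ
      rw [omega_eq, div_mul_cancel₀ _ (irr_one_ne_zero χ.2)]
      refine Finset.sum_congr rfl fun u _ => ?_
      rw [ha, coeff_sqSum]
      split_ifs with hu
      · rw [← char_conj_eq (isCharacter_of_isIrr χ.2), inv_eq_of_mul_eq_one_right hu]
        simp
      · simp
    have hni : ((Subgroup.centralizer ({x i} : Set G)).index : ℂ) ≠ 0 := by
      exact_mod_cast Subgroup.index_ne_zero_of_finite
    have hnj : ((Subgroup.centralizer ({x j} : Set G)).index : ℂ) ≠ 0 := by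
      exact_mod_cast Subgroup.index_ne_zero_of_finite
    have hG := natCard_ne_zero G
    have h2 : ((Subgroup.centralizer ({x i} : Set G)).index : ℂ) *
        ((Subgroup.centralizer ({x j} : Set G)).index : ℂ) / (Nat.card G : ℂ) *
        ∑ χ : IrrCharacter G, (χ : G → ℂ) (x i)⁻¹ * (χ : G → ℂ) (x j) * omega (χ : G → ℂ) a =
        if i = j then ((Subgroup.centralizer ({x i} : Set G)).index : ℂ) else 0 := by
      rw [← h1, Finset.mul_sum]
      calc _ = ∑ χ : IrrCharacter G, (Nat.card G : ℂ)⁻¹ * (omega (χ : G → ℂ)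
            (classSum (locRing M) (x i)⁻¹ * classSum (locRing M) (x j)) * (χ : G → ℂ) 1 *
            (omega (χ : G → ℂ) a * (χ : G → ℂ) 1)) := by
            refine Finset.sum_congr rfl fun χ _ => ?_
            rw [omega_mul χ.2 (isClassCoeff_classSum _ _), omega_classSum (classFun_of_irr χ.2),
              omega_classSum (classFun_of_irr χ.2), centralChar, centralChar, hcl]
            have := irr_one_ne_zero χ.2
            field_simp
        _ = _ := by
            simp only [← hS, Finset.mul_sum]
            rw [Finset.sum_comm]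
            refine Finset.sum_congr rfl fun u _ => ?_
            split_ifs
            · rfl
            · simp
    have hG' := index_mul_card_centralizer (x i)
    have hG'' : (Nat.card G : ℂ) = ((Subgroup.centralizer ({x i} : Set G)).index : ℂ) *
        (Nat.card (Subgroup.centralizer ({x i} : Set G)) : ℂ) := by exact_mod_cast hG'.symm
    split_ifs with hij
    · rw [if_pos hij] at h2
      subst hij
      rw [hG''] at h2
      have hc := natCard_ne_zero (Subgroup.centralizer ({x i} : Set G))
      field_simp at h2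
      linear_combination h2
    · rw [if_neg hij] at h2
      exact (mul_eq_zero.1 h2).resolve_left (div_ne_zero (mul_ne_zero hni hnj) hG)
  let v : ι → Z → Res M := fun i χ =>
    red M ((χ.1 : G → ℂ) (x i)⁻¹) * omegaBar (χ.1 : G → ℂ) a
  let w : ι → Z → Res M := fun j χ => red M ((χ.1 : G → ℂ) (x j))
  have hvw : ∀ i j, ∑ χ : Z, v i χ * w j χ = if i = j then 1 else 0 := by
    intro i j
    have h := congrArg (red M) (hgram i j)
    rw [red_sum _ _ fun χ _ => mul_mem (mul_mem (irr_mem χ _) (irr_mem χ _)) (omega_mem χ.2 hac)] at h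
    rw [Finset.sum_congr rfl (g := fun χ : IrrCharacter G =>
      red M ((χ : G → ℂ) (x i)⁻¹) * red M ((χ : G → ℂ) (x j)) * omegaBar (χ : G → ℂ) a)
      fun χ _ => by
        rw [red_mul (mul_mem (irr_mem χ _) (irr_mem χ _)) (omega_mem χ.2 hac),
          red_mul (irr_mem χ _) (irr_mem χ _)]
        rfl] at h
    rw [← Finset.sum_subset (Finset.subset_univ (Finset.univ.filter fun χ : IrrCharacter G =>
        (charDegree (χ : G → ℂ)).factorization 2 = (Nat.card G).factorization 2))
        (fun χ _ hχ => by rw [hzero χ (by simpa using hχ), mul_zero]),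
      Finset.sum_subtype (p := fun χ : IrrCharacter G =>
        (charDegree (χ : G → ℂ)).factorization 2 = (Nat.card G).factorization 2) _ (by simp)] at h
    convert h using 1
    · exact Finset.sum_congr rfl fun χ _ => by simp only [v, w]; ring
    · split_ifs
      · rw [red_natCast, eq_comm]
        rcases Nat.mod_two_eq_zero_or_one (Nat.card (Subgroup.centralizer ({x i} : Set G))) with h0 | h0
        · exact absurd (Nat.dvd_of_mod_eq_zero h0) (hodd i)
        · rw [CharP.cast_eq_mod (Res M) 2, h0, Nat.cast_one]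
      · rw [show (0 : ℂ) = ((0 : ℕ) : ℂ) by simp, red_natCast, Nat.cast_zero]
  have hli : LinearIndependent (Res M) w := by
    refine Fintype.linearIndependent_iff.2 fun c hc i => ?_
    have h := congrArg (fun f : Z → Res M => ∑ χ : Z, v i χ * f χ) hc
    simp only [Finset.sum_apply, Pi.smul_apply, smul_eq_mul, Pi.zero_apply, mul_zero,
      Finset.sum_const_zero, Finset.mul_sum] at h
    rw [Finset.sum_comm] at h
    simp only [mul_left_comm (v i _) (c _), ← Finset.mul_sum, hvw, mul_ite, mul_one, mul_zero,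
      Finset.sum_ite_eq, Finset.mem_univ, if_true] at h
    rw [Fintype.sum_eq_single i (fun x hx => if_neg (Ne.symm hx)), if_pos rfl] at h
    exact h
  rw [Nat.card_eq_fintype_card, Nat.card_eq_fintype_card]
  have h := hli.fintype_card_le_finrank
  rwa [Module.finrank_pi] at h

end Cfsg.Agent.S4737
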