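import Cfsg.Statements.S4738
import Cfsg.Agent.Blk.NoTwoP

set_option autoImplicit false
open Cfsg

namespace Cfsg.Agent.S4738

/-- Let p be an odd prime and G a finite group of even order containing no element of order 2p. Then either G has an irreducible character of p-defect zero (its degree has the same p-part as the order of G), or every Sylow p-subgroup of G is abelian and all involutions of G are conjugate. -/
theorem result {G : Type*} [Group G] [Finite G] (p : ℕ) [Fact p.Prime] (hp2 : p ≠ 2) (hG : Even (Nat.card G)) (h2p : ∀ g : G, orderOf g ≠ 2 * p) : (∃ χ : Cfsg.IrrCharacter G, (Cfsg.charDegree (χ : G → ℂ)).factorization p = (Nat.card G).factorization p) ∨ ((∀ P : Sylow p G, IsMulCommutative ↥(P : Subgroup G)) ∧ ∀ s t : G, orderOf s = 2 → orderOf t = 2 → IsConj s t) := by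
  classical
  rcases CfsgLib.Blk.defect_zero_or_inverted hp2 h2p with h | h
  · exact Or.inl h
  haveI : Fact (Nat.Prime 2) := ⟨Nat.prime_two⟩
  have hp : p.Prime := Fact.out
  obtain ⟨z, hz⟩ := exists_prime_orderOf_dvd_card' (G := G) 2 hG.two_dvd
  by_cases hP1 : ∀ P : Sylow p G, (P : Subgroup G) = ⊥
  · left
    refine ⟨⟨_, CfsgLib.Char.isIrr_one⟩, ?_⟩
    obtain ⟨P⟩ := (inferInstance : Nonempty (Sylow p G))
    have := P.card_eq_multiplicity
    rw [show Nat.card P = Nat.card (P : Subgroup G) from rfl, hP1 P, Subgroup.card_bot] at this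
    rw [(Nat.pow_eq_one.1 this.symm).resolve_left hp.ne_one,
      CfsgLib.Char.charDegree_eq (n := 1) (by simp), Nat.factorization_one, Finsupp.zero_apply]
  push Not at hP1
  refine Or.inr ⟨fun P => ?_, fun s t hs ht => ?_⟩
  · obtain ⟨g, -, hg⟩ := h z hz P
    exact ⟨⟨fun a b => Subtype.ext (CfsgLib.Blk.commute_of_inverted hg a a.2 b b.2)⟩⟩
  · obtain ⟨P, hP⟩ := hP1
    obtain ⟨a, ha, hai⟩ := h s hs P
    obtain ⟨b, hb, hbi⟩ := h t ht P
    obtain ⟨v, hv⟩ := (Subgroup.bot_or_exists_ne_one (P : Subgroup G)).resolve_left hP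
    obtain ⟨hvP, hv1⟩ := hv
    obtain ⟨i, hi⟩ := IsPGroup.iff_orderOf.1 P.isPGroup' ⟨v, hvP⟩
    have hodd := CfsgLib.Blk.odd_centralizer_of_no_two_p hp2 h2p
      ⟨i, by rwa [← Subgroup.orderOf_mk v hvP]⟩ hv1
    have hab : a * b ∈ Subgroup.centralizer ({v} : Set G) := by
      rw [Subgroup.mem_centralizer_singleton_iff]
      have e : a * b * v * (a * b)⁻¹ = v := by
        calc a * b * v * (a * b)⁻¹ = a * (b * v * b⁻¹) * a⁻¹ := by group
          _ = v := by rw [hbi v hvP, hai _ (inv_mem hvP), inv_inv]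
      exact mul_inv_eq_iff_eq_mul.1 e
    have hord : ∀ {x y : G}, IsConj x y → orderOf x = 2 → orderOf y = 2 := by
      intro x y hxy hx
      obtain ⟨c, rfl⟩ := isConj_iff.1 hxy
      rw [CfsgLib.Blk.isPPart_conj.orderOf_mulAut_conj, hx]
    exact ha.trans ((CfsgLib.Inv.isConj_of_odd (hord ha hs) (hord hb ht)
      (hodd.of_dvd_nat (Subgroup.orderOf_dvd_natCard _ hab))).trans hb.symm)

end Cfsg.Agent.S4738
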