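import Cfsg.Statements.S4740
import Cfsg.Agent.Char.ClassProduct
import Cfsg.Agent.Char.Clifford

set_option autoImplicit false
open Cfsg

namespace Cfsg.Agent.S4740

open CfsgLib.Char
open scoped ComplexConjugate

/-- Let p be an odd prime, G a finite group of even order, x an involution of G and P a subgroup of G of order p ^ c such that no conjugate of x inverts a non-identity element of P. If p ^ a is the p-part of the order of C_G(x), then some irreducible character of G has degree divisible by p ^ (c - a). -/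
theorem result {G : Type*} [Group G] [Finite G] (p : ℕ) [Fact p.Prime] (hp2 : p ≠ 2) (hG : Even (Nat.card G)) (x : G) (hx : orderOf x = 2) (P : Subgroup G) (c : ℕ) (hP : Nat.card ↥P = p ^ c) (hinv : ∀ g : G, IsConj x g → ∀ z ∈ P, z ≠ 1 → g * z * g⁻¹ ≠ z⁻¹) (a : ℕ) (ha : (Nat.card ↥(Subgroup.centralizer ({x} : Set G))).factorization p = a) : ∃ χ : Cfsg.IrrCharacter G, p ^ (c - a) ∣ Cfsg.charDegree (χ : G → ℂ) := by
  classical
  haveI := Fintype.ofFinite G
  haveI := Fintype.ofFinite P
  have hp : p.Prime := Fact.out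
  by_contra hno
  push Not at hno
  have hca : a < c := by
    by_contra h
    push Not at h
    exact hno ⟨_, isIrr_one⟩ (by rw [Nat.sub_eq_zero_of_le h, pow_zero]; exact one_dvd _)
  choose m hm using fun χ : IrrCharacter G =>
    inner_char_irr (isCharacter_restrict P (isCharacter_of_isIrr χ.2)) isIrr_one
  have hsum : ∀ χ : IrrCharacter G, ∑ z : P, conj ((χ : G → ℂ) (z : G)) = (p : ℂ) ^ c * m χ := by
    intro χ
    have h1 := hm χ
    rw [classInner_def, inv_mul_eq_iff_eq_mul₀ (natCard_ne_zero P), hP] at h1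
    simp only [map_one, mul_one] at h1
    rw [← map_sum, h1]
    simp
  set S := Finset.univ.filter (fun g : G => IsConj x g)
  set k : ℂ := ((Subgroup.centralizer ({x} : Set G)).index : ℂ)
  have hk0 : k ≠ 0 := Nat.cast_ne_zero.mpr Subgroup.index_ne_zero_of_finite
  have hxx : x * x = 1 := by rw [← sq, ← hx, pow_orderOf_eq_one]
  have hinvol : ∀ g, IsConj x g → g * g = 1 := fun g hg => by
    obtain ⟨u, rfl⟩ := isConj_iff.mp hg
    rw [show u * x * u⁻¹ * (u * x * u⁻¹) = u * (x * x) * u⁻¹ by group, hxx]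
    group
  have hnc : ∀ g ∈ S, ∀ h ∈ S, ∀ z : P, IsConj (g * h) (z : G) → z = 1 := by
    intro g hg h hh z hc
    by_contra hz
    obtain ⟨u, hu⟩ := isConj_iff.mp hc
    have hg' := (Finset.mem_filter.mp hg).2
    have hh' := (Finset.mem_filter.mp hh).2
    have h1 : IsConj x (u * g * u⁻¹) := hg'.trans (isConj_iff.mpr ⟨u, rfl⟩)
    refine hinv _ h1 z z.2 (fun e => hz (Subtype.ext e)) ?_
    have hgi : g⁻¹ = g := inv_eq_of_mul_eq_one_left (hinvol g hg')
    have hhi : h⁻¹ = h := inv_eq_of_mul_eq_one_left (hinvol h hh')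
    rw [← hu, show u * g * u⁻¹ * (u * (g * h) * u⁻¹) * (u * g * u⁻¹)⁻¹ = u * (g * g * h * g⁻¹) * u⁻¹ by group,
      hinvol g hg', one_mul, hgi, show (u * (g * h) * u⁻¹)⁻¹ = u * (h⁻¹ * g⁻¹) * u⁻¹ by group, hgi, hhi]
  have key : ∑ χ : IrrCharacter G, centralChar (χ : G → ℂ) x * centralChar (χ : G → ℂ) x *
      (χ : G → ℂ) 1 * ((p : ℂ) ^ c * m χ) = k * (Nat.card G : ℂ) := by
    rw [Finset.sum_congr rfl (g := fun χ : IrrCharacter G => ∑ g ∈ S, ∑ h ∈ S, ∑ z : P,
      (χ : G → ℂ) (g * h) * conj ((χ : G → ℂ) (z : G))) fun χ _ => by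
        rw [centralChar_mul χ.2, div_mul_cancel₀ _ (irr_one_ne_zero χ.2), ← hsum, Finset.sum_mul]
        refine Finset.sum_congr rfl fun g _ => ?_
        rw [Finset.sum_mul]
        exact Finset.sum_congr rfl fun h _ => Finset.mul_sum _ _ _]
    rw [Finset.sum_comm, Finset.sum_congr rfl (g := fun _ => (Nat.card G : ℂ)) fun g hg => ?_,
      Finset.sum_const, nsmul_eq_mul]
    · congr 1
      simp only [S, k]
      exact_mod_cast card_filter_isConj x
    rw [Finset.sum_comm, Finset.sum_eq_single g]
    · rw [Finset.sum_comm, Finset.sum_eq_single (1 : P)]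
      · rw [second_orth, hinvol g (Finset.mem_filter.mp hg).2, OneMemClass.coe_one, if_pos (IsConj.refl _)]
        have : Subgroup.centralizer ({(1 : G)} : Set G) = ⊤ := by
          ext y; simp [Subgroup.mem_centralizer_singleton_iff]
        rw [this, Subgroup.card_top]
      · intro z _ hz
        rw [second_orth, if_neg fun hc => hz (hnc g hg g hg z hc)]
      · exact fun h => absurd (Finset.mem_univ _) h
    · intro h hh hne
      rw [Finset.sum_comm]
      refine Finset.sum_eq_zero fun z _ => ?_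
      rw [second_orth, if_neg fun hc => ?_]
      have hz := hnc g hg h hh z hc
      subst hz
      rw [OneMemClass.coe_one] at hc
      have h1 : g * h = 1 := isConj_one_right.mp hc.symm
      exact hne (mul_left_cancel (h1.trans (hinvol g (Finset.mem_filter.mp hg).2).symm))
    · exact fun h => absurd hg h
  have hC : (Nat.card G : ℂ) = k * (Nat.card (Subgroup.centralizer ({x} : Set G)) : ℂ) := by
    simp only [k]
    exact_mod_cast (index_mul_card_centralizer x).symm
  set L : ℕ := Finset.univ.lcm (fun χ : IrrCharacter G => charDegree (χ : G → ℂ))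
  have hL0 : L ≠ 0 := by
    simp only [L, Ne, Finset.lcm_eq_zero_iff]
    push Not
    exact fun χ _ => (charDegree_pos χ.2).ne'
  set nC := Nat.card (Subgroup.centralizer ({x} : Set G))
  set w : ℂ := ∑ χ : IrrCharacter G,
    (χ : G → ℂ) x * (χ : G → ℂ) x * ((m χ * (L / charDegree (χ : G → ℂ)) : ℕ) : ℂ)
  have hw : IsIntegral ℤ w := IsIntegral.sum _ fun χ _ =>
    ((char_isIntegral (isCharacter_of_isIrr χ.2) x).mul (char_isIntegral (isCharacter_of_isIrr χ.2) x)).mul
      (isIntegral_natCast _)
  have heq : ((nC * L : ℕ) : ℂ) = (p : ℂ) ^ c * w := by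
    have h1 : k * k * ((nC * L : ℕ) : ℂ) = k * k * ((p : ℂ) ^ c * w) := by
      calc k * k * ((nC * L : ℕ) : ℂ) = (L : ℂ) * (k * (Nat.card G : ℂ)) := by rw [hC]; push_cast; ring
        _ = _ := by
          rw [← key, Finset.mul_sum, Finset.mul_sum, Finset.mul_sum]
          refine Finset.sum_congr rfl fun χ _ => ?_
          obtain ⟨e, he⟩ : charDegree (χ : G → ℂ) ∣ L := Finset.dvd_lcm (Finset.mem_univ χ)
          rw [he, Nat.mul_div_cancel_left _ (charDegree_pos χ.2), centralChar, irr_one_eq χ.2]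
          have hd : (charDegree (χ : G → ℂ) : ℂ) ≠ 0 := Nat.cast_ne_zero.mpr (charDegree_pos χ.2).ne'
          simp only [k]
          push_cast
          field_simp
    exact mul_left_cancel₀ (mul_ne_zero hk0 hk0) h1
  have hdvd : p ^ c ∣ nC * L := by
    obtain ⟨j, hj⟩ := exists_int_of_isIntegral_rat hw (((nC * L : ℕ) : ℚ) / (p : ℚ) ^ c) (by
      have hp' : ((p : ℂ)) ^ c ≠ 0 := pow_ne_zero _ (Nat.cast_ne_zero.mpr hp.ne_zero)
      push_cast at heq ⊢
      rw [heq]; field_simp)
    refine Int.natCast_dvd_natCast.mp ⟨j, ?_⟩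
    have h2 : ((nC * L : ℕ) : ℂ) = (((p : ℤ) ^ c * j : ℤ) : ℂ) := by rw [heq, hj]; push_cast; ring
    push_cast
    exact_mod_cast h2
  rw [Nat.Prime.pow_dvd_iff_le_factorization hp (mul_ne_zero Nat.card_pos.ne' hL0),
    Nat.factorization_mul Nat.card_pos.ne' hL0, Finsupp.add_apply, ha] at hdvd
  have hLp : L.factorization p < c - a := by
    by_contra hge
    push Not at hge
    have hd : p ^ (c - a) ∣ L :=
      (Nat.Prime.pow_dvd_iff_le_factorization hp hL0).mpr hge
    have key : ∀ T : Finset (IrrCharacter G),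
        ¬ p ^ (c - a) ∣ T.lcm (fun χ : IrrCharacter G => charDegree (χ : G → ℂ)) := by
      intro T
      induction T using Finset.induction with
      | empty =>
        rw [Finset.lcm_empty, Nat.dvd_one]
        exact (Nat.one_lt_pow (by omega) hp.one_lt).ne'
      | insert χ T _ ih =>
        rw [Finset.lcm_insert]
        intro h
        have hne : T.lcm (fun χ : IrrCharacter G => charDegree (χ : G → ℂ)) ≠ 0 := by
          simp only [Ne, Finset.lcm_eq_zero_iff]
          push Not
          exact fun ψ _ => (charDegree_pos ψ.2).ne'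
        have h' : p ^ (c - a) ∣ Nat.lcm (charDegree (χ : G → ℂ))
            (T.lcm (fun χ : IrrCharacter G => charDegree (χ : G → ℂ))) := h
        rw [Nat.Prime.pow_dvd_iff_le_factorization hp (Nat.lcm_ne_zero (charDegree_pos χ.2).ne' hne),
          Nat.factorization_lcm (charDegree_pos χ.2).ne' hne, Finsupp.sup_apply] at h'
        rcases le_sup_iff.mp h' with h1 | h1
        · exact hno χ ((Nat.Prime.pow_dvd_iff_le_factorization hp (charDegree_pos χ.2).ne').mpr h1)
        · exact ih ((Nat.Prime.pow_dvd_iff_le_factorization hp hne).mpr h1)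
    exact key _ hd
  omega

end Cfsg.Agent.S4740
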