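import Cfsg.Statements.S4741
import Cfsg.Agent.Blk.Rank

set_option autoImplicit false
open Cfsg

namespace Cfsg.Agent.S4741

/-- Let p be a prime, M a maximal ideal of the algebraic integers containing p, and D a subgroup of the finite group G. Let x₁, …, x_r be pairwise non-conjugate elements of G such that D is a Sylow p-subgroup of the centralizer of each xᵢ, and such that for any conjugates g of some xᵢ and h of some xⱼ the element g h⁻¹ is never a non-identity p-element. Then there are r distinct p-blocks B₁, …, B_r of G, each having D as a defect group, such that for every choice of characters χᵢ ∈ Bᵢ of height zero the determinant of the r × r matrix (χᵢ(xⱼ)) does not lie in the local ideal at M. -/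
theorem result {G : Type*} [Group G] [Finite G] (p : ℕ) [Fact p.Prime] (M : Ideal Cfsg.AlgInt) (hM : Cfsg.IsPModular p M) (D : Subgroup G) {r : ℕ} (x : Fin r → G) (hx : ∀ i j : Fin r, IsConj (x i) (x j) → i = j) (hD : ∀ i : Fin r, ∃ S : Sylow p ↥(Subgroup.centralizer ({x i} : Set G)), (S : Subgroup ↥(Subgroup.centralizer ({x i} : Set G))).map (Subgroup.centralizer ({x i} : Set G)).subtype = D) (hsep : ∀ i j : Fin r, ∀ g h : G, IsConj (x i) g → IsConj (x j) h → ∀ k : ℕ, 0 < k → orderOf (g * h⁻¹) ≠ p ^ k) : ∃ B : Fin r → Set (Cfsg.IrrCharacter G), Function.Injective B ∧ (∀ i : Fin r, Cfsg.IsPBlock M (B i) ∧ Cfsg.IsDefectGroup p M (B i) D) ∧ ∀ χ : Fin r → Cfsg.IrrCharacter G, (∀ i : Fin r, χ i ∈ B i ∧ Cfsg.blockHeight p (B i) (χ i : G → ℂ) = 0) → ¬ Cfsg.MemLocalIdeal M (Matrix.det (Matrix.of fun i j : Fin r => (χ i : G → ℂ) (x j))) := by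
  haveI := CfsgLib.Blk.IsPModular.isPrime hM
  classical
  haveI := Fintype.ofFinite G
  have hD' : ∀ i : Fin r, CfsgLib.Blk.IsSylowIn p D (Subgroup.centralizer ({x i} : Set G)) :=
    fun i => CfsgLib.Blk.exists_sylow_map_eq_iff.1 (hD i)
  let K := CfsgLib.Blk.Res M
  let v : IrrCharacter G → (Fin r → K) := fun χ j =>
    CfsgLib.Blk.red M (centralChar (χ : G → ℂ) (x j))
  let s : Set (Fin r → K) :=
    v '' {χ | IsDefectGroup p M (blockOf M (χ : G → ℂ)) D}
  have hspan : Submodule.span K s = ⊤ := by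
    by_contra hne
    obtain ⟨f, hf, hle⟩ := Submodule.exists_le_ker_of_lt_top _ (lt_top_iff_ne_top.2 hne)
    have h0 := CfsgLib.Blk.eq_zero_of_forall_omega hM hx hD' hsep
      (fun j => f (Pi.single j 1)) fun χ hχ => by
        have h1 : f (v χ) = 0 := hle (Submodule.subset_span ⟨χ, hχ, rfl⟩)
        rw [pi_eq_sum_univ (v χ), map_sum] at h1
        rw [← h1]
        refine Finset.sum_congr rfl fun j _ => ?_
        rw [map_smul, smul_eq_mul, mul_comm]
        congr 2
        funext l
        simp [Pi.single_apply, eq_comm]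
    refine hf (LinearMap.ext fun w => ?_)
    rw [pi_eq_sum_univ w, map_sum, LinearMap.zero_apply]
    refine Finset.sum_eq_zero fun j _ => ?_
    have e : f (fun l => if j = l then (1 : K) else 0) = 0 := by
      have h1 : f (Pi.single j 1) = 0 := congrFun h0 j
      rwa [show (fun l => if j = l then (1 : K) else 0) = Pi.single j 1 from by
        funext l; simp [Pi.single_apply, eq_comm]]
    rw [map_smul, e, smul_zero]
  obtain ⟨b, hbs, hbspan, hbli⟩ := exists_linearIndependent K s
  rw [hspan] at hbspan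
  let bas : Module.Basis b K (Fin r → K) :=
    Module.Basis.mk hbli (by rw [Subtype.range_coe, hbspan])
  let e : Fin r ≃ b := ((Pi.basisFun K (Fin r)).indexEquiv bas)
  have hv : ∀ i : Fin r, ∃ χ : IrrCharacter G,
      IsDefectGroup p M (blockOf M (χ : G → ℂ)) D ∧ v χ = (e i : Fin r → K) :=
    fun i => hbs (e i).2
  choose f hfD hfv using hv
  refine ⟨fun i => blockOf M (f i : G → ℂ), ?_, fun i => ⟨CfsgLib.Blk.blockOf_isPBlock _, hfD i⟩,
    fun χ hχ => ?_⟩
  · intro i j hij
    refine e.injective (Subtype.ext ?_)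
    rw [← hfv i, ← hfv j]
    funext l
    exact (CfsgLib.Blk.sameBlock_iff_red (f i).2 (f j).2).1 (CfsgLib.Blk.blockOf_eq_iff.1 hij) (x l)
  -- scale the character values to central characters
  have hval : ∀ i j, ∃ hm : (χ i : G → ℂ) (x j) ∈ CfsgLib.Blk.locRing M, True := fun i j =>
    ⟨CfsgLib.Blk.irr_mem _ _, trivial⟩
  obtain ⟨d, hd⟩ : ∃ d, Nat.card D = p ^ d ∨ r = 0 := by
    rcases Nat.eq_zero_or_pos r with h | h
    · exact ⟨0, Or.inr h⟩
    · obtain ⟨d, hd⟩ := IsPGroup.iff_card.1 (hD' ⟨0, h⟩).isPGroup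
      exact ⟨d, Or.inl hd⟩
  rcases hd with hd | rfl
  swap
  · rw [Matrix.det_fin_zero]
    exact CfsgLib.Blk.not_memLocalIdeal_one
  choose m hm hidx using fun j => CfsgLib.Blk.index_centralizer_eq (hD' j) hd
  choose n hn hnp using fun i => CfsgLib.Blk.exists_deg_eq (p := p) (χ i).2
  have hentry : ∀ i j, CfsgLib.Blk.red M ((χ i : G → ℂ) (x j)) =
      (n i : K) * ((e i : Fin r → K) j * ((m j : K))⁻¹) := by
    intro i j
    have hB := CfsgLib.Blk.blockOf_isPBlock (M := M) (f i)
    have hhh := CfsgLib.Blk.degExp_eq_height_add hM hB (hχ i).1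
    rw [(hχ i).2, add_zero] at hhh
    have hdd := CfsgLib.Blk.card_defectGroup hM hB (hfD i)
    rw [hd] at hdd
    rw [← Nat.pow_right_injective (Fact.out : p.Prime).two_le hdd] at hhh
    have hn0 := CfsgLib.Blk.natCast_ne_zero_of_not_dvd (hnp i)
    have hm0 := CfsgLib.Blk.natCast_ne_zero_of_not_dvd (hm j)
    have hp0 := CfsgLib.Blk.prime_cast_ne_zero (p := p)
    have key : (m j : ℂ) * (χ i : G → ℂ) (x j) = (n i : ℂ) * centralChar (χ i : G → ℂ) (x j) := by
      rw [centralChar, hidx j, hn i, hhh]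
      push_cast
      field_simp
    have h1 := congrArg (CfsgLib.Blk.red M) key
    rw [CfsgLib.Blk.red_mul (natCast_mem _ _) (CfsgLib.Blk.irr_mem _ _),
      CfsgLib.Blk.red_mul (natCast_mem _ _) (CfsgLib.Blk.centralChar_mem (χ i).2 _),
      CfsgLib.Blk.red_natCast, CfsgLib.Blk.red_natCast] at h1
    have hmK : (m j : K) ≠ 0 := by
      rw [← CfsgLib.Blk.red_natCast, ne_eq, CfsgLib.Blk.red_eq_zero_iff (natCast_mem _ _),
        CfsgLib.Blk.natCast_memLocalIdeal_iff hM]
      exact hm j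
    have h2 : CfsgLib.Blk.red M (centralChar (χ i : G → ℂ) (x j)) = (e i : Fin r → K) j := by
      rw [← hfv i]
      exact ((CfsgLib.Blk.sameBlock_iff_red (f i).2 (χ i).2).1 (hχ i).1 (x j)).symm
    rw [h2] at h1
    field_simp
    linear_combination h1
  let W : Matrix (Fin r) (Fin r) (CfsgLib.Blk.locRing M) :=
    Matrix.of fun i j => ⟨(χ i : G → ℂ) (x j), CfsgLib.Blk.irr_mem _ _⟩
  have hW : (Matrix.of fun i j : Fin r => (χ i : G → ℂ) (x j)) =
      W.map (CfsgLib.Blk.locRing M).subtype := rfl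
  rw [hW, ← RingHom.mapMatrix_apply, ← RingHom.map_det]
  intro hmem
  have h3 : IsLocalRing.residue (CfsgLib.Blk.locRing M) W.det = 0 :=
    (CfsgLib.Blk.residue_eq_zero_iff _).2 hmem
  rw [RingHom.map_det, RingHom.mapMatrix_apply] at h3
  have h4 : W.map (IsLocalRing.residue (CfsgLib.Blk.locRing M)) =
      Matrix.diagonal (fun i => (n i : K)) * (Matrix.of fun i j => (e i : Fin r → K) j) *
        Matrix.diagonal (fun j => ((m j : K))⁻¹) := by
    ext i j
    rw [Matrix.mul_diagonal, Matrix.diagonal_mul, Matrix.map_apply, mul_assoc]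
    exact (CfsgLib.Blk.red_coe _).symm.trans (hentry i j)
  rw [h4, Matrix.det_mul, Matrix.det_mul, Matrix.det_diagonal, Matrix.det_diagonal, mul_eq_zero,
    mul_eq_zero] at h3
  have hK : ∀ a : ℕ, ¬ p ∣ a → (a : K) ≠ 0 := fun a ha => by
    rw [← CfsgLib.Blk.red_natCast, ne_eq, CfsgLib.Blk.red_eq_zero_iff (natCast_mem _ _),
      CfsgLib.Blk.natCast_memLocalIdeal_iff hM]
    exact ha
  rcases h3 with (h | h) | h
  · obtain ⟨i, -, hi⟩ := Finset.prod_eq_zero_iff.1 h
    exact hK _ (hnp i) hi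
  · refine ((Matrix.isUnit_iff_isUnit_det _).1 (Matrix.linearIndependent_rows_iff_isUnit.1 ?_)).ne_zero h
    exact hbli.comp e e.injective
  · obtain ⟨j, -, hj⟩ := Finset.prod_eq_zero_iff.1 h
    exact inv_ne_zero (hK _ (hm j)) hj

end Cfsg.Agent.S4741
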