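import Cfsg.Statements.S4742
import Cfsg.Agent.Blk.NoTwoP

set_option autoImplicit false
open Cfsg

namespace Cfsg.Agent.S4742

/-- Let p ≠ q be primes dividing the order of the finite group G, and suppose the centralizer of every non-identity p-element of G has order prime to q. Then either G has an irreducible character of p-defect zero, or for every non-identity q-element z of G there are conjugates g, h of z such that g h⁻¹ is a non-identity p-element. -/
theorem result {G : Type*} [Group G] [Finite G] (p q : ℕ) [Fact p.Prime] [Fact q.Prime] (hppq : p ≠ q) (hpG : p ∣ Nat.card G) (hqG : q ∣ Nat.card G) (hC : ∀ g : G, g ≠ 1 → (∃ k : ℕ, orderOf g = p ^ k) → ¬ q ∣ Nat.card ↥(Subgroup.centralizer ({g} : Set G))) : (∃ χ : Cfsg.IrrCharacter G, (Cfsg.charDegree (χ : G → ℂ)).factorization p = (Nat.card G).factorization p) ∨ ∀ z : G, z ≠ 1 → (∃ k : ℕ, orderOf z = q ^ k) → ∃ g h : G, IsConj z g ∧ IsConj z h ∧ g * h⁻¹ ≠ 1 ∧ ∃ k : ℕ, orderOf (g * h⁻¹) = p ^ k := by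
  classical
  haveI := Fintype.ofFinite G
  have hp : p.Prime := Fact.out
  have hq : q.Prime := Fact.out
  by_cases hdz : ∃ χ : IrrCharacter G,
      (charDegree (χ : G → ℂ)).factorization p = (Nat.card G).factorization p
  · exact Or.inl hdz
  refine Or.inr fun z hz1 ⟨k, hk⟩ => ?_
  by_contra! hno
  refine hdz (CfsgLib.Blk.exists_defect_zero_of_separated (z := z) ?_ fun g h hg hh j hj he => ?_)
  · intro hdvd
    obtain ⟨v, hv⟩ := exists_prime_orderOf_dvd_card' p hdvd
    rw [← Subgroup.orderOf_coe] at hv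
    have hk0 : k ≠ 0 := fun h0 => hz1 (orderOf_eq_one_iff.1 (by rw [hk, h0, pow_zero]))
    refine hC (v : G) (fun e => hp.ne_one (by rw [← hv, e, orderOf_one])) ⟨1, by rw [hv, pow_one]⟩ ?_
    refine (dvd_pow_self q hk0).trans (hk ▸ Subgroup.orderOf_dvd_natCard _ ?_)
    exact Subgroup.mem_centralizer_singleton_iff.2
      (Subgroup.mem_centralizer_singleton_iff.1 v.2).symm
  · refine hno g h hg hh (fun e => ?_) j he
    rw [e, orderOf_one] at he
    exact (Nat.one_lt_pow hj.ne' hp.one_lt).ne he

end Cfsg.Agent.S4742
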