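import Cfsg.Statements.S4743
import Cfsg.Agent.S4742
-- import your own Cfsg.Agent.* helpers here

set_option autoImplicit false
open Cfsg

namespace Cfsg.Agent.S4743

theorem conj_quot {G : Type*} [Group G] {L : Subgroup G} [L.Normal] {z g h : G} (hz : z ∈ L)
    (hg : IsConj z g) (hh : IsConj z h) : g * h⁻¹ ∈ L := by
  obtain ⟨a, rfl⟩ := isConj_iff.1 hg
  obtain ⟨b, rfl⟩ := isConj_iff.1 hh
  exact mul_mem (Subgroup.Normal.conj_mem inferInstance z hz a) (inv_mem (Subgroup.Normal.conj_mem inferInstance z hz b))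

theorem no_prime_side {G : Type*} [Group G] [Finite G] (p q : ℕ) [Fact p.Prime] [Fact q.Prime]
    (L : Subgroup G) [L.Normal] (hq : q ∣ Nat.card L) (hp : ¬ p ∣ Nat.card L)
    (h : ∀ z : G, z ≠ 1 → (∃ k : ℕ, orderOf z = q ^ k) → ∃ g h : G, IsConj z g ∧ IsConj z h ∧ g * h⁻¹ ≠ 1 ∧ ∃ k : ℕ, orderOf (g * h⁻¹) = p ^ k) :
    False := by
  obtain ⟨z, hz⟩ := exists_prime_orderOf_dvd_card' q hq
  obtain ⟨g, h', hg, hh, hne, k, hk⟩ := h (z : G) (fun e => by
    rw [← Subgroup.orderOf_coe, e, orderOf_one] at hz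
    exact (Fact.out : q.Prime).one_lt.ne hz) ⟨1, by rw [Subgroup.orderOf_coe, hz, pow_one]⟩
  have hm : g * h'⁻¹ ∈ L := conj_quot z.2 hg hh
  rcases Nat.eq_zero_or_pos k with rfl | hk0
  · exact hne (orderOf_eq_one_iff.1 (by simpa using hk))
  · refine hp ((hk ▸ dvd_pow_self p hk0.ne').trans ?_)
    rw [← Subgroup.orderOf_mk _ hm]
    exact orderOf_dvd_natCard _

theorem core {G : Type*} [Group G] [Finite G] (p q : ℕ) [Fact p.Prime] [Fact q.Prime] (hne : p ≠ q)
    (hpG : p ∣ Nat.card G) (hsolv : Cfsg.IsPSolvable p G)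
    (h1 : ∀ z : G, z ≠ 1 → (∃ k : ℕ, orderOf z = q ^ k) → ∃ g h : G, IsConj z g ∧ IsConj z h ∧ g * h⁻¹ ≠ 1 ∧ ∃ k : ℕ, orderOf (g * h⁻¹) = p ^ k)
    (h2 : ∀ z : G, z ≠ 1 → (∃ k : ℕ, orderOf z = p ^ k) → ∃ g h : G, IsConj z g ∧ IsConj z h ∧ g * h⁻¹ ≠ 1 ∧ ∃ k : ℕ, orderOf (g * h⁻¹) = q ^ k) :
    False := by
  classical
  have hp : p.Prime := Fact.out
  have hq : q.Prime := Fact.out
  obtain ⟨n, H, h0, hlast, hmono, hHn, hstep⟩ := hsolv
  have key : ∀ i : Fin (n + 1), ¬ p ∣ Nat.card (H i) ∧ ¬ q ∣ Nat.card (H i) := by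
    intro i
    induction i using Fin.induction with
    | zero => rw [h0, Subgroup.card_bot]; exact ⟨hp.not_dvd_one, hq.not_dvd_one⟩
    | succ i ih =>
      haveI := hHn i.succ
      have hle : H i.castSucc ≤ H i.succ := hmono i.castSucc_le_succ
      have hc : (H i.castSucc).relIndex (H i.succ) * Nat.card (H i.castSucc) = Nat.card (H i.succ) := by
        rw [Subgroup.relIndex, mul_comm, ← Nat.card_congr (Subgroup.subgroupOfEquivOfLe hle).toEquiv,
          Subgroup.card_mul_index]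
      by_cases hpd : p ∣ Nat.card (H i.succ)
      · refine (no_prime_side q p (H i.succ) hpd ?_ h2).elim
        rw [← hc]
        intro hqd
        rcases (Nat.Prime.dvd_mul hq).1 hqd with hd | hd
        · rcases hstep i with ⟨m, hm⟩ | hm
          · exact hne ((Nat.prime_dvd_prime_iff_eq hq hp).1 (hq.dvd_of_dvd_pow (hm ▸ hd))).symm
          · rw [← hc] at hpd
            rcases (Nat.Prime.dvd_mul hp).1 hpd with hd' | hd'
            · exact (hp.coprime_iff_not_dvd.1 hm.symm) hd'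
            · exact ih.1 hd'
        · exact ih.2 hd
      · refine ⟨hpd, fun hqd => ?_⟩
        exact no_prime_side p q (H i.succ) hqd hpd h1
  exact (key (Fin.last n)).1 (by rw [hlast, Subgroup.card_top]; exact hpG)

end Cfsg.Agent.S4743

namespace Cfsg.Agent.S4743

/-- Let p ≠ q be primes dividing the order of the finite group G, suppose the centralizer of every non-identity p-element has order prime to q, and suppose G is p-solvable or q-solvable. Then G has an irreducible character of p-defect zero or an irreducible character of q-defect zero. -/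
theorem result {G : Type*} [Group G] [Finite G] (p q : ℕ) [Fact p.Prime] [Fact q.Prime] (hppq : p ≠ q) (hpG : p ∣ Nat.card G) (hqG : q ∣ Nat.card G) (hC : ∀ g : G, g ≠ 1 → (∃ k : ℕ, orderOf g = p ^ k) → ¬ q ∣ Nat.card ↥(Subgroup.centralizer ({g} : Set G))) (hsolv : Cfsg.IsPSolvable p G ∨ Cfsg.IsPSolvable q G) : (∃ χ : Cfsg.IrrCharacter G, (Cfsg.charDegree (χ : G → ℂ)).factorization p = (Nat.card G).factorization p) ∨ (∃ χ : Cfsg.IrrCharacter G, (Cfsg.charDegree (χ : G → ℂ)).factorization q = (Nat.card G).factorization q) := by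
  classical
  have hp : p.Prime := Fact.out
  have hq : q.Prime := Fact.out
  have hC' : ∀ g : G, g ≠ 1 → (∃ k : ℕ, orderOf g = q ^ k) → ¬ p ∣ Nat.card ↥(Subgroup.centralizer ({g} : Set G)) := by
    intro g hg ⟨k, hk⟩ hd
    obtain ⟨x, hx⟩ := exists_prime_orderOf_dvd_card' p hd
    have hx1 : (x : G) ≠ 1 := fun e => by
      rw [← Subgroup.orderOf_coe, e, orderOf_one] at hx; exact hp.one_lt.ne hx
    refine hC (x : G) hx1 ⟨1, by rw [Subgroup.orderOf_coe, hx, pow_one]⟩ ?_
    have hgm : g ∈ Subgroup.centralizer ({(x : G)} : Set G) :=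
      Subgroup.mem_centralizer_singleton_iff.2 (Subgroup.mem_centralizer_singleton_iff.1 x.2).symm
    rcases Nat.eq_zero_or_pos k with rfl | hk0
    · exact absurd (orderOf_eq_one_iff.1 (by simpa using hk)) hg
    · refine (hk ▸ dvd_pow_self q hk0.ne').trans ?_
      rw [← Subgroup.orderOf_mk g hgm]
      exact orderOf_dvd_natCard _
  rcases Cfsg.Agent.S4742.result p q hppq hpG hqG hC with h | h1
  · exact Or.inl h
  rcases Cfsg.Agent.S4742.result q p hppq.symm hqG hpG hC' with h | h2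
  · exact Or.inr h
  exfalso
  rcases hsolv with hs | hs
  · exact core p q hppq hpG hs h1 h2
  · exact core q p hppq.symm hqG hs h2 h1

end Cfsg.Agent.S4743
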