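import Cfsg.Statements.S4744
import Cfsg.Agent.Blk.NoTwoP

set_option autoImplicit false
open Cfsg

namespace Cfsg.Agent.S4744

/-- Let p be an odd prime and G a finite group of even order divisible by p in which the centralizer of every non-identity p-element has odd order. Then either G has an irreducible character of p-defect zero, or the normalizer of every Sylow p-subgroup P of G has even order and P is abelian. -/
theorem result {G : Type*} [Group G] [Finite G] (p : ℕ) [Fact p.Prime] (hp2 : p ≠ 2) (hpG : p ∣ Nat.card G) (h2G : 2 ∣ Nat.card G) (hC : ∀ g : G, g ≠ 1 → (∃ k : ℕ, orderOf g = p ^ k) → Odd (Nat.card ↥(Subgroup.centralizer ({g} : Set G)))) : (∃ χ : Cfsg.IrrCharacter G, (Cfsg.charDegree (χ : G → ℂ)).factorization p = (Nat.card G).factorization p) ∨ ∀ P : Sylow p G, Even (Nat.card ↥(Subgroup.normalizer ((P : Subgroup G) : Set G))) ∧ IsMulCommutative ↥(P : Subgroup G) := by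
  classical
  have h2p : ∀ g : G, orderOf g ≠ 2 * p := by
    intro g hg
    have hp : p.Prime := Fact.out
    have h1 : orderOf (g ^ 2) = p := by
      rw [orderOf_pow' _ two_ne_zero, hg, Nat.gcd_mul_right_left, Nat.mul_div_cancel_left _ two_pos]
    have hodd := hC (g ^ 2) (fun e => hp.ne_one (by rw [← h1, e, orderOf_one]))
      ⟨1, by rw [h1, pow_one]⟩
    have := hodd.of_dvd_nat (Subgroup.orderOf_dvd_natCard _
      (Subgroup.mem_centralizer_singleton_iff.2 (Commute.self_pow g 2).eq))
    rw [hg] at this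
    exact (Nat.not_even_iff_odd.2 this) ⟨p, by ring⟩
  rcases CfsgLib.Blk.defect_zero_or_inverted hp2 h2p with h | h
  · exact Or.inl h
  haveI : Fact (Nat.Prime 2) := ⟨Nat.prime_two⟩
  obtain ⟨z, hz⟩ := exists_prime_orderOf_dvd_card' (G := G) 2 h2G
  refine Or.inr fun P => ?_
  obtain ⟨g, hg, hgi⟩ := h z hz P
  refine ⟨?_, ⟨⟨fun a b => Subtype.ext (CfsgLib.Blk.commute_of_inverted hgi a a.2 b b.2)⟩⟩⟩
  have hgN : g ∈ Subgroup.normalizer ((P : Subgroup G) : Set G) := by
    rw [Subgroup.mem_normalizer_iff]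
    intro x
    refine ⟨fun hx => by rw [hgi x hx]; exact inv_mem hx, fun hx => ?_⟩
    have h1 := hgi _ hx
    have hgg : g * g = 1 := by
      obtain ⟨c, rfl⟩ := isConj_iff.1 hg
      have : z * z = 1 := by rw [← pow_two, ← hz, pow_orderOf_eq_one]
      calc c * z * c⁻¹ * (c * z * c⁻¹) = c * (z * z) * c⁻¹ := by group
        _ = 1 := by rw [this]; group
    rw [show g * (g * x * g⁻¹) * g⁻¹ = (g * g) * x * (g * g)⁻¹ by group, hgg] at h1
    have h2 : x = (g * x * g⁻¹)⁻¹ := by simpa using h1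
    rw [h2]
    exact inv_mem hx
  have hz2 : orderOf g = 2 := by
    obtain ⟨c, rfl⟩ := isConj_iff.1 hg
    rw [CfsgLib.Blk.isPPart_conj.orderOf_mulAut_conj, hz]
  exact even_iff_two_dvd.2 (hz2 ▸ Subgroup.orderOf_dvd_natCard _ hgN)

end Cfsg.Agent.S4744
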