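import Cfsg.Statements.S4746
import Cfsg.Agent.S4740
import Cfsg.Agent.Char.ModP
import Cfsg.Agent.Char.FrobeniusSchur
import Cfsg.Agent.Char.Classes

set_option autoImplicit false
open Cfsg

namespace Cfsg.Agent.S4746

open CfsgLib.Char
open scoped ComplexConjugate

/-- Let p be an odd prime and G a finite group of even order divisible by p in which the centralizer of every non-identity p-element has odd order. Then G has an irreducible character of p-defect zero or an irreducible character of even degree. -/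
theorem result {G : Type*} [Group G] [Finite G] (p : ℕ) [Fact p.Prime] (hp2 : p ≠ 2) (hpG : p ∣ Nat.card G) (h2G : 2 ∣ Nat.card G) (hC : ∀ g : G, g ≠ 1 → (∃ k : ℕ, orderOf g = p ^ k) → Odd (Nat.card ↥(Subgroup.centralizer ({g} : Set G)))) : (∃ χ : Cfsg.IrrCharacter G, (Cfsg.charDegree (χ : G → ℂ)).factorization p = (Nat.card G).factorization p) ∨ ∃ χ : Cfsg.IrrCharacter G, Even (Cfsg.charDegree (χ : G → ℂ)) := by
  classical
  haveI := Fintype.ofFinite G
  have hp : p.Prime := Fact.out
  obtain ⟨x, hx⟩ := exists_prime_orderOf_dvd_card' 2 h2G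
  obtain ⟨P⟩ : Nonempty (Sylow p G) := inferInstance
  have hPc : Nat.card (P : Subgroup G) = p ^ (Nat.card G).factorization p := P.card_eq_multiplicity
  by_cases hinv : ∀ g : G, IsConj x g → ∀ z ∈ (P : Subgroup G), z ≠ 1 → g * z * g⁻¹ ≠ z⁻¹
  · left
    have ha : (Nat.card ↥(Subgroup.centralizer ({x} : Set G))).factorization p = 0 := by
      rw [Nat.factorization_eq_zero_iff]
      refine Or.inr (Or.inl fun hdvd => ?_)
      obtain ⟨g, hg⟩ := exists_prime_orderOf_dvd_card' p hdvd
      have hg1 : (g : G) ≠ 1 := fun h => by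
        rw [show g = 1 from Subtype.ext h, orderOf_one] at hg
        exact hp.one_lt.ne hg
      have hodd := hC g hg1 ⟨1, by rw [Subgroup.orderOf_coe, hg, pow_one]⟩
      have hxm : x ∈ Subgroup.centralizer ({(g : G)} : Set G) := by
        rw [Subgroup.mem_centralizer_singleton_iff]
        exact (Subgroup.mem_centralizer_singleton_iff.mp g.2).symm
      have h2 := Subgroup.orderOf_dvd_natCard _ hxm
      rw [hx] at h2
      exact (Nat.not_even_iff_odd.mpr hodd) (even_iff_two_dvd.mpr h2)
    obtain ⟨χ, hχ⟩ := Cfsg.Agent.S4740.result p hp2 (even_iff_two_dvd.mpr h2G) x hx P _ hPc hinv 0 ha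
    refine ⟨χ, le_antisymm ?_ ?_⟩
    · exact (Nat.factorization_le_iff_dvd (charDegree_pos χ.2).ne' Nat.card_pos.ne').mpr
        (degree_dvd_card χ.2) p
    · rw [Nat.sub_zero] at hχ
      exact (hp.pow_dvd_iff_le_factorization (charDegree_pos χ.2).ne').mp hχ
  push Not at hinv
  obtain ⟨t, -, z, hzP, hz1, hzinv⟩ := hinv
  right
  by_contra hno
  push Not at hno
  simp only [Nat.not_even_iff_odd] at hno
  obtain ⟨j, hj⟩ := P.isPGroup'.exists_orderOf_eq_pow ⟨z, hzP⟩
  rw [Subgroup.orderOf_mk] at hj
  have hCodd := hC z hz1 ⟨j, hj⟩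
  -- exactly one square root
  set θ : G → ℂ := fun g => ((Finset.univ.filter fun s : G => s * s = g).card : ℂ) with hθ
  have hcl : IsClassFunction G θ := by
    intro g h
    simp only [hθ]
    congr 1
    refine Finset.card_equiv (MulAut.conj h⁻¹).toEquiv fun s => ?_
    simp only [Finset.mem_filter, Finset.mem_univ, true_and, MulEquiv.toEquiv_eq_coe,
      MulEquiv.coe_toEquiv, MulAut.conj_apply, inv_inv]
    constructor
    · intro hs
      rw [show h⁻¹ * s * h * (h⁻¹ * s * h) = h⁻¹ * (s * s) * h by group, hs]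
      group
    · intro hs
      rw [← hs]; group
  have hθz : θ z = 1 := by
    simp only [hθ]
    rw [Nat.cast_eq_one]
    set C := Subgroup.centralizer ({z} : Set G)
    have hcop : (Nat.card C).Coprime 2 := Nat.coprime_two_right.mpr hCodd
    have hzC : z ∈ C := Subgroup.mem_centralizer_singleton_iff.mpr rfl
    set u : C := (powCoprime hcop).symm ⟨z, hzC⟩
    have hu : u ^ 2 = ⟨z, hzC⟩ := (powCoprime hcop).apply_symm_apply _
    refine Finset.card_eq_one.mpr ⟨(u : G), ?_⟩
    ext s
    simp only [Finset.mem_filter, Finset.mem_univ, true_and, Finset.mem_singleton]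
    constructor
    · intro hs
      have hsC : s ∈ C := Subgroup.mem_centralizer_singleton_iff.mpr (by rw [← hs, mul_assoc])
      have h1 : powCoprime hcop ⟨s, hsC⟩ = powCoprime hcop u := by
        show (⟨s, hsC⟩ : C) ^ 2 = u ^ 2
        rw [hu]
        exact Subtype.ext (by simp [sq, hs])
      exact congrArg Subtype.val ((powCoprime hcop).injective h1)
    · rintro rfl
      have := congrArg Subtype.val hu
      simpa [sq] using this
  have hinner : ∀ χ : IrrCharacter G, classInner θ (χ : G → ℂ) = conj (fsInd (χ : G → ℂ)) := by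
    intro χ
    rw [classInner_def, fsInd, map_mul, map_inv₀, map_natCast, map_sum]
    congr 1
    have h1 : ∀ g : G, θ g * conj ((χ : G → ℂ) g) = ∑ s ∈ Finset.univ.filter (fun s : G => s * s = g),
        conj ((χ : G → ℂ) (s * s)) := fun g => by
      rw [Finset.sum_congr rfl fun s hs => by rw [(Finset.mem_filter.mp hs).2], Finset.sum_const,
        nsmul_eq_mul]
    rw [Finset.sum_congr rfl fun g _ => h1 g]
    exact Finset.sum_fiberwise Finset.univ (fun s : G => s * s) _
  have hexp := congrFun (classFun_eq_sum hcl) z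
  simp only [Finset.sum_apply, Pi.smul_apply, smul_eq_mul, hinner, hθz] at hexp
  set R := Finset.univ.filter (fun χ : IrrCharacter G => ∀ g, conj ((χ : G → ℂ) g) = (χ : G → ℂ) g)
  have hA : PCong 2 (∑ χ ∈ R, (χ : G → ℂ) z) 1 := by
    have h1 : ∀ χ : IrrCharacter G,
        PCong 2 (conj (fsInd (χ : G → ℂ)) * (χ : G → ℂ) z) (if χ ∈ R then (χ : G → ℂ) z else 0) := by
      intro χ
      obtain ⟨n, ρ, hirr, hρ⟩ := χ.2
      split_ifs with h
      · have hr : ∀ g, conj (ρ.character g) = ρ.character g := fun g => by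
          rw [hρ]; exact (Finset.mem_filter.mp h).2 g
        obtain ⟨-, -, -, -, hν | hν⟩ := fsInd_real ρ hirr hr
        · rw [← hρ, hν]; exact PCong.of_eq (by simp)
        · rw [← hρ, hν]
          exact ⟨-ρ.character z, (char_isIntegral ⟨n, ρ, rfl⟩ z).neg, by simp; ring⟩
      · have hr : ∃ g, conj (ρ.character g) ≠ ρ.character g := by
          rw [hρ]
          by_contra hc
          push Not at hc
          exact h (Finset.mem_filter.mpr ⟨Finset.mem_univ _, hc⟩)
        rw [← hρ, fsInd_eq_zero ρ hirr hr]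
        exact PCong.of_eq (by simp)
    have h2 := PCong.sum Finset.univ fun χ _ => h1 χ
    rw [← hexp, Finset.sum_ite_mem, Finset.univ_inter] at h2
    exact h2.symm
  -- column orthogonality modulo two
  set σ : Equiv.Perm (IrrCharacter G) :=
    { toFun := fun χ => ⟨_, irr_conj χ.2⟩
      invFun := fun χ => ⟨_, irr_conj χ.2⟩
      left_inv := fun χ => Subtype.ext (funext fun g => Complex.conj_conj _)
      right_inv := fun χ => Subtype.ext (funext fun g => Complex.conj_conj _) } with hσdef
  have hσ2 : σ ^ 2 = 1 := by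
    rw [sq]; exact Equiv.ext fun χ => σ.left_inv χ
  have hA2 : IsPGroup 2 (Subgroup.zpowers σ) := by
    obtain ⟨i, -, hi⟩ := (Nat.dvd_prime_pow Nat.prime_two).1
      (show orderOf σ ∣ 2 ^ 1 by simpa using orderOf_dvd_of_pow_eq_one hσ2)
    exact IsPGroup.of_card (n := i) (by rw [Nat.card_zpowers, hi])
  have hzreal : ∀ χ : IrrCharacter G, conj ((χ : G → ℂ) z) = (χ : G → ℂ) z := fun χ => by
    rw [← char_conj_eq (isCharacter_of_isIrr χ.2)]
    exact classFun_isConj (classFun_of_irr χ.2) (isConj_iff.mpr ⟨t, hzinv⟩).symm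
  let F : IrrCharacter G → ℂ := fun χ => (χ : G → ℂ) z * (χ : G → ℂ) 1
  have hFσ : ∀ χ, F (σ χ) = F χ := fun χ => by
    show conj ((χ : G → ℂ) z) * conj ((χ : G → ℂ) 1) = _
    rw [hzreal, irr_one_eq χ.2, Complex.conj_natCast]
    simp only [F, irr_one_eq χ.2]
  haveI : Fact (Nat.Prime 2) := ⟨Nat.prime_two⟩
  have hF : ∀ (a : Subgroup.zpowers σ) (χ : IrrCharacter G), F (a • χ) = F χ := by
    rintro ⟨a, i, rfl⟩ χ
    show F ((σ ^ i) χ) = F χ
    induction i using Int.induction_on generalizing χ with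
    | zero => simp
    | succ i ih => rw [zpow_add_one, Equiv.Perm.mul_apply, ih, hFσ]
    | pred i ih => rw [zpow_sub_one, Equiv.Perm.mul_apply, ih, ← hFσ (σ⁻¹ χ)]; simp
  have h3 := pcong_sum_fixed hA2 F hF fun χ =>
    (char_isIntegral (isCharacter_of_isIrr χ.2) z).mul (char_isIntegral (isCharacter_of_isIrr χ.2) 1)
  have horth : ∑ χ : IrrCharacter G, F χ = 0 := by
    have h := second_orth z 1
    rw [if_neg fun h => hz1 (isConj_one_right.mp h.symm)] at h
    rw [← h]
    exact Finset.sum_congr rfl fun χ _ => by simp [F, irr_one_eq χ.2]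
  have hfix : Finset.univ.filter (fun χ : IrrCharacter G => ∀ a : Subgroup.zpowers σ, a • χ = χ) = R := by
    ext χ
    simp only [R, Finset.mem_filter, Finset.mem_univ, true_and]
    constructor
    · intro h g
      exact congrFun (congrArg Subtype.val (h ⟨σ, Subgroup.mem_zpowers σ⟩)) g
    · intro h
      rintro ⟨a, i, rfl⟩
      show (σ ^ i) χ = χ
      exact Equiv.Perm.zpow_apply_eq_self_of_apply_eq_self (Subtype.ext (funext h)) i
  rw [horth] at h3
  replace h3 : PCong 2 0 (∑ χ ∈ R, F χ) := by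
    convert h3 using 2
    rw [← hfix]
    ext χ
    simp only [Finset.mem_filter]
  have h4 : PCong 2 (∑ χ ∈ R, F χ) (∑ χ ∈ R, (χ : G → ℂ) z) := by
    refine PCong.sum R fun χ _ => ?_
    obtain ⟨k, hk⟩ := hno χ
    refine ⟨(χ : G → ℂ) z * (k : ℂ),
      (char_isIntegral (isCharacter_of_isIrr χ.2) z).mul (isIntegral_natCast k), ?_⟩
    simp only [F, irr_one_eq χ.2, hk]
    push_cast
    ring
  have h5 : PCong 2 ((0 : ℤ) : ℂ) ((1 : ℤ) : ℂ) := by
    simpa using (h3.trans h4).trans hA
  have := PCong.int_modEq (by norm_num) h5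
  norm_num [Int.ModEq] at this

end Cfsg.Agent.S4746
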