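import Cfsg.Statements.S4748
import Cfsg.Agent.Char.Clifford
import Cfsg.Agent.Char.Burnside
import Cfsg.Agent.Blk.Contrib
import Cfsg.Agent.Perm.HallHigman
import Cfsg.Agent.Solv.Basic

set_option autoImplicit false
open scoped Pointwise
open Cfsg

namespace Cfsg.Agent.S4748

open CfsgLib.Char
open scoped ComplexConjugate
set_option linter.unusedSectionVars false
set_option linter.style.haveILetI false

theorem card_eq_mul_of_decomp {K : Type*} [Group K] [Finite K] (A B S : Subgroup K) (hAB : A ⊓ B = ⊥)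
    (hA : A ≤ S) (hB : B ≤ S) (h : ∀ s ∈ S, ∃ a ∈ A, ∃ b ∈ B, s = a * b) :
    Nat.card S = Nat.card A * Nat.card B := by
  rw [← Nat.card_prod]
  refine (Nat.card_eq_of_bijective
    (fun x : A × B => (⟨(x.1 : K) * x.2, S.mul_mem (hA x.1.2) (hB x.2.2)⟩ : S)) ⟨?_, ?_⟩).symm
  · intro x x' e
    have e1 : (x.1 : K) * x.2 = (x'.1 : K) * x'.2 := congrArg Subtype.val e
    have e2 : (x'.1 : K)⁻¹ * x.1 = x'.2 * (x.2 : K)⁻¹ := by
      rw [inv_mul_eq_iff_eq_mul, ← mul_assoc, ← e1, mul_inv_cancel_right]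
    have h1 : (x'.1 : K)⁻¹ * x.1 ∈ A ⊓ B :=
      ⟨A.mul_mem (A.inv_mem x'.1.2) x.1.2, e2 ▸ B.mul_mem x'.2.2 (B.inv_mem x.2.2)⟩
    rw [hAB, Subgroup.mem_bot] at h1
    have h2 : (x.1 : K) = x'.1 := (inv_mul_eq_one.1 h1).symm
    rw [h2, mul_right_inj] at e1
    exact Prod.ext (Subtype.ext h2) (Subtype.ext e1)
  · rintro ⟨s, hs⟩
    obtain ⟨a, ha, b, hb, e⟩ := h s hs
    exact ⟨(⟨a, ha⟩, ⟨b, hb⟩), Subtype.ext e.symm⟩

theorem sum_filter_mem {K : Type*} [Group K] [Fintype K] (S : Subgroup K) [Fintype S]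
    [DecidablePred (· ∈ S)] (F : K → ℂ) :
    ∑ x ∈ Finset.univ.filter (· ∈ S), F x = ∑ x : S, F (x : K) :=
  Finset.sum_subtype (Finset.univ.filter (· ∈ S)) (by simp) F

/-- A central element of the centralizer of a TI Sylow subgroup acts as a scalar in an irreducible
character of small degree. -/
theorem commutator_in_kernel {K : Type*} [Group K] [Fintype K] (p : ℕ) [Fact p.Prime]
    (L : Subgroup K) [hLn : L.Normal] (hL : (Nat.card L).Coprime p) (P : Subgroup K)
    (hP : IsPGroup p P) (hLP : ∀ k : K, ∃ l ∈ L, ∃ z ∈ P, k = l * z)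
    (hTI : ∀ g : K, g ∉ Subgroup.normalizer (P : Set K) → ∀ x ∈ P, g * x * g⁻¹ ∈ P → x = 1)
    {ψ : K → ℂ} (hψ : IsIrrCharacter K ψ) (hdeg : charDegree ψ ^ 2 ≤ Nat.card P)
    {y : K} (hy : y ∈ P) (hyc : ∀ z ∈ P, Commute y z) (g : K) :
    ψ (g * y * g⁻¹ * y⁻¹) = ψ 1 := by
  classical
  have hp : p.Prime := Fact.out
  obtain ⟨a, ha⟩ := IsPGroup.iff_card.1 hP
  have hcop : (Nat.card L).Coprime (Nat.card P) := ha ▸ hL.pow_right a
  have hLPb : L ⊓ P = ⊥ := Subgroup.inf_eq_bot_of_coprime hcop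
  set N := Subgroup.normalizer (P : Set K) with hN
  have hPN : P ≤ N := Subgroup.le_normalizer
  set C := L ⊓ N with hC
  have hcomm : ∀ c ∈ C, ∀ z ∈ P, Commute c z := by
    intro c hc z hz
    have h1 : c * z * c⁻¹ * z⁻¹ ∈ L ⊓ P := by
      refine ⟨?_, P.mul_mem ((Subgroup.mem_normalizer_iff.1 hc.2 z).1 hz) (P.inv_mem hz)⟩
      rw [show c * z * c⁻¹ * z⁻¹ = c * (z * c⁻¹ * z⁻¹) by group]
      exact L.mul_mem hc.1 (hLn.conj_mem _ (L.inv_mem hc.1) z)
    rw [hLPb, Subgroup.mem_bot, mul_inv_eq_one, mul_inv_eq_iff_eq_mul] at h1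
    exact h1
  have hNd : ∀ k ∈ N, ∃ c ∈ C, ∃ z ∈ P, k = c * z := by
    intro k hk
    obtain ⟨l, hl, z, hz, rfl⟩ := hLP k
    exact ⟨l, ⟨hl, by simpa using N.mul_mem hk (N.inv_mem (hPN hz))⟩, z, hz, rfl⟩
  have hyN : ∀ k ∈ N, Commute y k := by
    intro k hk
    obtain ⟨c, hc, z, hz, rfl⟩ := hNd k hk
    exact (hcomm c hc y hy).symm.mul_right (hyc z hz)
  have hcardK : Nat.card K = Nat.card L * Nat.card P := by
    rw [← Subgroup.card_top (G := K)]
    exact card_eq_mul_of_decomp L P ⊤ hLPb le_top le_top fun s _ => hLP s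
  have hcardN : Nat.card N = Nat.card C * Nat.card P :=
    card_eq_mul_of_decomp C P N (le_bot_iff.1 fun x hx => hLPb ▸ ⟨hx.1.1, hx.2⟩) inf_le_right hPN hNd
  have hidx : P.index = Nat.card L := by
    have h := Subgroup.card_mul_index P
    rw [hcardK, mul_comm (Nat.card L)] at h
    exact Nat.eq_of_mul_eq_mul_left Nat.card_pos h
  let PS : Sylow p K := hP.toSylow (by rw [hidx]; exact hp.coprime_iff_not_dvd.1 hL.symm)
  have hmem : ∀ x : K, (x ^ Nat.card L) ^ Nat.card P = 1 := by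
    intro x
    rw [← pow_mul, ← hcardK]
    exact pow_card_eq_one'
  have hne1 : ∀ x : K, x ∉ L → x ^ Nat.card L ≠ 1 := by
    intro x hx h
    obtain ⟨l, hl, z, hz, e⟩ := hLP x
    refine hx ((QuotientGroup.eq_one_iff x).1 (orderOf_eq_one_iff.1 (Nat.eq_one_of_dvd_coprimes hcop
      ((orderOf_map_dvd (QuotientGroup.mk' L) x).trans (orderOf_dvd_of_pow_eq_one h)) ?_)))
    have : (QuotientGroup.mk' L) x = QuotientGroup.mk' L z := by
      rw [e, map_mul, show (QuotientGroup.mk' L) l = 1 from (QuotientGroup.eq_one_iff l).2 hl, one_mul]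
    rw [show (x : K ⧸ L) = QuotientGroup.mk' L z from this]
    exact (orderOf_map_dvd _ z).trans (Subgroup.orderOf_dvd_natCard P hz)
  have hpow : ∀ h ∈ N, h ∉ L → h ^ Nat.card L ∈ P ∧ h ^ Nat.card L ≠ 1 := by
    intro h hh hhL
    refine ⟨?_, hne1 h hhL⟩
    obtain ⟨c, hc, z, hz, rfl⟩ := hNd h hh
    rw [(hcomm c hc z hz).mul_pow]
    have : c ^ Nat.card L = 1 := by
      exact (congrArg Subtype.val (pow_card_eq_one' (x := (⟨c, hc.1⟩ : L))) :)
    rw [this, one_mul]
    exact P.pow_mem hz _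
  set S := Finset.univ.filter (fun h : K => h ∈ N ∧ h ∉ L) with hS
  set T := Finset.univ.filter (fun x : K => x ∉ L) with hT
  have hfib : ∀ x ∈ T, ((Finset.univ ×ˢ S).filter (fun q : K × K => q.1 * q.2 * q.1⁻¹ = x)).card =
      Nat.card N := by
    intro x hx
    have hxL : x ∉ L := (Finset.mem_filter.1 hx).2
    obtain ⟨Q, hQ⟩ := (IsPGroup.of_card (p := p) (G := Subgroup.zpowers (x ^ Nat.card L))
      (n := Classical.choose ((Nat.dvd_prime_pow hp).1 (ha ▸ orderOf_dvd_of_pow_eq_one (hmem x))))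
      (by rw [Nat.card_zpowers]; exact (Classical.choose_spec ((Nat.dvd_prime_pow hp).1
        (ha ▸ orderOf_dvd_of_pow_eq_one (hmem x)))).2)).exists_le_sylow
    obtain ⟨t, ht⟩ := MulAction.exists_smul_eq K Q PS
    have ht' : t * x ^ Nat.card L * t⁻¹ ∈ P := by
      have : t * x ^ Nat.card L * t⁻¹ ∈ ((t • Q : Sylow p K) : Subgroup K) := by
        rw [Sylow.coe_subgroup_smul]
        exact CfsgLib.Solv.mem_conj_smul_iff.2 (by
          simpa [mul_assoc] using hQ (Subgroup.mem_zpowers _))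
      rw [ht] at this
      exact this
    set h0 := t * x * t⁻¹ with hh0
    have hh0L : h0 ∉ L := fun h => hxL (by simpa [hh0, mul_assoc] using hLn.conj_mem _ h t⁻¹)
    have hh0N : h0 ∈ N := by
      by_contra hh
      refine hne1 x hxL ?_
      have h1 := hTI h0 hh _ ht' (by
        rw [show h0 * (t * x ^ Nat.card L * t⁻¹) * h0⁻¹ = t * (x * x ^ Nat.card L * x⁻¹) * t⁻¹ by
          rw [hh0]; group, ← pow_succ', pow_succ, mul_inv_cancel_right]
        exact ht')
      simpa using h1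
    rw [Nat.card_eq_fintype_card (α := N)]
    refine Finset.card_bij' (t := (Finset.univ : Finset N))
      (fun q hq => (⟨t * q.1, ?_⟩ : N))
      (fun n _ => ((t⁻¹ * (n : K)), (n : K)⁻¹ * h0 * (n : K))) ?_ ?_ ?_ ?_
    · simp only [Finset.mem_filter, Finset.mem_product, hS, Finset.mem_univ, true_and] at hq
      obtain ⟨⟨hqN, hqL⟩, hqe⟩ := hq
      by_contra hh
      obtain ⟨hz1, hz2⟩ := hpow q.2 hqN hqL
      refine hz2 (hTI _ hh _ hz1 ?_)
      obtain ⟨hz3, -⟩ := hpow h0 hh0N hh0L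
      rw [hh0, ← hqe] at hz3
      rw [← conj_pow]
      convert hz3 using 2
      group
    · intro q hq
      exact Finset.mem_univ _
    · intro n _
      simp only [Finset.mem_filter, Finset.mem_product, hS, Finset.mem_univ, true_and]
      refine ⟨⟨N.mul_mem (N.mul_mem (N.inv_mem n.2) hh0N) n.2, fun h => hh0L ?_⟩, ?_⟩
      · simpa [mul_assoc] using hLn.conj_mem _ h (n : K)
      · rw [hh0]; group
    · intro q hq
      simp only [Finset.mem_filter, Finset.mem_product, hS, Finset.mem_univ, true_and] at hq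
      refine Prod.ext (by simp) ?_
      show (t * q.1)⁻¹ * h0 * (t * q.1) = q.2
      rw [hh0, ← hq.2]
      group
    · intro n _
      exact Subtype.ext (by simp)
  have hkey : ∀ F : K → ℂ, IsClassFunction K F →
      (Nat.card K : ℂ) * ∑ h ∈ S, F h = (Nat.card N : ℂ) * ∑ x ∈ T, F x := by
    intro F hF
    have h1 : ∑ q ∈ Finset.univ ×ˢ S, F (q.1 * q.2 * q.1⁻¹) = (Nat.card K : ℂ) * ∑ h ∈ S, F h := by
      rw [Finset.sum_product, Finset.sum_congr rfl fun (g : K) _ =>
        Finset.sum_congr rfl fun (h : K) _ => hF h g, Finset.sum_const, nsmul_eq_mul,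
        Finset.card_univ, Nat.card_eq_fintype_card]
    rw [← h1, ← Finset.sum_fiberwise_of_maps_to (g := fun q : K × K => q.1 * q.2 * q.1⁻¹) (t := T)
      (fun q hq => ?_), Finset.mul_sum]
    · refine Finset.sum_congr rfl fun x hx => ?_
      rw [Finset.sum_congr rfl (g := fun _ => F x) (fun q hq => by rw [(Finset.mem_filter.1 hq).2]),
        Finset.sum_const, nsmul_eq_mul, hfib x hx]
    · simp only [Finset.mem_product, hS, Finset.mem_filter] at hq
      refine Finset.mem_filter.2 ⟨Finset.mem_univ _, fun h => hq.2.2.2 ?_⟩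
      simpa [mul_assoc] using hLn.conj_mem _ h q.1⁻¹
  haveI : Fintype N := Fintype.ofFinite _
  haveI : Fintype L := Fintype.ofFinite _
  haveI : Fintype C := Fintype.ofFinite _
  let F : K → ℂ := fun x => ψ x * conj (ψ x)
  have hFc : IsClassFunction K F := fun x k => by
    simp only [F, classFun_of_irr hψ x k]
  have hψc := isCharacter_of_isIrr hψ
  obtain ⟨n, hn⟩ := inner_char_char (isCharacter_restrict N hψc) (isCharacter_restrict N hψc)
  obtain ⟨m, hm⟩ := inner_char_char (isCharacter_restrict L hψc) (isCharacter_restrict L hψc)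
  obtain ⟨k, hk⟩ := inner_char_char (isCharacter_restrict C hψc) (isCharacter_restrict C hψc)
  have eN : ∑ x : N, F x = (Nat.card N : ℂ) * n := by
    rw [← hn, classInner_def, mul_inv_cancel_left₀ (natCard_ne_zero _)]
  have eL : ∑ x : L, F x = (Nat.card L : ℂ) * m := by
    rw [← hm, classInner_def, mul_inv_cancel_left₀ (natCard_ne_zero _)]
  have eC : ∑ x : C, F x = (Nat.card C : ℂ) * k := by
    rw [← hk, classInner_def, mul_inv_cancel_left₀ (natCard_ne_zero _)]
  have eK : ∑ x : K, F x = (Nat.card K : ℂ) := by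
    have h := irr_inner_self hψ
    rw [classInner_def, inv_mul_eq_iff_eq_mul₀ (natCard_ne_zero _), mul_one] at h
    exact h
  have hsN : ∑ h ∈ S, F h = ∑ x : N, F x - ∑ x : C, F x := by
    rw [← sum_filter_mem N F, ← sum_filter_mem C F, eq_sub_iff_add_eq,
      ← Finset.sum_filter_add_sum_filter_not (Finset.univ.filter (· ∈ N)) (· ∈ L)]
    rw [Finset.filter_filter, Finset.filter_filter, add_comm]
    congr 1
    refine Finset.sum_congr (Finset.ext fun z => ?_) fun _ _ => rfl
    simp [hC, and_comm]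
  have hsK : ∑ x ∈ T, F x = ∑ x : K, F x - ∑ x : L, F x := by
    rw [← sum_filter_mem L F, eq_sub_iff_add_eq, add_comm, hT]
    exact Finset.sum_filter_add_sum_filter_not _ _ _
  have hid := hkey F hFc
  rw [hsN, hsK, eN, eC, eK, eL, hcardK, hcardN] at hid
  push_cast at hid
  have hid2 : ((n : ℂ) - 1) * (Nat.card P : ℂ) = (k : ℂ) - m := by
    have h1 : (Nat.card L : ℂ) * Nat.card C * Nat.card P ≠ 0 := by
      exact_mod_cast (Nat.mul_pos (Nat.mul_pos Nat.card_pos Nat.card_pos) Nat.card_pos).ne'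
    refine mul_left_cancel₀ h1 ?_
    linear_combination hid
  have hid3 : ((n : ℤ) - 1) * (Nat.card P : ℤ) = (k : ℤ) - m := by exact_mod_cast hid2
  have hd0 := charDegree_pos hψ
  have hk1 : k ≤ charDegree ψ ^ 2 := by
    have h1 : ‖∑ x : C, F x‖ ≤ (Nat.card C : ℝ) * (charDegree ψ : ℝ) ^ 2 := by
      refine (norm_sum_le _ _).trans ?_
      refine (Finset.sum_le_sum (g := fun _ => (charDegree ψ : ℝ) ^ 2) fun x _ => ?_).trans ?_
      · simp only [F, norm_mul, Complex.norm_conj, sq]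
        exact mul_le_mul (char_norm_le hψc _) (char_norm_le hψc _) (norm_nonneg _) (Nat.cast_nonneg _)
      · rw [Finset.sum_const, nsmul_eq_mul, Finset.card_univ, Nat.card_eq_fintype_card]
    rw [eC, norm_mul, Complex.norm_natCast, Complex.norm_natCast] at h1
    exact_mod_cast le_of_mul_le_mul_left h1 (by exact_mod_cast Nat.card_pos)
  have hpos : ∀ (H : Subgroup K) [Fintype H] (j : ℕ),
      classInner (fun x : H => ψ x) (fun x : H => ψ x) = (j : ℂ) → 1 ≤ j := by
    intro H _ j hj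
    rcases Nat.eq_zero_or_pos j with rfl | h
    · rw [classInner_def, Nat.cast_zero, mul_eq_zero] at hj
      have h2 := congrArg Complex.re (hj.resolve_left (inv_ne_zero (natCard_ne_zero _)))
      simp only [Complex.re_sum, Complex.mul_conj, Complex.ofReal_re, Complex.zero_re] at h2
      have h3 := (Finset.sum_eq_zero_iff_of_nonneg fun x _ => Complex.normSq_nonneg _).1 h2 1
        (Finset.mem_univ _)
      exact absurd (Complex.normSq_eq_zero.1 h3) (irr_one_ne_zero hψ)
    · exact h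
  have hn0 := hpos N n hn
  have hm0 := hpos L m hm
  have hn1 : n = 1 := by
    by_contra hne
    have hn2 : (1 : ℤ) ≤ (n : ℤ) - 1 := by omega
    have h2 := mul_le_mul_of_nonneg_right hn2 (Nat.cast_nonneg (Nat.card P) : (0 : ℤ) ≤ Nat.card P)
    have hk2 : (k : ℤ) ≤ Nat.card P := by exact_mod_cast hk1.trans hdeg
    omega
  have hirr : IsIrrCharacter N (fun x : N => ψ x) :=
    isIrr_of_char_norm (isCharacter_restrict N hψc) (by rw [hn, hn1, Nat.cast_one])
  obtain ⟨z, hz, hzm⟩ := CfsgLib.Blk.exists_central_scalar (⟨_, hirr⟩ : IrrCharacter N)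
    (y := ⟨y, hPN hy⟩) fun x => Subtype.ext (hyN x x.2).eq
  have hval : ψ y = z * ψ 1 := by simpa using hzm 1 1
  obtain ⟨d, ρ, hρi, rfl⟩ := hψ
  have hnorm : ‖ρ.character y‖ = (Module.finrank ℂ (Fin d → ℂ) : ℝ) := by
    rw [hval, norm_mul, norm_root (orderOf_pos _).ne' hz, one_mul, Representation.char_one,
      Complex.norm_natCast]
  obtain ⟨w, hw⟩ := rep_scalar_of_norm ρ y hnorm
  have hgy : ρ (g * y * g⁻¹) = ρ y := by
    rw [map_mul, map_mul, hw, ← Module.End.one_eq_id, mul_smul_comm, mul_one, smul_mul_assoc,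
      ← map_mul ρ g g⁻¹, mul_inv_cancel, map_one]
  have hc : ρ (g * y * g⁻¹ * y⁻¹) = ρ 1 := by
    rw [map_mul, hgy, ← map_mul, mul_inv_cancel]
  exact congrArg (fun f => LinearMap.trace ℂ _ f) hc


/-- Let G be a finite p-solvable group whose Sylow p-subgroup P meets each conjugate g P g⁻¹ with g outside N_G(P) trivially, and let χ be a faithful character of G (χ g = χ 1 only for g = 1) whose degree d satisfies d² ≤ |P|. Then P is normal in G. -/
theorem result {G : Type*} [Group G] [Finite G] (p : ℕ) [Fact p.Prime] (hsolv : Cfsg.IsPSolvable p G) (P : Sylow p G) (hTI : ∀ g : G, g ∉ Subgroup.normalizer ((P : Subgroup G) : Set G) → (P : Subgroup G) ⊓ (MulAut.conj g • (P : Subgroup G)) = ⊥) (χ : G → ℂ) (hχ : Cfsg.IsCharacter G χ) (hfaith : ∀ g : G, χ g = χ 1 → g = 1) (hdeg : Cfsg.charDegree χ ^ 2 ≤ Nat.card ↥(P : Subgroup G)) : (P : Subgroup G).Normal := by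
  classical
  have hp : p.Prime := Fact.out
  haveI := Fintype.ofFinite G
  by_contra hnn
  have hTI' : ∀ g : G, g ∉ Subgroup.normalizer ((P : Subgroup G) : Set G) →
      ∀ x ∈ (P : Subgroup G), g * x * g⁻¹ ∈ (P : Subgroup G) → x = 1 := by
    intro g hg x hx hx'
    have h1 : g * x * g⁻¹ ∈ (P : Subgroup G) ⊓ (MulAut.conj g • (P : Subgroup G)) :=
      ⟨hx', CfsgLib.Solv.mem_conj_smul_iff.2 (by simpa [mul_assoc] using hx)⟩
    rw [hTI g hg, Subgroup.mem_bot] at h1
    simpa using h1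
  haveI hOn := CfsgLib.Solv.pCore_normal G p
  have hO : pCore p G = ⊥ := by
    by_contra hne
    obtain ⟨x, hx, hx1⟩ : ∃ x ∈ pCore p G, x ≠ 1 := by
      by_contra hh
      push Not at hh
      exact hne ((Subgroup.eq_bot_iff_forall _).2 hh)
    refine hnn (Subgroup.normalizer_eq_top_iff.1 (top_le_iff.1 fun g _ => ?_))
    by_contra hg
    exact hx1 (hTI' g hg x (CfsgLib.Solv.pCore_le_sylow P hx)
      (CfsgLib.Solv.pCore_le_sylow P (hOn.conj_mem x hx g)))
  set L := pPrimeCore p G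
  haveI hLn : L.Normal := CfsgLib.Solv.pPrimeCore_normal G p
  have hPne : Nontrivial (P : Subgroup G) := by
    rw [Subgroup.nontrivial_iff_ne_bot]
    intro h
    exact hnn (h ▸ inferInstance)
  haveI := P.2.center_nontrivial
  obtain ⟨⟨y, hyc⟩, hy1⟩ := exists_ne (1 : Subgroup.center (P : Subgroup G))
  have hy1' : (y : G) ≠ 1 := fun h => hy1 (Subtype.ext (Subtype.ext h))
  have hcenter : ∀ z ∈ (P : Subgroup G), Commute (y : G) z := fun z hz =>
    (congrArg Subtype.val (Subgroup.mem_center_iff.1 hyc ⟨z, hz⟩)).symm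
  -- the element centralizes the core
  have hyL : ∀ l ∈ L, l * (y : G) = (y : G) * l := by
    intro l hl
    set K := L ⊔ (P : Subgroup G)
    have hLK : L ≤ K := le_sup_left
    have hPK : (P : Subgroup G) ≤ K := le_sup_right
    haveI : Fintype K := Fintype.ofFinite _
    have hχK := isCharacter_restrict K hχ
    obtain ⟨Kχ, -, hKχ, -⟩ := exists_kernel hχK
    have h : (fun x : K => χ x) (⟨l, hLK hl⟩ * ⟨y, hPK y.2⟩ * (⟨l, hLK hl⟩ : K)⁻¹ *
        (⟨y, hPK y.2⟩ : K)⁻¹) = (fun x : K => χ x) 1 := by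
      obtain ⟨hcl, hnat⟩ := isCharacter_iff.1 hχK
      rw [classFun_eq_sum hcl]
      simp only [Finset.sum_apply, Pi.smul_apply, smul_eq_mul]
      refine Finset.sum_congr rfl fun ψ _ => ?_
      by_cases h0 : classInner (fun x : K => χ x) (ψ : K → ℂ) = 0
      · rw [h0, zero_mul, zero_mul]
      congr 1
      refine commutator_in_kernel p (L.subgroupOf K) ?_ ((P : Subgroup G).subgroupOf K)
        (P.2.of_equiv (Subgroup.subgroupOfEquivOfLe hPK).symm) ?_ ?_ ψ.2 ?_
        (Subgroup.mem_subgroupOf.2 y.2)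
        (fun z hz => Subtype.ext (hcenter _ (Subgroup.mem_subgroupOf.1 hz)).eq) _
      · rw [Nat.card_congr (Subgroup.subgroupOfEquivOfLe hLK).toEquiv]
        exact CfsgLib.Solv.pPrimeCore_coprime G p
      · intro k
        obtain ⟨l', hl', z, hz, e⟩ := Subgroup.mem_sup_of_normal_left.1 k.2
        exact ⟨⟨l', hLK hl'⟩, Subgroup.mem_subgroupOf.2 hl', ⟨z, hPK hz⟩,
          Subgroup.mem_subgroupOf.2 hz, Subtype.ext e.symm⟩
      · intro g hg x hx hx'
        refine Subtype.ext (hTI' g (fun h => hg ?_) x (Subgroup.mem_subgroupOf.1 hx)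
          (by simpa using Subgroup.mem_subgroupOf.1 hx'))
        refine Subgroup.mem_normalizer_iff.2 fun z => ?_
        simp only [Subgroup.mem_subgroupOf, Subgroup.coe_mul, Subgroup.coe_inv]
        exact Subgroup.mem_normalizer_iff.1 h z
      · rw [Nat.card_congr (Subgroup.subgroupOfEquivOfLe hPK).toEquiv]
        refine le_trans (Nat.pow_le_pow_left ?_ 2) hdeg
        obtain ⟨c, hc⟩ := hnat ψ
        have hre : ∀ φ : IrrCharacter K, ∃ e : ℕ, classInner (fun x : K => χ x) (φ : K → ℂ) *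
            (φ : K → ℂ) 1 = (e : ℂ) := by
          intro φ
          obtain ⟨c', hc'⟩ := hnat φ
          exact ⟨c' * charDegree (φ : K → ℂ), by rw [hc', irr_one_eq φ.2, Nat.cast_mul]⟩
        choose e he using hre
        have h1 := congrFun (classFun_eq_sum hcl) 1
        simp only [Finset.sum_apply, Pi.smul_apply, smul_eq_mul, he, OneMemClass.coe_one,
          char_one_eq hχ, ← Nat.cast_sum, Nat.cast_inj] at h1
        rw [h1]
        refine le_trans ?_ (Finset.single_le_sum (fun φ _ => Nat.zero_le (e φ)) (Finset.mem_univ ψ))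
        have h2 := he ψ
        rw [hc, irr_one_eq ψ.2, ← Nat.cast_mul, Nat.cast_inj] at h2
        rw [← h2]
        refine Nat.le_mul_of_pos_left _ (Nat.pos_of_ne_zero fun h3 => h0 ?_)
        rw [hc, h3, Nat.cast_zero]
    have := hfaith _ (by simpa using h)
    rwa [mul_inv_eq_one, mul_inv_eq_iff_eq_mul] at this
  -- it lies in the `p`-core of the quotient
  haveI : Finite (G ⧸ L) := inferInstance
  have hq : QuotientGroup.mk' L (y : G) ∈ pCore p (G ⧸ L) := by
    refine CfsgLib.Perm.centralizer_pCore_le_of_pSolvable (CfsgLib.Perm.isPSolvable_quotient hsolv L)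
      CfsgLib.Solv.pPrimeCore_quotient_self ?_
    intro q hq
    obtain ⟨z, hz, rfl⟩ := CfsgLib.Solv.pCore_le_sylow
      (P.mapSurjective (QuotientGroup.mk'_surjective L)) hq
    rw [← map_mul, ← map_mul, (hcenter z hz).eq]
  haveI := CfsgLib.Solv.pCore_normal (G ⧸ L) p
  haveI : (Subgroup.centralizer (L : Set G)).Normal := Subgroup.normal_centralizer
  set D := (pCore p (G ⧸ L)).comap (QuotientGroup.mk' L) ⊓ Subgroup.centralizer (L : Set G)
  have hyD : (y : G) ∈ D := ⟨hq, fun l hl => hyL l hl⟩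
  haveI : Group.IsNilpotent D := by
    let f : D →* pCore p (G ⧸ L) :=
      ((QuotientGroup.mk' L).comp D.subtype).codRestrict _ fun d => d.2.1
    haveI := (CfsgLib.Solv.pCore_isPGroup (G ⧸ L) p).isNilpotent
    refine Subgroup.isNilpotent_of_ker_le_center f fun d hd => Subgroup.mem_center_iff.2 fun x => ?_
    have hdL : (d : G) ∈ L := (QuotientGroup.eq_one_iff (d : G)).1 (congrArg Subtype.val hd)
    exact Subtype.ext (x.2.2 (d : G) hdL).symm
  obtain ⟨Q, hQ⟩ := (P.2.comap_of_injective D.subtype D.subtype_injective).exists_le_sylow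
  have hQn : (Q : Subgroup D).Normal :=
    ((Group.isNilpotent_of_finite_tfae (G := D)).out 0 3 rfl rfl).1 (inferInstance : Group.IsNilpotent D) p ‹_› Q
  have hyQ : (⟨y, hyD⟩ : D) ∈ pCore p D := CfsgLib.Solv.le_pCore (hN := hQn) Q.2 (hQ y.2)
  have h := CfsgLib.Solv.map_pCore_subtype_le D ⟨_, hyQ, rfl⟩
  rw [hO, Subgroup.mem_bot] at h
  exact hy1' h

end Cfsg.Agent.S4748
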