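import Cfsg.Statements.S4750
import Cfsg.Agent.Char.TILattice
import Cfsg.Agent.Char.Central

set_option autoImplicit false
open scoped Pointwise
open Cfsg

namespace Cfsg.Agent.S4750

/-- Let P be a Sylow p-subgroup of the finite group G that meets each conjugate g P g⁻¹ with g outside N_G(P) trivially, χ a character of G with χ(1)² ≤ |P|, and H a subgroup of G containing N_G(P). Then the inner product of χ with itself over G equals the inner product over H of the restriction of χ to H. -/
theorem result {G : Type*} [Group G] [Fintype G] [DecidableEq G] (p : ℕ) [Fact p.Prime] (P : Sylow p G) (hTI : ∀ g : G, g ∉ Subgroup.normalizer ((P : Subgroup G) : Set G) → (P : Subgroup G) ⊓ (MulAut.conj g • (P : Subgroup G)) = ⊥) (χ : G → ℂ) (hχ : Cfsg.IsCharacter G χ) (hdeg : Cfsg.charDegree χ ^ 2 ≤ Nat.card ↥(P : Subgroup G)) (H : Subgroup G) [Fintype ↥H] (hH : Subgroup.normalizer ((P : Subgroup G) : Set G) ≤ H) : Cfsg.classInner χ χ = Cfsg.classInner (fun h : ↥H => χ h) (fun h : ↥H => χ h) := by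
  classical
  obtain ⟨n, ρ, rfl⟩ := hχ
  have hn : charDegree ρ.character = n := CfsgLib.Char.charDegree_eq (by
    rw [Representation.char_one]; simp)
  rw [hn] at hdeg
  let ρH : Representation ℂ H (Fin n → ℂ) := ρ.comp H.subtype
  have hG : Cfsg.classInner ρ.character ρ.character =
      (Module.finrank ℂ (Representation.linHom ρ ρ).invariants : ℂ) := by
    haveI : Invertible (Nat.card G : ℂ) := invertibleOfNonzero (Nat.cast_ne_zero.2 Nat.card_pos.ne')
    rw [← Representation.card_inv_mul_sum_char_eq_finrank, CfsgLib.Char.classInner_def]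
    congr 1
    refine Finset.sum_congr rfl fun g _ => ?_
    rw [Representation.char_linHom, CfsgLib.Char.char_conj_eq ⟨n, ρ, rfl⟩, mul_comm]
  have hres : (fun h : H => ρ.character h) = ρH.character := rfl
  have hH' : Cfsg.classInner ρH.character ρH.character =
      (Module.finrank ℂ (Representation.linHom ρH ρH).invariants : ℂ) := by
    haveI : Invertible (Nat.card H : ℂ) := invertibleOfNonzero (Nat.cast_ne_zero.2 Nat.card_pos.ne')
    rw [← Representation.card_inv_mul_sum_char_eq_finrank, CfsgLib.Char.classInner_def]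
    congr 1
    refine Finset.sum_congr rfl fun g _ => ?_
    rw [Representation.char_linHom, CfsgLib.Char.char_conj_eq ⟨n, ρH, rfl⟩, mul_comm]
  rw [hres, hG, hH']
  have heq : (Representation.linHom ρ ρ).invariants = (Representation.linHom ρH ρH).invariants := by
    ext α
    rw [Representation.mem_invariants, Representation.mem_invariants]
    refine ⟨fun h g => h (g : G), fun h => ?_⟩
    have hcomm : ∀ g : G, g ∈ Subgroup.normalizer ((P : Subgroup G) : Set G) → ρ g * α = α * ρ g := by
      intro g hg
      have h1 : ρ g ∘ₗ α ∘ₗ ρ g⁻¹ = α := h ⟨g, hH hg⟩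
      calc ρ g * α = ρ g * α * (ρ g⁻¹ * ρ g) := by rw [← map_mul, inv_mul_cancel, map_one, mul_one]
        _ = (ρ g ∘ₗ α ∘ₗ ρ g⁻¹) * ρ g := by simp only [← Module.End.mul_eq_comp, mul_assoc]
        _ = α * ρ g := by rw [h1]
    intro g
    have h2 := CfsgLib.Char.TILattice.finrank_invariants_le P hTI ρ hdeg α hcomm g
    rw [Representation.linHom_apply, ← Module.End.mul_eq_comp, ← Module.End.mul_eq_comp, ← mul_assoc, h2,
      mul_assoc, ← map_mul, mul_inv_cancel, map_one, mul_one]
  rw [heq]

end Cfsg.Agent.S4750
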