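import Cfsg.Statements.S4751
import Cfsg.Agent.Char.PPrimeDegree
import Cfsg.Agent.Char.Clifford
import Cfsg.Agent.Char.Burnside
import Cfsg.Agent.Char.Central
import Cfsg.Agent.Char.Linear
import Cfsg.Agent.Blk.Principal
import Cfsg.Agent.Solv.Basic
import Cfsg.Agent.S1012

set_option autoImplicit false
open Cfsg

namespace Cfsg.Agent.S4751


open CfsgLib.Char CfsgLib.Blk
open scoped ComplexConjugate commutatorElement

universe u

theorem mem_center_of_norm {G : Type u} [Group G] [Finite G] {χ : G → ℂ} (hχ : IsIrrCharacter G χ)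
    (hfaith : ∀ g : G, χ g = χ 1 → g = 1) {y : G}
    (h : Complex.normSq (χ y) = (charDegree χ : ℝ) ^ 2) : y ∈ Subgroup.center G := by
  have hd := irr_one_eq hχ
  obtain ⟨n, ρ, hi, rfl⟩ := hχ
  have hn : n = charDegree ρ.character := by
    rw [Representation.char_one, Module.finrank_fin_fun] at hd
    exact_mod_cast hd
  obtain ⟨w, hw⟩ := rep_scalar_of_norm ρ y (by
    rw [Module.finrank_fin_fun]
    refine (sq_eq_sq₀ (norm_nonneg _) (Nat.cast_nonneg n)).1 ?_
    rw [Complex.sq_norm, h, ← hn])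
  refine central_of_scalar_faithful (fun a b hab => ?_) hw
  refine (mul_inv_eq_one.1 (hfaith _ ?_))
  show LinearMap.trace ℂ _ (ρ (a * b⁻¹)) = LinearMap.trace ℂ _ (ρ 1)
  rw [map_mul, hab, ← map_mul, mul_inv_cancel]

/-- Twisting of a function on a normal subgroup along `x`. -/
theorem conjN_fix_pow {G : Type u} [Group G] {N : Subgroup G} [N.Normal] {η : N →* ℂˣ} {x : G}
    (h : conjN (fun n : N => (η n : ℂ)) x = fun n : N => (η n : ℂ)) (k : ℕ) :
    conjN (fun n : N => ((η ^ k) n : ℂ)) x = fun n : N => ((η ^ k) n : ℂ) := by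
  funext n
  have := congrFun h n
  simp only [conjN] at this ⊢
  simp only [MonoidHom.pow_apply, Units.val_pow_eq_pow_val, this]


/-- Let χ be a faithful, non-linear irreducible character of the finite group G (χ g = χ 1 only for g = 1, χ 1 ≠ 1) whose value at every element of order divisible by p is a root of unity, and suppose P = O_p(G) ≠ 1. Then either P is an elementary abelian Sylow p-subgroup of G, C_G(P) is the internal direct product of P and Z(G), G acts transitively by conjugation on the non-principal linear characters of P, and χ 1 = |P| − 1; or p = 2 and G is the internal direct product of a subgroup isomorphic to the symmetric group S₄ and the centre Z(G), which has odd order. -/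
theorem result {G : Type*} [Group G] [Finite G] (p : ℕ) [Fact p.Prime] (χ : Cfsg.IrrCharacter G) (hfaith : ∀ g : G, (χ : G → ℂ) g = (χ : G → ℂ) 1 → g = 1) (hnl : (χ : G → ℂ) 1 ≠ 1) (hroot : ∀ g : G, p ∣ orderOf g → ∃ n : ℕ, 0 < n ∧ ((χ : G → ℂ) g) ^ n = 1) (hP : Cfsg.pCore p G ≠ ⊥) : ((Nat.card ↥(Cfsg.pCore p G)).factorization p = (Nat.card G).factorization p ∧ Cfsg.IsElementaryAbelian p (Cfsg.pCore p G) ∧ Subgroup.centralizer ((Cfsg.pCore p G : Subgroup G) : Set G) = Cfsg.pCore p G ⊔ Subgroup.center G ∧ Cfsg.pCore p G ⊓ Subgroup.center G = ⊥ ∧ (∀ lam mu : ↥(Cfsg.pCore p G) → ℂ, Cfsg.IsCharacter ↥(Cfsg.pCore p G) lam → lam 1 = 1 → lam ≠ (fun _ => (1 : ℂ)) → Cfsg.IsCharacter ↥(Cfsg.pCore p G) mu → mu 1 = 1 → mu ≠ (fun _ => (1 : ℂ)) → ∃ g : G, ∀ (x : G) (hx : x ∈ Cfsg.pCore p G) (hgx : g * x * g⁻¹ ∈ Cfsg.pCore p G), mu ⟨x, hx⟩ = lam ⟨g * x * g⁻¹, hgx⟩) ∧ (χ : G → ℂ) 1 = (Nat.card ↥(Cfsg.pCore p G) : ℂ) - 1) ∨ (p = 2 ∧ Odd (Nat.card ↥(Subgroup.center G)) ∧ ∃ H : Subgroup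 G, Nonempty (↥H ≃* Equiv.Perm (Fin 4)) ∧ H ⊓ Subgroup.center G = ⊥ ∧ H ⊔ Subgroup.center G = ⊤) := by
  classical
  haveI := Fintype.ofFinite G
  have hp : p.Prime := Fact.out
  haveI hPn := CfsgLib.Solv.pCore_normal G p
  have hPp := CfsgLib.Solv.pCore_isPGroup G p
  set P := Cfsg.pCore p G with hPdef
  haveI := Fintype.ofFinite P
  set d := Cfsg.charDegree (χ : G → ℂ) with hddef
  have hd1 : (χ : G → ℂ) 1 = d := irr_one_eq χ.2
  have hdne : d ≠ 1 := fun h => hnl (by rw [hd1, h, Nat.cast_one])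
  have hd0 : 0 < d := charDegree_pos χ.2
  set q := Nat.card P with hqdef
  have hq1 : 1 < q := (Subgroup.one_lt_card_iff_ne_bot P).2 hP
  obtain ⟨nq, hnq⟩ := IsPGroup.iff_card.1 hPp
  rw [← hqdef] at hnq
  have hpq : p ∣ q := hnq ▸ dvd_pow_self p (fun h => by rw [hnq, h, pow_zero] at hq1; omega)
  have hnorm : ∀ g : G, p ∣ orderOf g → Complex.normSq ((χ : G → ℂ) g) = 1 := by
    intro g hg
    obtain ⟨n, hn, hn'⟩ := hroot g hg
    rw [← Complex.sq_norm, norm_root hn.ne' hn', one_pow]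
  have hsingP : ∀ u ∈ P, u ≠ 1 → p ∣ orderOf u := by
    intro u hu hu1
    obtain ⟨j, hj⟩ := IsPGroup.iff_orderOf.1 hPp ⟨u, hu⟩
    rw [Subgroup.orderOf_mk] at hj
    rw [hj]
    exact dvd_pow_self p fun h => hu1 (by rw [← orderOf_eq_one_iff, hj, h, pow_zero])
  have hsumP : ∀ f : P → ℂ, classInner f f * (q : ℂ) = ∑ u : P, (Complex.normSq (f u) : ℂ) := by
    intro f
    rw [classInner_def, hqdef, mul_comm, ← mul_assoc, mul_inv_cancel₀ (natCard_ne_zero P), one_mul]
    exact Finset.sum_congr rfl fun u _ => (Complex.mul_conj _)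
  -- the restriction to `P`
  have hres0 : classInner (fun u : P => (χ : G → ℂ) u) (fun u : P => (χ : G → ℂ) u) * (q : ℂ) =
      ((d ^ 2 + (q - 1) : ℕ) : ℂ) := by
    rw [hsumP, ← Finset.add_sum_erase _ _ (Finset.mem_univ (1 : P)),
      Finset.sum_congr rfl (g := fun _ => (1 : ℂ)) fun u hu => by
        rw [hnorm _ (hsingP _ u.2 fun h => (Finset.mem_erase.1 hu).1 (Subtype.ext h)),
          Complex.ofReal_one],
      Finset.sum_const, Finset.card_erase_of_mem (Finset.mem_univ _), Finset.card_univ,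
      Subgroup.coe_one, hd1, Complex.normSq_natCast, ← Nat.card_eq_fintype_card, ← hqdef,
      nsmul_eq_mul, mul_one]
    push_cast
    ring
  obtain ⟨K, hK⟩ : ∃ K : ℕ, d ^ 2 + (q - 1) = K * q := by
    have hc := isCharacter_restrict P (isCharacter_of_isIrr χ.2)
    have hx := congrFun (classFun_eq_sum (classFun_of_char hc))
    choose n hn using fun ξ : Cfsg.IrrCharacter P => inner_char_irr hc ξ.2
    refine ⟨∑ ξ : Cfsg.IrrCharacter P, n ξ * n ξ, ?_⟩
    have h1 : classInner (fun u : P => (χ : G → ℂ) u) (fun u : P => (χ : G → ℂ) u) =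
        ((∑ ξ : Cfsg.IrrCharacter P, n ξ * n ξ : ℕ) : ℂ) := by
      conv_lhs => arg 1; rw [classFun_eq_sum (classFun_of_char hc)]
      rw [classInner_sum_left, Nat.cast_sum]
      refine Finset.sum_congr rfl fun ξ _ => ?_
      rw [classInner_smul_left, hn, ← classInner_conj, hn, Complex.conj_natCast, Nat.cast_mul]
    rw [h1] at hres0
    exact_mod_cast hres0.symm
  have hpd : ¬ p ∣ d := by
    intro h
    have h1 : p ∣ d ^ 2 + (q - 1) := hK ▸ hpq.mul_left K
    have h2 : p ∣ d ^ 2 := h.trans (dvd_pow_self d two_ne_zero)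
    have h3 := (Nat.dvd_add_right h2).1 h1
    exact hp.not_dvd_one ((Nat.dvd_add_right h3).1 (by rwa [Nat.sub_add_cancel hq1.le]))
  obtain ⟨μ, hμ⟩ := exists_linear_constituent hPp
    (isCharacter_restrict P (isCharacter_of_isIrr χ.2))
    (show (χ : G → ℂ) ((1 : P) : G) = (d : ℂ) by rw [Subgroup.coe_one, hd1]) hpd
  set θ : P → ℂ := fun u => (μ u : ℂ) with hθdef
  have hθ : IsIrrCharacter P θ := isIrr_linear μ
  have hθ1 : θ 1 = 1 := by simp [hθdef]
  set T := inertia θ with hTdef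
  haveI := Fintype.ofFinite T
  have hT : ∀ g : G, g ∈ T ↔ conjN θ g = θ := fun g => mem_inertia
  have hPT : P ≤ T := le_inertia (classFun_of_irr hθ)
  obtain ⟨e, he⟩ := inner_char_irr (isCharacter_restrict P (isCharacter_of_isIrr χ.2)) hθ
  have hdeg : d = e * T.index := by
    have h := degree_clifford χ.2 hθ hμ
    rw [he, hθ1, mul_one, hd1] at h
    exact_mod_cast h
  have hcl := clifford χ.2 hθ hμ
  rw [he] at hcl
  set O := Finset.univ.image (conjN θ) with hOdef
  have hOcard : O.card = T.index := card_orbit θ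
  have hOirr : ∀ η ∈ O, IsIrrCharacter P η := by
    intro η hη
    obtain ⟨g, -, rfl⟩ := Finset.mem_image.1 hη
    exact irr_conjN hθ g
  have hO1 : ∀ η ∈ O, η 1 = 1 := by
    intro η hη
    obtain ⟨g, -, rfl⟩ := Finset.mem_image.1 hη
    simp only [conjN]
    refine Eq.trans (congrArg θ (Subtype.ext ?_)) hθ1
    simp
  have hKe : K = e * e * T.index := by
    have h1 : classInner (fun u : P => (χ : G → ℂ) u) (fun u : P => (χ : G → ℂ) u) =
        ((e * e * T.index : ℕ) : ℂ) := by
      rw [hcl, classInner_smul_left, classInner_smul_right, classInner_sum_left,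
        Finset.sum_congr rfl (g := fun _ => (1 : ℂ)) fun η hη => by
          rw [classInner_sum_right, Finset.sum_congr rfl (g := fun η' => if η' = η then (1 : ℂ) else 0)
            fun η' hη' => by
              rw [irr_inner (hOirr η hη) (hOirr η' hη')]
              exact if_congr eq_comm rfl rfl, Finset.sum_ite_eq' O η, if_pos hη],
        Finset.sum_const, hOcard, nsmul_eq_mul, mul_one, Complex.conj_natCast]
      push_cast
      ring
    rw [h1, hK, Nat.cast_mul K q] at hres0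
    exact_mod_cast (mul_right_cancel₀ (by exact_mod_cast Nat.card_pos.ne' : (q : ℂ) ≠ 0) hres0).symm
  -- the dual group
  have hab : ∀ a b : P, a * b = b * a := by
    intro a b
    have h1 : ⁅(a : G), (b : G)⁆ = 1 := by
      refine hfaith _ ?_
      have e1 := congrFun hcl ⁅a, b⁆
      have e2 := congrFun hcl 1
      simp only [Pi.smul_apply, Finset.sum_apply, Subgroup.coe_one] at e1 e2
      rw [show ⁅(a : G), (b : G)⁆ = ((⁅a, b⁆ : P) : G) from (map_commutatorElement P.subtype a b).symm,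
        e1, e2]
      refine congrArg (fun z => (e : ℂ) • z) (Finset.sum_congr rfl fun η hη => ?_)
      obtain ⟨l, hl⟩ := exists_hom_of_degree_one (isCharacter_of_isIrr (hOirr η hη)) (hO1 η hη)
      rw [hl]
      exact congrArg Units.val (by rw [map_commutatorElement, map_one, commutatorElement_eq_one_iff_mul_comm]
                                   exact mul_comm _ _)
    exact Subtype.ext (commutatorElement_eq_one_iff_mul_comm.1 h1)
  letI : CommGroup P := { (inferInstance : Group P) with mul_comm := hab }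
  haveI : NeZero (Monoid.exponent P : ℂ) :=
    ⟨Nat.cast_ne_zero.mpr Monoid.ExponentExists.of_finite.exponent_ne_zero⟩
  have hLcard : Nat.card (P →* ℂˣ) = q := CommGroup.card_monoidHom_of_hasEnoughRootsOfUnity P ℂ
  haveI : Finite (P →* ℂˣ) := Nat.finite_of_card_ne_zero (by rw [hLcard]; omega)
  haveI := Fintype.ofFinite (P →* ℂˣ)
  set lin : (P →* ℂˣ) → (P → ℂ) := fun l u => (l u : ℂ) with hlin
  have hlininj : Function.Injective lin := fun a b h => MonoidHom.ext fun u => Units.ext (congrFun h u)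
  set D := ((Finset.univ : Finset (P →* ℂˣ)).erase 1).image lin with hD
  have hDcard : D.card = q - 1 := by
    rw [hD, Finset.card_image_of_injective _ hlininj, Finset.card_erase_of_mem (Finset.mem_univ _),
      Finset.card_univ, ← Nat.card_eq_fintype_card, hLcard]
  have hθne : θ ≠ fun _ => 1 := by
    intro h
    have hO' : O = {θ} := by
      ext η
      simp only [hOdef, Finset.mem_image, Finset.mem_univ, true_and, Finset.mem_singleton]
      constructor
      · rintro ⟨g, rfl⟩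
        rw [h]; rfl
      · rintro rfl; exact ⟨1, conjN_one θ⟩
    refine hP (le_bot_iff.1 fun u hu => Subgroup.mem_bot.2 (hfaith u ?_))
    have e1 := congrFun hcl ⟨u, hu⟩
    have e2 := congrFun hcl 1
    simp only [Pi.smul_apply, Finset.sum_apply, Subgroup.coe_one, hO', Finset.sum_singleton, h] at e1 e2
    rw [e1, e2]
  have hOD : O ⊆ D := by
    intro η hη
    obtain ⟨l, hl⟩ := exists_hom_of_degree_one (isCharacter_of_isIrr (hOirr η hη)) (hO1 η hη)
    refine Finset.mem_image.2 ⟨l, Finset.mem_erase.2 ⟨?_, Finset.mem_univ _⟩, hl.symm⟩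
    rintro rfl
    obtain ⟨g, -, hg⟩ := Finset.mem_image.1 hη
    refine hθne ?_
    have h2 := congrArg (fun f => conjN f g⁻¹) (hg.trans hl)
    simp only [conjN_mul, mul_inv_cancel, conjN_one] at h2
    rw [h2]
    funext u
    simp [conjN]
  obtain ⟨hdq, he1, hOeq⟩ : d + 1 = q ∧ e = 1 ∧ O = D := by
    have ho : T.index + 1 ≤ q := by
      have := Finset.card_le_card hOD
      omega
    have he0 : 0 < e := Nat.pos_of_ne_zero fun h => by rw [hdeg, h, zero_mul] at hd0; omega
    have ho0 : 0 < T.index := Nat.pos_of_ne_zero Subgroup.index_ne_zero_of_finite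
    have h1 : (e * T.index) ^ 2 + (q - 1) = e * e * T.index * q := by rw [← hdeg, hK, hKe]
    obtain ⟨r, hr0⟩ : ∃ r, q = r + 1 := ⟨q - 1, by omega⟩
    rw [hr0] at h1 ho
    simp only [Nat.add_sub_cancel] at h1
    have he1 : e = 1 := by
      by_contra hne
      have he2 : 2 ≤ e := by omega
      have a1 : 2 * 2 * T.index ≤ e * e * T.index :=
        Nat.mul_le_mul_right _ (Nat.mul_le_mul he2 he2)
      obtain ⟨s, hs⟩ : ∃ s, r = T.index + s := ⟨r - T.index, by omega⟩
      rw [hs] at h1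
      have a2 : s ≤ e * e * T.index * s := Nat.le_mul_of_pos_left s (by positivity)
      have a3 : (e * T.index) ^ 2 + (T.index + s) =
          (e * T.index) ^ 2 + e * e * T.index * s + e * e * T.index := by rw [h1]; ring
      omega
    subst he1
    have ho2 : 2 ≤ T.index := by omega
    have hr : r = T.index := by
      rcases Nat.lt_or_ge T.index r with hlt | hge
      · nlinarith [Nat.mul_le_mul_left T.index hlt]
      · omega
    exact ⟨by omega, rfl, Finset.eq_of_subset_of_card_le hOD (by rw [hDcard, hOcard]; omega)⟩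
  have horb : ∀ l : P →* ℂˣ, l ≠ 1 → ∃ g, conjN θ g = lin l := fun l hl => by
    have h : lin l ∈ O := hOeq ▸ Finset.mem_image_of_mem lin (Finset.mem_erase.2 ⟨hl, Finset.mem_univ _⟩)
    obtain ⟨g, -, hg⟩ := Finset.mem_image.1 h
    exact ⟨g, hg⟩
  -- `P` is elementary abelian
  have hμne : μ ≠ 1 := fun h => hθne (by rw [hθdef, h]; rfl)
  have hexp : ∀ x ∈ P, x ^ p = 1 := by
    obtain ⟨ν, hν1, hνp⟩ : ∃ ν : P →* ℂˣ, ν ≠ 1 ∧ ν ^ p = 1 := by
      have h : orderOf μ ∣ p ^ nq := hnq ▸ orderOf_dvd_of_pow_eq_one (MonoidHom.ext fun u => by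
        rw [MonoidHom.pow_apply, ← map_pow, hqdef, pow_card_eq_one', map_one]; rfl)
      obtain ⟨j, -, hj⟩ := (Nat.dvd_prime_pow hp).1 h
      have hdiv : p ∣ orderOf μ := by
        rw [hj]
        exact dvd_pow_self p fun h0 => hμne (orderOf_eq_one_iff.1 (by rw [hj, h0, pow_zero]))
      refine ⟨μ ^ (orderOf μ / p), ?_, ?_⟩
      · intro h
        have := orderOf_pow_orderOf_div (orderOf_pos μ).ne' hdiv
        rw [h, orderOf_one] at this
        exact hp.ne_one this.symm
      · exact Eq.trans (pow_mul μ _ _).symm (by rw [Nat.div_mul_cancel hdiv]; exact pow_orderOf_eq_one μ)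
    obtain ⟨g0, hg0⟩ := horb ν hν1
    intro x hx
    refine hfaith _ ?_
    have e1 := congrFun hcl ((⟨x, hx⟩ : P) ^ p)
    have e2 := congrFun hcl 1
    simp only [Pi.smul_apply, Finset.sum_apply, Subgroup.coe_one, Subgroup.coe_pow] at e1 e2
    rw [e1, e2]
    refine congrArg (fun z => (e : ℂ) • z) (Finset.sum_congr rfl fun η hη => ?_)
    obtain ⟨g, -, rfl⟩ := Finset.mem_image.1 hη
    obtain ⟨l, hl⟩ := exists_hom_of_degree_one (isCharacter_of_isIrr (irr_conjN hθ g))
      (hO1 _ (Finset.mem_image_of_mem _ (Finset.mem_univ g)))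
    rw [hl]
    have hlp : l ^ p = 1 := by
      refine MonoidHom.ext fun u => Units.ext ?_
      have h1 : conjN θ g = conjN (lin ν) (g0⁻¹ * g) := by
        rw [← hg0, conjN_mul, mul_inv_cancel_left]
      have h2 := congrFun (hl.symm.trans h1) u
      simp only [conjN, hlin] at h2
      simp only [MonoidHom.pow_apply, Units.val_pow_eq_pow_val, h2, MonoidHom.one_apply]
      rw [← Units.val_pow_eq_pow_val, ← MonoidHom.pow_apply, hνp]
      rfl
    show ((l ((⟨x, hx⟩ : P) ^ p) : ℂˣ) : ℂ) = ((l 1 : ℂˣ) : ℂ)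
    rw [map_pow, ← MonoidHom.pow_apply, hlp, map_one]
    rfl
  have htrans : ∀ lam mu : P → ℂ, Cfsg.IsCharacter P lam → lam 1 = 1 → lam ≠ (fun _ => (1 : ℂ)) →
      Cfsg.IsCharacter P mu → mu 1 = 1 → mu ≠ (fun _ => (1 : ℂ)) →
      ∃ g : G, ∀ (x : G) (hx : x ∈ P) (hgx : g * x * g⁻¹ ∈ P),
        mu ⟨x, hx⟩ = lam ⟨g * x * g⁻¹, hgx⟩ := by
    intro lam mu hl hl1 hlne hm hm1 hmne
    obtain ⟨l, rfl⟩ := exists_hom_of_degree_one hl hl1
    obtain ⟨m, rfl⟩ := exists_hom_of_degree_one hm hm1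
    obtain ⟨a, ha⟩ := horb l (fun h => hlne (by rw [h]; rfl))
    obtain ⟨b, hb⟩ := horb m (fun h => hmne (by rw [h]; rfl))
    refine ⟨a⁻¹ * b, fun x hx hgx => ?_⟩
    have h : conjN (lin l) (a⁻¹ * b) = lin m := by
      rw [← ha, conjN_mul, mul_inv_cancel_left, hb]
    exact (congrFun h ⟨x, hx⟩).symm
  -- the linear constituent of the inertia group
  obtain ⟨ψ, hψ, hψχ, hψc⟩ := clifford_exists hθ hT hPT χ.2 hμ
  have hindex : T.index = d := by rw [hdeg, he1, one_mul]
  obtain ⟨Ψ, rfl⟩ : ∃ Ψ : T →* ℂˣ, ψ = fun t => (Ψ t : ℂ) := by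
    refine exists_hom_of_degree_one (isCharacter_of_isIrr hψ) ?_
    have h := congrFun hψχ 1
    rw [indFun_one, hd1, hindex] at h
    exact mul_left_cancel₀ (Nat.cast_ne_zero.2 hd0.ne') (h.trans (mul_one _).symm)
  have hΨμ : ∀ u : P, Ψ ⟨u, hPT u.2⟩ = μ u := by
    have h1 : IsIrrCharacter P (fun u : P => ((Ψ ⟨u, hPT u.2⟩ : ℂˣ) : ℂ)) :=
      isIrr_linear (Ψ.comp (Subgroup.inclusion hPT))
    have h2 : classInner (fun u : P => ((Ψ ⟨u, hPT u.2⟩ : ℂˣ) : ℂ)) θ ≠ 0 := by
      rw [hψc]; exact hμ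
    by_contra hne
    refine h2 (irr_inner_ne h1 hθ fun h => hne fun u => Units.ext (congrFun h u))
  -- the fundamental count
  have hcount : ∀ x : G, ∑ u : P, (Complex.normSq ((χ : G → ℂ) (x * u)) : ℂ) =
      (q : ℂ) * ((O.filter fun η => conjN η x = η).card : ℂ) := by
    intro x
    set c : G → ℂ := fun g => extendByZero T (fun t => (Ψ t : ℂ)) (g⁻¹ * x * g) with hc
    have hval : ∀ u : P, (χ : G → ℂ) (x * u) =
        (Nat.card T : ℂ)⁻¹ * ∑ g : G, c g * conjN θ g⁻¹ u := by
      intro u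
      rw [← hψχ, indFun_apply]
      refine congrArg _ (Finset.sum_congr rfl fun g _ => ?_)
      have hu : g⁻¹ * (u : G) * g ∈ T := by
        refine hPT ?_
        simpa using hPn.conj_mem _ u.2 g⁻¹
      rw [show g⁻¹ * (x * (u : G)) * g = (g⁻¹ * x * g) * (g⁻¹ * (u : G) * g) by group]
      simp only [hc]
      by_cases hx : g⁻¹ * x * g ∈ T
      · rw [extendByZero_mem' _ _ (mul_mem hx hu), extendByZero_mem' _ _ hx]
        rw [show (⟨g⁻¹ * x * g * (g⁻¹ * (u : G) * g), mul_mem hx hu⟩ : T) =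
          ⟨g⁻¹ * x * g, hx⟩ * ⟨g⁻¹ * (u : G) * g, hu⟩ from rfl, map_mul, Units.val_mul]
        refine congrArg _ ?_
        rw [← show g⁻¹ * (u : G) * g⁻¹⁻¹ = g⁻¹ * (u : G) * g by rw [inv_inv]] at hu
        show _ = θ ⟨g⁻¹ * (u : G) * g⁻¹⁻¹, hPn.conj_mem _ u.2 g⁻¹⟩
        show _ = ((μ ⟨g⁻¹ * (u : G) * g⁻¹⁻¹, hPn.conj_mem _ u.2 g⁻¹⟩ : ℂˣ) : ℂ)
        rw [← hΨμ]
        exact congrArg (fun t => ((Ψ t : ℂˣ) : ℂ)) (Subtype.ext (by simp))
      · rw [extendByZero_not_mem _ _ hx, zero_mul, extendByZero_not_mem]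
        exact fun h => hx (by have := mul_mem h (inv_mem hu); rwa [mul_inv_cancel_right] at this)
    -- coefficients
    set cc : (P → ℂ) → ℂ := fun η => (Nat.card T : ℂ)⁻¹ *
      ∑ g ∈ Finset.univ.filter (fun g : G => conjN θ g⁻¹ = η), c g with hcc
    have hf : (fun u : P => (χ : G → ℂ) (x * u)) = ∑ η ∈ O, cc η • η := by
      funext u
      rw [hval, Finset.sum_apply]
      simp only [Pi.smul_apply, smul_eq_mul, hcc, mul_assoc, ← Finset.mul_sum]
      refine congrArg _ ?_
      rw [← Finset.sum_fiberwise_of_maps_to (g := fun g : G => conjN θ g⁻¹) (t := O)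
        (fun g _ => Finset.mem_image_of_mem _ (Finset.mem_univ _))]
      refine Finset.sum_congr rfl fun η _ => ?_
      rw [Finset.sum_mul]
      exact Finset.sum_congr rfl fun g hg => by rw [(Finset.mem_filter.1 hg).2]
    have hccn : ∀ η ∈ O, cc η * conj (cc η) = if conjN η x = η then 1 else 0 := by
      intro η hη
      obtain ⟨a, -, ha⟩ := Finset.mem_image.1 hη
      have hfib : Finset.univ.filter (fun g : G => conjN θ g⁻¹ = η) =
          (Finset.univ : Finset T).image (fun t : T => a⁻¹ * (t : G)) := by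
        ext g
        simp only [Finset.mem_filter, Finset.mem_univ, true_and, Finset.mem_image]
        constructor
        · intro hg
          refine ⟨⟨a * g, (hT _).2 ?_⟩, by simp⟩
          rw [← conjN_mul, ha, ← hg, conjN_mul, inv_mul_cancel, conjN_one]
        · rintro ⟨t, rfl⟩
          rw [mul_inv_rev, inv_inv, ← conjN_mul, (hT _).1 (inv_mem t.2), ha]
      have hconst : ∀ t : T, c (a⁻¹ * (t : G)) = c a⁻¹ := by
        intro t
        simp only [hc, inv_inv, mul_inv_rev]
        by_cases hx : a * x * a⁻¹ ∈ T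
        · have hx' : (t : G)⁻¹ * a * x * (a⁻¹ * (t : G)) ∈ T := by
            rw [show (t : G)⁻¹ * a * x * (a⁻¹ * (t : G)) = (t : G)⁻¹ * (a * x * a⁻¹) * t by group]
            exact mul_mem (mul_mem (inv_mem t.2) hx) t.2
          rw [extendByZero_mem' _ _ hx', extendByZero_mem' _ _ hx]
          rw [show (⟨_, hx'⟩ : T) = t⁻¹ * ⟨_, hx⟩ * t from Subtype.ext (by
            simp only [Subgroup.coe_mul, Subgroup.coe_inv]; group), map_mul, map_mul, map_inv]
          rw [mul_comm (Ψ t)⁻¹, inv_mul_cancel_right]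
        · rw [extendByZero_not_mem _ _ hx, extendByZero_not_mem]
          intro h
          refine hx ?_
          have := mul_mem (mul_mem t.2 h) (inv_mem t.2)
          simpa [mul_assoc] using this
      have hsum : cc η = c a⁻¹ := by
        rw [hcc]
        simp only
        rw [hfib, Finset.sum_image (fun t _ t' _ h => Subtype.ext (mul_left_cancel h)),
          Finset.sum_congr rfl fun t _ => hconst t, Finset.sum_const, Finset.card_univ,
          ← Nat.card_eq_fintype_card, nsmul_eq_mul, ← mul_assoc,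
          inv_mul_cancel₀ (natCard_ne_zero T), one_mul]
      have hiff : conjN η x = η ↔ a * x * a⁻¹ ∈ T := by
        rw [hT, ← ha, conjN_mul]
        constructor
        · intro h
          have := congrArg (fun f => conjN f a⁻¹) h
          simpa only [conjN_mul, mul_inv_cancel, conjN_one] using this
        · intro h
          have := congrArg (fun f => conjN f a) h
          simpa only [conjN_mul, inv_mul_cancel_right] using this
      rw [hsum]
      simp only [hc, inv_inv]
      by_cases hx : a * x * a⁻¹ ∈ T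
      · rw [extendByZero_mem' _ _ hx, if_pos (hiff.2 hx), Complex.mul_conj', norm_root
          (orderOf_pos (⟨_, hx⟩ : T)).ne' (linear_root Ψ _)]
        simp
      · rw [extendByZero_not_mem _ _ hx, if_neg (fun h => hx (hiff.1 h)), zero_mul]
    rw [← hsumP, hf, classInner_sum_left, mul_comm]
    refine congrArg _ ?_
    rw [Finset.sum_congr rfl (g := fun η => cc η * conj (cc η)) fun η hη => by
      rw [classInner_smul_left, classInner_sum_right,
        Finset.sum_congr rfl (g := fun η' => if η' = η then conj (cc η') else 0) fun η' hη' => by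
          rw [classInner_smul_right, irr_inner (hOirr η hη) (hOirr η' hη')]
          by_cases h : η' = η
          · rw [if_pos h, if_pos h.symm, mul_one]
          · rw [if_neg h, if_neg (Ne.symm h), mul_zero],
        Finset.sum_ite_eq' O η, if_pos hη],
      Finset.sum_congr rfl hccn, Finset.sum_boole]
  -- the centralizer
  set C := Subgroup.centralizer (P : Set G) with hCdef
  haveI hCn : C.Normal := Subgroup.normal_centralizer
  have hCfix : ∀ x ∈ C, ∀ η : P → ℂ, conjN η x = η := fun x hx η => funext fun u =>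
    congrArg η (Subtype.ext (by
      show x * (u : G) * x⁻¹ = u
      rw [← Subgroup.mem_centralizer_iff.1 hx u u.2, mul_inv_cancel_right]))
  have hCT : C ≤ T := fun x hx => (hT x).2 (hCfix x hx θ)
  have hCab : ∀ a ∈ C, ∀ b ∈ C, a * b = b * a := by
    intro a ha b hb
    refine commutatorElement_eq_one_iff_mul_comm.1 (hfaith _ ?_)
    rw [← hψχ, indFun_apply, indFun_apply]
    refine congrArg _ (Finset.sum_congr rfl fun g _ => ?_)
    have hga : g⁻¹ * a * g ∈ T := hCT (by simpa using hCn.conj_mem a ha g⁻¹)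
    have hgb : g⁻¹ * b * g ∈ T := hCT (by simpa using hCn.conj_mem b hb g⁻¹)
    rw [show g⁻¹ * ⁅a, b⁆ * g = ((⁅(⟨_, hga⟩ : T), ⟨_, hgb⟩⁆ : T) : G) by
        simp only [commutatorElement_def, Subgroup.coe_mul, Subgroup.coe_inv]; group,
      show g⁻¹ * 1 * g = ((1 : T) : G) by simp]
    rw [extendByZero_mem, extendByZero_mem]
    refine congrArg Units.val ?_
    show Ψ ⁅_, _⁆ = Ψ 1
    rw [map_commutatorElement, map_one, commutatorElement_eq_one_iff_mul_comm]
    exact mul_comm _ _
  have hZ : ∀ z ∈ Subgroup.center G, ¬ p ∣ orderOf z := by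
    intro z hz hdvd
    have h1 := center_apply_norm χ.2 (c := z) fun g => (Subgroup.mem_center_iff.1 hz g).symm
    rw [Complex.mul_conj, Complex.normSq_div, hnorm z hdvd, hd1, Complex.normSq_natCast] at h1
    have h2 : (1 : ℝ) / ((d : ℝ) * d) = 1 := by exact_mod_cast h1
    have h3 : (d : ℝ) * d = 1 := by
      field_simp at h2
      linarith
    exact hdne (Nat.eq_one_of_mul_eq_one_right (by exact_mod_cast h3 : d * d = 1))
  have hPZ : P ⊓ Subgroup.center G = ⊥ := le_bot_iff.1 fun u hu => Subgroup.mem_bot.2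
    (by_contra fun hu1 => hZ u hu.2 (hsingP u hu.1 hu1))
  have hreg : ∀ y ∈ C, ¬ p ∣ orderOf y → y ∈ Subgroup.center G := by
    intro y hy hyp
    refine mem_center_of_norm χ.2 hfaith ?_
    have h := hcount y
    rw [Finset.filter_true_of_mem fun η _ => hCfix y hy η, hOcard, hindex,
      ← Finset.add_sum_erase _ _ (Finset.mem_univ (1 : P)),
      Finset.sum_congr rfl (g := fun _ => (1 : ℂ)) fun u hu => by
        have hu1 : (u : G) ≠ 1 := fun h => (Finset.mem_erase.1 hu).1 (Subtype.ext h)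
        rw [hnorm _ ?_, Complex.ofReal_one]
        have hcomm : Commute y (u : G) := (Subgroup.mem_centralizer_iff.1 hy u u.2).symm
        obtain ⟨j, hj⟩ := IsPGroup.iff_orderOf.1 hPp u
        rw [← Subgroup.orderOf_coe] at hj
        rw [hcomm.orderOf_mul_eq_mul_orderOf_of_coprime (by
          rw [hj]; exact ((hp.coprime_iff_not_dvd.2 hyp).symm).pow_right j)]
        exact (hsingP _ u.2 hu1).mul_left _,
      Finset.sum_const, Finset.card_erase_of_mem (Finset.mem_univ _), Finset.card_univ,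
      ← Nat.card_eq_fintype_card, ← hqdef, Subgroup.coe_one, mul_one, nsmul_eq_mul, mul_one] at h
    rw [← hdq, Nat.add_sub_cancel] at h
    have h2 : ((Complex.normSq ((χ : G → ℂ) y) : ℝ) : ℂ) = (((d : ℝ) ^ 2 : ℝ) : ℂ) := by
      push_cast at h ⊢
      linear_combination h
    exact_mod_cast h2
  have hPC : P ≤ C := fun u hu => Subgroup.mem_centralizer_iff.2 fun w hw =>
    congrArg Subtype.val (hab ⟨w, hw⟩ ⟨u, hu⟩)
  have hC : C = P ⊔ Subgroup.center G := by
    refine le_antisymm (fun c hc => ?_) (sup_le hPC (Subgroup.center_le_centralizer _))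
    set m := orderOf c with hm
    set a := p ^ m.factorization p with ha
    set b := m / a with hb
    have hm0 : m ≠ 0 := (orderOf_pos c).ne'
    have hab' : a * b = m := Nat.ordProj_mul_ordCompl_eq_self m p
    have hbp : ¬ p ∣ b := Nat.not_dvd_ordCompl hp hm0
    have hcop : Nat.Coprime a b := (hp.coprime_iff_not_dvd.2 hbp).pow_left _
    -- the `p`-elements of `C`
    let W : Subgroup G :=
      { carrier := {w | w ∈ C ∧ ∃ k : ℕ, w ^ p ^ k = 1}
        one_mem' := ⟨one_mem C, 0, by simp⟩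
        mul_mem' := fun {u v} ⟨hu, k, hk⟩ ⟨hv, l, hl⟩ => ⟨mul_mem hu hv, k + l, by
          rw [(show Commute u v from hCab u hu v hv).mul_pow]
          rw [pow_add, pow_mul, hk, one_pow, one_mul, mul_comm, pow_mul, hl, one_pow]⟩
        inv_mem' := fun {u} ⟨hu, k, hk⟩ => ⟨inv_mem hu, k, by rw [inv_pow, hk, inv_one]⟩ }
    haveI : W.Normal := ⟨fun w ⟨hw, k, hk⟩ g => ⟨hCn.conj_mem w hw g, k, by
      rw [conj_pow, hk, mul_one, mul_inv_cancel]⟩⟩
    have hWp : IsPGroup p W := fun w => by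
      obtain ⟨-, k, hk⟩ := w.2
      exact ⟨k, Subtype.ext hk⟩
    have h1 : c ^ b ∈ P := CfsgLib.Solv.le_pCore hWp ⟨pow_mem hc b, m.factorization p, by
      rw [← pow_mul, mul_comm, ← ha, hab', hm, pow_orderOf_eq_one]⟩
    have h2 : c ^ a ∈ Subgroup.center G := hreg _ (pow_mem hc a) fun hd' => hbp (hd'.trans
      (orderOf_dvd_of_pow_eq_one (by rw [← pow_mul, hab', hm, pow_orderOf_eq_one])))
    obtain ⟨s, hs1, hs2⟩ := Nat.chineseRemainder hcop 1 0
    obtain ⟨r, hr1, hr2⟩ := Nat.chineseRemainder hcop 0 1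
    have hsr : c ^ (s + r) = c := by
      conv_rhs => rw [← pow_one c]
      refine pow_eq_pow_iff_modEq.2 ?_
      rw [← hm, ← hab', ← Nat.modEq_and_modEq_iff_modEq_mul hcop]
      exact ⟨hs1.add hr1, hs2.add hr2⟩
    obtain ⟨s', rfl⟩ := Nat.modEq_zero_iff_dvd.1 hs2
    obtain ⟨r', rfl⟩ := Nat.modEq_zero_iff_dvd.1 hr1
    rw [← hsr, pow_add, pow_mul, pow_mul]
    exact Subgroup.mul_mem_sup (pow_mem h1 _) (pow_mem h2 _)
  -- elements moving the dual group
  have hfixone : ∀ x : G, (∀ u ∈ P, p ∣ orderOf (x * u)) →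
      ∃ η ∈ O, conjN η x = η ∧ ∀ η' ∈ O, conjN η' x = η' → η' = η := by
    intro x hx
    have h := hcount x
    rw [Finset.sum_congr rfl (g := fun _ => (1 : ℂ)) fun u _ => by
      rw [hnorm _ (hx u u.2), Complex.ofReal_one], Finset.sum_const, Finset.card_univ,
      ← Nat.card_eq_fintype_card, ← hqdef, nsmul_eq_mul] at h
    have h1 : (O.filter fun η => conjN η x = η).card = 1 := by
      have := mul_left_cancel₀ (by exact_mod_cast Nat.card_pos.ne' : (q : ℂ) ≠ 0) h
      exact_mod_cast this.symm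
    obtain ⟨η, hη⟩ := Finset.card_eq_one.1 h1
    have hmem : η ∈ O.filter fun η => conjN η x = η := hη ▸ Finset.mem_singleton_self η
    refine ⟨η, (Finset.mem_filter.1 hmem).1, (Finset.mem_filter.1 hmem).2, fun η' h1' h2' => ?_⟩
    exact Finset.mem_singleton.1 (hη ▸ Finset.mem_filter.2 ⟨h1', h2'⟩)
  by_cases hsyl : p ∣ P.index
  swap
  · refine Or.inl ⟨?_, ⟨⟨⟨hab⟩⟩, hexp⟩, hC, hPZ, htrans, ?_⟩
    · rw [← P.card_mul_index, Nat.factorization_mul Nat.card_pos.ne'
        Subgroup.index_ne_zero_of_finite, Finsupp.add_apply,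
        Nat.factorization_eq_zero_of_not_dvd hsyl, add_zero]
    · rw [hd1, eq_sub_iff_add_eq]
      exact_mod_cast hdq
  right
  obtain ⟨⟨xq⟩, hxq⟩ := exists_prime_orderOf_dvd_card' (G := G ⧸ P) p
    (by rw [← Subgroup.index_eq_card]; exact hsyl)
  have hxs : ∀ u ∈ P, p ∣ orderOf (xq * u) := by
    intro u hu
    have h := orderOf_map_dvd (QuotientGroup.mk' P) (xq * u)
    rw [QuotientGroup.mk'_apply, QuotientGroup.mk_mul, (QuotientGroup.eq_one_iff u).2 hu, mul_one] at h
    exact (dvd_of_eq hxq.symm).trans h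
  obtain ⟨η, hηO, hηx, hηu⟩ := hfixone xq hxs
  obtain ⟨l, hl, rfl⟩ := Finset.mem_image.1 (hOeq ▸ hηO : η ∈ D)
  have hl1 : l ≠ 1 := (Finset.mem_erase.1 hl).1
  have hexpL : ∀ a : P →* ℂˣ, a ^ p = 1 := fun a => MonoidHom.ext fun u => by
    rw [MonoidHom.pow_apply, ← map_pow, show u ^ p = 1 from Subtype.ext (hexp _ u.2), map_one]
    rfl
  have hp2 : p = 2 := by
    have h2 : l ^ 2 = 1 := by
      by_contra h
      have hk := conjN_fix_pow (η := l) hηx 2
      have := hlininj (hηu (lin (l ^ 2))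
        (hOeq.symm ▸ Finset.mem_image_of_mem lin (Finset.mem_erase.2 ⟨h, Finset.mem_univ _⟩)) hk)
      exact hl1 (mul_right_cancel ((pow_two l).symm.trans this |>.trans (one_mul l).symm))
    by_contra hne
    refine hl1 (MonoidHom.ext fun u => orderOf_eq_one_iff.1 ?_)
    exact Nat.eq_one_of_dvd_coprimes ((Nat.coprime_primes hp Nat.prime_two).2 hne)
      (orderOf_dvd_of_pow_eq_one (DFunLike.congr_fun (hexpL l) u))
      (orderOf_dvd_of_pow_eq_one (DFunLike.congr_fun h2 u))
  subst hp2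
  have hx2 : xq ^ 2 ∈ P := (QuotientGroup.eq_one_iff _).1 (by
    rw [QuotientGroup.mk_pow, ← hxq]; exact pow_orderOf_eq_one _)
  have hq4 : q = 4 := by
    let tw : (P →* ℂˣ) → (P →* ℂˣ) := fun a => a.comp (MulAut.conjNormal (H := P) xq).toMonoidHom
    have htwlin : ∀ a, lin (tw a) = conjN (lin a) xq := fun a => funext fun u =>
      congrArg (fun w => ((a w : ℂˣ) : ℂ)) (Subtype.ext (by simp [MulAut.conjNormal_apply]))
    have htw2 : ∀ a, tw (tw a) = a := fun a => hlininj (by
      rw [htwlin, htwlin, conjN_mul, ← pow_two]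
      exact hCfix _ (hPC hx2) _)
    have hfixed : ∀ a, tw a = a → a = 1 ∨ a = l := by
      intro a ha
      by_cases h : a = 1
      · exact Or.inl h
      refine Or.inr (hlininj (hηu (lin a) ?_ (by rw [← htwlin, ha])))
      exact hOeq.symm ▸ Finset.mem_image_of_mem lin (Finset.mem_erase.2 ⟨h, Finset.mem_univ _⟩)
    let F : (P →* ℂˣ) →* (P →* ℂˣ) := MonoidHom.mk' (fun a => a * tw a) fun a b => by
      show a * b * tw (a * b) = a * tw a * (b * tw b)
      rw [show tw (a * b) = tw a * tw b from rfl]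
      exact mul_mul_mul_comm a b (tw a) (tw b)
    have hsmall : ∀ S : Subgroup (P →* ℂˣ), (∀ a ∈ S, tw a = a) → Nat.card S ≤ 2 := by
      intro S hS
      refine le_trans (Nat.card_mono (Set.toFinite ({1, l} : Set (P →* ℂˣ))) fun a ha => hfixed a (hS a ha)) ?_
      rw [Nat.card_coe_set_eq]
      exact (Set.ncard_insert_le _ _).trans (by rw [Set.ncard_singleton])
    have hker := hsmall F.ker fun a ha => by
      have h1 : a * tw a = 1 := ha
      have h2 : a * a = 1 := (pow_two a).symm.trans (hexpL a)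
      exact mul_left_cancel (h1.trans h2.symm)
    have hran := hsmall F.range fun a ⟨b, hb⟩ => by
      rw [← hb]
      show tw b * tw (tw b) = b * tw b
      rw [htw2]
      exact mul_comm (tw b) b
    have hle : q ≤ 4 := by
      rw [← hLcard, ← F.ker.card_mul_index, Subgroup.index_ker]
      exact (Nat.mul_le_mul hker hran).trans (le_refl 4)
    rcases Nat.lt_or_ge nq 2 with h | h
    · interval_cases nq <;> simp at hnq <;> omega
    · exact le_antisymm hle ((Nat.pow_le_pow_right (show 2 > 0 by omega) h).trans_eq hnq.symm)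
  have hd3 : d = 3 := by omega
  -- the action on the three non-identity elements
  have hScard : Nat.card {u : P // u ≠ 1} = 3 := by
    rw [Nat.card_eq_fintype_card, Fintype.card_subtype_compl, Fintype.card_subtype_eq,
      ← Nat.card_eq_fintype_card]
    omega
  let ε : {u : P // u ≠ 1} ≃ Fin 3 := (Finite.equivFinOfCardEq hScard)
  let act : G → Equiv.Perm {u : P // u ≠ 1} := fun g =>
    Equiv.Perm.subtypePerm (MulAut.conjNormal (H := P) g).toEquiv fun u => by simp
  let φ : G →* Equiv.Perm (Fin 3) := MonoidHom.mk' (fun g => ε.permCongr (act g)) fun a b => by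
    refine Equiv.ext fun i => ?_
    simp only [Equiv.permCongr_apply, Equiv.Perm.coe_mul, Function.comp_apply, Equiv.symm_apply_apply]
    refine congrArg ε (Subtype.ext ?_)
    show MulAut.conjNormal (a * b) ((ε.symm i : P)) = MulAut.conjNormal a (MulAut.conjNormal b (ε.symm i : P))
    rw [map_mul]; rfl
  have hφ : ∀ g, φ g = 1 ↔ g ∈ C := by
    intro g
    constructor
    · intro h
      refine Subgroup.mem_centralizer_iff.2 fun u hu => ?_
      by_cases hu1 : (⟨u, hu⟩ : P) = 1
      · rw [show u = 1 from congrArg Subtype.val hu1, one_mul, mul_one]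
      have h1 := Equiv.ext_iff.1 h (ε ⟨⟨u, hu⟩, hu1⟩)
      have h2 : act g ⟨⟨u, hu⟩, hu1⟩ = ⟨⟨u, hu⟩, hu1⟩ := ε.injective (by
        simpa [φ, Equiv.permCongr_apply] using h1)
      have h3 : g * u * g⁻¹ = u := congrArg (fun z => ((z.1 : P) : G)) h2
      exact (mul_inv_eq_iff_eq_mul.1 h3).symm
    · intro hg
      refine Equiv.ext fun i => ?_
      show ε (act g (ε.symm i)) = i
      refine Eq.trans (congrArg ε (Subtype.ext (Subtype.ext ?_))) (ε.apply_symm_apply i)
      show g * ((ε.symm i : P) : G) * g⁻¹ = ((ε.symm i : P) : G)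
      rw [← Subgroup.mem_centralizer_iff.1 hg _ (ε.symm i : P).2, mul_inv_cancel_right]
  have hkerC : φ.ker = C := Subgroup.ext fun g => hφ g
  set Z := Subgroup.center G with hZdef
  have hZodd : Odd (Nat.card Z) := by
    rw [← Nat.not_even_iff_odd, even_iff_two_dvd]
    intro h
    obtain ⟨z, hz⟩ := exists_prime_orderOf_dvd_card' 2 h
    exact hZ z z.2 (by rw [Subgroup.orderOf_coe, hz])
  have hZ2 : ¬ 2 ∣ Nat.card Z := Nat.two_dvd_ne_zero.2 (Nat.odd_iff.1 hZodd)
  have hrel : P.relIndex C ∣ Nat.card Z := by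
    rw [hC, sup_comm, Subgroup.relIndex_sup_right]
    exact Subgroup.relIndex_dvd_card _ _
  have hCindex : C.index = 6 := by
    refine Nat.dvd_antisymm ?_ ?_
    · rw [← hkerC, Subgroup.index_ker]
      refine (Subgroup.card_subgroup_dvd_card φ.range).trans (dvd_of_eq ?_)
      rw [Nat.card_perm, Nat.card_fin]; rfl
    · have h2 : 2 ∣ C.index := by
        rw [← Subgroup.relIndex_mul_index hPC] at hsyl
        exact (Nat.prime_two.dvd_mul.1 hsyl).resolve_left fun h => hZ2 (h.trans hrel)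
      have h3 : 3 ∣ C.index := hd3 ▸ hindex ▸ Subgroup.index_dvd_of_le hCT
      exact Nat.Coprime.mul_dvd_of_dvd_of_dvd (by decide : Nat.Coprime 2 3) h2 h3
  have hsurj : Function.Surjective φ := by
    refine MonoidHom.range_eq_top.1 (Subgroup.eq_top_of_card_eq _ ?_)
    rw [← Subgroup.index_ker, hkerC, hCindex, Nat.card_perm, Nat.card_fin]; rfl
  have hPrel : Z.relIndex C = q := by
    rw [hC, Subgroup.relIndex_sup_right, ← Subgroup.inf_relIndex_right, inf_comm, hPZ,
      Subgroup.relIndex_bot_left]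
  have hZindex : Z.index = 24 := by
    rw [← Subgroup.relIndex_mul_index (hC ▸ le_sup_right : Z ≤ C), hPrel, hCindex, hq4]
  -- the central character
  have hZT : Z ≤ T := fun z hz => hCT (hC ▸ Subgroup.mem_sup_right hz)
  set ω : Z →* ℂˣ := Ψ.comp (Subgroup.inclusion hZT) with hω
  have hωinj : ∀ z, ω z = 1 → z = 1 := by
    intro z hz
    refine Subtype.ext (hfaith _ ?_)
    rw [← hψχ, indFun_apply, indFun_apply]
    refine congrArg _ (Finset.sum_congr rfl fun g _ => ?_)
    rw [show g⁻¹ * (z : G) * g = ((Subgroup.inclusion hZT z : T) : G) by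
        rw [mul_assoc, ← Subgroup.mem_center_iff.1 z.2 g, inv_mul_cancel_left]; rfl,
      show g⁻¹ * 1 * g = ((1 : T) : G) by simp, extendByZero_mem, extendByZero_mem]
    show ((ω z : ℂˣ) : ℂ) = ((Ψ 1 : ℂˣ) : ℂ)
    rw [hz, map_one]
  haveI : Z.Normal := inferInstance
  have hωinv : ∀ (g : G) (n : Z), ω ⟨g * n * g⁻¹, (inferInstance : Z.Normal).conj_mem n n.2 g⟩ = ω n :=
    fun g n => congrArg ω (Subtype.ext (by
      show g * (n : G) * g⁻¹ = (n : G)
      rw [Subgroup.mem_center_iff.1 n.2 g, mul_inv_cancel_right]))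
  have h3mem := transfer_mem_extPow ω hZT hωinv Ψ fun n => rfl
  rw [hindex, hd3] at h3mem
  -- an element of order three over `C`
  obtain ⟨y, hyC, hy3⟩ : ∃ y : G, y ∉ C ∧ y ^ 3 ∈ Z := by
    obtain ⟨y0, hy0⟩ := hsurj (Equiv.swap 0 1 * Equiv.swap 1 2)
    have ho : orderOf (φ y0) = 3 := by
      rw [hy0]; exact orderOf_eq_prime (by decide) (by decide)
    have hdiv : 3 ∣ orderOf y0 := ho ▸ orderOf_map_dvd φ y0
    set b := orderOf y0 / 3 ^ (orderOf y0).factorization 3 with hb
    have hb3 : ¬ 3 ∣ b := Nat.not_dvd_ordCompl Nat.prime_three (orderOf_pos y0).ne'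
    have hne : φ (y0 ^ b) ≠ 1 := by
      intro h
      rw [map_pow, ← orderOf_dvd_iff_pow_eq_one, ho] at h
      exact hb3 h
    refine ⟨y0 ^ b, fun h => hne ((hφ _).2 h), hreg _ ((hφ _).1 ?_) fun h => ?_⟩
    · rw [map_pow, map_pow, ← pow_mul, mul_comm, pow_mul, orderOf_dvd_iff_pow_eq_one.1 (dvd_of_eq ho), one_pow]
    · have h1 : ((y0 ^ b) ^ 3) ^ 3 ^ (orderOf y0).factorization 3 = 1 := by
        rw [← pow_mul, mul_comm, pow_mul, ← pow_mul y0, mul_comm b,
          Nat.ordProj_mul_ordCompl_eq_self, pow_orderOf_eq_one, one_pow]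
      exact absurd ((Nat.prime_dvd_prime_iff_eq Nat.prime_two Nat.prime_three).1
        (Nat.prime_two.dvd_of_dvd_pow (h.trans (orderOf_dvd_of_pow_eq_one h1)))) (by decide)
  set H3 := Subgroup.zpowers y ⊔ Z with hH3
  haveI : (Z.subgroupOf H3).Normal := (inferInstance : Z.Normal).subgroupOf H3
  have hyord : orderOf (QuotientGroup.mk y : G ⧸ Z) = 3 := by
    refine orderOf_eq_prime (by rw [← QuotientGroup.mk_pow]; exact (QuotientGroup.eq_one_iff _).2 hy3) fun h => ?_
    exact hyC (hC ▸ Subgroup.mem_sup_right ((QuotientGroup.eq_one_iff y).1 h))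
  have hrel3 : Z.relIndex H3 = 3 := by
    have h1 := Subgroup.relIndex_ker (K := H3) (QuotientGroup.mk' Z)
    rw [QuotientGroup.ker_mk'] at h1
    rw [h1, hH3, Subgroup.map_sup, QuotientGroup.map_mk'_self, sup_bot_eq, MonoidHom.map_zpowers,
      Nat.card_zpowers]
    exact hyord
  have h8 : H3.index = 8 := by
    have h := Subgroup.relIndex_mul_index (le_sup_right : Z ≤ H3)
    rw [hrel3, hZindex] at h
    exact Nat.eq_of_mul_eq_mul_left (show 0 < 3 by norm_num) (h.trans (by norm_num))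
  have hcyc : IsCyclic (H3 ⧸ Z.subgroupOf H3) := by
    refine isCyclic_of_prime_card (p := 3) ?_
    rw [← Subgroup.index_eq_card]; exact hrel3
  obtain ⟨ν, hν⟩ := extend_linear_cyclic (N := Z.subgroupOf H3)
    (ω.comp (Subgroup.subgroupOfEquivOfLe (le_sup_right : Z ≤ H3)).toMonoidHom)
    (fun g n => congrArg ω (Subtype.ext (by
      show (g : G) * ((n : H3) : G) * (g : G)⁻¹ = ((n : H3) : G)
      rw [show (g : G) * ((n : H3) : G) = ((n : H3) : G) * (g : G) from Subgroup.mem_center_iff.1 n.2 g,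
        mul_inv_cancel_right]))) hcyc
  have h8mem := transfer_mem_extPow ω (le_sup_right : Z ≤ H3) hωinv ν fun n =>
    (hν ⟨⟨n, le_sup_right (a := Subgroup.zpowers y) n.2⟩, n.2⟩).trans (congrArg ω (Subtype.ext rfl))
  rw [h8] at h8mem
  obtain ⟨L, hL⟩ := extend_of_coprime ω (show Nat.Coprime 3 8 by decide) h3mem h8mem
  have hLP : ∀ u ∈ P, L u = 1 := by
    intro u hu
    by_contra hne
    set l0 : P →* ℂˣ := L.comp P.subtype with hl0
    have hl0ne : l0 ≠ 1 := fun h => hne (DFunLike.congr_fun h ⟨u, hu⟩)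
    obtain ⟨g0, hg0⟩ := horb l0 hl0ne
    have hDle : D ⊆ {lin l0} := fun η' hη' => Finset.mem_singleton.2 (by
      obtain ⟨g, -, rfl⟩ := Finset.mem_image.1 (hOeq.symm ▸ hη' : η' ∈ O)
      have h : conjN θ g = conjN (lin l0) (g0⁻¹ * g) := by rw [← hg0, conjN_mul, mul_inv_cancel_left]
      rw [h]
      funext w
      simp only [conjN, hlin, hl0, MonoidHom.comp_apply, Subgroup.coe_subtype, map_mul, map_inv]
      rw [mul_inv_rev, inv_inv]
      exact congrArg Units.val (by
        rw [mul_comm ((L g0)⁻¹ * L g) (L (w : G))]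
        simp [mul_assoc])
      )
    have := Finset.card_le_card hDle
    rw [hDcard, Finset.card_singleton, hq4] at this
    omega
  have hLC : ∀ c ∈ C, L c ∈ ω.range := by
    intro c hc
    have hc' : c ∈ ((P ⊔ Z : Subgroup G) : Set G) := hC ▸ hc
    rw [Subgroup.normal_mul P Z] at hc'
    obtain ⟨u, hu, z, hz, rfl⟩ := hc'
    exact ⟨⟨z, hz⟩, by rw [map_mul, hLP u hu, one_mul, ← hL ⟨z, hz⟩]⟩
  have hLsq : ∀ σ : Equiv.Perm (Fin 3), ∀ g, φ g = σ → L g ^ 2 ∈ ω.range := by
    intro σ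
    induction σ using Equiv.Perm.swap_induction_on with
    | one => exact fun g hg => pow_mem (hLC g ((hφ g).1 hg)) 2
    | swap_mul τ a b hab ih =>
      intro g hg
      obtain ⟨s, hs⟩ := hsurj (Equiv.swap a b)
      have h1 : L s ^ 2 ∈ ω.range := by
        rw [← map_pow]
        refine hLC _ ((hφ _).1 ?_)
        rw [map_pow, hs, pow_two, Equiv.swap_mul_self]
      have h2 := ih (s⁻¹ * g) (by rw [map_mul, map_inv, hs, hg, inv_mul_cancel_left])
      rw [show g = s * (s⁻¹ * g) by group, map_mul, mul_pow]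
      exact mul_mem h1 h2
  obtain ⟨a, ha2, haZ⟩ := Nat.chineseRemainder (Nat.prime_two.coprime_iff_not_dvd.2 hZ2) 0 1
  obtain ⟨a', rfl⟩ := Nat.modEq_zero_iff_dvd.1 ha2
  set Mh : G →* ℂˣ := L ^ (2 * a') with hMh
  have hMR : ∀ g, Mh g ∈ ω.range := fun g => by
    rw [hMh, MonoidHom.pow_apply, pow_mul]
    exact pow_mem (hLsq _ g rfl) a'
  have hMZ : ∀ z : Z, Mh z = ω z := fun z => by
    rw [hMh, MonoidHom.pow_apply, hL]
    conv_rhs => rw [← pow_one (ω z)]
    refine pow_eq_pow_iff_modEq.2 (haZ.of_dvd (orderOf_dvd_of_pow_eq_one ?_))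
    rw [← map_pow, pow_card_eq_one', map_one]
  have hHZ : Mh.ker ⊓ Z = ⊥ := le_bot_iff.1 fun z hz => Subgroup.mem_bot.2
    (congrArg Subtype.val (hωinj ⟨z, hz.2⟩ ((hMZ ⟨z, hz.2⟩).symm.trans hz.1)))
  refine ⟨rfl, hZodd, Mh.ker, ?_, hHZ, eq_top_iff.2 fun g _ => ?_⟩
  swap
  · obtain ⟨z, hz⟩ := hMR g
    rw [show g = g * (z : G)⁻¹ * z by group]
    refine Subgroup.mul_mem_sup ?_ z.2
    rw [MonoidHom.mem_ker, map_mul, map_inv, hMZ, hz, mul_inv_cancel]
  have hH24 : Nat.card Mh.ker = 24 := by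
    have h1 : Mh.range = ω.range := le_antisymm (fun w ⟨g, hg⟩ => hg ▸ hMR g)
      (fun w ⟨z, hz⟩ => ⟨z, hz ▸ hMZ z⟩)
    have h2 : Nat.card ω.range = Nat.card Z :=
      (Nat.card_congr (MonoidHom.ofInjective
        ((injective_iff_map_eq_one ω).2 hωinj)).toEquiv).symm
    have h3 := Mh.ker.card_mul_index
    rw [Subgroup.index_ker, h1, h2, ← Z.card_mul_index, hZindex, mul_comm (Nat.card Z)] at h3
    exact Nat.eq_of_mul_eq_mul_right Nat.card_pos h3
  refine S1012.result hH24 fun g hg => ?_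
  have hb : orderOf ((g : G) ^ 2) = 3 := by
    rw [orderOf_pow, Subgroup.orderOf_coe, hg]; rfl
  have ha' : orderOf ((g : G) ^ 3) = 2 := by
    rw [orderOf_pow, Subgroup.orderOf_coe, hg]; rfl
  have hCH : ∀ c ∈ C, c ∈ Mh.ker → c ∈ P := by
    intro c hc hk
    have hc' : c ∈ ((P ⊔ Z : Subgroup G) : Set G) := hC ▸ hc
    rw [Subgroup.normal_mul P Z] at hc'
    obtain ⟨u, hu, z, hz, rfl⟩ := hc'
    have hMu : Mh u = 1 := by rw [hMh, MonoidHom.pow_apply, hLP u hu, one_pow]
    rw [MonoidHom.mem_ker, map_mul, hMu, one_mul, hMZ ⟨z, hz⟩] at hk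
    show u * z ∈ P
    rw [show z = 1 from congrArg Subtype.val (hωinj _ hk), mul_one]
    exact hu
  have hφb : φ ((g : G) ^ 2) ≠ 1 := by
    intro h
    have hP2 := hCH _ ((hφ _).1 h) (pow_mem g.2 2)
    have := orderOf_dvd_of_pow_eq_one (hexp _ hP2)
    rw [hb] at this
    omega
  have h36 : ∀ σ : Equiv.Perm (Fin 3), σ ^ 2 = 1 ∨ σ ^ 3 = 1 := by decide
  have ha3 : φ ((g : G) ^ 3) = 1 := by
    rw [map_pow]
    refine (h36 _).resolve_left fun h => hφb ?_
    rw [map_pow]; exact h
  have haP := hCH _ ((hφ _).1 ha3) (pow_mem g.2 3)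
  have hane : (⟨_, haP⟩ : P) ≠ 1 := fun h => by
    have h1 : (g : G) ^ 3 = 1 := congrArg Subtype.val h
    rw [h1, orderOf_one] at ha'
    omega
  have hfix : φ ((g : G) ^ 2) (ε ⟨⟨_, haP⟩, hane⟩) = ε ⟨⟨_, haP⟩, hane⟩ := by
    show ε (act _ (ε.symm (ε _))) = _
    rw [Equiv.symm_apply_apply]
    refine congrArg ε (Subtype.ext (Subtype.ext ?_))
    show (g : G) ^ 2 * (g : G) ^ 3 * ((g : G) ^ 2)⁻¹ = (g : G) ^ 3
    group
  have hdec : ∀ σ : Equiv.Perm (Fin 3), ∀ i, σ ^ 3 = 1 → σ i = i → σ = 1 := by decide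
  exact hφb (hdec _ _ (by rw [← map_pow, orderOf_dvd_iff_pow_eq_one.1 (dvd_of_eq hb), map_one]) hfix)

end Cfsg.Agent.S4751
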