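import Cfsg.Statements.S4754
import Cfsg.Agent.Char.ClassProduct

set_option autoImplicit false
open Cfsg

namespace Cfsg.Agent.S4754

open CfsgLib.Char

/-- For elements x, y of a finite group G, the conjugacy class of x y equals the set of all products of a conjugate of x with a conjugate of y if and only if χ(1) χ(a x a⁻¹ b y b⁻¹) = χ(x) χ(y) for all a, b ∈ G and every irreducible character χ. -/
theorem result {G : Type*} [Group G] [Finite G] (x y : G) : (∀ z : G, IsConj (x * y) z ↔ ∃ a b : G, z = a * x * a⁻¹ * (b * y * b⁻¹)) ↔ ∀ (a b : G) (χ : Cfsg.IrrCharacter G), (χ : G → ℂ) 1 * (χ : G → ℂ) (a * x * a⁻¹ * (b * y * b⁻¹)) = (χ : G → ℂ) x * (χ : G → ℂ) y := by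
  haveI : Fintype G := Fintype.ofFinite G
  constructor
  · intro h a b χ
    rw [← classFun_isConj (classFun_of_irr χ.2) ((h _).mpr ⟨a, b, rfl⟩)]
    refine (irr_mul_of_const χ.2 x y fun x' y' hx hy => ?_).symm
    obtain ⟨a, rfl⟩ := isConj_iff.mp hx
    obtain ⟨b, rfl⟩ := isConj_iff.mp hy
    exact (classFun_isConj (classFun_of_irr χ.2) ((h _).mpr ⟨a, b, rfl⟩)).symm
  · intro h z
    constructor
    · intro hz
      obtain ⟨c, rfl⟩ := isConj_iff.mp hz
      exact ⟨c, c, by group⟩
    · rintro ⟨a, b, rfl⟩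
      refine (isConj_iff_irr _ _).mpr fun χ => ?_
      refine mul_left_cancel₀ (irr_one_ne_zero χ.2) ?_
      rw [h a b χ]
      have := h 1 1 χ
      simpa using this

end Cfsg.Agent.S4754
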