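import Cfsg.Statements.S4755
import Cfsg.Agent.Char.ClassProduct

set_option autoImplicit false
open Cfsg

namespace Cfsg.Agent.S4755

open CfsgLib.Char
open scoped commutatorElement

/-- Let x, y be non-identity elements of the finite group G such that χ(x' y') = χ(x') χ(y') for all conjugates x' of x, y' of y and every irreducible character χ. Then the conjugacy class of x y is the set of all products of a conjugate of x with a conjugate of y; every irreducible character of degree greater than 1 vanishes at x y; and the conjugacy class of x y is the coset of the commutator subgroup containing x y. -/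
theorem result {G : Type*} [Group G] [Finite G] (x y : G) (hx : x ≠ 1) (hy : y ≠ 1) (h : ∀ (a b : G) (χ : Cfsg.IrrCharacter G), (χ : G → ℂ) (a * x * a⁻¹ * (b * y * b⁻¹)) = (χ : G → ℂ) (a * x * a⁻¹) * (χ : G → ℂ) (b * y * b⁻¹)) : (∀ z : G, IsConj (x * y) z ↔ ∃ a b : G, z = a * x * a⁻¹ * (b * y * b⁻¹)) ∧ (∀ χ : Cfsg.IrrCharacter G, (χ : G → ℂ) 1 ≠ 1 → (χ : G → ℂ) (x * y) = 0) ∧ (∀ z : G, IsConj (x * y) z ↔ (x * y)⁻¹ * z ∈ commutator G) := by
  classical
  haveI : Fintype G := Fintype.ofFinite G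
  have hval : ∀ (a b : G) (χ : IrrCharacter G),
      (χ : G → ℂ) (a * x * a⁻¹ * (b * y * b⁻¹)) = (χ : G → ℂ) x * (χ : G → ℂ) y := by
    intro a b χ
    rw [h a b χ, classFun_of_irr χ.2 x a, classFun_of_irr χ.2 y b]
  have hconst : ∀ (a b : G), IsConj (x * y) (a * x * a⁻¹ * (b * y * b⁻¹)) := by
    intro a b
    refine (isConj_iff_irr _ _).mpr fun χ => ?_
    rw [hval a b χ]
    simpa using hval 1 1 χ
  have hxy : ∀ χ : IrrCharacter G, (χ : G → ℂ) (x * y) = (χ : G → ℂ) x * (χ : G → ℂ) y :=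
    fun χ => by simpa using hval 1 1 χ
  have hvanish : ∀ χ : IrrCharacter G, (χ : G → ℂ) 1 ≠ 1 → (χ : G → ℂ) (x * y) = 0 := by
    intro χ h1
    have hm := irr_mul_of_const χ.2 x y fun x' y' hx hy => by
      obtain ⟨a, rfl⟩ := isConj_iff.mp hx
      obtain ⟨b, rfl⟩ := isConj_iff.mp hy
      exact (classFun_isConj (classFun_of_irr χ.2) (hconst a b)).symm
    rw [← hxy χ] at hm
    have : ((χ : G → ℂ) 1 - 1) * (χ : G → ℂ) (x * y) = 0 := by linear_combination -hm
    exact (mul_eq_zero.mp this).resolve_left (sub_ne_zero.mpr h1)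
  refine ⟨fun z => ⟨fun hz => ?_, ?_⟩, hvanish, fun z => ⟨fun hz => ?_, fun hz => ?_⟩⟩
  · obtain ⟨c, rfl⟩ := isConj_iff.mp hz
    exact ⟨c, c, by group⟩
  · rintro ⟨a, b, rfl⟩
    exact hconst a b
  · obtain ⟨c, rfl⟩ := isConj_iff.mp hz
    have : (x * y)⁻¹ * (c * (x * y) * c⁻¹) = ⁅(x * y)⁻¹, c⁆ := by
      rw [commutatorElement_def]; group
    rw [this, commutator_def]
    exact Subgroup.commutator_mem_commutator (Subgroup.mem_top _) (Subgroup.mem_top _)
  · by_contra hne
    have h1 := second_orth z (x * y)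
    rw [if_neg fun hh => hne hh.symm] at h1
    have h2 := second_orth (x * y) (x * y)
    rw [if_pos (IsConj.refl _)] at h2
    have heq : ∀ χ : IrrCharacter G, (χ : G → ℂ) z * starRingEnd ℂ ((χ : G → ℂ) (x * y)) =
        (χ : G → ℂ) (x * y) * starRingEnd ℂ ((χ : G → ℂ) (x * y)) := by
      intro χ
      by_cases hd : (χ : G → ℂ) 1 = 1
      · obtain ⟨μ, hμ⟩ := exists_hom_of_degree_one (isCharacter_of_isIrr χ.2) hd
        have : μ z = μ (x * y) := by
          have hk : μ ((x * y)⁻¹ * z) = 1 := Abelianization.commutator_subset_ker μ hz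
          rw [map_mul, map_inv, inv_mul_eq_one] at hk
          exact hk.symm
        simp only [hμ, this]
      · rw [hvanish χ hd]; simp
    rw [Finset.sum_congr rfl fun χ _ => heq χ, h2] at h1
    exact Nat.card_pos.ne' (by exact_mod_cast h1)

end Cfsg.Agent.S4755
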