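import Cfsg.Statements.S4757
import Cfsg.Agent.Char.PPrimeDegree
import Cfsg.Agent.Solv.Basic
import Cfsg.Agent.Char.Classes

set_option autoImplicit false
set_option linter.style.haveILetI false
open Cfsg

namespace Cfsg.Agent.S4757

open CfsgLib.Char
open scoped ComplexConjugate commutatorElement

/-- Let u ≠ 1 be an element of the finite group G and c a complex number such that every non-principal irreducible character χ satisfies χ(1) − χ(u) = c or χ(u) = 0. Then the following are equivalent: (a) u has order 2, G is generated by u together with O(G), the largest normal subgroup of G of odd order, and the centralizer of u is {1, u}; (b) G is not perfect; (c) c = 2. -/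
theorem result {G : Type*} [Group G] [Finite G] (u : G) (hu : u ≠ 1) (c : ℂ) (hyp : ∀ χ : Cfsg.IrrCharacter G, (χ : G → ℂ) ≠ (fun _ => (1 : ℂ)) → ((χ : G → ℂ) 1 - (χ : G → ℂ) u = c ∨ (χ : G → ℂ) u = 0)) : ((orderOf u = 2 ∧ Subgroup.zpowers u ⊔ Cfsg.oddCore G = ⊤ ∧ Subgroup.centralizer ({u} : Set G) = Subgroup.zpowers u) ↔ commutator G ≠ ⊤) ∧ (commutator G ≠ ⊤ ↔ c = 2) := by
  classical
  haveI := Fintype.ofFinite G
  haveI hf2 : Fact (Nat.Prime 2) := ⟨Nat.prime_two⟩
  have hu1 : ¬ IsConj u 1 := fun h => hu (isConj_one_right.mp h.symm)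
  have horth := second_orth u 1
  rw [if_neg hu1] at horth
  let one' : IrrCharacter G := ⟨fun _ => 1, isIrr_one⟩
  have hd : ∀ χ : IrrCharacter G, (1 : ℕ) ≤ charDegree (χ : G → ℂ) :=
    fun χ => charDegree_pos χ.2
  have hlinv : ∀ L : G →* ℂˣ, L ≠ 1 → (1 : ℂ) - (L u : ℂ) = c := by
    intro L hL
    rcases hyp ⟨_, isIrr_linear L⟩ (fun h => hL (MonoidHom.ext fun g => Units.ext (by
      simpa using congrFun h g))) with h | h
    · simpa using h
    · exact absurd h (L u).ne_zero
  -- `c` is not zero
  have hc0 : c ≠ 0 := by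
    rintro rfl
    have hterm : ∀ χ : IrrCharacter G,
        0 ≤ ((χ : G → ℂ) u * conj ((χ : G → ℂ) 1)).re := by
      intro χ
      by_cases h1 : (χ : G → ℂ) = fun _ => 1
      · simp [h1]
      rcases hyp χ h1 with h | h
      · rw [sub_eq_zero] at h
        simp [← h, irr_one_eq χ.2]
        positivity
      · simp [h]
    have h0 := congrArg Complex.re horth
    rw [Complex.re_sum, Complex.zero_re] at h0
    have := (Finset.sum_eq_zero_iff_of_nonneg fun χ _ => hterm χ).mp h0 one' (Finset.mem_univ _)
    simp [one'] at this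
  -- a non-trivial linear character takes the value -1
  have hlin : ∀ L : G →* ℂˣ, L ≠ 1 → (L u : ℂ) = -1 ∧ L * L = 1 ∧ c = 2 := by
    intro L hL
    have h1 := hlinv L hL
    have hLL : L * L = 1 := by
      by_contra hne
      have h2 := hlinv _ hne
      rw [MonoidHom.mul_apply, Units.val_mul] at h2
      have h3 : (L u : ℂ) * ((L u : ℂ) - 1) = 0 := by linear_combination h1 - h2
      rcases mul_eq_zero.mp h3 with h | h
      · exact (L u).ne_zero h
      · exact hc0 (by linear_combination -h1 - h)
    have h2 : (L u : ℂ) * (L u : ℂ) = 1 := by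
      rw [← Units.val_mul, ← MonoidHom.mul_apply, hLL]; simp
    rcases mul_self_eq_one_iff.mp h2 with h | h
    · exact absurd (by rw [← h1, h, sub_self]) hc0
    · exact ⟨h, hLL, by rw [← h1, h]; norm_num⟩
  have hAc : commutator G ≠ ⊤ → c = 2 := by
    intro hne
    obtain ⟨x, hx⟩ : ∃ x : G, x ∉ commutator G := by
      by_contra h
      push Not at h
      exact hne (eq_top_iff.mpr fun x _ => h x)
    obtain ⟨L, hL⟩ := exists_linear_ne_one hx
    exact (hlin L fun h => hL (by simp [h])).2.2
  have hcA : c = 2 → commutator G ≠ ⊤ ∧ (orderOf u = 2 ∧ Subgroup.zpowers u ⊔ oddCore G = ⊤ ∧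
      Subgroup.centralizer ({u} : Set G) = Subgroup.zpowers u) := by
    intro hc2
    have hform : ∀ χ : IrrCharacter G, (χ : G → ℂ) ≠ (fun _ => 1) →
        ((χ : G → ℂ) u * conj ((χ : G → ℂ) 1)).re =
          ((charDegree (χ : G → ℂ) : ℝ) - 2) * charDegree (χ : G → ℂ) ∨ (χ : G → ℂ) u = 0 := by
      intro χ h1
      rcases hyp χ h1 with h | h
      · left
        have hv : (χ : G → ℂ) u = (charDegree (χ : G → ℂ) : ℂ) - 2 := by
          rw [← irr_one_eq χ.2, ← hc2]; linear_combination -h
        simp [hv, irr_one_eq χ.2]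
      · right; exact h
    have hnonneg : ∀ χ : IrrCharacter G, charDegree (χ : G → ℂ) ≠ 1 →
        0 ≤ ((χ : G → ℂ) u * conj ((χ : G → ℂ) 1)).re := by
      intro χ hχ
      have h1 : (χ : G → ℂ) ≠ fun _ => 1 := fun h => hχ (by simp [charDegree, h])
      rcases hform χ h1 with h | h
      · rw [h]
        have : (2 : ℝ) ≤ (charDegree (χ : G → ℂ) : ℝ) := by
          have := hd χ
          exact_mod_cast (show 2 ≤ charDegree (χ : G → ℂ) by omega)
        exact mul_nonneg (by linarith) (Nat.cast_nonneg _)
      · simp [h]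
    have h0 := congrArg Complex.re horth
    rw [Complex.re_sum, Complex.zero_re, ← Finset.add_sum_erase Finset.univ _ (Finset.mem_univ one')]
      at h0
    obtain ⟨χl, hχl1, hχl⟩ : ∃ χ : IrrCharacter G, χ ≠ one' ∧ charDegree (χ : G → ℂ) = 1 := by
      by_contra hno
      push Not at hno
      have := Finset.sum_nonneg fun χ (hχ : χ ∈ Finset.univ.erase one') =>
        hnonneg χ (hno χ (Finset.ne_of_mem_erase hχ))
      have h1 : ((one' : G → ℂ) u * conj ((one' : G → ℂ) 1)).re = 1 := by simp [one']
      linarith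
    obtain ⟨L, hL⟩ := exists_hom_of_degree_one (isCharacter_of_isIrr χl.2)
      (by rw [irr_one_eq χl.2, hχl, Nat.cast_one])
    have hL1 : L ≠ 1 := fun h => hχl1 (Subtype.ext (by rw [hL, h]; funext g; simp [one']))
    obtain ⟨hLu, hLL, -⟩ := hlin L hL1
    have huniq : ∀ χ : IrrCharacter G, χ ≠ one' → χ ≠ χl → charDegree (χ : G → ℂ) ≠ 1 := by
      intro χ h1 h2 hdeg
      obtain ⟨L', hL'⟩ := exists_hom_of_degree_one (isCharacter_of_isIrr χ.2)
        (by rw [irr_one_eq χ.2, hdeg, Nat.cast_one])
      have hL'1 : L' ≠ 1 := fun h => h1 (Subtype.ext (by rw [hL', h]; funext g; simp [one']))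
      by_cases hmul : L' * L = 1
      · refine h2 (Subtype.ext ?_)
        rw [hL', hL, mul_right_cancel (hmul.trans hLL.symm)]
      · have h3 := (hlin _ hmul).1
        rw [MonoidHom.mul_apply, Units.val_mul, (hlin L' hL'1).1, hLu] at h3
        norm_num at h3
    have hmem : χl ∈ Finset.univ.erase one' := Finset.mem_erase.mpr ⟨hχl1, Finset.mem_univ _⟩
    rw [← Finset.add_sum_erase _ _ hmem] at h0
    have e1 : ((one' : G → ℂ) u * conj ((one' : G → ℂ) 1)).re = 1 := by simp [one']
    have e2 : ((χl : G → ℂ) u * conj ((χl : G → ℂ) 1)).re = -1 := by simp [hL, hLu]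
    rw [e1, e2, add_neg_cancel_left] at h0
    have hvan : ∀ χ : IrrCharacter G, χ ≠ one' → χ ≠ χl → (χ : G → ℂ) u = 0 := by
      intro χ h1 h2
      have h3 := (Finset.sum_eq_zero_iff_of_nonneg fun ψ hψ => hnonneg ψ
        (huniq ψ (Finset.ne_of_mem_erase (Finset.mem_of_mem_erase hψ))
          (Finset.ne_of_mem_erase hψ))).mp h0 χ (by simp [h1, h2])
      have h1' : (χ : G → ℂ) ≠ fun _ => 1 := fun h => h1 (Subtype.ext h)
      rcases hyp χ h1' with h | h
      · have hv : (χ : G → ℂ) u = (charDegree (χ : G → ℂ) : ℂ) - 2 := by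
          rw [← irr_one_eq χ.2, ← hc2]; linear_combination -h
        simp [hv, irr_one_eq χ.2] at h3
        rcases h3 with h3 | h3
        · rw [hv]
          have : (charDegree (χ : G → ℂ) : ℝ) = 2 := by linarith
          have : charDegree (χ : G → ℂ) = 2 := by exact_mod_cast this
          simp [this]
        · exact absurd h3 (by have := hd χ; omega)
      · exact h
    have hcard : Nat.card (Subgroup.centralizer ({u} : Set G)) = 2 := by
      have h2 := second_orth u u
      rw [if_pos (IsConj.refl u), ← Finset.add_sum_erase _ _ (Finset.mem_univ one'),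
        ← Finset.add_sum_erase _ _ hmem, Finset.sum_eq_zero fun χ hχ => by
          rw [hvan χ (Finset.ne_of_mem_erase (Finset.mem_of_mem_erase hχ))
            (Finset.ne_of_mem_erase hχ), zero_mul]] at h2
      have h3 : (2 : ℂ) = (Nat.card (Subgroup.centralizer ({u} : Set G)) : ℂ) := by
        rw [← h2]; simp [one', hL, hLu]; norm_num
      exact_mod_cast h3.symm
    have huC : u ∈ Subgroup.centralizer ({u} : Set G) := by
      rw [Subgroup.mem_centralizer_singleton_iff]
    have hord : orderOf u = 2 := by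
      have h1 := Subgroup.orderOf_dvd_natCard _ huC
      rw [hcard, Nat.dvd_prime Nat.prime_two] at h1
      exact h1.resolve_left fun h => hu (orderOf_eq_one_iff.mp h)
    have hC : Subgroup.zpowers u = Subgroup.centralizer ({u} : Set G) :=
      Subgroup.eq_of_le_of_card_ge (Subgroup.zpowers_le.mpr huC)
        (by rw [hcard, Nat.card_zpowers, hord])
    have hne : commutator G ≠ ⊤ := fun h => hL1 (MonoidHom.ext fun g =>
      commutator_apply_one L (h ▸ Subgroup.mem_top g))
    -- the kernel of `L` has odd order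
    have h4 : ¬ 4 ∣ Nat.card G := by
      intro h4
      obtain ⟨P, hP⟩ := ((IsPGroup.iff_card (p := 2) (G := Subgroup.zpowers u)).mpr
        ⟨1, by rw [Nat.card_zpowers, hord, pow_one]⟩).exists_le_sylow
      have hP4 : 2 ^ 2 ∣ Nat.card P := P.pow_dvd_card_of_pow_dvd_card h4
      haveI : Nontrivial (P : Subgroup G) := by
        refine (Subgroup.nontrivial_iff_ne_bot _).mpr fun h => hu ?_
        have := hP (Subgroup.mem_zpowers u)
        rwa [h, Subgroup.mem_bot] at this
      haveI := P.isPGroup'.center_nontrivial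
      obtain ⟨⟨z, hz⟩, hz1⟩ := exists_ne (1 : Subgroup.center (P : Subgroup G))
      have hz' : ∀ x ∈ (P : Subgroup G), x * (z : G) = (z : G) * x := fun x hx =>
        congrArg Subtype.val (Subgroup.mem_center_iff.mp hz ⟨x, hx⟩)
      have hzC : (z : G) ∈ Subgroup.centralizer ({u} : Set G) := by
        rw [Subgroup.mem_centralizer_singleton_iff]
        exact (hz' u (hP (Subgroup.mem_zpowers u))).symm
      have hzu : (z : G) = u := by
        rw [← hC, mem_zpowers_iff_mem_range_orderOf, hord] at hzC
        obtain ⟨i, hi, hi'⟩ := Finset.mem_image.mp hzC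
        rw [Finset.mem_range] at hi
        interval_cases i
        · exact absurd (Subtype.ext (Subtype.ext (by simpa using hi'.symm))) hz1
        · simpa using hi'.symm
      have hPC : (P : Subgroup G) ≤ Subgroup.centralizer ({u} : Set G) := fun x hx => by
        rw [Subgroup.mem_centralizer_singleton_iff]
        have := hz' x hx
        rwa [hzu] at this
      have := hP4.trans (Subgroup.card_dvd_of_le hPC)
      rw [hcard] at this
      norm_num at this
    have huN : u ∉ L.ker := fun h => by
      rw [MonoidHom.mem_ker] at h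
      rw [h] at hLu
      norm_num at hLu
    have hsq : ∀ a : G, L a * L a = 1 := fun a => by
      rw [← MonoidHom.mul_apply, hLL]; rfl
    have hcoset : ∀ a : G, a ∈ L.ker ∨ a * u ∈ L.ker := by
      intro a
      rw [MonoidHom.mem_ker, MonoidHom.mem_ker]
      have h1 : (L a : ℂ) * (L a : ℂ) = 1 := by rw [← Units.val_mul, hsq]; simp
      rcases mul_self_eq_one_iff.mp h1 with h | h
      · exact Or.inl (Units.ext (by simpa using h))
      · exact Or.inr (Units.ext (by simp [h, hLu]))
    have hidx : L.ker.index = 2 := by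
      rw [Subgroup.index_eq_two_iff]
      refine ⟨u, fun a => ?_⟩
      rcases hcoset a with h | h
      · exact Or.inr ⟨h, fun h' => huN ((Subgroup.mul_mem_cancel_left _ h).mp h')⟩
      · exact Or.inl ⟨h, fun h' => huN ((Subgroup.mul_mem_cancel_left _ h').mp h)⟩
    have hodd : (Nat.card L.ker).Coprime 2 := by
      rw [Nat.coprime_two_right, ← Nat.not_even_iff_odd]
      rintro ⟨k, hk⟩
      refine h4 ⟨k, ?_⟩
      rw [← L.ker.card_mul_index, hidx, hk]; ring
    refine ⟨hne, hord, eq_top_iff.mpr fun a _ => ?_, hC.symm⟩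
    have hle : L.ker ≤ oddCore G := CfsgLib.Solv.le_pPrimeCore hodd
    rcases hcoset a with h | h
    · exact Subgroup.mem_sup_right (hle h)
    · have := Subgroup.mul_mem (Subgroup.zpowers u ⊔ oddCore G) (Subgroup.mem_sup_right (hle h))
        (Subgroup.mem_sup_left (inv_mem (Subgroup.mem_zpowers u)))
      simpa [mul_assoc] using this
  refine ⟨⟨?_, fun h => (hcA (hAc h)).2⟩, ⟨hAc, fun h => (hcA h).1⟩⟩
  rintro ⟨hord, htop, -⟩ hcomm
  haveI : (oddCore G).Normal := CfsgLib.Solv.pPrimeCore_normal G 2
  have hle : commutator G ≤ oddCore G := by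
    rw [commutator_def, Subgroup.commutator_le]
    intro a _ b _
    have hgen : ∀ a : G, ∃ i : ℤ, QuotientGroup.mk' (oddCore G) a =
        QuotientGroup.mk' (oddCore G) u ^ i := by
      intro a
      have ha : a ∈ Subgroup.zpowers u ⊔ oddCore G := htop ▸ Subgroup.mem_top a
      obtain ⟨y, ⟨i, rfl⟩, z, hz, rfl⟩ := Subgroup.mem_sup_of_normal_right.mp ha
      refine ⟨i, ?_⟩
      rw [map_mul, map_zpow, show QuotientGroup.mk' (oddCore G) z = 1 from
        (QuotientGroup.eq_one_iff z).mpr hz, mul_one]
    obtain ⟨i, hi⟩ := hgen a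
    obtain ⟨j, hj⟩ := hgen b
    refine (QuotientGroup.eq_one_iff _).mp ?_
    show QuotientGroup.mk' (oddCore G) ⁅a, b⁆ = 1
    rw [map_commutatorElement, hi, hj, commutatorElement_eq_one_iff_mul_comm]
    exact zpow_mul_comm _ i j
  rw [hcomm, top_le_iff] at hle
  have h1 : ¬ 2 ∣ Nat.card (oddCore G) := CfsgLib.Solv.not_dvd_card_pPrimeCore
  apply h1
  show 2 ∣ Nat.card (oddCore G)
  rw [hle, Subgroup.card_top, ← hord]
  exact orderOf_dvd_natCard u

end Cfsg.Agent.S4757
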