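import Cfsg.Statements.S4762
import Cfsg.Agent.Char.Extraspecial
import Cfsg.Agent.Char.PPrimeDegree
import Cfsg.Agent.Char.PermLemma
import Cfsg.Agent.Char.Gallagher
import Cfsg.Agent.Solv.FittingBasic
import Cfsg.Agent.Solv.MinNonNilp
import Cfsg.Agent.Solv.SylowFactor
import Cfsg.Agent.Perm.MinClass
import Mathlib.GroupTheory.Nilpotent

set_option autoImplicit false
open Cfsg

namespace Cfsg.Agent.S4762

open CfsgLib.Char

/-- Let p be a prime and G a finite nilpotent group. Then G has exactly one irreducible complex character of degree divisible by p if and only if p = 2 and G is an extraspecial 2-group. -/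
theorem result {G : Type*} [Group G] [Finite G] [Group.IsNilpotent G] (p : ℕ) [Fact p.Prime] : Nat.card {χ : Cfsg.IrrCharacter G // p ∣ Cfsg.charDegree (χ : G → ℂ)} = 1 ↔ (p = 2 ∧ Cfsg.IsExtraspecial 2 G) := by
  classical
  haveI : Fintype G := Fintype.ofFinite G
  have hp : p.Prime := Fact.out
  constructor
  · intro h1
    obtain ⟨⟨χ, hχ⟩, huniq⟩ := Nat.card_eq_one_iff_exists.mp h1
    have hu : ∀ ψ : IrrCharacter G, p ∣ charDegree (ψ : G → ℂ) → ψ = χ :=
      fun ψ h => congrArg Subtype.val (huniq ⟨ψ, h⟩)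
    have htwist : ∀ μ : G →* ℂˣ, ∀ g : G, (χ : G → ℂ) g * (μ g : ℂ) = (χ : G → ℂ) g := fun μ g => by
      have h := hu ⟨_, irr_mul_linear χ.2 μ⟩ (by
        have : charDegree (fun g => (χ : G → ℂ) g * (μ g : ℂ)) = charDegree (χ : G → ℂ) :=
          charDegree_eq (by simp [irr_one_eq χ.2])
        rwa [this])
      exact congrFun (congrArg Subtype.val h) g
    have hvan : ∀ g : G, g ∉ commutator G → (χ : G → ℂ) g = 0 := fun g hg => by
      obtain ⟨μ, hμ⟩ := exists_linear_ne_one hg
      have h : (χ : G → ℂ) g * ((μ g : ℂ) - 1) = 0 := by linear_combination htwist μ g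
      refine (mul_eq_zero.mp h).resolve_right (sub_ne_zero.mpr fun e => hμ (Units.ext ?_))
      simpa using e
    -- the group is a p-group
    have hG : IsPGroup p G := by
      by_contra hG
      obtain ⟨P⟩ := (inferInstance : Nonempty (Sylow p G))
      haveI hPn : (P : Subgroup G).Normal :=
        Sylow.normal_of_normalizerCondition Group.normalizerCondition_of_isNilpotent P
      have hPtop : (P : Subgroup G) ≠ ⊤ := fun h => hG
        (fun g => by
          obtain ⟨k, hk⟩ := P.2 ⟨g, h ▸ Subgroup.mem_top g⟩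
          exact ⟨k, by simpa using congrArg Subtype.val hk⟩)
      obtain ⟨N, hNP⟩ := Subgroup.exists_right_complement'_of_coprime (N := (P : Subgroup G))
        (by
          obtain ⟨k, hk⟩ := IsPGroup.iff_card.1 P.2
          rw [hk]
          exact (hp.coprime_iff_not_dvd.mpr P.not_dvd_index).pow_left k)
      by_cases hab : commutator G ⊓ (P : Subgroup G) = ⊥
      · -- the Sylow subgroup is central
        have hcen : (P : Subgroup G) ≤ Subgroup.center G := fun x hx => Subgroup.mem_center_iff.mpr fun g => by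
          have h2 : g * x * g⁻¹ * x⁻¹ ∈ commutator G ⊓ (P : Subgroup G) := by
            refine Subgroup.mem_inf.mpr ⟨?_, mul_mem (hPn.conj_mem x hx g) (inv_mem hx)⟩
            rw [commutator_def]
            exact Subgroup.commutator_mem_commutator (Subgroup.mem_top g) (Subgroup.mem_top x)
          rw [hab, Subgroup.mem_bot, mul_inv_eq_one, mul_inv_eq_iff_eq_mul] at h2
          exact h2
        exact P.not_dvd_index (hχ.trans (degree_dvd_index_central χ.2 (P : Subgroup G) hcen))
      · -- a nonlinear character with the complement in its kernel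
        obtain ⟨c, hc, hc1⟩ : ∃ c ∈ commutator G ⊓ (P : Subgroup G), c ≠ 1 := by
          by_contra! h
          exact hab ((Subgroup.eq_bot_iff_forall _).mpr h)
        obtain ⟨hcc, hcP⟩ := Subgroup.mem_inf.mp hc
        haveI hNn : N.Normal := by
          have hcomm : ∀ x ∈ (P : Subgroup G), ∀ y ∈ N, x * y = y * x := by
            intro x hx y hy
            have hle : N ≤ Subgroup.centralizer ((P : Subgroup G) : Set G) := by
              refine CfsgLib.Solv.le_of_forall_prime_power fun q hq hqN w hw ⟨b, hb⟩ => ?_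
              have hqp : q ≠ p := fun e => P.not_dvd_index (by
                rw [hNP.symm.index_eq_card]; exact e ▸ hqN)
              have hzp : IsPGroup q (Subgroup.zpowers w) := IsPGroup.of_card (n := b) (by rw [Nat.card_zpowers, hb])
              exact CfsgLib.Solv.commute_of_isNilpotent inferInstance hq hp hqp hzp P.2
                (Subgroup.mem_zpowers w)
            exact Subgroup.mem_centralizer_iff.mp (hle hy) x hx
          constructor
          intro n hn g
          obtain ⟨a, ha, b, hb, rfl⟩ := Subgroup.mem_sup_of_normal_left.1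
            (show g ∈ (P : Subgroup G) ⊔ N by rw [hNP.sup_eq_top]; trivial)
          have : a * b * n * (a * b)⁻¹ = b * n * b⁻¹ := by
            calc a * b * n * (a * b)⁻¹ = a * (b * n * b⁻¹) * a⁻¹ := by group
              _ = b * n * b⁻¹ := by
                rw [hcomm a ha _ (mul_mem (mul_mem hb hn) (inv_mem hb)), mul_inv_cancel_right]
          rw [this]
          exact mul_mem (mul_mem hb hn) (inv_mem hb)
        haveI : Fintype (G ⧸ N) := Fintype.ofFinite _
        have hcN : c ∉ N := fun h => hc1 (Subgroup.mem_bot.mp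
          (hNP.disjoint.eq_bot ▸ Subgroup.mem_inf.mpr ⟨hcP, h⟩))
        obtain ⟨ψ, hψ1⟩ : ∃ ψ : IrrCharacter (G ⧸ N), (ψ : G ⧸ N → ℂ) 1 ≠ 1 := by
          by_contra! hall
          refine hcN ((QuotientGroup.eq_one_iff c).mp (isConj_one_left.mp ((isConj_iff_irr _ _).mpr fun ψ => ?_)))
          obtain ⟨μ, hμ⟩ := exists_hom_of_degree_one (isCharacter_of_isIrr ψ.2) (hall ψ)
          rw [hμ]
          have := Abelianization.commutator_subset_ker (μ.comp (QuotientGroup.mk' N)) hcc
          simpa using MonoidHom.mem_ker.mp this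
        let ψ' : IrrCharacter G := ⟨(ψ : G ⧸ N → ℂ) ∘ QuotientGroup.mk' N,
          irr_comp _ (QuotientGroup.mk'_surjective N) ψ.2⟩
        have hψd : charDegree (ψ' : G → ℂ) = charDegree (ψ : G ⧸ N → ℂ) := by
          simp only [ψ', charDegree, Function.comp_apply, map_one]
        have hdiv : p ∣ charDegree (ψ' : G → ℂ) := by
          rw [hψd]
          have hi : N.index = Nat.card (P : Subgroup G) := hNP.index_eq_card
          obtain ⟨k, hk⟩ := IsPGroup.iff_card.1 P.2
          obtain ⟨i, -, hi'⟩ := (Nat.dvd_prime_pow hp).mp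
            ((hk ▸ hi ▸ Subgroup.index_eq_card N) ▸ degree_dvd_card ψ.2)
          rcases Nat.eq_zero_or_pos i with rfl | h0
          · exact absurd (by rw [irr_one_eq ψ.2, hi', pow_zero, Nat.cast_one]) hψ1
          · rw [hi']; exact dvd_pow_self p h0.ne'
        obtain ⟨x, hxN, hx⟩ : ∃ x ∈ N, x ∉ commutator G := by
          obtain ⟨M, hM, hPM⟩ := (IsCoatomic.eq_top_or_exists_le_coatom (P : Subgroup G)).resolve_left hPtop
          haveI hMn : M.Normal := Subgroup.NormalizerCondition.normal_of_coatom M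
            Group.normalizerCondition_of_isNilpotent hM
          obtain ⟨x, hxN, hxM⟩ : ∃ x ∈ N, x ∉ M := by
            by_contra! h
            exact hM.1 (top_le_iff.mp (hNP.sup_eq_top ▸ sup_le hPM h))
          refine ⟨x, hxN, fun hx => hxM ?_⟩
          have hmax : ∀ a : G, a ∉ M → M ⊔ Subgroup.zpowers a = ⊤ := fun a ha =>
            hM.2 _ (lt_of_le_of_ne le_sup_left fun e => ha (by
              rw [e]; exact Subgroup.mem_sup_right (Subgroup.mem_zpowers a)))
          have hcomm : commutator G ≤ M := by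
            haveI : IsCyclic (G ⧸ M) := ⟨⟨QuotientGroup.mk' M x, fun q => by
              obtain ⟨g, rfl⟩ := QuotientGroup.mk'_surjective M q
              obtain ⟨m, hm, w, hw, rfl⟩ := Subgroup.mem_sup_of_normal_left.1
                (show g ∈ M ⊔ Subgroup.zpowers x by rw [hmax x hxM]; trivial)
              obtain ⟨i, rfl⟩ := Subgroup.mem_zpowers_iff.1 hw
              refine Subgroup.mem_zpowers_iff.2 ⟨i, ?_⟩
              rw [map_mul, map_zpow, QuotientGroup.mk'_apply M m, (QuotientGroup.eq_one_iff m).mpr hm, one_mul]⟩⟩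
            letI := IsCyclic.commGroup (α := G ⧸ M)
            have h := Abelianization.commutator_subset_ker (QuotientGroup.mk' M)
            rwa [QuotientGroup.ker_mk'] at h
          exact hcomm hx
        have h0 := hvan x hx
        rw [← hu ψ' hdiv] at h0
        simp only [ψ', Function.comp_apply, QuotientGroup.mk'_apply,
          (QuotientGroup.eq_one_iff x).mpr hxN] at h0
        exact irr_one_ne_zero ψ.2 h0
    have hcomm1 : ∃ c ∈ commutator G, c ≠ 1 := by
      by_contra! h
      have hd := degree_dvd_index_central χ.2 ⊤ (fun x _ => Subgroup.mem_center_iff.mpr fun y => by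
        have h2 := h (y * x * y⁻¹ * x⁻¹) (by
          rw [commutator_def]
          exact Subgroup.commutator_mem_commutator (Subgroup.mem_top y) (Subgroup.mem_top x))
        rwa [mul_inv_eq_one, mul_inv_eq_iff_eq_mul] at h2)
      rw [Subgroup.index_top, Nat.dvd_one] at hd
      rw [hd, Nat.dvd_one] at hχ
      exact hp.ne_one hχ
    have hlin : ∀ ψ : IrrCharacter G, ψ ≠ χ → ∀ c ∈ commutator G, (ψ : G → ℂ) c = (ψ : G → ℂ) 1 := by
      intro ψ hψ c hc
      obtain ⟨k, hk⟩ := IsPGroup.iff_card.1 hG
      obtain ⟨i, -, hi⟩ := (Nat.dvd_prime_pow hp).mp (hk ▸ degree_dvd_card ψ.2)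
      rcases Nat.eq_zero_or_pos i with rfl | h0
      · obtain ⟨μ, hμ⟩ := exists_hom_of_degree_one (isCharacter_of_isIrr ψ.2)
          (by rw [irr_one_eq ψ.2, hi, pow_zero, Nat.cast_one])
        rw [hμ]
        simp [MonoidHom.mem_ker.1 (Abelianization.commutator_subset_ker μ hc)]
      · exact absurd (hu ψ (hi ▸ dvd_pow_self p h0.ne')) hψ
    have hall : ∀ a ∈ commutator G, ∀ b ∈ commutator G, a ≠ 1 → b ≠ 1 → IsConj a b := by
      intro a ha b hb ha1 hb1
      refine (isConj_iff_irr _ _).mpr fun ψ => ?_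
      by_cases hψ : ψ = χ
      · subst hψ
        have key : ∀ c ∈ commutator G, c ≠ 1 → (ψ : G → ℂ) c * (ψ : G → ℂ) 1 =
            -∑ φ ∈ Finset.univ.erase ψ, (φ : G → ℂ) 1 * (φ : G → ℂ) 1 := by
          intro c hc hc1
          have h := second_orth c 1
          rw [if_neg fun e => hc1 (isConj_one_left.mp e), ← Finset.add_sum_erase _ _ (Finset.mem_univ ψ),
            Finset.sum_congr rfl (g := fun φ : IrrCharacter G => (φ : G → ℂ) 1 * (φ : G → ℂ) 1)
              fun φ hφ => by rw [hlin φ (Finset.ne_of_mem_erase hφ) c hc, irr_one_eq φ.2, map_natCast],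
            irr_one_eq ψ.2, map_natCast] at h
          rw [irr_one_eq ψ.2]
          linear_combination h
        exact mul_right_cancel₀ (irr_one_ne_zero ψ.2) ((key a ha ha1).trans (key b hb hb1).symm)
      · rw [hlin ψ hψ a ha, hlin ψ hψ b hb]
    obtain ⟨c₀, hc₀, hc₀1⟩ := hcomm1
    haveI : Nontrivial (commutator G) := ⟨⟨c₀, hc₀⟩, 1, fun e => hc₀1 (congrArg Subtype.val e)⟩
    obtain ⟨z, hzc, hzz, hz1⟩ : ∃ z, z ∈ commutator G ∧ z ∈ Subgroup.center G ∧ z ≠ 1 := by
      have h := CfsgLib.Perm.inf_center_ne_bot hG (commutator G) (fun e => hc₀1 (by rwa [e, Subgroup.mem_bot] at hc₀))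
      by_contra! hno
      exact h ((Subgroup.eq_bot_iff_forall _).mpr fun x hx =>
        hno x (Subgroup.mem_inf.mp hx).1 (Subgroup.mem_inf.mp hx).2)
    have htwo : ∀ x ∈ commutator G, x = 1 ∨ x = z := fun x hx => by
      by_cases hx1 : x = 1
      · exact Or.inl hx1
      obtain ⟨k, hk⟩ := isConj_iff.mp (hall z hzc x hx hz1 hx1)
      rw [Subgroup.mem_center_iff.mp hzz k, mul_inv_cancel_right] at hk
      exact Or.inr hk.symm
    have hcard : Nat.card (commutator G) = 2 := by
      rw [Nat.card_eq_two_iff' (1 : commutator G)]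
      refine ⟨⟨z, hzc⟩, fun e => hz1 (congrArg Subtype.val e), fun y hy => Subtype.ext ?_⟩
      exact (htwo y y.2).resolve_left fun e => hy (Subtype.ext e)
    have hp2 : p = 2 := by
      obtain ⟨k, hk⟩ := IsPGroup.iff_card.1 hG
      have := Subgroup.card_subgroup_dvd_card (commutator G)
      rw [hcard, hk] at this
      exact ((Nat.prime_dvd_prime_iff_eq Nat.prime_two hp).mp (Nat.prime_two.dvd_of_dvd_pow this)).symm
    subst hp2
    have hcz : commutator G ≤ Subgroup.center G := fun x hx => by
      rcases htwo x hx with rfl | rfl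
      · exact one_mem _
      · exact hzz
    have hzc' : Subgroup.center G ≤ commutator G := by
      intro x hx
      by_contra hxc
      obtain ⟨ω, hω, hω1⟩ := exists_central_scalar χ.2 hx
      have h2 := hω x⁻¹
      rw [inv_mul_cancel] at h2
      have h0 := hvan x hxc
      rw [hω1] at h0
      rcases mul_eq_zero.mp h0 with h | h
      · exact irr_one_ne_zero χ.2 (by rw [h2, h, zero_mul])
      · exact irr_one_ne_zero χ.2 h
    have heq : commutator G = Subgroup.center G := le_antisymm hcz hzc'
    have hsq : ∀ x : G, x ^ 2 ∈ commutator G := by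
      intro x
      refine hzc' (Subgroup.mem_center_iff.mpr fun y => ?_)
      have hc : x * y * x⁻¹ * y⁻¹ ∈ commutator G := by
        rw [commutator_def]
        exact Subgroup.commutator_mem_commutator (Subgroup.mem_top x) (Subgroup.mem_top y)
      obtain ⟨c, hcdef⟩ : ∃ c, c = x * y * x⁻¹ * y⁻¹ := ⟨_, rfl⟩
      have hcc : c * c = 1 := by
        rw [hcdef]
        rcases htwo _ hc with h | h <;> rw [h]
        · simp
        · have hz2 : (⟨z, hzc⟩ : commutator G) ^ Nat.card (commutator G) = 1 := pow_card_eq_one'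
          rw [hcard, pow_two] at hz2
          exact congrArg Subtype.val hz2
      have hcx : x * c = c * x := Subgroup.mem_center_iff.mp (hcdef ▸ hcz hc) x
      symm
      calc x ^ 2 * y = x * (x * y * x⁻¹) * x := by rw [pow_two]; group
        _ = x * (c * y) * x := by rw [hcdef]; group
        _ = c * (x * y * x⁻¹) * x ^ 2 := by rw [← mul_assoc, hcx, pow_two]; group
        _ = c * (c * y) * x ^ 2 := by rw [hcdef]; group
        _ = y * x ^ 2 := by rw [← mul_assoc, hcc, one_mul]
    refine ⟨rfl, ⟨hG, ?_, heq⟩, heq ▸ hcard⟩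
    refine le_antisymm (le_trans (CfsgLib.Solv.frattini_le_of_elementary (p := 2) _ le_rfl hsq) heq.le) ?_
    rw [← heq]
    exact CfsgLib.Solv.commutator_le_frattini hG
  · rintro ⟨rfl, hE⟩
    obtain ⟨w, hw, hwu⟩ := (Nat.card_eq_two_iff' (1 : Subgroup.center G)).mp hE.2
    have hwz : ((w : G)) ≠ 1 := fun e => hw (Subtype.ext e)
    have hcen : ∀ y ∈ Subgroup.center G, y = 1 ∨ y = (w : G) := fun y hy => by
      by_cases h : y = 1
      · exact Or.inl h
      · exact Or.inr (congrArg Subtype.val (hwu ⟨y, hy⟩ fun e => h (congrArg Subtype.val e)))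
    have hform : ∀ χ : IrrCharacter G, (χ : G → ℂ) 1 ≠ 1 →
        (χ : G → ℂ) w = -(χ : G → ℂ) 1 ∧ ∀ x ∉ Subgroup.center G, (χ : G → ℂ) x = 0 := by
      intro χ h1
      have hne : (χ : G → ℂ) (w : G) ≠ (χ : G → ℂ) 1 := fun e => h1 (degree_one_of_center_kernel hE χ.2
        fun y hy => by rcases hcen y hy with rfl | rfl <;> [rfl; exact e])
      refine ⟨?_, fun x hx => vanish_of_extraspecial hE χ.2 w.2 hne hx⟩
      obtain ⟨ω, hω, hω1⟩ := exists_central_scalar χ.2 w.2
      have hww : (w : G) * w = 1 := by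
        have h := pow_card_eq_one' (x := w)
        rw [hE.2, pow_two] at h
        exact congrArg Subtype.val h
      have h2 := hω (w : G)
      rw [hww, hω1, ← mul_assoc] at h2
      have hω2 : ω * ω = 1 := mul_right_cancel₀ (irr_one_ne_zero χ.2) (h2.symm.trans (one_mul _).symm)
      rcases mul_self_eq_one_iff.mp hω2 with h | h
      · exact absurd (by rw [hω1, h, one_mul]) hne
      · rw [hω1, h]; ring
    have hdvd : ∀ χ : IrrCharacter G, 2 ∣ charDegree (χ : G → ℂ) ↔ (χ : G → ℂ) 1 ≠ 1 := by
      intro χ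
      rw [irr_one_eq χ.2]
      obtain ⟨k, hk⟩ := IsPGroup.iff_card.1 hE.1.1
      obtain ⟨i, -, hi⟩ := (Nat.dvd_prime_pow Nat.prime_two).mp (hk ▸ degree_dvd_card χ.2)
      rw [hi, Ne, Nat.cast_eq_one]
      rcases Nat.eq_zero_or_pos i with rfl | h0
      · simp
      · exact iff_of_true (dvd_pow_self 2 h0.ne') (Nat.one_lt_two_pow h0.ne').ne'
    obtain ⟨χ, hχ1⟩ : ∃ χ : IrrCharacter G, (χ : G → ℂ) 1 ≠ 1 := by
      by_contra! hall
      have hwc : (w : G) ∈ commutator G := by rw [hE.1.2.2]; exact w.2
      refine hwz (isConj_one_left.mp ((isConj_iff_irr _ _).mpr fun ψ => ?_))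
      obtain ⟨μ, hμ⟩ := exists_hom_of_degree_one (isCharacter_of_isIrr ψ.2) (hall ψ)
      rw [hμ]
      simp [MonoidHom.mem_ker.1 (Abelianization.commutator_subset_ker μ hwc)]
    refine Nat.card_eq_one_iff_exists.mpr ⟨⟨χ, (hdvd χ).mpr hχ1⟩, ?_⟩
    rintro ⟨ψ, hψ⟩
    refine Subtype.ext (Subtype.ext ?_)
    by_contra hne
    obtain ⟨hψw, hψv⟩ := hform ψ ((hdvd ψ).mp hψ)
    obtain ⟨hχw, hχv⟩ := hform χ hχ1
    have h := irr_inner_ne ψ.2 χ.2 hne
    rw [classInner_def, mul_eq_zero] at h
    have h' := h.resolve_left (inv_ne_zero (natCard_ne_zero G))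
    rw [← Finset.sum_subset (Finset.subset_univ {(1 : G), (w : G)}) fun x _ hx => ?_,
      Finset.sum_pair hwz.symm, hψw, hχw, map_neg] at h'
    · have : (2 : ℂ) * ((ψ : G → ℂ) 1 * (starRingEnd ℂ) ((χ : G → ℂ) 1)) = 0 := by linear_combination h'
      simp [irr_one_ne_zero ψ.2, irr_one_ne_zero χ.2] at this
    · rw [hψv x fun hxc => hx (by rcases hcen x hxc with rfl | rfl <;> simp)]
      simp

end Cfsg.Agent.S4762
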