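import Cfsg.Statements.S4763
import Cfsg.Agent.Char.GlauberApp
import Cfsg.Agent.Char.Ramified
import Cfsg.Agent.Char.Gallagher
import Cfsg.Agent.Char.Classes
import Mathlib.GroupTheory.FiniteAbelian.Duality
import Cfsg.Agent.Char.LinearTwist
import Mathlib.GroupTheory.Nilpotent
import Mathlib.GroupTheory.Sylow
import Mathlib.Tactic.Group

set_option autoImplicit false
open Cfsg

namespace Cfsg.Agent.S4763

open CfsgLib.Char

/-- Let p be a prime and G a finite group that is not nilpotent and has a normal p-complement (a normal subgroup of order prime to p and index a power of p). If G has exactly one irreducible complex character of degree divisible by p, then G has exactly one conjugacy class whose size is divisible by p. -/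
theorem result {G : Type*} [Group G] [Finite G] (p : ℕ) [Fact p.Prime] (hnil : ¬ Group.IsNilpotent G) (N : Subgroup G) [N.Normal] (hN : (Nat.card N).Coprime p) (hidx : ∃ k : ℕ, N.index = p ^ k) (hone : Nat.card {χ : Cfsg.IrrCharacter G // p ∣ Cfsg.charDegree (χ : G → ℂ)} = 1) : Nat.card {C : ConjClasses G // p ∣ Nat.card C.carrier} = 1 := by
  classical
  haveI := Fintype.ofFinite G
  haveI := Fintype.ofFinite N
  have hp : p.Prime := Fact.out
  obtain ⟨P⟩ : Nonempty (Sylow p G) := inferInstance
  haveI := Fintype.ofFinite (P : Subgroup G)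
  obtain ⟨k, hk⟩ := hidx
  have hPc : Nat.card (P : Subgroup G) = p ^ k := by
    rw [P.card_eq_multiplicity, ← N.card_mul_index, hk]
    congr 1
    rw [Nat.factorization_mul Nat.card_pos.ne' (pow_ne_zero _ hp.ne_zero), Finsupp.add_apply,
      Nat.factorization_eq_zero_of_not_dvd (hp.coprime_iff_not_dvd.mp hN.symm), hp.factorization_pow,
      Finsupp.single_eq_same, zero_add]
  have hcop : (Nat.card N).Coprime (Nat.card (P : Subgroup G)) := by rw [hPc]; exact hN.pow_right k
  have hsup : N ⊔ (P : Subgroup G) = ⊤ := by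
    refine Subgroup.eq_top_of_le_card _ (le_of_eq ?_)
    rw [← N.card_mul_index, hk, ← hPc]
    refine Nat.dvd_antisymm ?_ ?_
    · exact hcop.mul_dvd_of_dvd_of_dvd (Subgroup.card_dvd_of_le le_sup_left)
        (Subgroup.card_dvd_of_le le_sup_right)
    · rw [hPc, ← hk, N.card_mul_index]; exact Subgroup.card_subgroup_dvd_card _
  have hinf : ∀ {g : G}, g ∈ N → g ∈ (P : Subgroup G) → g = 1 := fun {g} h1 h2 => by
    have := Subgroup.inf_eq_bot_of_coprime hcop
    exact (Subgroup.mem_bot.mp (this ▸ ⟨h1, h2⟩ : g ∈ (⊥ : Subgroup G)))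
  have hdec : ∀ g : G, ∃ n ∈ N, ∃ y ∈ (P : Subgroup G), g = n * y := fun g => by
    obtain ⟨n, hn, y, hy, e⟩ := Subgroup.mem_sup_of_normal_left.mp
      (hsup ▸ Subgroup.mem_top g : g ∈ N ⊔ (P : Subgroup G))
    exact ⟨n, hn, y, hy, e.symm⟩
  -- the unique character of degree divisible by `p`
  obtain ⟨hs, ⟨χ₀⟩⟩ := Nat.card_eq_one_iff_unique.mp hone
  have huni : ∀ χ : IrrCharacter G, p ∣ charDegree (χ : G → ℂ) → χ = χ₀.1 := fun χ h =>
    congrArg Subtype.val (hs.elim ⟨χ, h⟩ χ₀)
  have hk0 : k ≠ 0 := fun e => by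
    have h1 : p ∣ Nat.card G := χ₀.2.trans (degree_dvd_card χ₀.1.2)
    rw [← N.card_mul_index, hk, e, pow_zero, mul_one] at h1
    exact hp.coprime_iff_not_dvd.mp hN.symm h1
  -- the projection
  have hbij : Function.Bijective ((QuotientGroup.mk' N).comp (P : Subgroup G).subtype) := by
    refine ⟨(injective_iff_map_eq_one _).mpr fun a ha => Subtype.ext (hinf
      ((QuotientGroup.eq_one_iff _).mp ha) a.2), fun q => ?_⟩
    obtain ⟨g, rfl⟩ := QuotientGroup.mk_surjective q
    obtain ⟨n, hn, y, hy, rfl⟩ := hdec g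
    refine ⟨⟨y, hy⟩, ?_⟩
    show ((y : G) : G ⧸ N) = ((n * y : G) : G ⧸ N)
    rw [QuotientGroup.eq, ← mul_assoc]
    simpa using (inferInstance : N.Normal).conj_mem n hn y⁻¹
  let e : (P : Subgroup G) ≃* G ⧸ N := MulEquiv.ofBijective _ hbij
  let π : G →* (P : Subgroup G) := e.symm.toMonoidHom.comp (QuotientGroup.mk' N)
  have hπN : ∀ n ∈ N, π n = 1 := fun n hn => by
    show e.symm ((QuotientGroup.mk' N) n) = 1
    rw [QuotientGroup.mk'_apply, (QuotientGroup.eq_one_iff n).mpr hn, map_one]
  have hπP : ∀ y : (P : Subgroup G), π y = y := fun y => e.symm_apply_apply y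
  have hπs : Function.Surjective π := fun y => ⟨y, hπP y⟩
  -- the Sylow subgroup is abelian
  have hab : ∀ a b : (P : Subgroup G), a * b = b * a := by
    by_contra hnab
    have hN1 : N ≠ ⊥ := fun e1 => hnil (IsPGroup.isNilpotent (IsPGroup.of_card (n := k)
      (by rw [← N.card_mul_index, hk, e1, Subgroup.card_bot, one_mul])))
    obtain ⟨β, hβ⟩ : ∃ β : IrrCharacter (P : Subgroup G), p ∣ charDegree (β : ↥(P : Subgroup G) → ℂ) := by
      by_contra hc
      push Not at hc
      refine hnab fun a b => ?_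
      have h1 : ∀ β : IrrCharacter (P : Subgroup G),
          (β : ↥(P : Subgroup G) → ℂ) (a * b * a⁻¹ * b⁻¹) = (β : ↥(P : Subgroup G) → ℂ) 1 := by
        intro β
        have hd := degree_dvd_card β.2
        rw [hPc] at hd
        obtain ⟨i, -, hi⟩ := (Nat.dvd_prime_pow hp).mp hd
        rcases i.eq_zero_or_pos with rfl | hi0
        · have h11 : (β : ↥(P : Subgroup G) → ℂ) 1 = 1 := by
            rw [irr_one_eq β.2, hi, pow_zero, Nat.cast_one]
          obtain ⟨lam, hlam⟩ := exists_hom_of_degree_one (isCharacter_of_isIrr β.2) h11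
          rw [hlam]
          show (lam _ : ℂ) = (lam 1 : ℂ)
          congr 1
          rw [map_mul, map_mul, map_mul, map_inv, map_inv, map_one, mul_comm (lam a) (lam b)]
          group
        · exact absurd (hi ▸ dvd_pow_self p hi0.ne') (hc β)
      have h2 := second_orth (a * b * a⁻¹ * b⁻¹) 1
      by_contra hne
      rw [if_neg (fun hc => hne (by
        have := isConj_one_right.mp hc.symm
        calc a * b = a * b * a⁻¹ * b⁻¹ * (b * a) := by group
        _ = b * a := by rw [this, one_mul]))] at h2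
      rw [Finset.sum_congr rfl fun β _ => by rw [h1 β]] at h2
      have h3 := second_orth (1 : (P : Subgroup G)) 1
      rw [h2, if_pos (IsConj.refl _)] at h3
      exact absurd h3.symm (by exact_mod_cast Nat.card_pos.ne')
    set η₀ : IrrCharacter G := ⟨(β : ↥(P : Subgroup G) → ℂ) ∘ π, irr_comp π hπs β.2⟩
    have hη₀ : η₀ = χ₀.1 := huni η₀ (by
      have : charDegree (η₀ : G → ℂ) = charDegree (β : ↥(P : Subgroup G) → ℂ) := by
        apply charDegree_eq
        show (β : ↥(P : Subgroup G) → ℂ) (π 1) = _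
        rw [map_one, irr_one_eq β.2]
      rwa [this])
    -- a non-trivial character below
    obtain ⟨θ, hθ⟩ : ∃ θ : IrrCharacter N, (θ : N → ℂ) ≠ fun _ => 1 := by
      by_contra hc
      push Not at hc
      obtain ⟨n, hn, hn1⟩ : ∃ n ∈ N, n ≠ 1 := N.bot_or_exists_ne_one.resolve_left hN1
      have h2 := second_orth (⟨n, hn⟩ : N) 1
      rw [if_neg (fun h => hn1 (congrArg Subtype.val (isConj_one_right.mp h.symm)))] at h2
      rw [Finset.sum_congr rfl fun θ _ => by rw [hc θ]] at h2
      simp at h2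
      haveI : Nonempty (IrrCharacter N) := ⟨⟨_, isIrr_one⟩⟩
      exact Fintype.card_ne_zero h2
    obtain ⟨χ, hχ⟩ := exists_constituent (isCharacter_indFun N (isCharacter_of_isIrr θ.2)) (fun h => by
      have := congrFun h 1
      rw [indFun_one, Pi.zero_apply, mul_eq_zero, irr_one_eq θ.2, Nat.cast_eq_zero, Nat.cast_eq_zero] at this
      exact this.elim Subgroup.index_ne_zero_of_finite (charDegree_pos θ.2).ne')
    have hres : classInner (fun n : N => (χ : G → ℂ) n) (θ : N → ℂ) ≠ 0 := by
      rw [frobenius N _ (classFun_of_irr χ.2)] at hχ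
      intro h
      apply hχ
      rw [← classInner_conj, h, map_zero]
    have hker : ∀ n : N, (η₀ : G → ℂ) n = (η₀ : G → ℂ) 1 := fun n => by
      show (β : ↥(P : Subgroup G) → ℂ) (π n) = (β : ↥(P : Subgroup G) → ℂ) (π 1)
      rw [hπN n n.2, map_one]
    have hne : χ ≠ η₀ := fun e' => by
      subst e'
      refine hres ?_
      rw [show (fun n : N => (η₀ : G → ℂ) n) = (η₀ : G → ℂ) 1 • (fun _ : N => (1 : ℂ)) from
        funext fun n => by simp [hker], classInner_smul_left, irr_inner_ne isIrr_one θ.2 (Ne.symm hθ),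
        mul_zero]
    have hinv : ∀ g : G, conjN (θ : N → ℂ) g = (θ : N → ℂ) := by
      have hd := degree_clifford χ.2 θ.2 hres
      obtain ⟨m, hm⟩ := inner_char_irr (isCharacter_comp N.subtype (isCharacter_of_isIrr χ.2)) θ.2
      change classInner (fun n : N => (χ : G → ℂ) n) (θ : N → ℂ) = _ at hm
      rw [hm, irr_one_eq χ.2, irr_one_eq θ.2, ← Nat.cast_mul, ← Nat.cast_mul, Nat.cast_inj] at hd
      have hi : (inertia (θ : N → ℂ)).index ∣ p ^ k :=
        hk ▸ Subgroup.index_dvd_of_le (le_inertia (classFun_of_irr θ.2))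
      obtain ⟨i, -, hi⟩ := (Nat.dvd_prime_pow hp).mp hi
      rcases i.eq_zero_or_pos with rfl | hi0
      · rw [pow_zero] at hi
        exact fun g => mem_inertia.mp (Subgroup.index_eq_one.mp hi ▸ Subgroup.mem_top g)
      · refine absurd ((huni χ ?_).trans hη₀.symm) hne
        rw [hd, hi]
        exact Dvd.dvd.mul_right (Dvd.dvd.mul_left (dvd_pow_self p hi0.ne') _) _
    obtain ⟨η, hη, hηN⟩ := exists_extension_coprime θ.2 hinv (by rw [hk]; exact hN.pow_right k)
    have hψ := (gallagher θ.2 (isCharacter_of_isIrr hη) hηN).mapsTo (x := (η₀ : G → ℂ))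
      ⟨η₀.2, hker⟩
    have hψ2 : (⟨_, hψ.1⟩ : IrrCharacter G) = η₀ := (huni _ (by
      have : charDegree ((η₀ : G → ℂ) * η) = charDegree (η₀ : G → ℂ) * charDegree η := by
        apply charDegree_eq
        rw [Pi.mul_apply, irr_one_eq η₀.2, irr_one_eq hη]; push_cast; rfl
      rw [this]
      exact Dvd.dvd.mul_right (hη₀ ▸ χ₀.2) _)).trans hη₀.symm
    refine hψ.2 ?_
    show classInner (fun n : N => ((⟨_, hψ.1⟩ : IrrCharacter G) : G → ℂ) n) (θ : N → ℂ) = 0
    rw [hψ2, show (fun n : N => (η₀ : G → ℂ) n) = (η₀ : G → ℂ) 1 • (fun _ : N => (1 : ℂ)) from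
        funext fun n => by simp [hker], classInner_smul_left, irr_inner_ne isIrr_one θ.2 (Ne.symm hθ),
        mul_zero]
  -- fixed points
  haveI hPs : Group.IsSolvable (P : Subgroup G) := by
    haveI := IsPGroup.isNilpotent (p := p) P.isPGroup'
    infer_instance
  have hnorm : ∀ s ∈ (P : Subgroup G), ∀ n ∈ N, s * n * s⁻¹ ∈ N :=
    fun s _ n hn => (inferInstance : N.Normal).conj_mem n hn s
  set A := (actHom N (P : Subgroup G) hnorm).range with hA
  haveI := Fintype.ofFinite (fixedSub A)
  obtain ⟨hAs, hAc⟩ := actHom_facts N (P : Subgroup G) hnorm hcop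
  have hF : ∀ c : N, c ∈ fixedSub A ↔ ∀ y ∈ (P : Subgroup G), y * c = (c : G) * y := by
    intro c
    constructor
    · intro h y hy
      have := congrArg (Subtype.val : N → G) (h _ ⟨⟨y, hy⟩, rfl⟩)
      change y * c * y⁻¹ = (c : G) at this
      exact mul_inv_eq_iff_eq_mul.mp this
    · rintro h _ ⟨s, rfl⟩
      exact Subtype.ext (show (s : G) * c * (s : G)⁻¹ = c from mul_inv_eq_iff_eq_mul.mpr (h s s.2))
  have hirr : Nat.card {θ : IrrCharacter N // ∀ g : G, conjN (θ : N → ℂ) g = θ} =
      Nat.card (ConjClasses (fixedSub A)) := by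
    rw [← card_irr_eq_card_conjClasses, ← (card_inv_irr_and_classes _ A rfl hAs hAc).1]
    refine Nat.card_congr (Equiv.subtypeEquivRight fun θ => ?_)
    rw [hA, autInv_actHom]
    constructor
    · intro h s _ g g' he
      have := congrFun (h s) g
      rw [show g' = ⟨s * g * s⁻¹, (inferInstance : N.Normal).conj_mem g g.2 s⟩ from Subtype.ext he]
      exact this
    · intro h g
      obtain ⟨n, hn, y, hy, rfl⟩ := hdec g
      rw [← conjN_mul, conjN_of_mem (classFun_of_irr θ.2) hn]
      exact funext fun m => h y hy m _ rfl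
  have hhom : Nat.card ((P : Subgroup G) →* ℂˣ) = Nat.card (P : Subgroup G) := by
    letI : CommGroup (P : Subgroup G) := { (inferInstance : Group (P : Subgroup G)) with mul_comm := hab }
    exact CommGroup.card_monoidHom_of_hasEnoughRootsOfUnity _ ℂ
  have hcount := card_coprime_degree hsup hcop
  rw [Nat.card_prod, hirr, hhom] at hcount
  have hiff : ∀ m : ℕ, m.Coprime (Nat.card (P : Subgroup G)) ↔ ¬ p ∣ m := fun m => by
    rw [hPc, Nat.coprime_pow_right_iff (Nat.pos_of_ne_zero hk0), Nat.coprime_comm,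
      hp.coprime_iff_not_dvd]
  rw [Nat.card_congr (Equiv.subtypeEquivRight fun χ : IrrCharacter G => hiff _)] at hcount
  -- classes of size prime to `p`
  have hcls : ∀ g : G, Nat.card (ConjClasses.mk g).carrier =
      (Subgroup.centralizer ({g} : Set G)).index := fun g => by
    rw [← card_isConj g]
    exact Nat.card_congr (Equiv.subtypeEquivRight fun x =>
      ConjClasses.mem_carrier_iff_mk_eq.trans (ConjClasses.mk_eq_mk_iff_isConj.trans isConj_comm))
  have hconj : ∀ (y : (P : Subgroup G)) (c : fixedSub A), ¬ p ∣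
      Nat.card (ConjClasses.mk (((c : N) : G) * y)).carrier := fun y c hd => by
    rw [hcls] at hd
    have hle : (P : Subgroup G) ≤ Subgroup.centralizer ({((c : N) : G) * y} : Set G) := fun z hz => by
      rw [Subgroup.mem_centralizer_singleton_iff, ← mul_assoc, (hF c).mp c.2 z hz, mul_assoc,
        mul_assoc ((c : N) : G)]
      congr 1
      exact congrArg Subtype.val (hab ⟨z, hz⟩ y)
    exact P.not_dvd_index (hd.trans (Subgroup.index_dvd_of_le hle))
  let Φ : ↥(P : Subgroup G) × ConjClasses (fixedSub A) →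
      {C : ConjClasses G // ¬ p ∣ Nat.card C.carrier} := fun w =>
    ⟨Quotient.liftOn w.2 (fun c => ConjClasses.mk (((c : N) : G) * w.1)) (fun c c' hcc => by
      obtain ⟨d, rfl⟩ := isConj_iff.mp hcc
      refine ConjClasses.mk_eq_mk_iff_isConj.mpr (isConj_iff.mpr ⟨((d : N) : G), ?_⟩)
      have hd : Commute (w.1 : G) ((d : N) : G) := (hF d).mp d.2 w.1 w.1.2
      push_cast
      rw [mul_assoc, mul_assoc (((c : N) : G)) (w.1 : G), hd.inv_right.eq]
      simp [mul_assoc]), by
      obtain ⟨y, C⟩ := w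
      induction C using Quotient.inductionOn with
      | h c => exact hconj y c⟩
  have hΦ : Function.Bijective Φ := by
    constructor
    · rintro ⟨y, C⟩ ⟨y', C'⟩ heq
      induction C using Quotient.inductionOn with
      | h c =>
      induction C' using Quotient.inductionOn with
      | h c' =>
      obtain ⟨g, hg⟩ := isConj_iff.mp (ConjClasses.mk_eq_mk_iff_isConj.mp (congrArg Subtype.val heq))
      have hy : y = y' := by
        have := congrArg π hg
        rw [map_mul, map_mul, map_inv, map_mul, map_mul, hπN _ (c : N).2, hπN _ (c' : N).2, one_mul,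
          one_mul, hπP, hπP, hab, ← mul_assoc, inv_mul_cancel, one_mul] at this
        exact this
      subst hy
      refine Prod.ext rfl (Quotient.sound ?_)
      obtain ⟨n, hn, z, hz, rfl⟩ := hdec g
      have hzc : z * (((c : N) : G) * y) * z⁻¹ = ((c : N) : G) * y := by
        rw [mul_inv_eq_iff_eq_mul, ← mul_assoc, (hF c).mp c.2 z hz, mul_assoc, mul_assoc ((c : N) : G)]
        congr 1
        exact congrArg Subtype.val (hab ⟨z, hz⟩ y)
      have hn2 : n * (((c : N) : G) * y) * n⁻¹ = ((c' : N) : G) * y := by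
        rw [← hg]
        conv_lhs => rw [← hzc]
        group
      -- separate the two parts by a power
      obtain ⟨r, hr1, hr2⟩ := Nat.chineseRemainder hcop 1 0
      have hpow : ∀ d : fixedSub A, (((d : N) : G) * (y : G)) ^ r = ((d : N) : G) := fun d => by
        have hcm : Commute ((d : N) : G) (y : G) := ((hF d).mp d.2 y y.2).symm
        rw [hcm.mul_pow, pow_eq_pow_iff_modEq.mpr (hr1.of_dvd
          (Subgroup.orderOf_coe (d : N) ▸ orderOf_dvd_natCard (d : N))), pow_one,
          pow_eq_pow_iff_modEq.mpr (hr2.of_dvd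
            (Subgroup.orderOf_coe y ▸ orderOf_dvd_natCard y)), pow_zero, mul_one]
      have hn3 : n * ((c : N) : G) * n⁻¹ = ((c' : N) : G) := by
        rw [← hpow c, ← conj_pow, hn2, hpow]
      exact conj_in_fixed (IsPGroup.of_surjective P.isPGroup'
        (actHom N (P : Subgroup G) hnorm).rangeRestrict
        (actHom N (P : Subgroup G) hnorm).rangeRestrict_surjective)
        (hp.coprime_iff_not_dvd.mp hN.symm) (isConj_iff.mpr ⟨⟨n, hn⟩, Subtype.ext hn3⟩)
    · rintro ⟨C, hC⟩
      obtain ⟨x, rfl⟩ := ConjClasses.exists_rep C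
      obtain ⟨R, hR⟩ : ∃ R : Sylow p G, (R : Subgroup G) ≤ Subgroup.centralizer ({x} : Set G) := by
        rw [hcls] at hC
        obtain ⟨R₀⟩ : Nonempty (Sylow p (Subgroup.centralizer ({x} : Set G))) := inferInstance
        have hR₀ : IsPGroup p ((R₀ : Subgroup _).map (Subgroup.centralizer ({x} : Set G)).subtype) :=
          R₀.isPGroup'.map _
        refine ⟨hR₀.toSylow fun hd => ?_, Subgroup.map_subtype_le _⟩
        rw [Subgroup.index_map_subtype, hp.dvd_mul] at hd
        exact hd.elim R₀.not_dvd_index hC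
      obtain ⟨g, hg⟩ := MulAction.exists_smul_eq G R P
      obtain ⟨n, hn, y, hy, hx⟩ := hdec (g * x * g⁻¹)
      have hcomm : ∀ z ∈ (P : Subgroup G), z * (n * y) = n * y * z := by
        intro z hz
        rw [← hx]
        have hz' : z ∈ (g • R : Sylow p G) := hg ▸ hz
        rw [← SetLike.mem_coe, Sylow.coe_smul, Set.mem_smul_set] at hz'
        obtain ⟨r, hr, rfl⟩ := hz'
        have := Subgroup.mem_centralizer_singleton_iff.mp (hR hr)
        simp only [MulAut.smul_def, MulAut.conj_apply]
        calc g * r * g⁻¹ * (g * x * g⁻¹) = g * (r * x) * g⁻¹ := by group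
          _ = g * (x * r) * g⁻¹ := by rw [this]
          _ = g * x * g⁻¹ * (g * r * g⁻¹) := by group
      have hnF : (⟨n, hn⟩ : N) ∈ fixedSub A := (hF _).mpr fun z hz => by
        have h1 := hcomm z hz
        have h2 : z * y = y * z := congrArg Subtype.val (hab ⟨z, hz⟩ ⟨y, hy⟩)
        rw [← mul_assoc, mul_assoc n y z, ← h2, ← mul_assoc n] at h1
        exact mul_right_cancel h1
      refine ⟨(⟨y, hy⟩, ConjClasses.mk ⟨⟨n, hn⟩, hnF⟩), Subtype.ext ?_⟩
      refine ConjClasses.mk_eq_mk_iff_isConj.mpr (isConj_iff.mpr ⟨g⁻¹, ?_⟩)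
      show g⁻¹ * (n * y) * g⁻¹⁻¹ = x
      rw [← hx]; group
  have hclass : Nat.card {C : ConjClasses G // ¬ p ∣ Nat.card C.carrier} =
      Nat.card (P : Subgroup G) * Nat.card (ConjClasses (fixedSub A)) := by
    rw [← Nat.card_prod]
    exact (Nat.card_eq_of_bijective Φ hΦ).symm
  have h1 := card_irr_eq_card_conjClasses (G := G)
  rw [← Nat.card_congr (Equiv.sumCompl fun χ : IrrCharacter G => p ∣ charDegree (χ : G → ℂ)),
    ← Nat.card_congr (Equiv.sumCompl fun C : ConjClasses G => p ∣ Nat.card C.carrier), Nat.card_sum,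
    Nat.card_sum, hone, hcount, hclass] at h1
  rw [mul_comm (Nat.card (ConjClasses (fixedSub A)))] at h1
  omega

end Cfsg.Agent.S4763
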