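import Cfsg.Statements.S4768
import Cfsg.Agent.S4713
import Cfsg.Agent.Blk.Inflate
import Cfsg.Agent.Blk.PrimeCore
import Cfsg.Agent.Char.PPrimeDegree
import Cfsg.Agent.Char.Linear
import Cfsg.Agent.Char.Central
import Cfsg.Agent.Solv.Basic
import Cfsg.Agent.Solv.PLengthOne
import Cfsg.Agent.Perm.HallHigman
import Cfsg.Agent.Fus.SolvableRealized

set_option autoImplicit false
open Cfsg

namespace Cfsg.Agent.S4768


open CfsgLib.Char CfsgLib.Blk
open scoped ComplexConjugate commutatorElement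

universe u

theorem normal_pgroup_le {G : Type u} [Group G] [Finite G] {p : ℕ} [Fact p.Prime] (N : Subgroup G)
    [N.Normal] (hN : IsPGroup p N) (P : Sylow p G) : N ≤ (P : Subgroup G) := by
  have h : IsPGroup p ((P : Subgroup G) ⊔ N : Subgroup G) := P.isPGroup'.to_sup_of_normal_right hN
  exact le_sup_right.trans (P.is_maximal' h le_sup_left).le

/-- If the characters not trivial on an abelian normal `p`-subgroup have `p'`-degree, then it
contains the derived group of a Sylow subgroup. -/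
theorem commutator_le {G : Type u} [Group G] [Finite G] {p : ℕ} [Fact p.Prime]
    (hps : IsPSolvable p G) (N : Subgroup G) [N.Normal] (hNp : IsPGroup p N) (hN : N ≠ ⊥)
    (hab : ∀ a ∈ N, ∀ b ∈ N, a * b = b * a)
    (hall : ∀ χ : IrrCharacter G, (∃ x ∈ N, (χ : G → ℂ) x ≠ (χ : G → ℂ) 1) →
      ¬ p ∣ charDegree (χ : G → ℂ))
    (P : Sylow p G) : ⁅(P : Subgroup G), (P : Subgroup G)⁆ ≤ N := by
  classical
  haveI := Fintype.ofFinite G
  haveI := Fintype.ofFinite N
  obtain ⟨⟨x, hxN⟩, hz⟩ := Subgroup.ne_bot_iff_exists_ne_one.1 hN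
  have hx1 : x ≠ 1 := fun h => hz (Subtype.ext h)
  have hxc : (⟨x, hxN⟩ : N) ∉ commutator N := by
    have h0 : commutator N = ⊥ := by
      rw [commutator_def, Subgroup.commutator_eq_bot_iff_le_centralizer]
      exact fun a _ => Subgroup.mem_centralizer_iff.2 fun b _ => Subtype.ext (hab _ b.2 _ a.2)
    rw [h0, Subgroup.mem_bot]
    exact fun h => hx1 (congrArg Subtype.val h)
  obtain ⟨lam, hlam⟩ := exists_linear_ne_one hxc
  set θ : N → ℂ := fun n => (lam n : ℂ) with hθdef
  have hθ : IsIrrCharacter N θ := isIrr_linear lam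
  have hnotker : ∀ χ : IrrCharacter G, classInner (fun n : N => (χ : G → ℂ) n) θ ≠ 0 →
      ∃ y ∈ N, (χ : G → ℂ) y ≠ (χ : G → ℂ) 1 := by
    intro χ hc
    by_contra hk
    push Not at hk
    refine hc ?_
    rw [show (fun n : N => (χ : G → ℂ) n) = (χ : G → ℂ) 1 • (fun _ : N => (1 : ℂ)) from
      funext fun n => by simp [hk n n.2], classInner_smul_left,
      irr_inner_ne isIrr_one hθ (fun h => hlam (Units.ext (congrFun h ⟨x, hxN⟩).symm)), mul_zero]
  have hdeg : indFun N θ 1 ≠ 0 := by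
    rw [indFun_one, hθdef]
    simp [Subgroup.index_ne_zero_of_finite]
  obtain ⟨⟨χ, hχ⟩, hχc⟩ := exists_constituent (isCharacter_indFun N (isCharacter_of_isIrr hθ))
    (fun h => hdeg (by rw [h]; rfl))
  have hc : classInner (fun n : N => χ n) θ ≠ 0 := fun h0 => hχc (by
    rw [CfsgLib.Char.frobenius _ _ (classFun_of_irr hχ), ← classInner_conj, h0, map_zero])
  set T := inertia θ with hTdef
  haveI := Fintype.ofFinite T
  have hNT : N ≤ T := le_inertia (classFun_of_irr hθ)
  have hT : ∀ g : G, g ∈ T ↔ conjN θ g = θ := fun g => mem_inertia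
  obtain ⟨ψ, hψ, hψχ, hψc⟩ := clifford_exists hθ hT hNT hχ hc
  have hχp := hall ⟨χ, hχ⟩ (hnotker ⟨χ, hχ⟩ hc)
  have hdegψ : charDegree χ = T.index * charDegree ψ := by
    have h : (charDegree χ : ℂ) = ((T.index * charDegree ψ : ℕ) : ℂ) := by
      rw [← irr_one_eq hχ, Nat.cast_mul, ← irr_one_eq hψ, ← hψχ, indFun_one]
    exact_mod_cast h
  simp only [hdegψ] at hχp
  have hTp : ¬ p ∣ T.index := fun h => hχp (h.mul_right _)
  set N' := N.subgroupOf T with hN'
  haveI hN'n : N'.Normal := (inferInstance : N.Normal).subgroupOf T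
  haveI := Fintype.ofFinite N'
  obtain ⟨Q⟩ := (inferInstance : Nonempty (Sylow p T))
  haveI := Fintype.ofFinite (Q : Subgroup T)
  have hN'Q : N' ≤ (Q : Subgroup T) :=
    normal_pgroup_le N' (hNp.comap_of_injective _ T.subtype_injective) Q
  -- `lam` extends to `T`
  obtain ⟨L, hL⟩ : ∃ L : T →* ℂˣ, ∀ n : N, L ⟨n, hNT n.2⟩ = lam n := by
    set ι : N →* (Q : Subgroup T) :=
      { toFun := fun n => ⟨⟨(n : G), hNT n.2⟩, hN'Q n.2⟩
        map_one' := rfl
        map_mul' := fun _ _ => rfl } with hι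
    obtain ⟨μ, hμ⟩ := exists_linear_constituent Q.isPGroup'
      (isCharacter_restrict (Q : Subgroup T) (isCharacter_of_isIrr hψ))
      (show ψ ((1 : (Q : Subgroup T)) : T) = (charDegree ψ : ℂ) by
        rw [Subgroup.coe_one, irr_one_eq hψ]) (fun h => hχp (h.mul_left _))
    have hμN : ∀ n : N, μ (ι n) = lam n := by
      have hrest := isCharacter_comp ι (isCharacter_sub_constituent
        (isCharacter_restrict (Q : Subgroup T) (isCharacter_of_isIrr hψ)) (isIrr_linear μ) hμ)
      have hν : IsIrrCharacter N (fun n : N => ((μ (ι n) : ℂˣ) : ℂ)) := isIrr_linear (μ.comp ι)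
      by_contra hne
      have hne' : θ ≠ fun n : N => ((μ (ι n) : ℂˣ) : ℂ) := fun h =>
        hne fun n => (Units.ext (congrFun h n)).symm
      obtain ⟨k, hk⟩ := inner_char_irr hrest hν
      have hh := res_homogeneous_le hNT hθ (fun t ht => (hT t).1 ht) hψ (by rw [hψc]; exact hc)
      have : (fun g : N => ((fun t : (Q : Subgroup T) => ψ (t : T)) -
          fun t => ((μ t : ℂˣ) : ℂ)) (ι g)) =
          classInner (fun n : N => ψ ⟨n, hNT n.2⟩) θ • θ -
            fun n : N => ((μ (ι n) : ℂˣ) : ℂ) := by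
        rw [← hh]; rfl
      rw [show (((fun t : (Q : Subgroup T) => ψ (t : T)) -
          fun t => ((μ t : ℂˣ) : ℂ)) ∘ ι) = _ from this, classInner_sub_left, classInner_smul_left,
        irr_inner_ne hθ hν hne', mul_zero, zero_sub, irr_inner_self hν] at hk
      have h2 : ((k + 1 : ℕ) : ℂ) = 0 := by push_cast; rw [← hk]; ring
      exact absurd (Nat.cast_eq_zero.1 h2) (Nat.succ_ne_zero k)
    set lam' : N' →* ℂˣ := lam.comp (Subgroup.subgroupOfEquivOfLe hNT).toMonoidHom with hlam'
    have hinv : ∀ (g : T) (n : N'), lam' ⟨g * n * g⁻¹, hN'n.conj_mem n n.2 g⟩ = lam' n := by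
      intro g n
      refine Units.ext (Eq.trans ?_ (congrFun ((hT g).1 g.2) ⟨((n : T) : G), n.2⟩))
      exact congrArg θ (Subtype.ext rfl)
    have h1 := transfer_mem_extPow lam' hN'Q hinv μ
      fun n => hμN ⟨((n : T) : G), n.2⟩
    have hord : orderOf lam' ∣ Nat.card N' := orderOf_dvd_of_pow_eq_one (MonoidHom.ext fun n => by
      rw [MonoidHom.pow_apply, ← map_pow, pow_card_eq_one', map_one]; rfl)
    obtain ⟨k, hk⟩ := IsPGroup.iff_card.1 (hNp.comap_of_injective _ T.subtype_injective :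
      IsPGroup p N')
    obtain ⟨j, -, hj⟩ := (Nat.dvd_prime_pow (Fact.out : p.Prime)).1 (hk ▸ hord)
    obtain ⟨L, hL⟩ := extend_of_coprime lam'
      (show Nat.Coprime (Q : Subgroup T).index (orderOf lam') by
        rw [hj]
        exact (((Fact.out : p.Prime).coprime_iff_not_dvd.2 Q.not_dvd_index).symm).pow_right j)
      h1 (orderOf_mem_extPow lam')
    exact ⟨L, fun n => hL ⟨⟨n, hNT n.2⟩, n.2⟩⟩
  -- Itô's theorem in `T / N`
  haveI := Fintype.ofFinite (T ⧸ N')
  have hTN : ∀ φ : IrrCharacter (T ⧸ N'), ¬ p ∣ charDegree (φ : T ⧸ N' → ℂ) := by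
    intro φ
    have hψ2 : IsIrrCharacter T (fun t => (infl N' φ : T → ℂ) t * (L t : ℂ)) :=
      irr_mul_linear (infl N' φ).2 L
    have hres2 : (fun n : N => (infl N' φ : T → ℂ) ⟨n, hNT n.2⟩ * (L ⟨n, hNT n.2⟩ : ℂ)) =
        (charDegree (φ : T ⧸ N' → ℂ) : ℂ) • θ := funext fun n => by
      rw [hL, infl_kernel N' φ (show (⟨(n : G), hNT n.2⟩ : T) ∈ N' from n.2),
        irr_one_eq (infl N' φ).2, charDegree_infl]
      rfl
    have hc2 : classInner
        (fun n : N => (infl N' φ : T → ℂ) ⟨n, hNT n.2⟩ * (L ⟨n, hNT n.2⟩ : ℂ)) θ ≠ 0 := by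
      rw [hres2, classInner_smul_left, irr_inner_self hθ, mul_one]
      exact_mod_cast (charDegree_pos φ.2).ne'
    obtain ⟨hirr, hinner⟩ := clifford_induce hθ hT hNT hψ2 hc2
    have h3 := hall ⟨_, hirr⟩ (hnotker ⟨_, hirr⟩ (by rw [hinner]; exact hc2))
    intro hd
    refine h3 ?_
    have h : (charDegree (indFun T (fun t => (infl N' φ : T → ℂ) t * (L t : ℂ))) : ℂ) =
        ((T.index * charDegree (φ : T ⧸ N' → ℂ) : ℕ) : ℂ) := by
      rw [← irr_one_eq hirr, indFun_one, map_one, Units.val_one, mul_one,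
        irr_one_eq (infl N' φ).2, charDegree_infl, Nat.cast_mul]
    rw [show charDegree _ = _ from Nat.cast_injective h]
    exact hd.mul_left _
  obtain ⟨-, hcomm⟩ := (S4713.result p (CfsgLib.Perm.isPSolvable_quotient
    (CfsgLib.Fus.SolvReal.isPSolvable_subgroup hps T) N')
    (Q.mapSurjective (QuotientGroup.mk'_surjective N'))).2 hTN
  -- back in `G`
  set R := (Q : Subgroup T).map T.subtype with hR
  have hRp : IsPGroup p R := Q.isPGroup'.map _
  have hRidx : ¬ p ∣ R.index := by
    rw [hR, Subgroup.index_map_subtype]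
    exact fun h => ((Fact.out : p.Prime).dvd_mul.1 h).elim Q.not_dvd_index hTp
  let S : Sylow p G := hRp.toSylow hRidx
  have hSN : ⁅(S : Subgroup G), (S : Subgroup G)⁆ ≤ N := by
    refine Subgroup.commutator_le.2 ?_
    rintro _ ⟨a, ha, rfl⟩ _ ⟨b, hb, rfl⟩
    have h1 := congrArg Subtype.val (hcomm.is_comm.comm
      (⟨_, Subgroup.mem_map_of_mem _ ha⟩ : Q.mapSurjective (QuotientGroup.mk'_surjective N'))
      ⟨_, Subgroup.mem_map_of_mem _ hb⟩)
    have h2 : QuotientGroup.mk' N' ⁅a, b⁆ = 1 := by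
      rw [map_commutatorElement, commutatorElement_eq_one_iff_mul_comm]
      exact h1
    have h3 : ⁅a, b⁆ ∈ N' := (QuotientGroup.eq_one_iff _).1 h2
    rw [← map_commutatorElement]
    exact h3
  obtain ⟨g, hg⟩ := MulAction.exists_smul_eq G S P
  have hP : (P : Subgroup G) = (S : Subgroup G).map (MulAut.conj g).toMonoidHom := by
    rw [← hg, Sylow.coe_subgroup_smul]; rfl
  rw [hP, ← Subgroup.map_commutator, Subgroup.map_le_iff_le_comap]
  exact hSN.trans fun y hy => (inferInstance : N.Normal).conj_mem y hy g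

theorem aux (p : ℕ) [Fact p.Prime] : ∀ k : ℕ, ∀ (G : Type u) [Group G] [Finite G], Nat.card G = k →
    IsPSolvable p G → ∀ P : Sylow p G, derivedSeries ↥(P : Subgroup G)
      (Nat.card {χ : IrrCharacter G // p ∣ charDegree (χ : G → ℂ)} + 1) = ⊥ := by
  intro k
  induction k using Nat.strong_induction_on with
  | _ k ih =>
  intro G _ _ hk hps P
  classical
  haveI := Fintype.ofFinite G
  rcases subsingleton_or_nontrivial G with hG | hG
  · exact Subsingleton.elim _ _
  set n := Nat.card {χ : IrrCharacter G // p ∣ charDegree (χ : G → ℂ)} with hn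
  have hstep : ∀ (N : Subgroup G) (_ : N.Normal), N ≠ ⊥ →
      (derivedSeries ↥(P : Subgroup G)
        (Nat.card {χ : IrrCharacter (G ⧸ N) // p ∣ charDegree (χ : G ⧸ N → ℂ)} + 1)).map
          (P : Subgroup G).subtype ≤ N := by
    intro N _ hN
    have hlt : Nat.card (G ⧸ N) < k := by
      rw [← hk, ← Subgroup.index_eq_card, ← N.card_mul_index]
      exact lt_mul_of_one_lt_left (Nat.pos_of_ne_zero Subgroup.index_ne_zero_of_finite)
        (Subgroup.one_lt_card_iff_ne_bot N |>.2 hN)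
    set m := Nat.card {χ : IrrCharacter (G ⧸ N) // p ∣ charDegree (χ : G ⧸ N → ℂ)}
    have h := ih _ hlt (G ⧸ N) rfl (CfsgLib.Perm.isPSolvable_quotient hps N)
      (P.mapSurjective (QuotientGroup.mk'_surjective N))
    have hf : Function.Surjective ((QuotientGroup.mk' N).subgroupMap (P : Subgroup G)) :=
      MonoidHom.subgroupMap_surjective _ _
    have h2 := map_derivedSeries_eq hf (m + 1)
    rintro _ ⟨y, hy, rfl⟩
    have h3 := Subgroup.mem_map_of_mem ((QuotientGroup.mk' N).subgroupMap (P : Subgroup G)) hy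
    rw [h2] at h3
    erw [h] at h3
    exact (QuotientGroup.eq_one_iff _).1 (congrArg Subtype.val (Subgroup.mem_bot.1 h3))
  have hmn : ∀ (N : Subgroup G) (_ : N.Normal),
      Nat.card {χ : IrrCharacter (G ⧸ N) // p ∣ charDegree (χ : G ⧸ N → ℂ)} ≤ n :=
    fun N _ => Nat.card_le_card_of_injective
      (fun χ => ⟨infl N χ.1, by rw [charDegree_infl]; exact χ.2⟩)
      fun a b h => Subtype.ext (infl_injective N (congrArg Subtype.val h))
  by_cases hA : pPrimeCore p G = ⊥
  swap
  · haveI := CfsgLib.Solv.pPrimeCore_normal G p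
    refine le_bot_iff.1 ((derivedSeries_antitone _ (Nat.add_le_add_right (hmn (pPrimeCore p G) inferInstance) 1)).trans
      fun y hy => Subgroup.mem_bot.2 ?_)
    have h1 : (y : G) ∈ (P : Subgroup G) ⊓ pPrimeCore p G :=
      ⟨y.2, hstep _ inferInstance hA ⟨y, hy, rfl⟩⟩
    rw [CfsgLib.Base.PPrimeP.inf_pPrimeCore P.isPGroup', Subgroup.mem_bot] at h1
    exact Subtype.ext h1
  haveI hOn := CfsgLib.Solv.pCore_normal G p
  have hO : Cfsg.pCore p G ≠ ⊥ := fun h =>
    CfsgLib.Solv.PLen.pPrimeCore_ne_bot_of_pCore_eq_bot hps h hA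
  haveI : Nontrivial (Cfsg.pCore p G) := (Subgroup.nontrivial_iff_ne_bot _).2 hO
  set N := (Subgroup.center (Cfsg.pCore p G)).map (Cfsg.pCore p G).subtype with hNdef
  haveI hNn : N.Normal := CfsgLib.Solv.normal_map_subtype_of_characteristic _
  have hNp : IsPGroup p N := ((CfsgLib.Solv.pCore_isPGroup G p).to_subgroup _).map _
  have hN : N ≠ ⊥ := by
    haveI := IsPGroup.center_nontrivial (CfsgLib.Solv.pCore_isPGroup G p)
    rw [hNdef, Ne, Subgroup.map_eq_bot_iff_of_injective _ (Cfsg.pCore p G).subtype_injective]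
    exact (Subgroup.nontrivial_iff_ne_bot _).1 this
  have hab : ∀ a ∈ N, ∀ b ∈ N, a * b = b * a := by
    rintro _ ⟨a, -, rfl⟩ _ ⟨b, hb, rfl⟩
    exact congrArg Subtype.val (Subgroup.mem_center_iff.1 hb a)
  have hNab : ∀ d : ℕ, (derivedSeries ↥(P : Subgroup G) d).map (P : Subgroup G).subtype ≤ N →
      derivedSeries ↥(P : Subgroup G) (d + 1) = ⊥ := fun d hd => by
    rw [derivedSeries_succ, Subgroup.commutator_eq_bot_iff_le_centralizer]
    exact fun a ha => Subgroup.mem_centralizer_iff.2 fun b hb =>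
      Subtype.ext (hab _ (hd ⟨b, hb, rfl⟩) _ (hd ⟨a, ha, rfl⟩))
  by_cases hall : ∀ χ : IrrCharacter G, (∃ x ∈ N, (χ : G → ℂ) x ≠ (χ : G → ℂ) 1) →
      ¬ p ∣ charDegree (χ : G → ℂ)
  · rcases Nat.eq_zero_or_pos n with h0 | h0
    · obtain ⟨-, hc⟩ := (S4713.result p hps P).2 fun χ hd => by
        rw [hn, Nat.card_eq_zero] at h0
        exact h0.elim (fun e => e.false ⟨χ, hd⟩) fun e => e.not_finite inferInstance
      rw [h0, derivedSeries_succ, derivedSeries_zero, Subgroup.commutator_eq_bot_iff_le_centralizer]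
      exact fun a _ => Subgroup.mem_centralizer_iff.2 fun b _ => hc.is_comm.comm b a
    · refine le_bot_iff.1 ((derivedSeries_antitone _ (show 2 ≤ n + 1 by omega)).trans (hNab 1 ?_).le)
      rw [derivedSeries_succ, derivedSeries_zero, ← commutator_def, Subgroup.map_subtype_commutator]
      exact commutator_le hps N hNp hN hab hall P
  · push Not at hall
    obtain ⟨χ0, ⟨x, hx, hx'⟩, hd0⟩ := hall
    have hlt : Nat.card {χ : IrrCharacter (G ⧸ N) // p ∣ charDegree (χ : G ⧸ N → ℂ)} < n := by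
      rw [hn, Nat.card_eq_fintype_card, Nat.card_eq_fintype_card]
      refine Fintype.card_lt_of_injective_of_notMem
        (fun χ => ⟨infl N χ.1, by rw [charDegree_infl]; exact χ.2⟩)
        (fun a b h => Subtype.ext (infl_injective N (congrArg Subtype.val h)))
        (b := ⟨χ0, hd0⟩) ?_
      rintro ⟨χ, hχ⟩
      refine hx' ?_
      rw [← show infl N χ.1 = χ0 from congrArg Subtype.val hχ]
      exact infl_kernel N χ.1 hx
    refine le_bot_iff.1 ((derivedSeries_antitone _ (show _ + 1 + 1 ≤ n + 1 by omega)).trans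
      (hNab _ (hstep N hNn hN)).le)


/-- Let p be a prime, G a finite p-solvable group and P a Sylow p-subgroup of G. If n is the number of irreducible complex characters of G whose degree is divisible by p, then the (n+1)-st term of the derived series of P is trivial. (The p-solvable case has a direct inductive proof.) -/
theorem result {G : Type*} [Group G] [Finite G] (p : ℕ) [Fact p.Prime] (hG : Cfsg.IsPSolvable p G) (P : Sylow p G) : derivedSeries ↥(P : Subgroup G) (Nat.card {χ : Cfsg.IrrCharacter G // p ∣ Cfsg.charDegree (χ : G → ℂ)} + 1) = ⊥ := by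
  exact aux p _ G rfl hG P

end Cfsg.Agent.S4768
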