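import Cfsg.Statements.S4774
import Cfsg.Agent.Char.SL2Degrees

set_option autoImplicit false
open Cfsg

namespace Cfsg.Agent.S4774


/-- Adjacency of two primes in the degree graph, reduced to the three main degrees. -/
theorem dvd_split {d q r : ℕ} (h : d = 1 ∨ d = q ∨ d = q + 1 ∨ d = q - 1 ∨ (Odd q ∧ (2 * d = q + 1 ∨ 2 * d = q - 1)))
    (hr : r ∣ d) (hr1 : r ≠ 1) : r ∣ q ∨ r ∣ q + 1 ∨ r ∣ q - 1 := by
  rcases h with e | e | e | e | ⟨-, e | e⟩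
  · exact absurd (Nat.dvd_one.1 (e ▸ hr)) hr1
  · exact Or.inl (e ▸ hr)
  · exact Or.inr (Or.inl (e ▸ hr))
  · exact Or.inr (Or.inr (e ▸ hr))
  · exact Or.inr (Or.inl (e ▸ hr.mul_left 2))
  · exact Or.inr (Or.inr (e ▸ hr.mul_left 2))

theorem primes_eq {S : Type*} [Group S] [Finite S] {q : ℕ} (hq : 1 < q)
    (hc : ∀ d ∈ Cfsg.charDegrees S, d = 1 ∨ d = q ∨ d = q + 1 ∨ d = q - 1 ∨ (Odd q ∧ (2 * d = q + 1 ∨ 2 * d = q - 1)))
    (h1 : q ∈ Cfsg.charDegrees S) (h2 : q + 1 ∈ Cfsg.charDegrees S) (h3 : q - 1 ∈ Cfsg.charDegrees S) :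
    Cfsg.degreePrimes S = {r : ℕ | r.Prime ∧ r ∣ q * (q ^ 2 - 1)} := by
  have hsq : q ^ 2 - 1 = (q + 1) * (q - 1) := by
    simpa using Nat.sq_sub_sq q 1
  ext r
  constructor
  · rintro ⟨hr, d, hd, hrd⟩
    refine ⟨hr, ?_⟩
    rw [hsq]
    rcases dvd_split (hc d hd) hrd hr.ne_one with h | h | h
    · exact h.mul_right _
    · exact (h.mul_right _).mul_left _
    · exact (h.mul_left _).mul_left _
  · rintro ⟨hr, h⟩
    rw [hsq] at h
    rcases hr.dvd_mul.1 h with h | h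
    · exact ⟨hr, q, h1, h⟩
    · rcases hr.dvd_mul.1 h with h | h
      · exact ⟨hr, _, h2, h⟩
      · exact ⟨hr, _, h3, h⟩

theorem adj_core {S : Type*} [Group S] [Finite S] {q t n : ℕ} (ht : t.Prime) (hn : q = t ^ n) (hq : 1 < q)
    (hc : ∀ d ∈ Cfsg.charDegrees S, d = 1 ∨ d = q ∨ d = q + 1 ∨ d = q - 1 ∨ (Odd q ∧ (2 * d = q + 1 ∨ 2 * d = q - 1)))
    {r s : ℕ} (h : (Cfsg.degreeGraph S).Adj r s) :
    (r ∣ q + 1 ∧ s ∣ q + 1) ∨ (r ∣ q - 1 ∧ s ∣ q - 1) := by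
  obtain ⟨hne, hr, hs, d, hd, hrs⟩ := h
  have hrd := (Dvd.intro s rfl).trans hrs
  have hsd := (Dvd.intro_left r rfl).trans hrs
  rcases hc d hd with e | e | e | e | ⟨-, e | e⟩
  · exact absurd (Nat.dvd_one.1 (e ▸ hrd)) hr.ne_one
  · exact absurd (((Nat.prime_dvd_prime_iff_eq hr ht).1 (hr.dvd_of_dvd_pow (hn ▸ e ▸ hrd))).trans
      ((Nat.prime_dvd_prime_iff_eq hs ht).1 (hs.dvd_of_dvd_pow (hn ▸ e ▸ hsd))).symm) hne
  · exact Or.inl ⟨e ▸ hrd, e ▸ hsd⟩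
  · exact Or.inr ⟨e ▸ hrd, e ▸ hsd⟩
  · exact Or.inl ⟨e ▸ hrd.mul_left 2, e ▸ hsd.mul_left 2⟩
  · exact Or.inr ⟨e ▸ hrd.mul_left 2, e ▸ hsd.mul_left 2⟩

theorem adj_of_dvd {S : Type*} [Group S] [Finite S] {d r s : ℕ} (hd : d ∈ Cfsg.charDegrees S)
    (hne : r ≠ s) (hr : r.Prime) (hs : s.Prime) (hrd : r ∣ d) (hsd : s ∣ d) :
    (Cfsg.degreeGraph S).Adj r s :=
  ⟨hne, hr, hs, d, hd, ((Nat.coprime_primes hr hs).2 hne).mul_dvd_of_dvd_of_dvd hrd hsd⟩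


/-- Let F be a finite field of odd characteristic t with q > 5 elements and let S be isomorphic to PSL(2,F) or to SL(2,F). Then the vertices of the character degree graph of S are the primes dividing q(q²−1); the prime t is adjacent to no vertex; two distinct primes dividing q² − 1 are adjacent exactly when one of them is 2, or both divide q + 1, or both divide q − 1. -/
theorem result (F : Type*) [Field F] [Fintype F] (t : ℕ) [Fact t.Prime] [CharP F t] (ht : t ≠ 2) (q : ℕ) (hq : Fintype.card F = q) (h5 : 5 < q) {S : Type*} [Group S] [Finite S] (hS : Nonempty (S ≃* Matrix.ProjectiveSpecialLinearGroup (Fin 2) F) ∨ Nonempty (S ≃* Matrix.SpecialLinearGroup (Fin 2) F)) : Cfsg.degreePrimes S = {r : ℕ | r.Prime ∧ r ∣ q * (q ^ 2 - 1)} ∧ ∀ r s : ℕ, (Cfsg.degreeGraph S).Adj r s ↔ (r ≠ s ∧ r.Prime ∧ s.Prime ∧ r ∣ q ^ 2 - 1 ∧ s ∣ q ^ 2 - 1 ∧ (r = 2 ∨ s = 2 ∨ (r ∣ q + 1 ∧ s ∣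 q + 1) ∨ (r ∣ q - 1 ∧ s ∣ q - 1))) := by
  subst hq
  obtain ⟨n, hp, hn⟩ := FiniteField.card F t
  have hodd : Odd (Fintype.card F) := by rw [hn]; exact (hp.odd_of_ne_two ht).pow
  obtain ⟨hc, h1, h2, h3⟩ := CfsgLib.Char.SL2Deg.degrees (by omega) (fun _ => h5) hS
  set q := Fintype.card F
  have hsq : q ^ 2 - 1 = (q + 1) * (q - 1) := by
    simpa using Nat.sq_sub_sq q 1
  obtain ⟨k, hk⟩ := id hodd
  have h2p : 2 ∣ q + 1 := ⟨k + 1, by omega⟩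
  have h2m : 2 ∣ q - 1 := ⟨k, by omega⟩
  refine ⟨primes_eq (by omega) hc h1 h2 h3, fun r s => ⟨fun h => ?_, ?_⟩⟩
  · have hh := adj_core hp hn (by omega) hc h
    refine ⟨h.1, h.2.1, h.2.2.1, ?_, ?_, Or.inr (Or.inr hh)⟩
    · rw [hsq]; exact hh.elim (fun x => x.1.mul_right _) fun x => x.1.mul_left _
    · rw [hsq]; exact hh.elim (fun x => x.2.mul_right _) fun x => x.2.mul_left _
  · rintro ⟨hne', hr, hs, hr', hs', hh⟩
    rw [hsq] at hr' hs'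
    rcases hh with rfl | rfl | ⟨a, b⟩ | ⟨a, b⟩
    · rcases hs.dvd_mul.1 hs' with b | b
      · exact adj_of_dvd h2 hne' hr hs h2p b
      · exact adj_of_dvd h3 hne' hr hs h2m b
    · rcases hr.dvd_mul.1 hr' with a | a
      · exact adj_of_dvd h2 hne' hr hs a h2p
      · exact adj_of_dvd h3 hne' hr hs a h2m
    · exact adj_of_dvd h2 hne' hr hs a b
    · exact adj_of_dvd h3 hne' hr hs a b

end Cfsg.Agent.S4774
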