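import Cfsg.Statements.S4784
import Cfsg.Agent.Char.FrobeniusSchur
import Cfsg.Agent.Char.PermLemma
import Cfsg.Agent.Char.Induce
import Cfsg.Agent.Char.NormalSum

set_option autoImplicit false
open Cfsg

namespace Cfsg.Agent.S4784

open CfsgLib.Char

/-- Let H be a subgroup of the finite group G and consider the permutation character of G on the cosets of H (the function induced from the principal character of H). Then exactly one irreducible constituent of it is real-valued with Frobenius–Schur indicator +1 (namely the principal character) if and only if the normal core of H has odd index in G. -/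
theorem result {G : Type*} [Group G] [Fintype G] (H : Subgroup G) : Nat.card {χ : Cfsg.IrrCharacter G // Cfsg.classInner (Cfsg.indFun H (fun _ : H => (1 : ℂ))) (χ : G → ℂ) ≠ 0 ∧ (∀ g : G, (starRingEnd ℂ) ((χ : G → ℂ) g) = (χ : G → ℂ) g) ∧ (Nat.card G : ℂ)⁻¹ * ∑ g : G, (χ : G → ℂ) (g * g) = 1} = 1 ↔ Odd H.normalCore.index := by
  classical
  haveI : Fintype H := Fintype.ofFinite _
  set K := H.normalCore
  set π : G → ℂ := indFun H (fun _ : H => (1 : ℂ)) with hπ
  have hπc : IsCharacter G π := isCharacter_indFun H isCharacter_one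
  set one : IrrCharacter G := ⟨_, isIrr_one⟩ with hone
  have hπ1 : classInner π (fun _ => (1 : ℂ)) = 1 := by
    rw [hπ, CfsgLib.Char.frobenius H _ (classFun_of_irr isIrr_one)]
    exact irr_inner_self isIrr_one
  have hgood : classInner π (one : G → ℂ) ≠ 0 ∧
      (∀ g : G, (starRingEnd ℂ) ((one : G → ℂ) g) = (one : G → ℂ) g) ∧
      (Nat.card G : ℂ)⁻¹ * ∑ g : G, (one : G → ℂ) (g * g) = 1 := by
    refine ⟨by rw [hone]; simp [hπ1], fun g => by simp [hone], ?_⟩
    simp [hone, Nat.card_eq_fintype_card]
  constructor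
  · intro h1
    by_contra hK
    rw [Nat.not_odd_iff_even, even_iff_two_dvd] at hK
    rw [Subgroup.index_eq_card] at hK
    obtain ⟨w, hw⟩ := exists_prime_orderOf_dvd_card' 2 hK
    obtain ⟨w, rfl⟩ := QuotientGroup.mk'_surjective K w
    have hwK : w ∉ K := fun h => by
      rw [QuotientGroup.mk'_apply, (QuotientGroup.eq_one_iff w).mpr h, orderOf_one] at hw
      omega
    have hw2 : w * w ∈ K := by
      rw [← QuotientGroup.eq_one_iff]
      show QuotientGroup.mk' K (w * w) = 1
      rw [map_mul, ← pow_two, ← hw, pow_orderOf_eq_one]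
    obtain ⟨c, hc⟩ : ∃ c : G, c * w * c⁻¹ ∉ H := by
      by_contra! h
      exact hwK h
    set s := c * w * c⁻¹
    have hs2 : s * s ∈ H := by
      refine Subgroup.normalCore_le H ?_
      rw [show s * s = c * (w * w) * c⁻¹ by simp [s, mul_assoc]]
      exact (Subgroup.normalCore_normal H).conj_mem _ hw2 c
    let I : Subgroup G := H ⊓ H.comap (MulAut.conj s⁻¹).toMonoidHom
    obtain ⟨r, hrdef⟩ : ∃ r : G → G, ∀ h : G, r h = (h : G ⧸ I).out := ⟨_, fun _ => rfl⟩
    have hr : ∀ h : G, (r h : G ⧸ I) = (h : G ⧸ I) := fun h => by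
      rw [hrdef]; exact QuotientGroup.out_eq' _
    have hri : ∀ h : G, (r h)⁻¹ * h ∈ I := fun h => QuotientGroup.eq.mp (hr h)
    have hrH : ∀ h : H, r h ∈ H := fun h => by
      have h1 : (r h)⁻¹ * (h : G) ∈ H := (Subgroup.mem_inf.mp (hri h)).1
      have := H.mul_mem h.2 (H.inv_mem h1)
      simpa using this
    set T := Finset.univ.filter (fun y : G => y * y ∈ H) with hT
    have hT2 : 2 * Nat.card H ≤ T.card := by
      let f : H ⊕ H → G := Sum.elim (fun h => (h : G)) (fun h => (h : G) * s * (r h)⁻¹)
      have hnot : ∀ h : H, (h : G) * s * (r h)⁻¹ ∉ H := fun h hh => hc (by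
        have := H.mul_mem (H.mul_mem (H.inv_mem h.2) hh) (hrH h)
        simpa [mul_assoc] using this)
      have hinj : Function.Injective f := by
        rintro (a | a) (b | b) hab <;> simp only [f, Sum.elim_inl, Sum.elim_inr] at hab
        · exact congrArg Sum.inl (Subtype.ext hab)
        · exact absurd (hab ▸ a.2) (hnot b)
        · exact absurd (hab.symm ▸ b.2) (hnot a)
        · have h1 : s⁻¹ * ((b : G)⁻¹ * a) * s = (r b)⁻¹ * r a := by
            calc s⁻¹ * ((b : G)⁻¹ * a) * s = s⁻¹ * (b : G)⁻¹ * (a * s * (r a)⁻¹) * r a := by group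
              _ = s⁻¹ * (b : G)⁻¹ * (b * s * (r b)⁻¹) * r a := by rw [hab]
              _ = (r b)⁻¹ * r a := by group
          have hI : (b : G)⁻¹ * a ∈ I := by
            refine Subgroup.mem_inf.mpr ⟨H.mul_mem (H.inv_mem b.2) a.2, ?_⟩
            show s⁻¹ * ((b : G)⁻¹ * a) * s⁻¹⁻¹ ∈ H
            rw [inv_inv, h1]
            exact H.mul_mem (H.inv_mem (hrH b)) (hrH a)
          have he : r a = r b := by
            have hq : ((a : G) : G ⧸ I) = ((b : G) : G ⧸ I) := (QuotientGroup.eq.mpr hI).symm
            have := congrArg Quotient.out hq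
            exact (hrdef a).trans (this.trans (hrdef b).symm)
          rw [he] at hab
          exact congrArg Sum.inr (Subtype.ext (mul_right_cancel (mul_right_cancel hab)))
      have hmem : ∀ x, f x ∈ T := by
        rintro (h | h) <;> simp only [hT, Finset.mem_filter, Finset.mem_univ, true_and, f,
          Sum.elim_inl, Sum.elim_inr]
        · exact H.mul_mem h.2 h.2
        · have hi := hri h
          have hi2 : s⁻¹ * ((r h)⁻¹ * (h : G)) * s⁻¹⁻¹ ∈ H := (Subgroup.mem_inf.mp hi).2
          rw [inv_inv] at hi2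
          rw [show (h : G) * s * (r h)⁻¹ * ((h : G) * s * (r h)⁻¹) =
            (h : G) * ((s * s) * (s⁻¹ * ((r h)⁻¹ * (h : G)) * s)) * (r h)⁻¹ by group]
          exact H.mul_mem (H.mul_mem h.2 (H.mul_mem hs2 hi2)) (H.inv_mem (hrH h))
      have := Finset.card_le_card_of_injOn f (s := Finset.univ) (t := T) (fun x _ => hmem x)
        hinj.injOn
      rw [Finset.card_univ, Fintype.card_sum, ← Nat.card_eq_fintype_card] at this
      omega
    have hfsπ : fsInd π = (Nat.card H : ℂ)⁻¹ * (T.card : ℂ) := by
      have he : ∀ y : G, extendByZero H (fun _ : H => (1 : ℂ)) y = if y ∈ H then 1 else 0 := fun y => by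
        split_ifs with h
        · rw [extendByZero_mem' _ _ h]
        · rw [extendByZero_not_mem _ _ h]
      simp only [fsInd, hπ, indFun_apply, he, ← Finset.mul_sum]
      rw [mul_left_comm]
      congr 1
      rw [Finset.sum_comm, Finset.sum_congr rfl fun x _ =>
        (Equiv.sum_comp (MulAut.conj x).toEquiv (fun g => if x⁻¹ * (g * g) * x ∈ H then (1 : ℂ) else 0)).symm]
      simp only [MulEquiv.toEquiv_eq_coe, EquivLike.coe_coe, MulAut.conj_apply]
      have hsimp : ∀ x i : G, x⁻¹ * (x * i * x⁻¹ * (x * i * x⁻¹)) * x = i * i := fun x i => by group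
      simp only [hsimp, Finset.sum_boole, ← hT, Finset.sum_const, Finset.card_univ, nsmul_eq_mul,
        ← Nat.card_eq_fintype_card]
      rw [← mul_assoc, inv_mul_cancel₀ (natCard_ne_zero G), one_mul]
    choose m hm using fun χ : IrrCharacter G => inner_char_irr hπc χ.2
    have hdec : fsInd π = ∑ χ : IrrCharacter G, (m χ : ℂ) * fsInd (χ : G → ℂ) := by
      have h := classFun_eq_sum (classFun_of_char hπc)
      simp only [hm] at h
      conv_lhs => rw [h]
      simp only [fsInd, Finset.sum_apply, Pi.smul_apply, smul_eq_mul]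
      rw [Finset.sum_comm, Finset.mul_sum]
      exact Finset.sum_congr rfl fun χ _ => by rw [← Finset.mul_sum, mul_left_comm]
    have huniq : ∀ χ : IrrCharacter G, classInner π (χ : G → ℂ) ≠ 0 →
        (∀ g : G, (starRingEnd ℂ) ((χ : G → ℂ) g) = (χ : G → ℂ) g) →
        (Nat.card G : ℂ)⁻¹ * ∑ g : G, (χ : G → ℂ) (g * g) = 1 → χ = one := by
      intro χ a b c
      obtain ⟨x, hx⟩ := Nat.card_eq_one_iff_exists.mp h1
      exact congrArg Subtype.val ((hx ⟨χ, a, b, c⟩).trans (hx ⟨one, hgood⟩).symm)
    have hre : (fsInd π).re ≤ 1 := by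
      rw [hdec, Complex.re_sum, ← Finset.add_sum_erase _ _ (Finset.mem_univ one)]
      have hm1 : (m one : ℂ) = 1 := by rw [← hm]; exact hπ1
      have h2 : ∀ χ ∈ Finset.univ.erase one, ((m χ : ℂ) * fsInd (χ : G → ℂ)).re ≤ 0 := by
        intro χ hχ
        by_cases hm0 : m χ = 0
        · simp [hm0]
        obtain ⟨n, ρ, hirr, hρ⟩ := χ.2
        rw [← hρ]
        by_cases hreal : ∀ g, (starRingEnd ℂ) (ρ.character g) = ρ.character g
        · obtain ⟨B, -, -, -, h | h⟩ := fsInd_real ρ hirr hreal
          · exfalso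
            rw [hρ] at h hreal
            exact Finset.ne_of_mem_erase hχ (huniq χ (by rw [hm]; simp [hm0]) hreal h)
          · rw [h]; simp
        · push Not at hreal
          rw [fsInd_eq_zero ρ hirr hreal]; simp
      have h3 : ((m one : ℂ) * fsInd (one : G → ℂ)).re = 1 := by
        rw [hm1, one_mul, show fsInd (one : G → ℂ) = 1 from hgood.2.2, Complex.one_re]
      rw [h3]
      linarith [Finset.sum_nonpos h2]
    rw [hfsπ] at hre
    have hHpos : (0 : ℝ) < Nat.card H := by exact_mod_cast Nat.card_pos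
    have : ((Nat.card H : ℂ)⁻¹ * (T.card : ℂ)).re = (T.card : ℝ) / (Nat.card H : ℝ) := by
      rw [← Complex.ofReal_natCast, ← Complex.ofReal_natCast, ← Complex.ofReal_inv,
        ← Complex.ofReal_mul, Complex.ofReal_re, inv_mul_eq_div]
    rw [this, div_le_one hHpos, Nat.cast_le] at hre
    have : 0 < Nat.card H := Nat.card_pos
    omega
  · intro hodd
    refine Nat.card_eq_one_iff_exists.mpr ⟨⟨one, hgood⟩, ?_⟩
    rintro ⟨χ, hne, hreal, -⟩
    refine Subtype.ext (Subtype.ext ?_)
    have hker : ∀ k ∈ K, (χ : G → ℂ) k = (χ : G → ℂ) 1 := by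
      intro k hk
      haveI : K.Normal := Subgroup.normalCore_normal H
      haveI : Fintype K := Fintype.ofFinite _
      rcases irr_sum_zero_or_kernel (N := K) χ.2 with h | h
      · exfalso
        refine hne ?_
        have hπK : ∀ (k : K) (x : G), π ((k : G) * x) = π x := by
          intro k x
          simp only [hπ, indFun_apply]
          congr 1
          refine Finset.sum_congr rfl fun y _ => ?_
          have hkH : y⁻¹ * (k : G) * y ∈ H := by
            have := (Subgroup.normalCore_normal H).conj_mem _ k.2 y⁻¹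
            rw [inv_inv] at this
            exact Subgroup.normalCore_le H this
          rw [show y⁻¹ * ((k : G) * x) * y = (y⁻¹ * (k : G) * y) * (y⁻¹ * x * y) by group]
          by_cases hx : y⁻¹ * x * y ∈ H
          · rw [extendByZero_mem' _ _ hx, extendByZero_mem' _ _ (H.mul_mem hkH hx)]
          · rw [extendByZero_not_mem _ _ hx, extendByZero_not_mem _ _
              fun hh => hx ((H.mul_mem_cancel_left hkH).mp hh)]
        have hzero : (Nat.card K : ℂ) * ∑ x : G, π x * (starRingEnd ℂ) ((χ : G → ℂ) x) = 0 := by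
          have hswap : ∀ k : K, ∑ x : G, π x * (starRingEnd ℂ) ((χ : G → ℂ) x) =
              ∑ x : G, π x * (starRingEnd ℂ) ((χ : G → ℂ) ((k : G) * x)) := fun k => by
            rw [← Equiv.sum_comp (Equiv.mulLeft (k : G))]
            exact Finset.sum_congr rfl fun x _ => by simp [hπK]
          rw [Nat.card_eq_fintype_card, ← Finset.card_univ, ← nsmul_eq_mul, ← Finset.sum_const,
            Finset.sum_congr rfl fun k _ => hswap k, Finset.sum_comm]
          refine Finset.sum_eq_zero fun x _ => ?_
          rw [← Finset.mul_sum, ← map_sum, irr_coset_sum χ.2 x, h]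
          simp
        rw [classInner_def, (mul_eq_zero.mp hzero).resolve_left (natCard_ne_zero K), mul_zero]
      · exact h k hk
    haveI : K.Normal := Subgroup.normalCore_normal H
    haveI : Fintype (G ⧸ K) := Fintype.ofFinite _
    obtain ⟨χ', hχ', hcomp⟩ := irr_descend (QuotientGroup.mk' K) (QuotientGroup.mk'_surjective K) χ.2
      fun k hk => hker k ((QuotientGroup.eq_one_iff k).mp hk)
    have h := eq_one_of_real_odd (G := G ⧸ K) (by rwa [← Subgroup.index_eq_card]) ⟨χ', hχ'⟩ fun q => by
      obtain ⟨g, rfl⟩ := QuotientGroup.mk'_surjective K q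
      have hg : χ' (QuotientGroup.mk' K g) = (χ : G → ℂ) g := congrFun hcomp g
      show (starRingEnd ℂ) (χ' _) = χ' _
      rw [hg]; exact hreal g
    rw [← hcomp, show χ' = fun _ => 1 from h]
    rfl

end Cfsg.Agent.S4784
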