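import Cfsg.Statements.S4796
import Cfsg.Agent.Char.CodPrime
import Cfsg.Agent.Solv.FrobeniusFpf
import Mathlib.GroupTheory.SchurZassenhaus
import Mathlib.GroupTheory.SpecificGroups.Cyclic

set_option autoImplicit false
open Cfsg

namespace Cfsg.Agent.S4796

/-- Let G be a finite group with a faithful irreducible complex character χ whose codegree #G / χ(1) is a prime p (for a faithful character the kernel is trivial, so the codegree is #G / χ(1)). Then either G is cyclic of order p, or G is a Frobenius group whose Frobenius kernel has order p: some proper non-trivial subgroup H satisfies H ∩ gHg⁻¹ = 1 for every element g outside H, and the set of elements lying in no conjugate of H, together with the identity, has exactly p elements. -/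
theorem result {G : Type*} [Group G] [Finite G] (χ : Cfsg.IrrCharacter G) (hfaith : ∀ g : G, (χ : G → ℂ) g = (χ : G → ℂ) 1 → g = 1) (p : ℕ) (hp : p.Prime) (hcod : Nat.card G = p * Cfsg.charDegree (χ : G → ℂ)) : (IsCyclic G ∧ Nat.card G = p) ∨ ∃ H : Subgroup G, Cfsg.IsFrobeniusComplement H ∧ Nat.card ↥(Cfsg.frobeniusKernel H) = p := by
  classical
  haveI : Fact p.Prime := ⟨hp⟩
  obtain ⟨P, hPn, hPcard, hidx, hdp, hself⟩ := CfsgLib.Char.structure_of_codegree_prime χ.2 hfaith hp hcod
  haveI := hPn
  rw [← hidx] at hcod hdp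
  have hd0 : 0 < P.index := Nat.pos_of_ne_zero Subgroup.index_ne_zero_of_finite
  by_cases hd1 : P.index = 1
  · left
    rw [hd1, mul_one] at hcod
    exact ⟨isCyclic_of_prime_card hcod, hcod⟩
  right
  obtain ⟨H, hH⟩ := Subgroup.exists_right_complement'_of_coprime (N := P) (by
    rw [hPcard]
    exact hp.coprime_iff_not_dvd.mpr fun h => absurd (Nat.le_of_dvd hd0 h) (not_le.mpr hdp))
  have hHne : H ≠ ⊥ := fun h => hd1 (by rw [hH.symm.index_eq_card, h, Subgroup.card_bot])
  have hPne : P ≠ ⊥ := fun h => hp.ne_one (by rw [← hPcard, h, Subgroup.card_bot])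
  obtain ⟨hfr, hker⟩ := CfsgLib.Solv.frobenius_of_fpf hH hPne hHne fun h hh h1 => by
    rcases hp.eq_one_or_self_of_dvd _
      (hPcard ▸ Subgroup.card_dvd_of_le (inf_le_left : P ⊓ Subgroup.centralizer {h} ≤ P)) with e | e
    · exact Subgroup.card_eq_one.mp e
    · exfalso
      have hle : P ≤ Subgroup.centralizer {h} := by
        have := Subgroup.eq_of_le_of_card_ge (inf_le_left : P ⊓ Subgroup.centralizer {h} ≤ P)
          (by rw [e, hPcard])
        rw [← this]; exact inf_le_right
      have hhP : h ∈ P := hself h fun x hx => (Subgroup.mem_centralizer_singleton_iff.mp (hle hx)).symm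
      exact h1 (Subgroup.mem_bot.mp (hH.disjoint.eq_bot ▸ Subgroup.mem_inf.mpr ⟨hhP, hh⟩))
  refine ⟨H, hfr, ?_⟩
  rw [hker]
  exact hPcard

end Cfsg.Agent.S4796
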