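import Cfsg.Statements.S4797
import Cfsg.Agent.Char.CodPrime
import Cfsg.Agent.Char.Codegree
import Cfsg.Agent.Char.PPrimeDegree
import Mathlib.GroupTheory.SpecificGroups.Cyclic

set_option autoImplicit false
open Cfsg

namespace Cfsg.Agent.S4797

open CfsgLib.Char

/-- The codegree of an irreducible complex character χ of a finite group G is [G : ker χ] / χ(1), where ker χ is the set of elements at which χ takes the value χ(1). A non-trivial finite group is perfect if and only if no irreducible complex character of it has prime codegree. -/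
theorem result {G : Type*} [Group G] [Finite G] [Nontrivial G] : commutator G = ⊤ ↔ ∀ χ : Cfsg.IrrCharacter G, ¬ ((Nat.card G / (Nat.card {g : G // (χ : G → ℂ) g = (χ : G → ℂ) 1} * Cfsg.charDegree (χ : G → ℂ)))).Prime := by
  classical
  haveI : Fintype G := Fintype.ofFinite G
  constructor
  · intro hperf χ hcp
    obtain ⟨K, hK, hmem, hdvd, hcard, hcod⟩ := irr_kernel χ.2
    haveI := hK
    set p := Nat.card G / (Nat.card {g : G // (χ : G → ℂ) g = (χ : G → ℂ) 1} * charDegree (χ : G → ℂ))
    haveI : Fintype (G ⧸ K) := Fintype.ofFinite _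
    obtain ⟨χ', hχ', hcomp⟩ := irr_descend (QuotientGroup.mk' K) (QuotientGroup.mk'_surjective K) χ.2
      fun k hk => (hmem k).mp ((QuotientGroup.eq_one_iff k).mp hk)
    have hdeg : charDegree χ' = charDegree (χ : G → ℂ) := by
      simp only [charDegree, ← hcomp, Function.comp_apply, map_one]
    obtain ⟨P, hPn, hPcard, hidx, hdp, hself⟩ := structure_of_codegree_prime hχ' (fun q hq => by
      obtain ⟨g, rfl⟩ := QuotientGroup.mk'_surjective K q
      refine (QuotientGroup.eq_one_iff g).mpr ((hmem g).mpr ?_)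
      have h1 : χ' ((QuotientGroup.mk' K) 1) = (χ : G → ℂ) 1 := congrFun hcomp 1
      rw [map_one] at h1
      rw [← h1, ← hq]
      exact (congrFun hcomp g).symm) hcp (by rw [← Subgroup.index_eq_card, hdeg, hcod])
    haveI := hPn
    have hperfQ : commutator (G ⧸ K) = ⊤ := by
      have h := Subgroup.map_commutator (⊤ : Subgroup G) ⊤ (QuotientGroup.mk' K)
      rw [← commutator_def, hperf, Subgroup.map_top_of_surjective _ (QuotientGroup.mk'_surjective K)] at h
      rw [commutator_def]
      exact h.symm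
    haveI : Fact (Nat.Prime p) := ⟨hcp⟩
    haveI : IsCyclic P := isCyclic_of_prime_card hPcard
    let f : G ⧸ K →* (ZMod (Nat.card P))ˣ :=
      (IsCyclic.mulAutMulEquiv P).toMonoidHom.comp MulAut.conjNormal
    have hker : ∀ q, q ∈ P := fun q => hself q fun x hx => by
      have h1 : f q = 1 := MonoidHom.mem_ker.mp
        (Abelianization.commutator_subset_ker f (hperfQ ▸ Subgroup.mem_top q))
      have h2 : MulAut.conjNormal q = (1 : MulAut P) :=
        (IsCyclic.mulAutMulEquiv P).injective (h1.trans (map_one _).symm)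
      have h3 : q * x * q⁻¹ = x := by
        rw [← MulAut.conjNormal_apply q ⟨x, hx⟩, h2]
        rfl
      exact mul_inv_eq_iff_eq_mul.mp h3
    haveI : IsCyclic (G ⧸ K) := isCyclic_of_prime_card (α := G ⧸ K) (p := p) (by
      rw [← hPcard]
      exact (Nat.card_congr (Equiv.subtypeUnivEquiv hker)).symm)
    letI : CommGroup (G ⧸ K) := IsCyclic.commGroup
    have hbot : commutator (G ⧸ K) = ⊥ := Subgroup.commutator_eq_bot_iff_le_centralizer.mpr
      fun a _ => fun b _ => mul_comm _ _
    rw [hperfQ] at hbot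
    have hall : ∀ q : G ⧸ K, q = 1 := fun q => Subgroup.mem_bot.mp (hbot ▸ Subgroup.mem_top q)
    have h1 : Nat.card P = 1 := Nat.card_eq_one_iff_unique.mpr
      ⟨⟨fun a b => Subtype.ext ((hall a).trans (hall b).symm)⟩, ⟨1⟩⟩
    exact hcp.ne_one (hPcard.symm.trans h1)
  · intro hall
    by_contra hne
    obtain ⟨x, hx⟩ : ∃ x, x ∉ commutator G := by
      by_contra! h
      exact hne (eq_top_iff.mpr fun x _ => h x)
    obtain ⟨μ, hμ⟩ := exists_linear_ne_one hx
    have hrange : Nat.card μ.range ≠ 1 := fun h => hμ (by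
      have hm : μ x ∈ μ.range := ⟨x, rfl⟩
      rw [Subgroup.card_eq_one.mp h] at hm
      exact Subgroup.mem_bot.mp hm)
    obtain ⟨q, hq, hqd⟩ := Nat.exists_prime_and_dvd hrange
    set ν : G →* ℂˣ := μ ^ (Nat.card μ.range / q)
    have hν : Nat.card ν.range = q := by
      haveI : Finite μ.range := Finite.of_surjective μ.rangeRestrict μ.rangeRestrict_surjective
      haveI : IsCyclic μ.range := subgroup_units_cyclic _
      have h1 : ν.range = μ.range.map (powMonoidHom (Nat.card μ.range / q)) := by
        rw [MonoidHom.map_range]; rfl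
      obtain ⟨t, ht⟩ := IsCyclic.exists_generator (α := μ.range)
      have h2 : μ.range = Subgroup.zpowers (t : ℂˣ) := by
        refine le_antisymm (fun y hy => ?_) (Subgroup.zpowers_le.mpr t.2)
        obtain ⟨i, hi⟩ := Subgroup.mem_zpowers_iff.mp (ht ⟨y, hy⟩)
        exact Subgroup.mem_zpowers_iff.mpr ⟨i, congrArg Subtype.val hi⟩
      have hn0 : Nat.card μ.range ≠ 0 := Nat.card_pos.ne'
      have ho : orderOf (t : ℂˣ) = Nat.card μ.range := by
        rw [Subgroup.orderOf_coe, orderOf_eq_card_of_forall_mem_zpowers ht]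
      have hk0 : Nat.card μ.range / q ≠ 0 :=
        (Nat.div_pos (Nat.le_of_dvd Nat.card_pos hqd) hq.pos).ne'
      rw [h1, h2, MonoidHom.map_zpowers, powMonoidHom_apply, Nat.card_zpowers, ← h2,
        orderOf_pow_of_dvd hk0 (by rw [ho]; exact Nat.div_dvd_of_dvd hqd), ho]
      exact Nat.div_div_self hqd hn0
    let χ : IrrCharacter G := ⟨_, isIrr_linear ν⟩
    refine hall χ ?_
    have hd : charDegree (χ : G → ℂ) = 1 := charDegree_eq (by simp [χ])
    have hk : Nat.card {g : G // (χ : G → ℂ) g = (χ : G → ℂ) 1} = Nat.card ν.ker :=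
      Nat.card_congr (Equiv.subtypeEquivRight fun g => by simp [χ, MonoidHom.mem_ker])
    rw [hd, mul_one, hk, ← ν.ker.card_mul_index, Nat.mul_div_cancel_left _ Nat.card_pos,
      Subgroup.index_ker, hν]
    exact hq

end Cfsg.Agent.S4797
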