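import Cfsg.Statements.S4798
import Cfsg.Agent.Char.Codegree
import Cfsg.Agent.Char.Clifford
import Mathlib.GroupTheory.Sylow

set_option autoImplicit false
open Cfsg

namespace Cfsg.Agent.S4798

open CfsgLib.Char

/-- Let p be a prime and χ a faithful irreducible complex character of the finite group G (χ(g) = χ(1) only for g = 1), so that its codegree is #G / χ(1). Then #G / χ(1) is a power of p if and only if χ is induced from a character of a Sylow p-subgroup of G. -/
theorem result {G : Type*} [Group G] [Fintype G] (p : ℕ) [Fact p.Prime] (χ : Cfsg.IrrCharacter G) (hfaith : ∀ g : G, (χ : G → ℂ) g = (χ : G → ℂ) 1 → g = 1) : (∃ k : ℕ, Nat.card G = p ^ k * Cfsg.charDegree (χ : G → ℂ)) ↔ ∃ (P : Sylow p G) (θ : ↥(P : Subgroup G) → ℂ), Cfsg.IsCharacter ↥(P : Subgroup G) θ ∧ (χ : G → ℂ) = Cfsg.indFun (P : Subgroup G) θ := by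
  classical
  have hp : p.Prime := Fact.out
  have _ := hfaith
  set d := charDegree (χ : G → ℂ) with hd
  have hd0 : 0 < d := charDegree_pos χ.2
  constructor
  · rintro ⟨k, hk⟩
    obtain ⟨P⟩ := (inferInstance : Nonempty (Sylow p G))
    haveI : Fintype (P : Subgroup G) := Fintype.ofFinite _
    have hi0 : 0 < (P : Subgroup G).index := Nat.pos_of_ne_zero Subgroup.index_ne_zero_of_finite
    obtain ⟨b, hb, hdb⟩ : ∃ b : ℕ, d = p ^ b * (P : Subgroup G).index ∧ b = d.factorization p := by
      refine ⟨_, ?_, rfl⟩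
      have h := (P : Subgroup G).card_mul_index
      rw [P.card_eq_multiplicity, hk, Nat.factorization_mul (pow_ne_zero _ hp.ne_zero) hd0.ne',
        Finsupp.add_apply, hp.factorization_pow, Finsupp.single_eq_same, pow_add, mul_assoc] at h
      exact (Nat.eq_of_mul_eq_mul_left (pow_pos hp.pos k) h).symm
    have hres := isCharacter_restrict (P : Subgroup G) (isCharacter_of_isIrr χ.2)
    choose m hm using fun θ : IrrCharacter (P : Subgroup G) => inner_char_irr hres θ.2
    have hsum : d = ∑ θ : IrrCharacter (P : Subgroup G),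
        m θ * charDegree (θ : ↥(P : Subgroup G) → ℂ) := by
      have h := congrFun (classFun_eq_sum (classFun_of_char hres)) 1
      simp only [Finset.sum_apply, Pi.smul_apply, smul_eq_mul, OneMemClass.coe_one,
        irr_one_eq χ.2, hm] at h
      rw [Finset.sum_congr rfl fun θ _ => by rw [irr_one_eq θ.2]] at h
      exact_mod_cast h
    obtain ⟨θ, hθ, hθle⟩ : ∃ θ : IrrCharacter (P : Subgroup G), m θ ≠ 0 ∧
        charDegree (θ : ↥(P : Subgroup G) → ℂ) ≤ p ^ b := by
      by_contra! hall
      have hdiv : p ^ (b + 1) ∣ d := by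
        rw [hsum]
        refine Finset.dvd_sum fun θ _ => ?_
        by_cases h0 : m θ = 0
        · simp [h0]
        obtain ⟨j, hj⟩ := IsPGroup.iff_card.mp P.2
        obtain ⟨i, -, hi⟩ := (Nat.dvd_prime_pow hp).mp (hj ▸ degree_dvd_card θ.2)
        have hlt := hall θ h0
        rw [hi] at hlt ⊢
        exact Dvd.dvd.mul_left (pow_dvd_pow p ((Nat.pow_lt_pow_iff_right hp.one_lt).mp hlt)) _
      have := (hp.pow_dvd_iff_le_factorization hd0.ne').mp hdiv
      omega
    have hc := isCharacter_indFun (P : Subgroup G) (isCharacter_of_isIrr θ.2)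
    have hin : classInner (indFun (P : Subgroup G) (θ : ↥(P : Subgroup G) → ℂ)) (χ : G → ℂ) ≠ 0 := by
      rw [CfsgLib.Char.frobenius _ _ (classFun_of_irr χ.2), ← classInner_conj, hm]
      simp [hθ]
    have hsub := isCharacter_sub_constituent hc χ.2 hin
    obtain ⟨n, hn⟩ := charDegree_aux hsub
    rw [Pi.sub_apply, indFun_one, irr_one_eq θ.2, irr_one_eq χ.2] at hn
    have hn' : (P : Subgroup G).index * charDegree (θ : ↥(P : Subgroup G) → ℂ) = n + d := by
      rw [sub_eq_iff_eq_add] at hn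
      exact_mod_cast hn
    have hle : (P : Subgroup G).index * charDegree (θ : ↥(P : Subgroup G) → ℂ) ≤ d := by
      rw [hb, mul_comm (p ^ b)]
      exact Nat.mul_le_mul_left _ hθle
    refine ⟨P, θ, isCharacter_of_isIrr θ.2, (sub_eq_zero.mp ((char_eq_zero_iff hsub).mp ?_)).symm⟩
    rw [Pi.sub_apply, indFun_one, irr_one_eq θ.2, irr_one_eq χ.2, ← hd, ← Nat.cast_mul,
      show (P : Subgroup G).index * charDegree (θ : ↥(P : Subgroup G) → ℂ) = d by omega]
    simp
  · rintro ⟨P, θ, hθ, heq⟩
    haveI : Fintype (P : Subgroup G) := Fintype.ofFinite _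
    have hne : θ ≠ 0 := fun h => irr_ne_zero χ.2 (by rw [heq, h, indFun_zero])
    obtain ⟨θ₀, h₀⟩ := exists_constituent hθ hne
    have hρ := isCharacter_sub_constituent hθ θ₀.2 h₀
    have hirr : IsIrrCharacter (P : Subgroup G) θ := by
      suffices hz : θ - (θ₀ : ↥(P : Subgroup G) → ℂ) = 0 by
        rw [sub_eq_zero.mp hz]; exact θ₀.2
      by_contra hz
      have h1 : ∀ φ : ↥(P : Subgroup G) → ℂ, IsCharacter (P : Subgroup G) φ → φ ≠ 0 →
          (∀ ψ : IrrCharacter G, classInner (indFun (P : Subgroup G) φ) (ψ : G → ℂ) ≠ 0 → ψ = χ) →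
          ∃ a : ℕ, 1 ≤ a ∧ classInner (indFun (P : Subgroup G) φ) (χ : G → ℂ) = a := by
        intro φ hφ hφ0 honly
        have hcφ := isCharacter_indFun (P : Subgroup G) hφ
        obtain ⟨ψ, hψ⟩ := exists_constituent hcφ (fun h => hφ0 ((char_eq_zero_iff hφ).mp (by
          have := congrFun h 1
          rw [indFun_one, Pi.zero_apply, mul_eq_zero] at this
          exact this.resolve_left (Nat.cast_ne_zero.mpr Subgroup.index_ne_zero_of_finite))))
        obtain ⟨a, ha⟩ := inner_char_irr hcφ χ.2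
        rw [honly ψ hψ, ha] at hψ
        exact ⟨a, Nat.one_le_iff_ne_zero.mpr (fun h => hψ (by simp [h])), ha⟩
      have hsplit : indFun (P : Subgroup G) (θ₀ : ↥(P : Subgroup G) → ℂ) +
          indFun (P : Subgroup G) (θ - (θ₀ : ↥(P : Subgroup G) → ℂ)) = (χ : G → ℂ) := by
        rw [indFun_sub, add_sub_cancel, ← heq]
      have honly : ∀ (φ φ' : ↥(P : Subgroup G) → ℂ), IsCharacter _ φ → IsCharacter _ φ' →
          indFun (P : Subgroup G) φ + indFun (P : Subgroup G) φ' = (χ : G → ℂ) →
          ∀ ψ : IrrCharacter G, classInner (indFun (P : Subgroup G) φ) (ψ : G → ℂ) ≠ 0 → ψ = χ := by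
        intro φ φ' hφ hφ' he ψ hψ
        by_contra hne'
        refine hψ (inner_zero_of_summand (isCharacter_indFun _ hφ) (isCharacter_indFun _ hφ')
          (isCharacter_of_isIrr ψ.2) ?_)
        rw [he]
        exact irr_inner_ne χ.2 ψ.2 (fun h => hne' (Subtype.ext h).symm)
      obtain ⟨a, ha, ha'⟩ := h1 _ (isCharacter_of_isIrr θ₀.2) (irr_ne_zero θ₀.2)
        (honly _ _ (isCharacter_of_isIrr θ₀.2) hρ hsplit)
      obtain ⟨b, hb, hb'⟩ := h1 _ hρ hz
        (honly _ _ hρ (isCharacter_of_isIrr θ₀.2) (by rw [add_comm]; exact hsplit))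
      have h := irr_inner_self χ.2
      nth_rw 1 [← hsplit] at h
      rw [classInner_add_left, ha', hb'] at h
      have : a + b = 1 := by exact_mod_cast h
      omega
    obtain ⟨j, hj⟩ := IsPGroup.iff_card.mp P.2
    obtain ⟨i, hij, hi⟩ := (Nat.dvd_prime_pow hp).mp (hj ▸ degree_dvd_card hirr)
    have hdeq : d = (P : Subgroup G).index * p ^ i := by
      have h := congrFun heq 1
      rw [indFun_one, irr_one_eq χ.2, irr_one_eq hirr, hi] at h
      exact_mod_cast h
    refine ⟨j - i, ?_⟩
    rw [hdeq, ← (P : Subgroup G).card_mul_index, hj, mul_comm (P : Subgroup G).index (p ^ i),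
      ← mul_assoc, ← pow_add, Nat.sub_add_cancel hij]

end Cfsg.Agent.S4798
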