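import Cfsg.Statements.S4801
import Cfsg.Agent.Char.Codegree
import Cfsg.Agent.Char.Classes

set_option autoImplicit false
open Cfsg

namespace Cfsg.Agent.S4801

open CfsgLib.Char

/-- The codegree of an irreducible complex character χ of a finite group G is [G : ker χ] / χ(1), where ker χ is the set of elements at which χ takes the value χ(1). Let S be a finite simple group and G a finite group such that every codegree of an irreducible character of S is a codegree of an irreducible character of G. Then the order of S divides the order of G. -/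
theorem result {S : Type*} [Group S] [Finite S] (hS : IsSimpleGroup S) {G : Type*} [Group G] [Finite G] (hsub : ∀ χ : Cfsg.IrrCharacter S, ∃ ψ : Cfsg.IrrCharacter G, (Nat.card S / (Nat.card {g : S // (χ : S → ℂ) g = (χ : S → ℂ) 1} * Cfsg.charDegree (χ : S → ℂ))) = (Nat.card G / (Nat.card {g : G // (ψ : G → ℂ) g = (ψ : G → ℂ) 1} * Cfsg.charDegree (ψ : G → ℂ)))) : Nat.card S ∣ Nat.card G := by
  classical
  haveI : Fintype S := Fintype.ofFinite S
  haveI := hS
  refine (Nat.dvd_iff_prime_pow_dvd_dvd _ _).mpr fun p k hp hpk => ?_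
  rcases Nat.eq_zero_or_pos k with rfl | hk
  · simp
  obtain ⟨χ, hχ1, hχd⟩ : ∃ χ : IrrCharacter S, χ ≠ ⟨_, isIrr_one⟩ ∧ ¬ p ∣ charDegree (χ : S → ℂ) := by
    by_contra! hall
    have h1 : ∀ ψ : IrrCharacter S,
        (ψ : S → ℂ) 1 ^ 2 = ((charDegree (ψ : S → ℂ) ^ 2 : ℕ) : ℂ) := fun ψ => by
      rw [irr_one_eq ψ.2]; push_cast; ring
    have h := sum_degree_sq (G := S)
    rw [Finset.sum_congr rfl fun ψ _ => h1 ψ, ← Nat.cast_sum, Nat.cast_inj,
      ← Finset.add_sum_erase _ _ (Finset.mem_univ (⟨_, isIrr_one⟩ : IrrCharacter S))] at h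
    have hone : charDegree (fun _ : S => (1 : ℂ)) = 1 := charDegree_eq (n := 1) (by simp)
    simp only [hone, one_pow] at h
    have hsum : p ∣ ∑ x ∈ Finset.univ.erase (⟨_, isIrr_one⟩ : IrrCharacter S),
        charDegree (x : S → ℂ) ^ 2 := Finset.dvd_sum fun x hx =>
      dvd_pow (hall x (Finset.ne_of_mem_erase hx)) two_ne_zero
    exact hp.not_dvd_one ((Nat.dvd_add_left hsum).mp (h ▸ (dvd_pow_self p hk.ne').trans hpk))
  obtain ⟨ψ, hψ⟩ := hsub χ
  obtain ⟨K, hK, hmem, hdvd, hcard, hcod⟩ := irr_kernel χ.2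
  obtain ⟨L, hL, hLmem, hLdvd, hLcard, hLcod⟩ := irr_kernel ψ.2
  have hKbot : K = ⊥ := by
    refine (IsSimpleGroup.eq_bot_or_eq_top_of_normal K hK).resolve_right fun htop => hχ1 (Subtype.ext ?_)
    obtain ⟨j, hj⟩ : ∃ j, charDegree (χ : S → ℂ) = j := ⟨_, rfl⟩
    rw [htop, Subgroup.index_top, Nat.dvd_one] at hdvd
    funext g
    rw [(hmem g).mp (htop ▸ Subgroup.mem_top g), irr_one_eq χ.2, hdvd, Nat.cast_one]
  rw [hKbot, Subgroup.index_bot] at hcod
  set c := Nat.card S / (Nat.card {g : S // (χ : S → ℂ) g = (χ : S → ℂ) 1} * charDegree (χ : S → ℂ))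
  have h1 : p ^ k ∣ c := ((hp.coprime_iff_not_dvd.mpr hχd).pow_left k).dvd_of_dvd_mul_right (hcod ▸ hpk)
  refine h1.trans (Dvd.dvd.trans ?_ L.index_dvd_card)
  rw [← hLcod, ← hψ]
  exact dvd_mul_right _ _

end Cfsg.Agent.S4801
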