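import Cfsg.Statements.S4802
import Cfsg.Agent.Char.NormalSum
import Cfsg.Agent.Char.Classes

set_option autoImplicit false
open Cfsg

namespace Cfsg.Agent.S4802

open CfsgLib.Char

/-- Let N < M be normal subgroups of the finite group G and g ∈ M ∖ N. Then the conjugacy class of g is exactly M ∖ N if and only if every irreducible complex character of G whose kernel contains N takes the same value at all elements of M ∖ N, and every irreducible complex character of G whose kernel does not contain N vanishes at g. -/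
theorem result {G : Type*} [Group G] [Finite G] (N M : Subgroup G) [N.Normal] [M.Normal] (hNM : N < M) (g : G) (hgM : g ∈ M) (hgN : g ∉ N) : {h : G | IsConj g h} = (M : Set G) \ (N : Set G) ↔ ((∀ χ : Cfsg.IrrCharacter G, (∀ x ∈ N, (χ : G → ℂ) x = (χ : G → ℂ) 1) → ∀ x ∈ M, x ∉ N → ∀ y ∈ M, y ∉ N → (χ : G → ℂ) x = (χ : G → ℂ) y) ∧ (∀ χ : Cfsg.IrrCharacter G, (∃ x ∈ N, (χ : G → ℂ) x ≠ (χ : G → ℂ) 1) → (χ : G → ℂ) g = 0)) := by
  classical
  haveI : Fintype G := Fintype.ofFinite G
  constructor
  · intro hS
    have hconj : ∀ h ∈ M, h ∉ N → IsConj g h := fun h hM hN => by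
      have : h ∈ {h : G | IsConj g h} := by rw [hS]; exact ⟨hM, hN⟩
      exact this
    refine ⟨fun χ _ a haM haN b hbM hbN => ?_, fun χ hχ => ?_⟩
    · rw [← classFun_isConj (classFun_of_irr χ.2) (hconj a haM haN),
        ← classFun_isConj (classFun_of_irr χ.2) (hconj b hbM hbN)]
    · obtain ⟨a, haN, ha⟩ := hχ
      have h := irr_coset_sum_eq (N := N) χ.2 g
      rw [if_neg fun hk => ha (hk a haN), Finset.sum_congr rfl fun (n : N) _ =>
        (classFun_isConj (classFun_of_irr χ.2) (hconj ((n : G) * g)
          (M.mul_mem (hNM.le n.2) hgM) (fun hh => hgN (by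
            have := N.mul_mem (N.inv_mem n.2) hh
            simpa using this)))).symm, Finset.sum_const, nsmul_eq_mul] at h
      exact (mul_eq_zero.mp h).resolve_left (by simp [Fintype.card_ne_zero])
  · rintro ⟨hA, hB⟩
    refine Set.Subset.antisymm ?_ ?_
    · rintro h hh
      obtain ⟨c, rfl⟩ := isConj_iff.mp hh
      refine ⟨Subgroup.Normal.conj_mem inferInstance g hgM c, fun hc => hgN ?_⟩
      have := Subgroup.Normal.conj_mem (H := N) inferInstance _ hc c⁻¹
      simpa [mul_assoc] using this
    · rintro h ⟨hM, hN⟩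
      show IsConj g h
      by_contra hne
      have h1 := second_orth h g
      rw [if_neg fun hh => hne hh.symm] at h1
      have h2 := second_orth g g
      rw [if_pos (IsConj.refl g)] at h2
      have heq : ∀ χ : IrrCharacter G, (χ : G → ℂ) h * starRingEnd ℂ ((χ : G → ℂ) g) =
          (χ : G → ℂ) g * starRingEnd ℂ ((χ : G → ℂ) g) := by
        intro χ
        by_cases ht : ∀ x ∈ N, (χ : G → ℂ) x = (χ : G → ℂ) 1
        · rw [hA χ ht h hM hN g hgM hgN]
        · push Not at ht
          rw [hB χ ht]; simp
      rw [Finset.sum_congr rfl fun χ _ => heq χ, h2] at h1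
      exact Nat.card_pos.ne' (by exact_mod_cast h1)

end Cfsg.Agent.S4802
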