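import Cfsg.Statements.S4808
import Cfsg.Agent.Char.Codegree
import Cfsg.Agent.Char.Classes
import Mathlib.GroupTheory.Sylow

set_option autoImplicit false
open Cfsg

namespace Cfsg.Agent.S4808

open CfsgLib.Char

/-- The codegree of an irreducible complex character χ of a finite group G is [G : ker χ] / χ(1), where ker χ is the set of elements at which χ takes the value χ(1). A prime divides the order of G if and only if it divides the codegree of some irreducible complex character of G. -/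
theorem result {G : Type*} [Group G] [Finite G] (p : ℕ) (hp : p.Prime) : p ∣ Nat.card G ↔ ∃ χ : Cfsg.IrrCharacter G, p ∣ (Nat.card G / (Nat.card {g : G // (χ : G → ℂ) g = (χ : G → ℂ) 1} * Cfsg.charDegree (χ : G → ℂ))) := by
  classical
  haveI : Fintype G := Fintype.ofFinite G
  haveI : Fact p.Prime := ⟨hp⟩
  constructor
  swap
  · rintro ⟨χ, hχ⟩
    obtain ⟨K, hK, hmem, hdvd, hcard, hcod⟩ := irr_kernel χ.2
    have : p ∣ K.index := hcod ▸ hχ.mul_right _
    exact this.trans K.index_dvd_card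
  intro hpG
  by_contra! hall
  obtain ⟨P⟩ := (inferInstance : Nonempty (Sylow p G))
  obtain ⟨g, hg⟩ := exists_prime_orderOf_dvd_card' p hpG
  set T := Finset.univ.filter (fun χ : IrrCharacter G =>
    ∀ h : G, (∃ j, h ^ p ^ j = 1) → (χ : G → ℂ) h = (χ : G → ℂ) 1) with hT
  set d : IrrCharacter G → ℕ := fun χ => charDegree (χ : G → ℂ) with hd
  have hrest : ∀ χ ∈ (Finset.univ : Finset (IrrCharacter G)) \ T, p ∣ d χ := by
    intro χ hχ
    simp only [hT, Finset.mem_sdiff, Finset.mem_univ, Finset.mem_filter, true_and,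
      not_forall] at hχ
    obtain ⟨h, ⟨j, hj⟩, hne⟩ := hχ
    obtain ⟨K, hK, hmem, hdvd, hcard, hcod⟩ := irr_kernel χ.2
    have h1 := dvd_index_of_not_mem hp hj (fun hh => hne ((hmem h).mp hh))
    rw [← hcod] at h1
    exact (hp.dvd_mul.mp h1).resolve_left (hall χ)
  have hreg : ∀ h : G, ∑ χ : IrrCharacter G, (d χ : ℂ) * (χ : G → ℂ) h =
      if h = 1 then (Nat.card G : ℂ) else 0 := by
    intro h
    have h1 := second_orth h 1
    have : ∀ χ : IrrCharacter G, (χ : G → ℂ) h * starRingEnd ℂ ((χ : G → ℂ) 1) =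
        (d χ : ℂ) * (χ : G → ℂ) h := fun χ => by
      rw [irr_one_eq χ.2, map_natCast, mul_comm]
    rw [Finset.sum_congr rfl fun χ _ => this χ] at h1
    rw [h1]
    by_cases hh : h = 1
    · subst hh
      rw [if_pos (IsConj.refl 1), if_pos rfl,
        show Subgroup.centralizer ({(1 : G)} : Set G) = ⊤ by
          ext; simp [Subgroup.mem_centralizer_singleton_iff], Subgroup.card_top]
    · rw [if_neg fun hc => hh (isConj_one_left.mp hc), if_neg hh]
  have hmemT : ∀ χ ∈ T, ∀ h : G, (∃ j, h ^ p ^ j = 1) → (χ : G → ℂ) h = (d χ : ℂ) := by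
    intro χ hχ h hh
    rw [(Finset.mem_filter.mp hχ).2 h hh, irr_one_eq χ.2]
  set S : ℕ := ∑ χ ∈ T, d χ * d χ with hS
  choose n hn using fun χ : IrrCharacter G =>
    inner_char_char (isCharacter_restrict (P : Subgroup G) (isCharacter_of_isIrr χ.2))
      (isCharacter_one (G := ↥(P : Subgroup G)))
  choose e he using hrest
  have hpS : p ∣ S := by
    refine dvd_of_isIntegral_div hp.ne_zero ?_
    have h0 := hreg g
    rw [if_neg (fun h1 => by rw [h1, orderOf_one] at hg; exact hp.ne_one hg.symm),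
      ← Finset.sum_sdiff (Finset.subset_univ T), ← Finset.sum_attach (Finset.univ \ T)] at h0
    rw [Finset.sum_congr (s₂ := T) rfl fun χ hχ => by
      rw [hmemT χ hχ g ⟨1, by rw [pow_one, ← hg, pow_orderOf_eq_one]⟩]] at h0
    have hSc : ((S : ℕ) : ℂ) = -((p : ℂ) *
        ∑ χ ∈ (Finset.univ \ T).attach, (e χ.1 χ.2 : ℂ) * (χ.1 : G → ℂ) g) := by
      rw [Finset.mul_sum, hS]
      push_cast
      rw [eq_neg_iff_add_eq_zero, add_comm, ← h0]
      congr 1
      exact Finset.sum_congr rfl fun χ _ => by rw [he χ.1 χ.2]; push_cast; ring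
    rw [hSc, neg_div, mul_div_cancel_left₀ _ (Nat.cast_ne_zero.mpr hp.ne_zero)]
    exact (IsIntegral.sum _ fun χ _ =>
      (isIntegral_algebraMap (R := ℤ) (A := ℂ) (x := (e χ.1 χ.2 : ℤ))).mul
        (char_isIntegral (isCharacter_of_isIrr χ.1.2) g)).neg
  have hidx : (P : Subgroup G).index =
      S + p * ∑ χ ∈ (Finset.univ \ T).attach, e χ.1 χ.2 * n χ.1 := by
    have hP0 : (Nat.card ↥(P : Subgroup G) : ℂ) ≠ 0 := natCard_ne_zero _
    suffices h : (Nat.card ↥(P : Subgroup G) : ℂ) * ((P : Subgroup G).index : ℂ) =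
        (Nat.card ↥(P : Subgroup G) : ℂ) *
          ((S + p * ∑ χ ∈ (Finset.univ \ T).attach, e χ.1 χ.2 * n χ.1 : ℕ) : ℂ) by
      exact_mod_cast mul_left_cancel₀ hP0 h
    rw [← Nat.cast_mul, Subgroup.card_mul_index]
    have h1 : ∑ χ : IrrCharacter G, (d χ : ℂ) * ∑ h : ↥(P : Subgroup G), (χ : G → ℂ) h =
        (Nat.card G : ℂ) := by
      simp only [Finset.mul_sum]
      rw [Finset.sum_comm, Finset.sum_congr rfl fun (h : ↥(P : Subgroup G)) _ => hreg h]
      simp
    have h2 : ∀ χ : IrrCharacter G, ∑ h : ↥(P : Subgroup G), (χ : G → ℂ) h =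
        (Nat.card ↥(P : Subgroup G) : ℂ) * (n χ : ℂ) := by
      intro χ
      rw [← hn χ, classInner_def, ← mul_assoc, mul_inv_cancel₀ hP0, one_mul]
      simp
    have hT2 : ∀ χ ∈ T, ∑ h : ↥(P : Subgroup G), (χ : G → ℂ) h =
        (Nat.card ↥(P : Subgroup G) : ℂ) * (d χ : ℂ) := by
      intro χ hχ
      rw [Finset.sum_congr rfl fun (h : ↥(P : Subgroup G)) _ => hmemT χ hχ h (by
        obtain ⟨j, hj⟩ := P.isPGroup' h
        exact ⟨j, by simpa using congrArg Subtype.val hj⟩)]
      simp [Nat.card_eq_fintype_card]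
    rw [← h1, ← Finset.sum_sdiff (Finset.subset_univ T), Nat.cast_add, hS, Nat.cast_sum,
      Nat.cast_mul, Nat.cast_sum, mul_add, Finset.mul_sum, Finset.mul_sum, Finset.mul_sum,
      add_comm]
    congr 1
    · refine Finset.sum_congr rfl fun χ hχ => ?_
      rw [hT2 χ hχ]; push_cast; ring
    · rw [← Finset.sum_attach (Finset.univ \ T)]
      refine Finset.sum_congr rfl fun χ _ => ?_
      rw [h2, he χ.1 χ.2]; push_cast; ring
  exact P.not_dvd_index (hidx ▸ dvd_add hpS (dvd_mul_right p _))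

end Cfsg.Agent.S4808
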