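import Cfsg.Statements.S4812
import Cfsg.Agent.Char.SL2Degrees

set_option autoImplicit false
open Cfsg

namespace Cfsg.Agent.S4812


/-- Adjacency of two primes in the degree graph, reduced to the three main degrees. -/
theorem dvd_split {d q r : ℕ} (h : d = 1 ∨ d = q ∨ d = q + 1 ∨ d = q - 1 ∨ (Odd q ∧ (2 * d = q + 1 ∨ 2 * d = q - 1)))
    (hr : r ∣ d) (hr1 : r ≠ 1) : r ∣ q ∨ r ∣ q + 1 ∨ r ∣ q - 1 := by
  rcases h with e | e | e | e | ⟨-, e | e⟩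
  · exact absurd (Nat.dvd_one.1 (e ▸ hr)) hr1
  · exact Or.inl (e ▸ hr)
  · exact Or.inr (Or.inl (e ▸ hr))
  · exact Or.inr (Or.inr (e ▸ hr))
  · exact Or.inr (Or.inl (e ▸ hr.mul_left 2))
  · exact Or.inr (Or.inr (e ▸ hr.mul_left 2))

theorem primes_eq {S : Type*} [Group S] [Finite S] {q : ℕ} (hq : 1 < q)
    (hc : ∀ d ∈ Cfsg.charDegrees S, d = 1 ∨ d = q ∨ d = q + 1 ∨ d = q - 1 ∨ (Odd q ∧ (2 * d = q + 1 ∨ 2 * d = q - 1)))
    (h1 : q ∈ Cfsg.charDegrees S) (h2 : q + 1 ∈ Cfsg.charDegrees S) (h3 : q - 1 ∈ Cfsg.charDegrees S) :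
    Cfsg.degreePrimes S = {r : ℕ | r.Prime ∧ r ∣ q * (q ^ 2 - 1)} := by
  have hsq : q ^ 2 - 1 = (q + 1) * (q - 1) := by
    simpa using Nat.sq_sub_sq q 1
  ext r
  constructor
  · rintro ⟨hr, d, hd, hrd⟩
    refine ⟨hr, ?_⟩
    rw [hsq]
    rcases dvd_split (hc d hd) hrd hr.ne_one with h | h | h
    · exact h.mul_right _
    · exact (h.mul_right _).mul_left _
    · exact (h.mul_left _).mul_left _
  · rintro ⟨hr, h⟩
    rw [hsq] at h
    rcases hr.dvd_mul.1 h with h | h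
    · exact ⟨hr, q, h1, h⟩
    · rcases hr.dvd_mul.1 h with h | h
      · exact ⟨hr, _, h2, h⟩
      · exact ⟨hr, _, h3, h⟩

theorem adj_core {S : Type*} [Group S] [Finite S] {q t n : ℕ} (ht : t.Prime) (hn : q = t ^ n) (hq : 1 < q)
    (hc : ∀ d ∈ Cfsg.charDegrees S, d = 1 ∨ d = q ∨ d = q + 1 ∨ d = q - 1 ∨ (Odd q ∧ (2 * d = q + 1 ∨ 2 * d = q - 1)))
    {r s : ℕ} (h : (Cfsg.degreeGraph S).Adj r s) :
    (r ∣ q + 1 ∧ s ∣ q + 1) ∨ (r ∣ q - 1 ∧ s ∣ q - 1) := by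
  obtain ⟨hne, hr, hs, d, hd, hrs⟩ := h
  have hrd := (Dvd.intro s rfl).trans hrs
  have hsd := (Dvd.intro_left r rfl).trans hrs
  rcases hc d hd with e | e | e | e | ⟨-, e | e⟩
  · exact absurd (Nat.dvd_one.1 (e ▸ hrd)) hr.ne_one
  · exact absurd (((Nat.prime_dvd_prime_iff_eq hr ht).1 (hr.dvd_of_dvd_pow (hn ▸ e ▸ hrd))).trans
      ((Nat.prime_dvd_prime_iff_eq hs ht).1 (hs.dvd_of_dvd_pow (hn ▸ e ▸ hsd))).symm) hne
  · exact Or.inl ⟨e ▸ hrd, e ▸ hsd⟩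
  · exact Or.inr ⟨e ▸ hrd, e ▸ hsd⟩
  · exact Or.inl ⟨e ▸ hrd.mul_left 2, e ▸ hsd.mul_left 2⟩
  · exact Or.inr ⟨e ▸ hrd.mul_left 2, e ▸ hsd.mul_left 2⟩

theorem adj_of_dvd {S : Type*} [Group S] [Finite S] {d r s : ℕ} (hd : d ∈ Cfsg.charDegrees S)
    (hne : r ≠ s) (hr : r.Prime) (hs : s.Prime) (hrd : r ∣ d) (hsd : s ∣ d) :
    (Cfsg.degreeGraph S).Adj r s :=
  ⟨hne, hr, hs, d, hd, ((Nat.coprime_primes hr hs).2 hne).mul_dvd_of_dvd_of_dvd hrd hsd⟩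


/-- Let F be a finite field of characteristic 2 with q ≥ 4 elements and let S be isomorphic to PSL(2,F) or to SL(2,F). Then the vertices of the character degree graph of S are the primes dividing q(q²−1), and two distinct primes are adjacent exactly when both divide q + 1 or both divide q − 1; so the graph has the three connected components {2}, the primes dividing q + 1 and the primes dividing q − 1, each complete. -/
theorem result (F : Type*) [Field F] [Fintype F] [CharP F 2] (q : ℕ) (hq : Fintype.card F = q) (h4 : 4 ≤ q) {S : Type*} [Group S] [Finite S] (hS : Nonempty (S ≃* Matrix.ProjectiveSpecialLinearGroup (Fin 2) F) ∨ Nonempty (S ≃* Matrix.SpecialLinearGroup (Fin 2) F)) : Cfsg.degreePrimes S = {r : ℕ | r.Prime ∧ r ∣ q * (q ^ 2 - 1)} ∧ ∀ r s : ℕ, (Cfsg.degreeGraph S).Adj r s ↔ (r ≠ s ∧ r.Prime ∧ s.Prime ∧ ((r ∣ q + 1 ∧ s ∣ q + 1) ∨ (r ∣ q - 1 ∧ s ∣ q - 1)))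 := by
  subst hq
  obtain ⟨n, hp, hn⟩ := FiniteField.card F 2
  have hne : ¬ Odd (Fintype.card F) := Nat.not_odd_iff_even.2 (by rw [hn]; exact Nat.even_pow.2 ⟨even_two, n.2.ne'⟩)
  obtain ⟨hc, h1, h2, h3⟩ := CfsgLib.Char.SL2Deg.degrees h4 (fun h => absurd h hne) hS
  refine ⟨primes_eq (by omega) hc h1 h2 h3, fun r s => ⟨fun h => ?_, ?_⟩⟩
  · exact ⟨h.1, h.2.1, h.2.2.1, adj_core hp hn (by omega) hc h⟩
  · rintro ⟨hne', hr, hs, ⟨a, b⟩ | ⟨a, b⟩⟩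
    · exact adj_of_dvd h2 hne' hr hs a b
    · exact adj_of_dvd h3 hne' hr hs a b

end Cfsg.Agent.S4812
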