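import Cfsg.Statements.S4856
import Cfsg.Agent.Char.Convolution
import Cfsg.Agent.Char.Classes

set_option autoImplicit false
open Cfsg

namespace Cfsg.Agent.S4856

open CfsgLib.Char

/-- For an element z of a finite group G, the number of pairs (x, y) of elements with x y x⁻¹ y⁻¹ = z equals the order of G times the sum over the irreducible characters χ of χ(z)/χ(1). -/
theorem result {G : Type*} [Group G] [Finite G] (z : G) : (Nat.card {xy : G × G // xy.1 * xy.2 * xy.1⁻¹ * xy.2⁻¹ = z} : ℂ) = (Nat.card G : ℂ) * ∑ᶠ χ : Cfsg.IrrCharacter G, (χ : G → ℂ) z / (χ : G → ℂ) 1 := by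
  classical
  haveI : Fintype G := Fintype.ofFinite G
  have hfib : ∀ x : G, Nat.card {y : G // x * y * x⁻¹ * y⁻¹ = z} =
      if IsConj (x⁻¹ * z) x⁻¹ then
        Nat.card (Subgroup.centralizer ({x⁻¹ * z} : Set G)) else 0 := by
    intro x
    have key : ∀ y : G, x * y * x⁻¹ * y⁻¹ = z ↔ y⁻¹ * (x⁻¹ * z) * y = x⁻¹ := by
      intro y
      constructor
      · intro h; rw [← h]; group
      · intro h
        calc x * y * x⁻¹ * y⁻¹ = x * y * (y⁻¹ * (x⁻¹ * z) * y) * y⁻¹ := by rw [h]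
          _ = z := by group
    split_ifs with hc
    · obtain ⟨c, hc⟩ := isConj_iff.mp hc
      refine Nat.card_congr
        { toFun := fun y => ⟨y.1 * c, mem_centralizer_singleton.mpr ?_⟩
          invFun := fun k => ⟨k.1 * c⁻¹, (key _).mpr ?_⟩
          left_inv := fun y => Subtype.ext (by simp)
          right_inv := fun k => Subtype.ext (by simp) }
      · have h := ((key y.1).mp y.2).trans hc.symm
        calc y.1 * c * (x⁻¹ * z) = y.1 * (c * (x⁻¹ * z) * c⁻¹) * c := by group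
          _ = y.1 * (y.1⁻¹ * (x⁻¹ * z) * y.1) * c := by rw [h]
          _ = (x⁻¹ * z) * (y.1 * c) := by group
      · have h := mem_centralizer_singleton.mp k.2
        calc (k.1 * c⁻¹)⁻¹ * (x⁻¹ * z) * (k.1 * c⁻¹)
              = c * (k.1⁻¹ * ((x⁻¹ * z) * k.1)) * c⁻¹ := by group
          _ = c * (k.1⁻¹ * (k.1 * (x⁻¹ * z))) * c⁻¹ := by rw [h]
          _ = c * (x⁻¹ * z) * c⁻¹ := by group
          _ = x⁻¹ := hc
    · rw [Nat.card_eq_zero]
      exact Or.inl ⟨fun y => hc (isConj_iff.mpr ⟨y.1⁻¹, by rw [inv_inv]; exact (key y.1).mp y.2⟩)⟩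
  rw [Nat.card_congr (Equiv.subtypeProdEquivSigmaSubtype
    fun x y : G => x * y * x⁻¹ * y⁻¹ = z), Nat.card_sigma, finsum_irr, Nat.cast_sum,
    Finset.sum_congr rfl fun x _ => ?_, Finset.sum_comm, Finset.mul_sum]
  · refine Finset.sum_congr rfl fun χ _ => ?_
    rw [mul_div_assoc']
    exact irr_convolution' χ.2 z
  · rw [hfib x, Nat.cast_ite, Nat.cast_zero, ← second_orth (x⁻¹ * z) x⁻¹]
    refine Finset.sum_congr rfl fun χ _ => ?_
    rw [← char_conj_eq (isCharacter_of_isIrr χ.2), inv_inv, mul_comm]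

end Cfsg.Agent.S4856
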