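import Cfsg.Statements.S4814
import Cfsg.Agent.S4856
import Cfsg.Agent.Char.Convolution

set_option autoImplicit false
open Cfsg

namespace Cfsg.Agent.S4814

open CfsgLib.Char

/-- Let G be a finite group such that the sum, over the irreducible complex characters χ of G, of 1/χ(1)² is less than 2. Then every element of G is a product of two commutators. -/
theorem result {G : Type*} [Group G] [Finite G]
    (h : ∑ᶠ χ : Cfsg.IrrCharacter G, 1 / ‖(χ : G → ℂ) 1‖ ^ 2 < (2 : ℝ)) (g : G) :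
    ∃ a b c d : G, (a * b * a⁻¹ * b⁻¹) * (c * d * c⁻¹ * d⁻¹) = g := by
  classical
  haveI : Fintype G := Fintype.ofFinite G
  by_contra! hno
  set N : G → ℕ := fun z => Nat.card {xy : G × G // xy.1 * xy.2 * xy.1⁻¹ * xy.2⁻¹ = z} with hN
  have hzero : ∀ z : G, N z * N (z⁻¹ * g) = 0 := by
    intro z
    by_contra h0
    rw [mul_eq_zero, not_or] at h0
    obtain ⟨⟨a, ha⟩⟩ := (Nat.card_ne_zero.mp h0.1).1
    obtain ⟨⟨b, hb⟩⟩ := (Nat.card_ne_zero.mp h0.2).1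
    exact hno a.1 a.2 b.1 b.2 (by rw [ha, hb, mul_inv_cancel_left])
  have hform : ∀ z, (N z : ℂ) = (Nat.card G : ℂ) *
      ∑ χ : IrrCharacter G, (χ : G → ℂ) z / (χ : G → ℂ) 1 := fun z => by
    have := Cfsg.Agent.S4856.result z
    rwa [finsum_eq_sum_of_fintype] at this
  have hconv : ∀ χ ψ : IrrCharacter G, ∑ z : G, (χ : G → ℂ) z * (ψ : G → ℂ) (z⁻¹ * g) =
      if χ = ψ then (Nat.card G : ℂ) * (χ : G → ℂ) g / (χ : G → ℂ) 1 else 0 := fun χ ψ => by
    split_ifs with h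
    · subst h; exact irr_convolution' χ.2 g
    · exact irr_convolution_ne χ.2 ψ.2 (fun e => h (Subtype.ext e)) g
  have hsum : ∑ χ : IrrCharacter G, (χ : G → ℂ) g / (χ : G → ℂ) 1 ^ 3 = 0 := by
    have h0 : ∑ z : G, ((N z : ℂ) * (N (z⁻¹ * g) : ℂ)) = 0 :=
      Finset.sum_eq_zero fun z _ => by rw [← Nat.cast_mul, hzero z, Nat.cast_zero]
    simp only [hform, Finset.mul_sum, Finset.sum_mul] at h0
    rw [Finset.sum_comm] at h0
    have hne : (Nat.card G : ℂ) ^ 3 ≠ 0 := pow_ne_zero _ (natCard_ne_zero G)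
    refine (mul_eq_zero.mp ?_).resolve_left hne
    refine Eq.trans ?_ h0
    rw [Finset.mul_sum]
    refine Finset.sum_congr rfl fun χ _ => ?_
    rw [Finset.sum_comm, Finset.sum_congr rfl (g := fun ψ : IrrCharacter G =>
      ((Nat.card G : ℂ) ^ 2 / ((χ : G → ℂ) 1 * (ψ : G → ℂ) 1)) *
        ∑ z : G, (ψ : G → ℂ) z * (χ : G → ℂ) (z⁻¹ * g)) fun ψ _ => ?_]
    · simp only [hconv, mul_ite, mul_zero, Finset.sum_ite_eq', Finset.mem_univ, if_true]
      ring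
    · rw [Finset.mul_sum]
      exact Finset.sum_congr rfl fun z _ => by ring
  set one : IrrCharacter G := ⟨_, isIrr_one⟩ with hone
  rw [← Finset.add_sum_erase _ _ (Finset.mem_univ one)] at hsum
  rw [finsum_eq_sum_of_fintype, ← Finset.add_sum_erase _ _ (Finset.mem_univ one)] at h
  simp only [hone, one_pow, div_one, norm_one] at hsum h
  have hb : ‖∑ χ ∈ Finset.univ.erase one, (χ : G → ℂ) g / (χ : G → ℂ) 1 ^ 3‖ ≤
      ∑ χ ∈ Finset.univ.erase one, 1 / ‖(χ : G → ℂ) 1‖ ^ 2 := by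
    refine (norm_sum_le _ _).trans (Finset.sum_le_sum fun χ _ => ?_)
    have hd : (0 : ℝ) < ‖(χ : G → ℂ) 1‖ := norm_pos_iff.mpr (irr_one_ne_zero χ.2)
    have hle : ‖(χ : G → ℂ) g‖ ≤ ‖(χ : G → ℂ) 1‖ := by
      rw [irr_one_eq χ.2, Complex.norm_natCast]
      exact char_norm_le (isCharacter_of_isIrr χ.2) g
    rw [norm_div, norm_pow]
    calc ‖(χ : G → ℂ) g‖ / ‖(χ : G → ℂ) 1‖ ^ 3 ≤ ‖(χ : G → ℂ) 1‖ / ‖(χ : G → ℂ) 1‖ ^ 3 :=
          div_le_div_of_nonneg_right hle (by positivity)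
      _ = 1 / ‖(χ : G → ℂ) 1‖ ^ 2 := by field_simp
  rw [eq_neg_of_add_eq_zero_right hsum, norm_neg, norm_one] at hb
  linarith

end Cfsg.Agent.S4814
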