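import Cfsg.Statements.S4825
import Cfsg.Agent.Blk.Criterion
import Cfsg.Agent.Blk.Orth
import Cfsg.Agent.Char.Clifford
import Cfsg.Agent.Blk.SecondMain

set_option autoImplicit false
open Cfsg

namespace Cfsg.Agent.S4825

open CfsgLib.Char

/-- Let p be a prime, G a finite group with Sylow p-subgroup P, M a maximal ideal of the algebraic integers containing p, and B a p-block of G with defect group P. Let N be a normal subgroup of G not containing P and θ an irreducible character of N. Then the number of irreducible characters in B of degree prime to p lying over θ (having θ as a constituent on restriction to N) is either 0 or at least 2, and when p ≤ 3 it is divisible by p. -/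
theorem result {G : Type*} [Group G] [Fintype G] (p : ℕ) [Fact p.Prime] (P : Sylow p G) (M : Ideal Cfsg.AlgInt) (hM : Cfsg.IsPModular p M) (B : Set (Cfsg.IrrCharacter G)) (hB : Cfsg.IsPBlock M B) (hBP : Cfsg.IsDefectGroup p M B P) (N : Subgroup G) [N.Normal] [Fintype N] (hPN : ¬ (P : Subgroup G) ≤ N) (θ : Cfsg.IrrCharacter N) :
    (Nat.card {χ : Cfsg.IrrCharacter G // χ ∈ B ∧ ¬ p ∣ Cfsg.charDegree (χ : G → ℂ) ∧ Cfsg.classInner (fun n : N => (χ : G → ℂ) n) (θ : N → ℂ) ≠ 0} = 0 ∨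
      2 ≤ Nat.card {χ : Cfsg.IrrCharacter G // χ ∈ B ∧ ¬ p ∣ Cfsg.charDegree (χ : G → ℂ) ∧ Cfsg.classInner (fun n : N => (χ : G → ℂ) n) (θ : N → ℂ) ≠ 0}) ∧
    (p ≤ 3 → p ∣ Nat.card {χ : Cfsg.IrrCharacter G // χ ∈ B ∧ ¬ p ∣ Cfsg.charDegree (χ : G → ℂ) ∧ Cfsg.classInner (fun n : N => (χ : G → ℂ) n) (θ : N → ℂ) ≠ 0}) := by
  classical
  haveI := CfsgLib.Blk.IsPModular.isPrime hM
  set S := {χ : IrrCharacter G // χ ∈ B ∧ ¬ p ∣ charDegree (χ : G → ℂ) ∧
    classInner (fun n : N => (χ : G → ℂ) n) (θ : N → ℂ) ≠ 0}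
  letI : Fintype S := Fintype.ofFinite _
  choose m hm using fun χ : IrrCharacter G =>
    inner_char_irr (isCharacter_restrict N (isCharacter_of_isIrr χ.2)) θ.2
  -- the block part of the induced character
  obtain ⟨u, huP, huN⟩ := SetLike.not_le_iff_exists.1 hPN
  obtain ⟨k, hk⟩ := IsPGroup.iff_orderOf.1 P.2 ⟨u, huP⟩
  rw [Subgroup.orderOf_mk] at hk
  have hzero : (∑ χ : IrrCharacter G, if χ ∈ B then (m χ : ℂ) * (χ : G → ℂ) u else 0) = 0 := by
    have h1 : ∀ n : N, (∑ χ : IrrCharacter G, if χ ∈ B then (χ : G → ℂ) u * starRingEnd ℂ ((χ : G → ℂ) n) else 0) = 0 := by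
      intro n
      obtain ⟨x, hx⟩ := CfsgLib.Blk.exists_isPPart (Fact.out : p.Prime) (n : G)
      have hxN : x ∈ N := (Subgroup.zpowers_le.2 n.2) (CfsgLib.Blk.isPPart_mem_zpowers Fact.out hx)
      have hux : ¬ IsConj u x := fun h => huN (by
        obtain ⟨c, rfl⟩ := isConj_iff.1 h
        have := (inferInstance : N.Normal).conj_mem _ hxN c⁻¹
        simpa [mul_assoc] using this)
      have h2 := CfsgLib.Blk.block_orth hM hB (CfsgLib.Blk.isPPart_self ⟨k, hk⟩ Fact.out) hx hux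
      rwa [CfsgLib.Blk.finsum_mem_eq_sum_ite] at h2
    have h2 : ∀ χ : IrrCharacter G, (m χ : ℂ) =
        (Nat.card N : ℂ)⁻¹ * ∑ n : N, starRingEnd ℂ ((χ : G → ℂ) n) * (θ : N → ℂ) n := by
      intro χ
      have := congrArg (starRingEnd ℂ) (hm χ)
      rw [Complex.conj_natCast, classInner_conj, classInner_def] at this
      rw [← this]
      congr 1
      exact Finset.sum_congr rfl fun n _ => mul_comm _ _
    calc _ = ∑ χ : IrrCharacter G, (Nat.card N : ℂ)⁻¹ * ∑ n : N,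
          (if χ ∈ B then (χ : G → ℂ) u * starRingEnd ℂ ((χ : G → ℂ) n) else 0) * (θ : N → ℂ) n := by
          refine Finset.sum_congr rfl fun χ _ => ?_
          split_ifs with h
          · rw [h2, mul_assoc, Finset.sum_mul]
            congr 1
            exact Finset.sum_congr rfl fun n _ => by ring
          · simp
      _ = 0 := by
          rw [← Finset.mul_sum, Finset.sum_comm]
          simp only [← Finset.sum_mul, h1, zero_mul, Finset.sum_const_zero, mul_zero]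
  have hdiv : p ∣ ∑ χ : IrrCharacter G, if χ ∈ B then m χ * charDegree (χ : G → ℂ) else 0 := by
    haveI := CfsgLib.Blk.charP_res hM
    rw [← CharP.cast_eq_zero_iff (CfsgLib.Blk.Res M) p]
    have hint : ∀ χ ∈ (Finset.univ : Finset (IrrCharacter G)),
        (if χ ∈ B then (m χ : ℂ) * (χ : G → ℂ) u else 0) ∈ CfsgLib.Blk.locRing M := fun χ _ => by
      split_ifs
      · exact mul_mem (natCast_mem _ _) (CfsgLib.Blk.integral_mem (char_isIntegral (isCharacter_of_isIrr χ.2) u))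
      · exact zero_mem _
    have h3 := congrArg (CfsgLib.Blk.red M) hzero
    rw [CfsgLib.Blk.red_sum _ _ hint, CfsgLib.Blk.red_zero] at h3
    rw [← h3, Nat.cast_sum]
    refine Finset.sum_congr rfl fun χ _ => ?_
    split_ifs
    · rw [CfsgLib.Blk.red_mul (natCast_mem _ _) (CfsgLib.Blk.integral_mem (char_isIntegral (isCharacter_of_isIrr χ.2) u)),
        CfsgLib.Blk.red_natCast,
        CfsgLib.Blk.red_char_eq hM (isCharacter_of_isIrr χ.2) (g := u) (x := u) (y := 1) (mul_one u)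
          (Commute.one_right u) ⟨k, hk⟩, char_one_eq (isCharacter_of_isIrr χ.2), CfsgLib.Blk.red_natCast,
        Nat.cast_mul]
    · rw [CfsgLib.Blk.red_zero, Nat.cast_zero]
  obtain ⟨d0, hd0, hθ1⟩ := irr_deg θ.2
  set t := (inertia (θ : N → ℂ)).index
  have hdeg : ∀ χ : IrrCharacter G, m χ ≠ 0 → charDegree (χ : G → ℂ) = m χ * (t * d0) := by
    intro χ h
    refine charDegree_eq ?_
    rw [degree_clifford χ.2 θ.2 (by rw [hm]; exact_mod_cast h), hm, hθ1]
    push_cast; ring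
  obtain hS | ⟨⟨χ₀, hχ₀⟩⟩ := isEmpty_or_nonempty S
  · rw [Nat.card_of_isEmpty]; exact ⟨Or.inl rfl, fun _ => dvd_zero p⟩
  have hm0 : ∀ χ : IrrCharacter G, classInner (fun n : N => (χ : G → ℂ) n) (θ : N → ℂ) ≠ 0 ↔ m χ ≠ 0 :=
    fun χ => by rw [hm]; exact Nat.cast_ne_zero
  have hp : p.Prime := Fact.out
  have hT : ¬ p ∣ t * d0 := fun h => hχ₀.2.1 (by
    rw [hdeg _ ((hm0 χ₀).1 hχ₀.2.2)]; exact h.mul_left _)
  have hsq : p ∣ ∑ χ : S, m χ.1 ^ 2 := by
    have h1 : ((∑ χ : IrrCharacter G, if χ ∈ B then m χ * charDegree (χ : G → ℂ) else 0 : ℕ) : ZMod p) =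
        ((t * d0 : ℕ) : ZMod p) * ((∑ χ : S, m χ.1 ^ 2 : ℕ) : ZMod p) := by
      rw [Nat.cast_sum, Nat.cast_sum, Finset.mul_sum]
      rw [← Finset.sum_subtype (Finset.univ.filter fun χ : IrrCharacter G => χ ∈ B ∧
        ¬ p ∣ charDegree (χ : G → ℂ) ∧ classInner (fun n : N => (χ : G → ℂ) n) (θ : N → ℂ) ≠ 0) (by simp)
        (fun χ : IrrCharacter G => ((t * d0 : ℕ) : ZMod p) * ((m χ ^ 2 : ℕ) : ZMod p)), Finset.sum_filter]
      refine Finset.sum_congr rfl fun χ _ => ?_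
      by_cases hB' : χ ∈ B
      swap
      · simp [hB']
      by_cases h0 : m χ = 0
      · rw [if_pos hB', if_neg (fun h => (hm0 χ).1 h.2.2 h0), h0]; simp
      rw [if_pos hB']
      by_cases hp' : p ∣ charDegree (χ : G → ℂ)
      · rw [if_neg (fun h => h.2.1 hp'), ZMod.natCast_eq_zero_iff]
        exact hp'.mul_left _
      · rw [if_pos ⟨hB', hp', (hm0 χ).2 h0⟩, hdeg χ h0]
        push_cast; ring
    rw [(ZMod.natCast_eq_zero_iff _ _).2 hdiv, eq_comm, mul_eq_zero] at h1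
    exact (ZMod.natCast_eq_zero_iff _ _).1 (h1.resolve_left fun h => hT ((ZMod.natCast_eq_zero_iff _ _).1 h))
  have hmp : ∀ χ : S, ¬ p ∣ m χ.1 := fun χ h => χ.2.2.1 (by
    rw [hdeg _ ((hm0 χ.1).1 χ.2.2.2)]; exact h.mul_right _)
  refine ⟨Or.inr ?_, fun hp3 => ?_⟩
  · by_contra h
    haveI : Nonempty S := ⟨⟨χ₀, hχ₀⟩⟩
    have hc : Nat.card S = 1 := by
      have : 0 < Nat.card S := Nat.card_pos
      omega
    obtain ⟨hsub, -⟩ := Nat.card_eq_one_iff_unique.1 hc
    rw [Finset.sum_eq_single (⟨χ₀, hχ₀⟩ : S) (fun b _ hb => absurd (Subsingleton.elim b _) hb)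
      (fun h => absurd (Finset.mem_univ _) h)] at hsq
    exact hmp ⟨χ₀, hχ₀⟩ (hp.dvd_of_dvd_pow hsq)
  · have h2 : ∀ χ : S, ((m χ.1 ^ 2 : ℕ) : ZMod p) = 1 := by
      intro χ
      have hne : ((m χ.1 : ℕ) : ZMod p) ≠ 0 := fun h => hmp χ ((ZMod.natCast_eq_zero_iff _ _).1 h)
      have h4 := ZMod.pow_card_sub_one_eq_one hne
      rw [Nat.cast_pow]
      have hp23 : p = 2 ∨ p = 3 := by have := hp.two_le; omega
      rcases hp23 with rfl | rfl
      · rw [pow_one] at h4; rw [h4, one_pow]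
      · exact h4
    have h3 := (ZMod.natCast_eq_zero_iff _ _).2 hsq
    rw [Nat.cast_sum, Finset.sum_congr rfl fun χ _ => h2 χ, Finset.sum_const, Finset.card_univ,
      nsmul_eq_mul, mul_one, Fintype.card_eq_nat_card] at h3
    exact (ZMod.natCast_eq_zero_iff _ _).1 h3

end Cfsg.Agent.S4825
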