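import Cfsg.Statements.S4828
import Cfsg.Agent.Blk.PairCriterion

set_option autoImplicit false
open Cfsg

namespace Cfsg.Agent.S4828

set_option linter.style.haveILetI false
open CfsgLib.Char CfsgLib.Blk CfsgLib.Blk.Pair

/-- Let p be a prime, M a maximal ideal of the algebraic integers containing p, and (Q, e) a Brauer pair of the finite group G (Q a p-subgroup, e a block of C_G(Q)). Then (Q, e) is a maximal Brauer pair of some block of G if and only if e contains an irreducible character θ such that θ takes the value θ(1) at every element of Z(Q) = Q ∩ C_G(Q), the p-part of θ(1) times the p-part of the order of Z(Q) equals the p-part of the order of C_G(Q) (θ has defect zero as a character of C_G(Q)/Z(Q)), and every element of N_G(Q) of p-power order that stabilizes e lies in Q·C_G(Q) (the stabilizer of e in N_G(Q) has index prime to p over Q·C_G(Q)). -/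
theorem result {G : Type*} [Group G] [Finite G] (p : ℕ) [Fact p.Prime] (M : Ideal Cfsg.AlgInt) (hM : Cfsg.IsPModular p M) (Q : Subgroup G) (e : Set (Cfsg.IrrCharacter (Subgroup.centralizer (Q : Set G)))) (he : Cfsg.IsBrauerPair p M Q e) :
    (∃ B : Set (Cfsg.IrrCharacter G), Cfsg.IsMaximalBrauerPair p M B Q e) ↔
      ∃ θ ∈ e, (∀ z : Subgroup.centralizer (Q : Set G), (z : G) ∈ Q → (θ : Subgroup.centralizer (Q : Set G) → ℂ) z = (θ : Subgroup.centralizer (Q : Set G) → ℂ) 1) ∧
        (Cfsg.charDegree (θ : Subgroup.centralizer (Q : Set G) → ℂ)).factorization p + (Nat.card ↥(Q ⊓ Subgroup.centralizer (Q : Set G))).factorization p = (Nat.card (Subgroup.centralizer (Q : Set G))).factorization p ∧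
        (∀ g : G, g ∈ Subgroup.normalizer (Q : Set G) → Cfsg.StabilizesBlock (Subgroup.centralizer (Q : Set G)) e g → (∃ k : ℕ, orderOf g = p ^ k) → g ∈ Q ⊔ Subgroup.centralizer (Q : Set G)) := by
  classical
  haveI := CfsgLib.Blk.IsPModular.isPrime hM
  have hfac : (Nat.card (Cn Q)).factorization p =
      (Nat.card ↥(Q ⊓ Cn Q)).factorization p + (Q.subgroupOf (Cn Q)).index.factorization p := by
    rw [← card_subgroupOf_eq_inf Q (Cn Q), ← Finsupp.add_apply,
      ← Nat.factorization_mul Nat.card_pos.ne' Subgroup.index_ne_zero_of_finite,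
      Subgroup.card_mul_index]
  constructor
  · rintro ⟨B, hmax⟩
    obtain ⟨-, θ, hθ, htriv, hdeg⟩ := exists_canonical_of_maximal hM hmax
    exact ⟨θ, hθ, htriv, by rw [hfac, hdeg, add_comm],
      fun g hgN hgs hgp => stabilizer_pElem_of_maximal hM hmax hgN hgs hgp⟩
  · rintro ⟨θ, hθ, htriv, hdeg, hst⟩
    rw [hfac, add_comm] at hdeg
    exact maximal_of_canonical hM he
      (defectGroup_of_canonical hM he hθ htriv (Nat.add_left_cancel hdeg)) hst

end Cfsg.Agent.S4828
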