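import Cfsg.Statements.S4835
import Cfsg.Agent.Char.TwoClasses
import Mathlib.GroupTheory.PGroup

set_option autoImplicit false
open Cfsg

namespace Cfsg.Agent.S4835

/-- Let G be a finite group of order greater than 2 with an irreducible character χ that is nonzero on exactly two conjugacy classes. Then G has a unique minimal normal subgroup N; N is an elementary abelian p-group for some prime p; χ is nonzero exactly at the elements of N; and any two nonidentity elements of N are conjugate in G. -/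
theorem result {G : Type*} [Group G] [Finite G] (hG : 2 < Nat.card G) (χ : Cfsg.IrrCharacter G) (hχ : Nat.card {C : ConjClasses G // ∃ g ∈ C.carrier, (χ : G → ℂ) g ≠ 0} = 2) :
    ∃ N : Subgroup G, N.Normal ∧ N ≠ ⊥ ∧ (∀ K : Subgroup G, K.Normal → K ≠ ⊥ → N ≤ K) ∧
      (∃ p : ℕ, p.Prime ∧ Cfsg.IsElementaryAbelian p N) ∧
      (∀ g : G, (χ : G → ℂ) g ≠ 0 ↔ g ∈ N) ∧
      (∀ x ∈ N, ∀ y ∈ N, x ≠ 1 → y ≠ 1 → ∃ g : G, g * x * g⁻¹ = y) := by
  classical
  haveI : Fintype G := Fintype.ofFinite G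
  obtain ⟨N, g₀, hNn, hg₀, hg₀1, hmem, hconj, hker, hfaith, hrel⟩ := CfsgLib.Char.two_classes hG χ hχ
  haveI := hNn
  have hNne : N ≠ ⊥ := fun h => hg₀1 (by rwa [h, Subgroup.mem_bot] at hg₀)
  have horder : ∀ x ∈ N, x ≠ 1 → orderOf x = orderOf g₀ := fun x hx h1 => by
    obtain ⟨c, rfl⟩ := isConj_iff.mp (hconj x hx h1)
    exact MulEquiv.orderOf_eq (MulAut.conj c) g₀
  have hp : (orderOf g₀).Prime := by
    have h1 : orderOf g₀ ≠ 1 := fun h => hg₀1 (orderOf_eq_one_iff.mp h)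
    obtain ⟨p, hp, hpd⟩ := Nat.exists_prime_and_dvd h1
    have hk : orderOf g₀ / p ≠ 0 := (Nat.div_pos (Nat.le_of_dvd (orderOf_pos g₀) hpd) hp.pos).ne'
    have ho : orderOf (g₀ ^ (orderOf g₀ / p)) = p := by
      rw [orderOf_pow_of_dvd hk (Nat.div_dvd_of_dvd hpd), Nat.div_div_self hpd (orderOf_pos g₀).ne']
    have hne : g₀ ^ (orderOf g₀ / p) ≠ 1 := fun h => hp.ne_one (by rw [← ho, h, orderOf_one])
    rw [← horder _ (pow_mem hg₀ _) hne, ho]
    exact hp
  set p := orderOf g₀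
  haveI : Fact p.Prime := ⟨hp⟩
  have hexp : ∀ a ∈ N, a ^ p = 1 := fun a ha => by
    by_cases h1 : a = 1
    · rw [h1, one_pow]
    · rw [← horder a ha h1, pow_orderOf_eq_one]
  have hNp : IsPGroup p N := fun a => ⟨1, Subtype.ext (by simpa using hexp a a.2)⟩
  haveI : Nontrivial N := (Subgroup.nontrivial_iff_ne_bot N).mpr hNne
  haveI := hNp.center_nontrivial
  obtain ⟨z, hz1⟩ := exists_ne (1 : Subgroup.center N)
  have hzg : ((z : N) : G) ≠ 1 := fun h => hz1 (Subtype.ext (Subtype.ext h))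
  have hcomm : ∀ a b : N, a * b = b * a := by
    intro a b
    by_cases ha : (a : G) = 1
    · rw [show a = 1 from Subtype.ext ha]; simp
    obtain ⟨k, hk⟩ := isConj_iff.mp ((hconj _ (z : N).2 hzg).symm.trans (hconj a a.2 ha))
    have hb : k⁻¹ * (b : G) * k ∈ N := by
      have := hNn.conj_mem _ b.2 k⁻¹
      rwa [inv_inv] at this
    have h' : (k⁻¹ * (b : G) * k) * ((z : N) : G) = ((z : N) : G) * (k⁻¹ * (b : G) * k) :=
      congrArg Subtype.val (Subgroup.mem_center_iff.mp z.2 ⟨_, hb⟩)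
    refine Subtype.ext ?_
    show (a : G) * b = b * a
    rw [← hk]
    calc k * ((z : N) : G) * k⁻¹ * b = k * (((z : N) : G) * (k⁻¹ * (b : G) * k)) * k⁻¹ := by group
      _ = k * ((k⁻¹ * (b : G) * k) * ((z : N) : G)) * k⁻¹ := by rw [h']
      _ = b * (k * ((z : N) : G) * k⁻¹) := by group
  refine ⟨N, hNn, hNne, fun K hK hKne => ?_, ⟨p, hp, ⟨⟨hcomm⟩⟩, hexp⟩, fun g => (hmem g).symm,
    fun x hx y hy hx1 hy1 => isConj_iff.mp ((hconj x hx hx1).symm.trans (hconj y hy hy1))⟩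
  haveI := hK
  haveI : Fintype K := Fintype.ofFinite _
  obtain ⟨m, hmK, hm1, hmN⟩ : ∃ m ∈ K, m ≠ 1 ∧ m ∈ N := by
    by_contra hno
    push Not at hno
    rcases CfsgLib.Char.irr_sum_zero_or_kernel (N := K) χ.2 with h | h
    · rw [Finset.sum_eq_single (1 : K) (fun k _ hk => by
        by_contra h0
        exact hno k k.2 (fun e => hk (Subtype.ext e)) ((hmem _).mpr h0))
        (fun h => absurd (Finset.mem_univ _) h)] at h
      exact CfsgLib.Char.irr_one_ne_zero χ.2 h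
    · exact hKne ((Subgroup.eq_bot_iff_forall K).mpr fun k hk => hfaith k (h k hk))
  intro x hx
  by_cases hx1 : x = 1
  · rw [hx1]; exact one_mem _
  obtain ⟨c, rfl⟩ := isConj_iff.mp ((hconj m hmN hm1).symm.trans (hconj x hx hx1))
  exact hK.conj_mem m hmK c

end Cfsg.Agent.S4835
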