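import Cfsg.Statements.S4837
import Cfsg.Agent.Char.TwoClasses
import Cfsg.Agent.Char.Clifford
import Mathlib.GroupTheory.Sylow

set_option autoImplicit false
open Cfsg

namespace Cfsg.Agent.S4837

open CfsgLib.Char

/-- Let G be a finite group of order greater than 2 with an irreducible character χ nonzero on exactly two conjugacy classes, and let N be the set of elements where χ is nonzero, given as a nontrivial normal p-subgroup of G for the prime p. Then for every nonidentity x in N the centralizer C_G(x) is a Sylow p-subgroup of G, and for every irreducible character λ ≠ 1 of N the stabilizer of λ in G (its inertia group) is a Sylow p-subgroup of G. -/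
theorem result {G : Type*} [Group G] [Finite G] (hG : 2 < Nat.card G) (χ : Cfsg.IrrCharacter G) (hχ : Nat.card {C : ConjClasses G // ∃ g ∈ C.carrier, (χ : G → ℂ) g ≠ 0} = 2) (p : ℕ) [Fact p.Prime] (N : Subgroup G) [N.Normal] (hN : ∀ g : G, g ∈ N ↔ (χ : G → ℂ) g ≠ 0) (hNp : IsPGroup p N) (hN1 : N ≠ ⊥) :
    (∀ x ∈ N, x ≠ 1 → ∃ P : Sylow p G, Subgroup.centralizer ({x} : Set G) = P) ∧
      (∀ μ : Cfsg.IrrCharacter N, (μ : N → ℂ) ≠ (fun _ => (1 : ℂ)) → ∃ P : Sylow p G, ∀ g : G, g ∈ (P : Subgroup G) ↔ ∀ n n' : N, (n' : G) = g * n * g⁻¹ → (μ : N → ℂ) n' = (μ : N → ℂ) n) := by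
  classical
  have hp : p.Prime := Fact.out
  haveI : Fintype G := Fintype.ofFinite G
  haveI : Fintype N := Fintype.ofFinite _
  obtain ⟨N', g₀, -, hg₀, hg₀1, hmem, hconj, hker, hfaith, hrel⟩ := two_classes hG χ hχ
  have hNN : N' = N := Subgroup.ext fun g => (hmem g).trans (hN g).symm
  subst hNN
  obtain ⟨b, hb⟩ := IsPGroup.iff_card.mp hNp
  have hb0 : b ≠ 0 := fun h => hN1 (Subgroup.card_eq_one.mp (by rw [hb, h, pow_zero]))
  obtain ⟨m, hm, hm0⟩ : ∃ m : ℕ, m + 1 = Nat.card N' ∧ 0 < m := by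
    have h2 := Nat.lt_of_lt_of_le (Nat.one_lt_two) ((Nat.le_self_pow hb0 p).trans' hp.two_le)
    exact ⟨Nat.card N' - 1, by rw [hb]; omega, by rw [hb]; omega⟩
  rw [← hm] at hrel
  push_cast at hrel
  set d := charDegree (χ : G → ℂ) with hd
  obtain ⟨e, he, hge⟩ : ∃ e : ℕ, d = m * e ∧ (χ : G → ℂ) g₀ = -(e : ℂ) := by
    rw [irr_one_eq χ.2, ← hd] at hrel
    have hmC : (m : ℂ) ≠ 0 := Nat.cast_ne_zero.mpr hm0.ne'
    have hdiv : m ∣ d := dvd_of_isIntegral_div hm0.ne' (by
      have h1 : (d : ℂ) / (m : ℂ) = -(χ : G → ℂ) g₀ := by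
        rw [div_eq_iff hmC]
        linear_combination hrel
      rw [h1]
      exact (char_isIntegral (isCharacter_of_isIrr χ.2) g₀).neg)
    obtain ⟨e, he⟩ := hdiv
    refine ⟨e, he, mul_left_cancel₀ hmC ?_⟩
    rw [he] at hrel
    push_cast at hrel
    linear_combination hrel
  have hval : ∀ x ∈ N', x ≠ 1 → (χ : G → ℂ) x = -(e : ℂ) := fun x hx h1 => by
    rw [← hge, classFun_isConj (classFun_of_irr χ.2) (hconj x hx h1)]
  have hne0 : 0 < e := by
    have := charDegree_pos χ.2
    rw [← hd, he] at this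
    exact Nat.pos_of_mul_pos_left this
  -- the order of the group
  have hGc : Nat.card G = m * (m + 1) * e ^ 2 := by
    have h := irr_inner_self χ.2
    rw [classInner_def, inv_mul_eq_one₀ (natCard_ne_zero G),
      sum_subgroup N' _ (fun g hg => by
        rw [not_not.mp (fun h => hg ((hmem g).mpr h))]; simp),
      ← Finset.add_sum_erase _ _ (Finset.mem_univ (1 : N')),
      Finset.sum_congr rfl (g := fun _ => ((e : ℂ) * e)) fun n hn => ?_] at h
    · rw [Finset.sum_const, Finset.card_erase_of_mem (Finset.mem_univ _), Finset.card_univ,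
        ← Nat.card_eq_fintype_card (α := N'), ← hm, nsmul_eq_mul, OneMemClass.coe_one,
        irr_one_eq χ.2, ← hd, map_natCast, he, Nat.add_sub_cancel] at h
      have : Nat.card G = m * e * (m * e) + m * (e * e) := by exact_mod_cast h
      rw [this]; ring
    · rw [hval n n.2 fun h => Finset.ne_of_mem_erase hn (Subtype.ext h)]
      simp
  have hep : ∀ r : ℕ, r.Prime → r ∣ e → r = p := by
    intro r hr hre
    by_contra hrp
    haveI : Fact r.Prime := ⟨hr⟩
    obtain ⟨R⟩ := (inferInstance : Nonempty (Sylow r G))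
    haveI : Fintype (R : Subgroup G) := Fintype.ofFinite _
    obtain ⟨n, hn⟩ := inner_char_char (isCharacter_restrict (R : Subgroup G) (isCharacter_of_isIrr χ.2))
      (isCharacter_one (G := ↥(R : Subgroup G)))
    rw [classInner_def, Finset.sum_eq_single (1 : ↥(R : Subgroup G)) (fun x _ hx => ?_)
      (fun h => absurd (Finset.mem_univ _) h), inv_mul_eq_iff_eq_mul₀ (natCard_ne_zero _),
      map_one, mul_one, OneMemClass.coe_one, irr_one_eq χ.2, ← hd] at hn
    · have hdvd : Nat.card ↥(R : Subgroup G) ∣ d := ⟨n, by exact_mod_cast hn⟩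
      rw [R.card_eq_multiplicity] at hdvd
      have h1 := (hr.pow_dvd_iff_le_factorization (charDegree_pos χ.2).ne').mp hdvd
      rw [← hd, he, hGc, Nat.factorization_mul (Nat.mul_ne_zero hm0.ne' (Nat.succ_ne_zero m))
        (pow_ne_zero 2 hne0.ne'), Nat.factorization_mul hm0.ne' (Nat.succ_ne_zero m),
        Nat.factorization_mul hm0.ne' hne0.ne', Nat.factorization_pow] at h1
      simp only [Finsupp.add_apply, Finsupp.smul_apply, smul_eq_mul] at h1
      have := hr.factorization_pos_of_dvd hne0.ne' hre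
      omega
    · have h0 : (χ : G → ℂ) (x : G) = 0 := by
        by_contra h0
        have hxN := (hmem _).mpr h0
        obtain ⟨i, hi⟩ := hNp ⟨_, hxN⟩
        obtain ⟨j, hj⟩ := R.isPGroup' x
        have h1 : orderOf (x : G) ∣ p ^ i := orderOf_dvd_of_pow_eq_one (congrArg Subtype.val hi)
        have h2 : orderOf (x : G) ∣ r ^ j := orderOf_dvd_of_pow_eq_one (by
          simpa using congrArg Subtype.val hj)
        exact hx (Subtype.ext (orderOf_eq_one_iff.mp (Nat.eq_one_of_dvd_coprimes
          (((Nat.coprime_primes hp hr).mpr (Ne.symm hrp)).pow i j) h1 h2)))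
      rw [h0, zero_mul]
  obtain ⟨a, ha⟩ : ∃ a, e = p ^ a := ⟨_, Nat.eq_prime_pow_of_unique_prime_dvd hne0.ne'
    fun {r} hr hre => hep r hr hre⟩
  have hmp : ¬ p ∣ m := fun h => hp.not_dvd_one
    ((Nat.dvd_add_right h).mp (by rw [hm, hb]; exact dvd_pow_self p hb0))
  have hfac : (Nat.card G).factorization p = 2 * a + b := by
    rw [hGc, hm, hb, ha, Nat.factorization_mul (mul_ne_zero hm0.ne' (pow_ne_zero _ hp.ne_zero))
      (pow_ne_zero _ (pow_ne_zero _ hp.ne_zero)),
      Nat.factorization_mul hm0.ne' (pow_ne_zero _ hp.ne_zero), ← pow_mul, hp.factorization_pow,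
      hp.factorization_pow]
    simp [Nat.factorization_eq_zero_of_not_dvd hmp]
    ring
  have hsyl : ∀ S : Subgroup G, Nat.card S * m = Nat.card G →
      Nat.card S = p ^ (Nat.card G).factorization p := by
    intro S hS
    refine Nat.eq_of_mul_eq_mul_right hm0 ?_
    rw [hS, hfac, pow_add, pow_mul', ← ha, ← hb, ← hm, hGc]
    ring
  refine ⟨fun x hx hx1 => ⟨Sylow.ofCard (Subgroup.centralizer ({x} : Set G)) (hsyl _ ?_), rfl⟩, fun μ hμ => ?_⟩
  · have h := second_orth x x
    rw [if_pos (IsConj.refl x), ← Finset.add_sum_erase _ _ (Finset.mem_univ χ),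
      Finset.sum_congr rfl (g := fun ψ : IrrCharacter G => (ψ : G → ℂ) 1 ^ 2) fun ψ hψ => ?_,
      hval x hx hx1, map_neg, map_natCast] at h
    · have hs := sum_degree_sq (G := G)
      rw [← Finset.add_sum_erase _ _ (Finset.mem_univ χ), irr_one_eq χ.2, ← hd, he] at hs
      have hC : (Nat.card (Subgroup.centralizer ({x} : Set G)) + (m * e) ^ 2 : ℕ) = Nat.card G + e ^ 2 := by
        have h' : ((Nat.card (Subgroup.centralizer ({x} : Set G)) + (m * e) ^ 2 : ℕ) : ℂ) =
            ((Nat.card G + e ^ 2 : ℕ) : ℂ) := by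
          push_cast at hs ⊢
          linear_combination hs - h
        exact_mod_cast h'
      rw [hGc] at hC ⊢
      have : Nat.card (Subgroup.centralizer ({x} : Set G)) = (m + 1) * e ^ 2 := by linarith
      rw [this]; ring
    · rw [hker ψ (Finset.ne_of_mem_erase hψ) x hx, irr_one_eq ψ.2, map_natCast, sq]
  · haveI : Fintype N' := Fintype.ofFinite _
    have hsum : ∑ n : N', (μ : N' → ℂ) n = 0 := by
      have h := irr_inner_ne μ.2 isIrr_one hμ
      rw [classInner_def, mul_eq_zero] at h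
      simpa using h.resolve_left (inv_ne_zero (natCard_ne_zero N'))
    have hin : classInner (fun n : N' => (χ : G → ℂ) n) (μ : N' → ℂ) = (e : ℂ) * (μ : N' → ℂ) 1 := by
      rw [classInner_def, inv_mul_eq_iff_eq_mul₀ (natCard_ne_zero N'), ← hm]
      have hs' := congrArg (starRingEnd ℂ) hsum
      rw [map_sum, map_zero, ← Finset.add_sum_erase _ _ (Finset.mem_univ (1 : N')), irr_one_eq μ.2,
        map_natCast] at hs'
      rw [← Finset.add_sum_erase _ _ (Finset.mem_univ (1 : N')), OneMemClass.coe_one, irr_one_eq χ.2,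
        ← hd, he, irr_one_eq μ.2, map_natCast,
        Finset.sum_congr rfl (g := fun n : N' => -(e : ℂ) * (starRingEnd ℂ) ((μ : N' → ℂ) n))
          fun n hn => by rw [hval n n.2 fun h => Finset.ne_of_mem_erase hn (Subtype.ext h)],
        ← Finset.mul_sum]
      push_cast
      linear_combination -(e : ℂ) * hs'
    have hc0 : classInner (fun n : N' => (χ : G → ℂ) n) (μ : N' → ℂ) ≠ 0 := by
      rw [hin]; exact mul_ne_zero (Nat.cast_ne_zero.mpr hne0.ne') (irr_one_ne_zero μ.2)
    have hdeg := degree_clifford χ.2 μ.2 hc0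
    rw [hin, irr_one_eq χ.2, ← hd, he, irr_one_eq μ.2] at hdeg
    have hdeg' : m * e = e * charDegree (μ : N' → ℂ) * (inertia (μ : N' → ℂ)).index *
        charDegree (μ : N' → ℂ) := by exact_mod_cast hdeg
    have hμ1 : charDegree (μ : N' → ℂ) = 1 := by
      obtain ⟨i, -, hi⟩ := (Nat.dvd_prime_pow hp).mp (hb ▸ degree_dvd_card μ.2)
      rcases Nat.eq_zero_or_pos i with rfl | hi0
      · rw [hi, pow_zero]
      exfalso
      refine hmp ((hi ▸ dvd_pow_self p hi0.ne' : p ∣ charDegree (μ : N' → ℂ)).trans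
        ⟨charDegree (μ : N' → ℂ) * (inertia (μ : N' → ℂ)).index, Nat.eq_of_mul_eq_mul_right hne0 ?_⟩)
      rw [hdeg']; ring
    rw [hμ1, mul_one, mul_one, mul_comm] at hdeg'
    have hidx := Nat.eq_of_mul_eq_mul_left hne0 hdeg'
    refine ⟨Sylow.ofCard (inertia (μ : N' → ℂ)) (hsyl _ (by rw [hidx]; exact Subgroup.card_mul_index _)),
      fun g => ?_⟩
    show g ∈ inertia (μ : N' → ℂ) ↔ _
    rw [mem_inertia']
    constructor
    · intro h n n' hn
      have : n' = ⟨g * n * g⁻¹, (inferInstance : N'.Normal).conj_mem n n.2 g⟩ := Subtype.ext hn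
      rw [this]; exact h n
    · exact fun h n => h n _ rfl

end Cfsg.Agent.S4837
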