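import Cfsg.Statements.S4838
import Cfsg.Agent.S4837
import Cfsg.Agent.Char.TwoClasses
import Cfsg.Agent.Char.Induce
import Mathlib.GroupTheory.Nilpotent

set_option autoImplicit false
open Cfsg

namespace Cfsg.Agent.S4838

open CfsgLib.Char
open scoped commutatorElement

/-- Let G be a finite group of order greater than 2 with an irreducible character χ nonzero on exactly two conjugacy classes, N the normal p-subgroup of elements where χ is nonzero, and P a Sylow p-subgroup of G. Then (a) for every x outside N the centralizer of x in G has the same order as the centralizer of xN in G/N; (b) the centre of P lies in N, and equals N exactly when P is normal in G; (c) N, viewed inside P, is a term of the upper central series of P. -/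
theorem result {G : Type*} [Group G] [Finite G] (hG : 2 < Nat.card G) (χ : Cfsg.IrrCharacter G) (hχ : Nat.card {C : ConjClasses G // ∃ g ∈ C.carrier, (χ : G → ℂ) g ≠ 0} = 2) (p : ℕ) [Fact p.Prime] (N : Subgroup G) [N.Normal] (hN : ∀ g : G, g ∈ N ↔ (χ : G → ℂ) g ≠ 0) (hNp : IsPGroup p N) (hN1 : N ≠ ⊥) (P : Sylow p G) :
    (∀ x : G, x ∉ N → Nat.card (Subgroup.centralizer ({x} : Set G)) = Nat.card (Subgroup.centralizer ({(x : G ⧸ N)} : Set (G ⧸ N)))) ∧
      ((Subgroup.center ↥(P : Subgroup G)).map (P : Subgroup G).subtype ≤ N ∧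
        ((Subgroup.center ↥(P : Subgroup G)).map (P : Subgroup G).subtype = N ↔ (P : Subgroup G).Normal)) ∧
      (∃ i : ℕ, Subgroup.upperCentralSeries ↥(P : Subgroup G) i = N.subgroupOf (P : Subgroup G)) := by
  classical
  have hp : p.Prime := Fact.out
  haveI : Fintype G := Fintype.ofFinite G
  haveI : Fintype (G ⧸ N) := Fintype.ofFinite _
  obtain ⟨N', g₀, -, hg₀, hg₀1, hmem, hconj, hker, hfaith, hrel⟩ := two_classes hG χ hχ
  have hNN : N' = N := Subgroup.ext fun g => (hmem g).trans (hN g).symm
  subst hNN
  have part1 : ∀ x : G, x ∉ N' → Nat.card (Subgroup.centralizer ({x} : Set G)) =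
      Nat.card (Subgroup.centralizer ({(x : G ⧸ N')} : Set (G ⧸ N'))) := by
    intro x hx
    have hx0 : (χ : G → ℂ) x = 0 := not_not.mp (fun h => hx ((hmem x).mpr h))
    have h1 := second_orth x x
    rw [if_pos (IsConj.refl x)] at h1
    have h2 := second_orth (x : G ⧸ N') (x : G ⧸ N')
    rw [if_pos (IsConj.refl _)] at h2
    have hsum : ∑ φ : IrrCharacter (G ⧸ N'), (φ : G ⧸ N' → ℂ) x * (starRingEnd ℂ) ((φ : G ⧸ N' → ℂ) x) =
        ∑ ψ : IrrCharacter G, (ψ : G → ℂ) x * (starRingEnd ℂ) ((ψ : G → ℂ) x) := by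
      rw [← Finset.add_sum_erase _ _ (Finset.mem_univ χ), hx0, zero_mul, zero_add]
      let infl : IrrCharacter (G ⧸ N') → IrrCharacter G := fun φ =>
        ⟨(φ : G ⧸ N' → ℂ) ∘ QuotientGroup.mk' N', irr_comp _ (QuotientGroup.mk'_surjective N') φ.2⟩
      refine Finset.sum_bij (fun φ _ => infl φ) (fun φ _ => Finset.mem_erase.mpr ⟨fun e => ?_, Finset.mem_univ _⟩)
        (fun φ _ φ' _ e => ?_) (fun ψ hψ => ?_) (fun φ _ => rfl)
      · refine hg₀1 (hfaith g₀ ?_)
        rw [← e]
        simp only [infl, Function.comp_apply, map_one]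
        rw [QuotientGroup.mk'_apply, (QuotientGroup.eq_one_iff g₀).mpr hg₀]
      · refine Subtype.ext (funext fun q => ?_)
        obtain ⟨g, rfl⟩ := QuotientGroup.mk'_surjective N' q
        exact congrFun (congrArg Subtype.val e) g
      · obtain ⟨φ, hφ, hcomp⟩ := irr_descend (QuotientGroup.mk' N') (QuotientGroup.mk'_surjective N') ψ.2
          fun k hk => hker ψ (Finset.ne_of_mem_erase hψ) k ((QuotientGroup.eq_one_iff k).mp hk)
        exact ⟨⟨φ, hφ⟩, Finset.mem_univ _, Subtype.ext hcomp⟩
    rw [h1, h2] at hsum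
    exact_mod_cast hsum.symm
  obtain ⟨b, hb⟩ := IsPGroup.iff_card.mp hNp
  have hb0 : b ≠ 0 := fun h => hN1 (Subgroup.card_eq_one.mp (by rw [hb, h, pow_zero]))
  obtain ⟨a, ha⟩ := IsPGroup.iff_card.mp P.2
  -- a p-power dividing the index is small
  have hbig : ∀ c : ℕ, p ^ c ∣ N'.index → c + b ≤ a := by
    intro c hc
    have h : p ^ (c + b) ∣ Nat.card G := by
      rw [pow_add, ← N'.card_mul_index, hb, mul_comm]
      exact mul_dvd_mul_left _ hc
    rw [hp.pow_dvd_iff_le_factorization Nat.card_pos.ne'] at h
    have := P.card_eq_multiplicity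
    rw [ha] at this
    rw [Nat.pow_right_injective hp.two_le this]
    exact h
  have hout : ∀ x : G, x ∉ N' → Nat.card (Subgroup.centralizer ({x} : Set G)) ∣ N'.index := fun x hx => by
    rw [part1 x hx, Subgroup.index_eq_card]
    exact Subgroup.card_subgroup_dvd_card _
  have hNP : N' ≤ (P : Subgroup G) := by
    obtain ⟨Q, hQ⟩ := hNp.exists_le_sylow
    obtain ⟨g, hg⟩ := MulAction.exists_smul_eq G Q P
    intro n hn
    rw [← hg, Sylow.coe_subgroup_smul]
    refine ⟨g⁻¹ * n * g, hQ (by simpa using (inferInstance : N'.Normal).conj_mem n hn g⁻¹), ?_⟩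
    simp [mul_assoc]
  set Z := (Subgroup.center ↥(P : Subgroup G)).map (P : Subgroup G).subtype
  have hZN : Z ≤ N' := by
    rintro _ ⟨z, hz, rfl⟩
    by_contra hzN
    have hle : (P : Subgroup G) ≤ Subgroup.centralizer ({(z : G)} : Set G) := fun y hy =>
      Subgroup.mem_centralizer_singleton_iff.mpr (congrArg Subtype.val (Subgroup.mem_center_iff.mp hz ⟨y, hy⟩))
    have hd : p ^ a ∣ N'.index := ha ▸ (Subgroup.card_dvd_of_le hle).trans (hout _ hzN)
    have := hbig a hd
    omega
  refine ⟨part1, ⟨hZN, fun hZ => ?_, fun hPn => ?_⟩, ?_⟩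
  · -- the centre is all of N: P centralises N
    have hcen : ∀ n ∈ N', n ≠ 1 → Subgroup.centralizer ({n} : Set G) = (P : Subgroup G) := by
      intro n hn hn1
      obtain ⟨Q, hQ⟩ := (Cfsg.Agent.S4837.result hG χ hχ p N' hN hNp hN1).1 n hn hn1
      have hle : (P : Subgroup G) ≤ Subgroup.centralizer ({n} : Set G) := by
        rw [← hZ] at hn
        obtain ⟨z, hz, rfl⟩ := hn
        exact fun y hy => Subgroup.mem_centralizer_singleton_iff.mpr
          (congrArg Subtype.val (Subgroup.mem_center_iff.mp hz ⟨y, hy⟩))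
      exact (Subgroup.eq_of_le_of_card_ge hle (by
        rw [hQ, Q.card_eq_multiplicity, P.card_eq_multiplicity])).symm
    have heq : Subgroup.centralizer (N' : Set G) = (P : Subgroup G) := by
      refine le_antisymm ?_ fun y hy => Subgroup.mem_centralizer_iff.mpr fun n hn => ?_
      · rw [← hcen g₀ hg₀ hg₀1]
        exact Subgroup.centralizer_le (Set.singleton_subset_iff.mpr hg₀)
      · by_cases hn1 : n = 1
        · simp [hn1]
        · rw [← hcen n hn hn1] at hy
          exact (Subgroup.mem_centralizer_singleton_iff.mp hy).symm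
    rw [← heq]
    infer_instance
  · refine le_antisymm hZN fun n hn => ⟨⟨n, hNP hn⟩, Subgroup.mem_center_iff.mpr fun y => Subtype.ext ?_, rfl⟩
    show (y : G) * n = n * y
    by_cases hn1 : n = 1
    · simp [hn1]
    obtain ⟨Q, hQ⟩ := (Cfsg.Agent.S4837.result hG χ hχ p N' hN hNp hN1).1 n hn hn1
    obtain ⟨g, hg⟩ := MulAction.exists_smul_eq G P Q
    haveI := hPn
    have hy : (y : G) ∈ Subgroup.centralizer ({n} : Set G) := by
      rw [hQ, ← hg, Sylow.coe_subgroup_smul]
      exact ⟨g⁻¹ * y * g, (show g⁻¹ * (y : G) * g ∈ (P : Subgroup G) by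
        have h := hPn.conj_mem y y.2 g⁻¹
        rwa [inv_inv] at h), by simp [mul_assoc]⟩
    exact Subgroup.mem_centralizer_singleton_iff.mp hy
  · -- the upper central series reaches N
    set M := N'.subgroupOf (P : Subgroup G) with hM
    by_contra! hno
    have hMcard : Nat.card M = p ^ b := by
      rw [Nat.card_congr (Subgroup.subgroupOfEquivOfLe hNP).toEquiv, hb]
    have hall : ∀ i, Subgroup.upperCentralSeries ↥(P : Subgroup G) i ≤ M := by
      intro i
      induction i with
      | zero => rw [Subgroup.upperCentralSeries_zero]; exact bot_le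
      | succ i ih =>
        intro x hx
        by_contra hxM
        have hxN : (x : G) ∉ N' := fun h => hxM (Subgroup.mem_subgroupOf.mpr h)
        rw [Subgroup.mem_upperCentralSeries_succ_iff] at hx
        set W := Subgroup.upperCentralSeries ↥(P : Subgroup G) i
        obtain ⟨w, hw⟩ := IsPGroup.iff_card.mp (P.2.to_subgroup W)
        have hwb : w < b := by
          have h1 : Nat.card W ∣ Nat.card M := Subgroup.card_dvd_of_le ih
          rw [hw, hMcard, Nat.pow_dvd_pow_iff_le_right hp.one_lt] at h1
          refine lt_of_le_of_ne h1 fun e => hno i (Subgroup.eq_of_le_of_card_ge ih ?_)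
          rw [hMcard, hw, e]
        set Cx := Subgroup.centralizer ({x} : Set ↥(P : Subgroup G))
        have hidx : Cx.index ≤ p ^ w := by
          rw [← card_isConj, ← hw]
          refine Nat.card_le_card_of_injective (fun y => (⟨x * y.1⁻¹, ?_⟩ : W)) fun y y' e => ?_
          · obtain ⟨k, hk⟩ := isConj_iff.mp y.2
            rw [← hk]
            have := hx k
            rw [commutatorElement_def] at this
            simpa [mul_assoc] using this
          · exact Subtype.ext (inv_injective (mul_left_cancel (congrArg Subtype.val e)))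
        obtain ⟨c, hc⟩ := IsPGroup.iff_card.mp (P.2.to_subgroup Cx)
        have hcd : p ^ c ∣ N'.index := by
          rw [← hc, ← Subgroup.card_map_of_injective (P : Subgroup G).subtype_injective]
          refine (Subgroup.card_dvd_of_le ?_).trans (hout _ hxN)
          rintro _ ⟨k, hk, rfl⟩
          exact Subgroup.mem_centralizer_singleton_iff.mpr
            (congrArg Subtype.val (Subgroup.mem_centralizer_singleton_iff.mp hk))
        have h1 := hbig c hcd
        have h2 : p ^ a ≤ p ^ (c + w) := by
          rw [← ha, ← Cx.card_mul_index, hc, pow_add]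
          exact Nat.mul_le_mul_left _ hidx
        rw [Nat.pow_le_pow_iff_right hp.one_lt] at h2
        omega
    haveI : Group.IsNilpotent ↥(P : Subgroup G) := P.2.isNilpotent
    refine hno (Group.nilpotencyClass ↥(P : Subgroup G))
      (le_antisymm (hall _) ?_)
    rw [Subgroup.upperCentralSeries_nilpotencyClass]
    exact le_top

end Cfsg.Agent.S4838
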