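import Cfsg.Statements.S4839
import Cfsg.Agent.Char.Classes
import Cfsg.Agent.Char.Central
import Cfsg.Agent.Solv.Basic
import Cfsg.Agent.S0199
import Mathlib.GroupTheory.SchurZassenhaus
import Mathlib.GroupTheory.Perm.Cycle.Type

set_option autoImplicit false
open Cfsg
open scoped Pointwise

namespace Cfsg.Agent.S4839

open scoped ComplexConjugate
universe u

variable {G : Type u} [Group G] [Finite G] {p : ℕ} [Fact p.Prime] {N : Subgroup G} [N.Normal]

/-- The consequences of the hypothesis used in the proof. -/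
structure Setting (p : ℕ) (N : Subgroup G) : Prop where
  pgroup : IsPGroup p N
  nbot : N ≠ ⊥
  trans : ∀ a ∈ N, ∀ b ∈ N, a ≠ 1 → b ≠ 1 → IsConj a b
  lift : ∀ x : G, x ∉ N → ∀ n ∈ N, IsConj x (x * n)

theorem Setting.abelian (S : Setting p N) : ∀ a ∈ N, ∀ b ∈ N, a * b = b * a := by
  haveI : Nontrivial ↥N := (Subgroup.nontrivial_iff_ne_bot N).2 S.nbot
  haveI := S.pgroup.center_nontrivial
  obtain ⟨z, hz1⟩ := exists_ne (1 : Subgroup.center ↥N)
  intro a ha b hb
  by_cases ha1 : a = 1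
  · simp [ha1]
  have hzN : ((z : ↥N) : G) ∈ N := (z : ↥N).2
  have hz1' : ((z : ↥N) : G) ≠ 1 := fun h => hz1 (Subtype.ext (Subtype.ext h))
  obtain ⟨g, hg⟩ := isConj_iff.1 (S.trans _ hzN a ha hz1' ha1)
  have hb' : g⁻¹ * b * g ∈ N := by
    have := ‹N.Normal›.conj_mem b hb g⁻¹
    simpa using this
  have h := congrArg Subtype.val ((Subgroup.mem_center_iff.1 z.2) ⟨_, hb'⟩)
  simp only [Subgroup.coe_mul] at h
  rw [← hg]
  calc g * ↑↑z * g⁻¹ * b = g * (↑↑z * (g⁻¹ * b * g)) * g⁻¹ := by group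
    _ = g * ((g⁻¹ * b * g) * ↑↑z) * g⁻¹ := by rw [h]
    _ = b * (g * ↑↑z * g⁻¹) := by group

theorem Setting.cent_pgroup (S : Setting p N) {c : G} (hc : c ∈ N) (hc1 : c ≠ 1) :
    IsPGroup p ↥(Subgroup.centralizer ({c} : Set G)) := by
  set C := Subgroup.centralizer ({c} : Set G) with hC
  have hkey : ∀ q : ℕ, q.Prime → q ∣ Nat.card C → q = p := by
    intro q hq hdvd
    haveI := Fact.mk hq
    obtain ⟨x, hx⟩ := exists_prime_orderOf_dvd_card' q hdvd
    have hx' : orderOf (x : G) = q := by rw [Subgroup.orderOf_coe, hx]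
    by_contra hqp
    have hxN : (x : G) ∉ N := by
      intro hmem
      obtain ⟨k, hk⟩ := S.pgroup ⟨(x : G), hmem⟩
      have hd : orderOf (x : G) ∣ p ^ k := orderOf_dvd_of_pow_eq_one (congrArg Subtype.val hk)
      rw [hx'] at hd
      exact hqp ((Nat.prime_dvd_prime_iff_eq hq Fact.out).1 (hq.dvd_of_dvd_pow hd))
    obtain ⟨k, hk⟩ := S.pgroup ⟨c, hc⟩
    have hd : orderOf c ∣ p ^ k := orderOf_dvd_of_pow_eq_one (congrArg Subtype.val hk)
    have hcop : (orderOf (x : G)).Coprime (orderOf c) := by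
      rw [hx']
      exact Nat.Coprime.coprime_dvd_right hd
        (Nat.Coprime.pow_right k ((Nat.coprime_primes hq Fact.out).2 hqp))
    have hcomm : Commute (x : G) c := Subgroup.mem_centralizer_singleton_iff.1 x.2
    obtain ⟨g, hg⟩ := isConj_iff.1 (S.lift x hxN c hc)
    have he := hcomm.orderOf_mul_eq_mul_orderOf_of_coprime hcop
    rw [← hg, ← MulAut.conj_apply, MulEquiv.orderOf_eq, hx'] at he
    have : orderOf c = 1 := by
      have h2 : q * orderOf c = q * 1 := by rw [mul_one]; exact he.symm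
      exact Nat.eq_of_mul_eq_mul_left hq.pos h2
    exact hc1 (orderOf_eq_one_iff.1 this)
  exact IsPGroup.of_card (Nat.eq_prime_pow_of_unique_prime_dvd Nat.card_pos.ne'
    fun {d} hd hdd => hkey d hd hdd)

theorem Setting.cent_le (S : Setting p N) (hP : N = Cfsg.pCore p G) {x : G}
    (h : ∀ n ∈ N, x * n = n * x) : x ∈ N := by
  obtain ⟨c, hc, hc1⟩ := N.ne_bot_iff_exists_ne_one.1 S.nbot |> fun ⟨c, hc⟩ =>
    (⟨(c : G), c.2, fun e => hc (Subtype.ext e)⟩ : ∃ c : G, c ∈ N ∧ c ≠ 1)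
  have hle : Subgroup.centralizer (N : Set G) ≤ Subgroup.centralizer ({c} : Set G) :=
    Subgroup.centralizer_le (by simpa using hc)
  have hx : x ∈ Subgroup.centralizer (N : Set G) := Subgroup.mem_centralizer_iff.2 fun n hn => (h n hn).symm
  have hn : (Subgroup.centralizer (N : Set G)).Normal := inferInstance
  rw [hP]
  exact CfsgLib.Solv.le_pCore (G := G) (p := p) (N := Subgroup.centralizer (N : Set G))
    ((S.cent_pgroup hc hc1).to_le hle) hx

theorem Setting.no_sq_two (S : Setting p N) (hP : N = Cfsg.pCore p G) (hp : p = 2) {x : G}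
    (hx : x ∉ N) (hx2 : x * x ∈ N) : False := by
  have hab := S.abelian
  haveI : Nontrivial ↥N := (Subgroup.nontrivial_iff_ne_bot N).2 S.nbot
  have hexp : ∀ n ∈ N, n * n = 1 := by
    intro n hn
    by_cases hn1 : n = 1
    · simp [hn1]
    obtain ⟨k, hk⟩ := S.pgroup.exists_card_eq
    have hk0 : k ≠ 0 := fun e => (Finite.one_lt_card (α := ↥N)).ne' (by rw [hk, e, pow_zero])
    obtain ⟨y, hy⟩ := exists_prime_orderOf_dvd_card' (G := ↥N) p (hk ▸ dvd_pow_self p hk0)
    have hy1 : (y : G) ≠ 1 := by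
      intro e
      have : y = 1 := Subtype.ext e
      rw [this, orderOf_one] at hy
      exact (Fact.out : p.Prime).ne_one hy.symm
    have hy2 : (y : G) * y = 1 := by
      have := pow_orderOf_eq_one (y : G)
      rwa [Subgroup.orderOf_coe, hy, hp, pow_two] at this
    obtain ⟨g, hg⟩ := isConj_iff.1 (S.trans _ y.2 n hn hy1 hn1)
    rw [← hg, show g * ↑y * g⁻¹ * (g * ↑y * g⁻¹) = g * (↑y * ↑y) * g⁻¹ by group, hy2]
    group
  let φ : ∀ y : G, ↥N → G := fun y n => y⁻¹ * (n : G) * y * n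
  let D : G → (↥N →* ↥N) := fun y =>
    { toFun := fun n => ⟨y⁻¹ * (n : G) * y * n,
        N.mul_mem (by simpa using ‹N.Normal›.conj_mem _ n.2 y⁻¹) n.2⟩
      map_one' := by ext; simp
      map_mul' := fun m n => by
        ext
        simp only [Subgroup.coe_mul]
        have := hab (y⁻¹ * (n : G) * y) (by simpa using ‹N.Normal›.conj_mem _ n.2 y⁻¹) m m.2
        calc y⁻¹ * (↑m * ↑n) * y * (↑m * ↑n)
            = y⁻¹ * ↑m * y * ((y⁻¹ * ↑n * y) * ↑m) * ↑n := by group
          _ = y⁻¹ * ↑m * y * (↑m * (y⁻¹ * ↑n * y)) * ↑n := by rw [this]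
          _ = _ := by group }
  have hD : ∀ (y : G) (n : ↥N), ((D y n : ↥N) : G) = y⁻¹ * (n : G) * y * n := fun _ _ => rfl
  have hker : ∀ (y : G) (n : ↥N), n ∈ (D y).ker ↔ Commute (n : G) y := by
    intro y n
    rw [MonoidHom.mem_ker, Subtype.ext_iff, hD, Subgroup.coe_one, mul_eq_one_iff_eq_inv,
      inv_eq_of_mul_eq_one_right (hexp _ n.2)]
    constructor
    · intro h
      calc (n : G) * y = y * (y⁻¹ * ↑n * y) := by group
        _ = y * n := by rw [h]
    · intro h
      rw [mul_assoc, h.eq]; group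
  have hsq : ∀ (y : G) (n : ↥N), y * (n : G) * (y * n) = y * y * (D y n : ↥N) := by
    intro y n; rw [hD]; group
  -- `x * x` is not of the form `D x n`
  have hout : (⟨x * x, hx2⟩ : ↥N) ∉ (D x).range := by
    rintro ⟨n, hn⟩
    have hn' : ((D x n : ↥N) : G) = x * x := congrArg Subtype.val hn
    set y := x * (n : G) with hy
    have hyN : y ∉ N := fun h => hx ((N.mul_mem_cancel_right n.2).1 h)
    have hy2 : y * y = 1 := by
      rw [hy, hsq x n, hn']
      exact hexp _ hx2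
    apply hyN
    refine S.cent_le hP fun m hm => ?_
    obtain ⟨g, hg⟩ := isConj_iff.1 (S.lift y hyN m hm)
    have h2 : y * m * (y * m) = 1 := by
      rw [← hg, show g * y * g⁻¹ * (g * y * g⁻¹) = g * (y * y) * g⁻¹ by group, hy2]
      group
    rw [show y * m * (y * m) = y * y * (D y ⟨m, hm⟩ : ↥N) from hsq y ⟨m, hm⟩, hy2, one_mul] at h2
    exact ((hker y ⟨m, hm⟩).1 (Subtype.ext h2)).eq.symm
  -- the fixed points of `x` on `N` are more than a square root of `#N`
  have hrk : (D x).range < (D x).ker := by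
    refine lt_of_le_of_ne ?_ fun e => hout (e ▸ ?_)
    · rintro _ ⟨n, rfl⟩
      rw [hker]
      have h2 : (x * x) * (n : G) = n * (x * x) := hab _ hx2 _ n.2
      show (D x n : ↥N).1 * x = x * (D x n : ↥N).1
      rw [hD]
      calc x⁻¹ * ↑n * x * ↑n * x = (x⁻¹ * ↑n * x) * (↑n * x) := by group
        _ = x * ((x⁻¹ * x⁻¹) * ↑n * (x * x)) * (x⁻¹ * ↑n * x) := by group
        _ = x * ↑n * (x⁻¹ * ↑n * x) := by rw [mul_assoc _ (n : G), ← h2]; group
        _ = x * (↑n * (x⁻¹ * ↑n * x)) := by group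
        _ = x * ((x⁻¹ * ↑n * x) * ↑n) := by
          rw [hab _ n.2 _ (by simpa using ‹N.Normal›.conj_mem _ n.2 x⁻¹)]
        _ = _ := by group
    · rw [hker]; exact ((Commute.refl x).mul_left (Commute.refl x))
  have hbig : Nat.card ↥N < Nat.card (D x).ker * Nat.card (D x).ker := by
    have h1 := (D x).ker.card_mul_index
    rw [Subgroup.index_ker] at h1
    have h2 : Nat.card (D x).range < Nat.card (D x).ker := by
      refine lt_of_le_of_ne (Subgroup.card_le_of_le hrk.le) fun e => hrk.ne ?_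
      exact Subgroup.eq_of_le_of_card_ge hrk.le e.ge
    rw [← h1]
    exact (Nat.mul_lt_mul_left Nat.card_pos).2 h2
  -- so `x` and any conjugate centralise a common nontrivial element of `N`
  have hpair : ∀ g : G, IsPGroup p ↥(Subgroup.zpowers x ⊔
      (Subgroup.zpowers x).map (MulAut.conj g).toMonoidHom) := by
    intro g
    by_cases hall : ∀ a : ↥N, Commute (a : G) x → Commute (a : G) (g * x * g⁻¹) → a = 1
    · exfalso
      have hinj : Function.Injective fun ab : (D x).ker × (D x).ker =>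
          (⟨(ab.1 : ↥N) * (g * ((ab.2 : ↥N) : G) * g⁻¹),
            N.mul_mem ab.1.1.2 (‹N.Normal›.conj_mem _ ab.2.1.2 g)⟩ : ↥N) := by
        rintro ⟨a, b⟩ ⟨a', b'⟩ h
        have h' : ((a : ↥N) : G) * (g * ((b : ↥N) : G) * g⁻¹) =
            ((a' : ↥N) : G) * (g * ((b' : ↥N) : G) * g⁻¹) := congrArg Subtype.val h
        have e : ((a'⁻¹ * a : (D x).ker) : ↥N).1 = g * (((b' * b⁻¹ : (D x).ker) : ↥N) : G) * g⁻¹ := by
          simp only [Subgroup.coe_mul, Subgroup.coe_inv]
          calc (a'.1.1)⁻¹ * a.1.1 = (a'.1.1)⁻¹ * (a.1.1 * (g * b.1.1 * g⁻¹)) * (g * b.1.1 * g⁻¹)⁻¹ := by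
                group
            _ = _ := by rw [h']; group
        have hc1 : Commute (((a'⁻¹ * a : (D x).ker) : ↥N) : G) x := (hker _ _).1 (a'⁻¹ * a).2
        have hc2 : Commute (((a'⁻¹ * a : (D x).ker) : ↥N) : G) (g * x * g⁻¹) := by
          rw [e]
          exact ((hker _ _).1 (b' * b⁻¹).2).map (MulAut.conj g).toMonoidHom
        have ha := hall _ hc1 hc2
        have ha' : a = a' := by
          have : a'⁻¹ * a = 1 := Subtype.ext ha
          exact (inv_mul_eq_one.1 this).symm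
        subst ha'
        have hb : b = b' := Subtype.ext (Subtype.ext (by simpa using h'))
        rw [hb]
      have := Nat.card_le_card_of_injective _ hinj
      rw [Nat.card_prod] at this
      omega
    · push_neg at hall
      obtain ⟨a, ha1, ha2, ha⟩ := hall
      refine (S.cent_pgroup a.2 fun e => ha (Subtype.ext e)).to_le (sup_le ?_ ?_)
      · rw [Subgroup.zpowers_le]
        exact Subgroup.mem_centralizer_singleton_iff.2 ha1.eq.symm
      · rw [MonoidHom.map_zpowers, Subgroup.zpowers_le]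
        exact Subgroup.mem_centralizer_singleton_iff.2 ha2.eq.symm
  have hxp : IsPGroup p ↥(Subgroup.zpowers x) := (hpair 1).to_le le_sup_left
  obtain ⟨M, hM, hMp, hxM⟩ := Cfsg.Agent.S0199.result (Subgroup.zpowers x) hxp hpair
  exact hx (hP ▸ CfsgLib.Solv.le_pCore hMp (hxM (Subgroup.mem_zpowers x)))

theorem Setting.no_fix_odd (S : Setting p N) (hP : N = Cfsg.pCore p G) (hp : p ≠ 2) {x c : G}
    (hc : c ∈ N) (hc1 : c ≠ 1) (hx : x ∉ N) (hxp : x ^ p ∈ N) (hxc : Commute x c) : False := by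
  have hab := S.abelian
  have hodd : Odd p := (Fact.out : p.Prime).odd_of_ne_two hp
  have hcop : (Nat.card ↥N).Coprime 2 := by
    obtain ⟨k, hk⟩ := S.pgroup.exists_card_eq
    rw [hk]
    exact ((Nat.coprime_two_right).2 hodd).pow_left k
  -- an involution
  have h2 : 2 ∣ Nat.card G := by
    have hidx : (Subgroup.centralizer ({c} : Set G)).index = Nat.card ↥N - 1 := by
      rw [← CfsgLib.Char.card_isConj, show Nat.card {y : G // IsConj c y} =
        Nat.card ((N : Set G) \ {1} : Set G) from Nat.card_congr (Equiv.subtypeEquivRight fun y => ?_)]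
      · rw [Nat.card_coe_set_eq, Set.ncard_diff (by simp), Set.ncard_singleton,
          ← Nat.card_coe_set_eq]
        rfl
      · refine ⟨fun h => ?_, fun h => S.trans c hc y h.1 hc1 h.2⟩
        obtain ⟨g, rfl⟩ := isConj_iff.1 h
        exact ⟨‹N.Normal›.conj_mem c hc g, by simpa using hc1⟩
    have h3 : 2 ∣ Nat.card ↥N - 1 := by
      have : Odd (Nat.card ↥N) := Nat.coprime_two_right.1 hcop
      obtain ⟨r, hr⟩ := this
      omega
    exact (hidx ▸ h3).trans (Subgroup.index_dvd_card _)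
  obtain ⟨z, hz⟩ := exists_prime_orderOf_dvd_card' 2 h2
  have hz2 : z * z = 1 := by rw [← pow_two, ← hz, pow_orderOf_eq_one]
  have hzfix : ∀ n ∈ N, Commute z n → n = 1 := by
    intro n hn hzn
    by_contra hn1
    obtain ⟨k, hk⟩ := S.cent_pgroup hn hn1 ⟨z, Subgroup.mem_centralizer_singleton_iff.2 hzn.eq⟩
    have h4 : orderOf z ∣ p ^ k := orderOf_dvd_of_pow_eq_one (congrArg Subtype.val hk)
    rw [hz] at h4
    exact hp ((Nat.prime_dvd_prime_iff_eq Nat.prime_two Fact.out).1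
      (Nat.prime_two.dvd_of_dvd_pow h4)).symm
  have hzi : z⁻¹ = z := inv_eq_of_mul_eq_one_right hz2
  have hinv : ∀ n ∈ N, z * n * z⁻¹ = n⁻¹ := by
    intro n hn
    have hm := ‹N.Normal›.conj_mem n hn z
    have := hzfix _ (N.mul_mem hm hn) (show z * (z * n * z⁻¹ * n) = z * n * z⁻¹ * n * z by
      calc z * (z * n * z⁻¹ * n) = (z * z) * n * z⁻¹ * n := by group
        _ = n * z * n := by rw [hz2, one_mul, hzi]
        _ = n * (z * n * z⁻¹) * z := by group
        _ = _ := by rw [hab n hn _ hm])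
    exact eq_inv_of_mul_eq_one_left this
  have hroot : ∀ n ∈ N, ∃ m ∈ N, m * m = n := by
    intro n hn
    obtain ⟨m, hm⟩ := (powCoprime hcop).surjective ⟨n, hn⟩
    exact ⟨m, m.2, by rw [← pow_two]; exact congrArg Subtype.val hm⟩
  -- `G = C(z) N`
  have hsplit : ∀ g : G, ∃ m ∈ N, Commute z (g * m⁻¹) := by
    intro g
    have hn0 : z⁻¹ * (g⁻¹ * z * g) ∈ N := by
      refine S.cent_le hP fun n hn => ?_
      have h5 : g⁻¹ * z * g * n * (g⁻¹ * z * g)⁻¹ = n⁻¹ := by
        calc g⁻¹ * z * g * n * (g⁻¹ * z * g)⁻¹ = g⁻¹ * (z * (g * n * g⁻¹) * z⁻¹) * g := by group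
          _ = g⁻¹ * (g * n * g⁻¹)⁻¹ * g := by rw [hinv _ (‹N.Normal›.conj_mem n hn g)]
          _ = _ := by group
      have h6 : z⁻¹ * n⁻¹ * z = n := by
        rw [← hinv n hn]; group
      calc z⁻¹ * (g⁻¹ * z * g) * n
          = z⁻¹ * (g⁻¹ * z * g * n * (g⁻¹ * z * g)⁻¹) * (g⁻¹ * z * g) := by group
        _ = (z⁻¹ * n⁻¹ * z) * (z⁻¹ * (g⁻¹ * z * g)) := by rw [h5]; group
        _ = _ := by rw [h6]
    obtain ⟨m, hm, hmm⟩ := hroot _ hn0
    refine ⟨m, hm, ?_⟩
    have h7 : g⁻¹ * z * g = z * m * m := by rw [mul_assoc z, hmm]; group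
    have h8 : z * m = m⁻¹ * z := by rw [← hinv m hm]; group
    have h9 : g⁻¹ * z * g = m⁻¹ * z * m := by rw [h7, h8]
    show z * (g * m⁻¹) = g * m⁻¹ * z
    calc z * (g * m⁻¹) = g * (g⁻¹ * z * g) * m⁻¹ := by group
      _ = _ := by rw [h9]; group
  obtain ⟨m₀, hm₀, hy⟩ := hsplit x
  set y := x * m₀⁻¹ with hydef
  have hyN : y ∉ N := fun h => hx ((N.mul_mem_cancel_right (N.inv_mem hm₀)).1 h)
  have hyc : Commute y c :=
    hxc.mul_left ((show Commute m₀ c from hab m₀ hm₀ c hc).inv_left)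
  -- `m ↦ [y, m]` is onto, hence injective
  let E : ↥N → ↥N := fun m => ⟨y⁻¹ * (m : G) * y * (m : G)⁻¹,
    N.mul_mem (by simpa using ‹N.Normal›.conj_mem _ m.2 y⁻¹) (N.inv_mem m.2)⟩
  have hE : Function.Surjective E := by
    intro n
    obtain ⟨g, hg⟩ := isConj_iff.1 (S.lift y hyN n n.2)
    obtain ⟨m, hm, hk⟩ := hsplit g
    set k := g * m⁻¹ with hkdef
    have hgk : g = k * m := by rw [hkdef]; group
    rw [hgk] at hg
    -- `k` centralizes `y`
    have hky : k * y * k⁻¹ = y := by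
      have hw : y⁻¹ * (k * y * k⁻¹) ∈ N := by
        have e1 : y⁻¹ * (k * y * k⁻¹) =
            (n : G) * (k * m * y * (k * m)⁻¹)⁻¹ * (k * y * k⁻¹) := by
          rw [hg]; group
        have e2 : (k * m * y * (k * m)⁻¹)⁻¹ * (k * y * k⁻¹) =
            k * (m * (y⁻¹ * m⁻¹ * y)) * k⁻¹ := by group
        rw [e1, mul_assoc, e2]
        refine N.mul_mem n.2 (‹N.Normal›.conj_mem _ (N.mul_mem hm ?_) k)
        simpa using ‹N.Normal›.conj_mem _ (N.inv_mem hm) y⁻¹
      have hzw : Commute z (y⁻¹ * (k * y * k⁻¹)) :=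
        hy.inv_right.mul_right ((hk.mul_right hy).mul_right hk.inv_right)
      exact (inv_mul_eq_one.1 (hzfix _ hw hzw)).symm
    refine ⟨⟨k * m * k⁻¹, ‹N.Normal›.conj_mem m hm k⟩, Subtype.ext ?_⟩
    show y⁻¹ * (k * m * k⁻¹) * y * (k * m * k⁻¹)⁻¹ = n
    have hky' : k⁻¹ * y = y * k⁻¹ := by
      calc k⁻¹ * y = k⁻¹ * (k * y * k⁻¹) := by rw [hky]
        _ = _ := by group
    calc y⁻¹ * (k * m * k⁻¹) * y * (k * m * k⁻¹)⁻¹
        = y⁻¹ * k * m * (k⁻¹ * y) * (k * m * k⁻¹)⁻¹ := by group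
      _ = y⁻¹ * (k * m * y * (k * m)⁻¹) := by rw [hky']; group
      _ = n := by rw [hg]; group
  have hEi := (Finite.injective_iff_surjective (f := E)).2 hE
  have : E ⟨c, hc⟩ = E 1 := by
    apply Subtype.ext
    show y⁻¹ * c * y * c⁻¹ = y⁻¹ * ((1 : ↥N) : G) * y * ((1 : ↥N) : G)⁻¹
    rw [mul_assoc y⁻¹ c y, hyc.symm.eq]
    simp
  exact hc1 (congrArg Subtype.val (hEi this))

theorem Setting.cent_eq (S : Setting p N) (hP : N = Cfsg.pCore p G) {x c : G} (hc : c ∈ N)
    (hc1 : c ≠ 1) (hxc : Commute x c) : x ∈ N := by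
  classical
  by_contra hx
  have hex : ∃ k : ℕ, x ^ p ^ k ∈ N := by
    obtain ⟨k, hk⟩ := S.cent_pgroup hc hc1 ⟨x, Subgroup.mem_centralizer_singleton_iff.2 hxc.eq⟩
    exact ⟨k, by rw [show x ^ p ^ k = 1 from congrArg Subtype.val hk]; exact N.one_mem⟩
  obtain ⟨j, hj⟩ : ∃ j, Nat.find hex = j + 1 := by
    rcases Nat.eq_zero_or_pos (Nat.find hex) with h | h
    · exact absurd (by simpa [h] using Nat.find_spec hex) hx
    · exact ⟨Nat.find hex - 1, by omega⟩
  have h1 : x ^ p ^ j ∉ N := Nat.find_min hex (by omega)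
  have h2 : (x ^ p ^ j) ^ p ∈ N := by
    rw [← pow_mul, ← pow_succ, ← hj]; exact Nat.find_spec hex
  by_cases hp : p = 2
  · refine S.no_sq_two hP hp h1 ?_
    rw [hp, pow_two] at h2
    rwa [hp]
  · exact S.no_fix_odd hP hp hc hc1 h1 h2 (hxc.pow_left _)

theorem setting_of_char (hG : 2 < Nat.card G) (χ : Cfsg.IrrCharacter G)
    (hχ : Nat.card {C : ConjClasses G // ∃ g ∈ C.carrier, (χ : G → ℂ) g ≠ 0} = 2)
    (hN : ∀ g : G, g ∈ N ↔ (χ : G → ℂ) g ≠ 0) (hNp : IsPGroup p N) (hN1 : N ≠ ⊥) :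
    Setting p N := by
  classical
  haveI := Fintype.ofFinite G
  have htrans : ∀ a ∈ N, ∀ b ∈ N, a ≠ 1 → b ≠ 1 → IsConj a b := by
    intro a ha b hb ha1 hb1
    by_contra hab
    let T := {C : ConjClasses G // ∃ g ∈ C.carrier, (χ : G → ℂ) g ≠ 0}
    haveI := Fintype.ofFinite T
    let mk' : ∀ g ∈ N, T := fun g hg =>
      ⟨ConjClasses.mk g, g, ConjClasses.mem_carrier_mk, (hN g).1 hg⟩
    have hne : ∀ g (hg : g ∈ N) h (hh : h ∈ N), ¬ IsConj g h → mk' g hg ≠ mk' h hh :=
      fun g hg h hh hn e => hn (ConjClasses.mk_eq_mk_iff_isConj.1 (congrArg Subtype.val e))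
    have h1a : ¬ IsConj (1 : G) a := fun h => ha1 (isConj_one_right.1 h)
    have h1b : ¬ IsConj (1 : G) b := fun h => hb1 (isConj_one_right.1 h)
    have hcard : ({mk' 1 N.one_mem, mk' a ha, mk' b hb} : Finset T).card = 3 := by
      rw [Finset.card_eq_three]
      exact ⟨_, _, _, hne 1 N.one_mem a ha h1a, hne 1 N.one_mem b hb h1b, hne a ha b hb hab, rfl⟩
    have := Finset.card_le_univ ({mk' 1 N.one_mem, mk' a ha, mk' b hb} : Finset T)
    rw [← Nat.card_eq_fintype_card] at this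
    have hT : Nat.card T = 2 := hχ
    change _ ≤ Nat.card T at this
    omega
  refine ⟨hNp, hN1, htrans, fun x hx n hn => ?_⟩
  obtain ⟨c, hc1⟩ := N.ne_bot_iff_exists_ne_one.1 hN1
  have hc1' : (c : G) ≠ 1 := fun e => hc1 (Subtype.ext e)
  set a := (χ : G → ℂ) 1
  set b := (χ : G → ℂ) c
  have hval : ∀ g ∈ N, g ≠ 1 → (χ : G → ℂ) g = b := fun g hg hg1 =>
    CfsgLib.Char.classFun_isConj (CfsgLib.Char.classFun_of_irr χ.2) (htrans g hg c c.2 hg1 hc1')
  have hout : ∀ g, g ∉ N → (χ : G → ℂ) g = 0 := fun g hg => not_not.1 fun h => hg ((hN g).2 h)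
  have hsum : ∀ F : G → ℂ, (∀ g, g ∉ N → F g = 0) → ∀ v, (∀ g ∈ N, g ≠ 1 → F g = v) →
      ∑ g : G, F g = F 1 + ((Nat.card ↥N : ℂ) - 1) * v := by
    intro F hF0 v hv
    rw [← Finset.sum_subset (Finset.subset_univ ({g | g ∈ N} : Finset G))
      (fun g _ hg => hF0 g (by simpa using hg))]
    rw [← Finset.add_sum_erase _ _ (show (1 : G) ∈ ({g | g ∈ N} : Finset G) by simp)]
    congr 1
    rw [Finset.sum_congr rfl (fun g hg => hv g (by simpa using (Finset.mem_erase.1 hg).2)
      (Finset.mem_erase.1 hg).1), Finset.sum_const, Finset.card_erase_of_mem (by simp),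
      nsmul_eq_mul]
    have hcardN : ({g | g ∈ N} : Finset G).card = Nat.card ↥N := by
      rw [Nat.card_eq_fintype_card]; exact (Fintype.card_subtype _).symm
    rw [hcardN, Nat.cast_sub Nat.card_pos, Nat.cast_one]
  -- `χ` is not principal
  have hχ1 : (χ : G → ℂ) ≠ fun _ => 1 := fun e => hx ((hN x).2 (by rw [e]; exact one_ne_zero))
  have hortho1 : a + ((Nat.card ↥N : ℂ) - 1) * b = 0 := by
    have h := CfsgLib.Char.irr_inner_ne χ.2 CfsgLib.Char.isIrr_one hχ1
    rw [CfsgLib.Char.classInner_def, mul_eq_zero] at h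
    have h := h.resolve_left (inv_ne_zero (CfsgLib.Char.natCard_ne_zero G))
    simp only [map_one, mul_one] at h
    rw [hsum _ hout b hval] at h
    exact h
  have ha : conj a = a := by
    obtain ⟨m, -, hm⟩ := CfsgLib.Char.irr_deg χ.2
    show conj ((χ : G → ℂ) 1) = (χ : G → ℂ) 1
    rw [hm, map_natCast]
  rw [CfsgLib.Char.isConj_iff_irr]
  intro ψ
  by_cases hψ : ψ = χ
  · subst hψ
    rw [hout x hx, hout (x * n) fun h => hx ((N.mul_mem_cancel_right hn).1 h)]
  by_cases hn1 : n = 1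
  · rw [hn1, mul_one]
  have h := CfsgLib.Char.irr_inner_ne ψ.2 χ.2 (fun e => hψ (Subtype.ext e))
  rw [CfsgLib.Char.classInner_def, mul_eq_zero] at h
  have h := h.resolve_left (inv_ne_zero (CfsgLib.Char.natCard_ne_zero G))
  have hψval : ∀ g ∈ N, g ≠ 1 → (ψ : G → ℂ) g * conj ((χ : G → ℂ) g) =
      (ψ : G → ℂ) n * conj b := fun g hg hg1 => by
    rw [hval g hg hg1, CfsgLib.Char.classFun_isConj (CfsgLib.Char.classFun_of_irr ψ.2)
      (htrans g hg n hn hg1 hn1)]
  rw [hsum _ (fun g hg => by rw [hout g hg, map_zero, mul_zero]) _ hψval] at h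
  have hb : conj a + ((Nat.card ↥N : ℂ) - 1) * conj b = 0 := by
    have := congrArg conj hortho1
    simpa using this
  rw [ha] at hb
  change (ψ : G → ℂ) 1 * conj a + _ = 0 at h
  rw [ha] at h
  have h2 : ((ψ : G → ℂ) 1 - (ψ : G → ℂ) n) * a = 0 := by linear_combination h - (ψ : G → ℂ) n * hb
  have h3 : (ψ : G → ℂ) n = (ψ : G → ℂ) 1 := by
    have := (mul_eq_zero.1 h2).resolve_right (CfsgLib.Char.irr_one_ne_zero χ.2)
    exact (sub_eq_zero.1 this).symm
  obtain ⟨K, hK⟩ := CfsgLib.Char.exists_kernel (CfsgLib.Char.isCharacter_of_isIrr ψ.2)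
  exact ((hK.2.2) n ((hK.2.1 n).2 h3) x).symm.trans
    (CfsgLib.Char.classFun_mul_comm (CfsgLib.Char.classFun_of_irr ψ.2) n x)


/-- Let G be a finite group of order greater than 2 with an irreducible character χ nonzero on exactly two conjugacy classes, and let N be the normal p-subgroup of elements where χ is nonzero. Then N is the whole p-core O_p(G) if and only if G is a doubly transitive Frobenius group with kernel N: G has a Frobenius complement H whose Frobenius kernel is N and whose order is one less than that of N. -/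
theorem result {G : Type*} [Group G] [Finite G] (hG : 2 < Nat.card G) (χ : Cfsg.IrrCharacter G) (hχ : Nat.card {C : ConjClasses G // ∃ g ∈ C.carrier, (χ : G → ℂ) g ≠ 0} = 2) (p : ℕ) [Fact p.Prime] (N : Subgroup G) [N.Normal] (hN : ∀ g : G, g ∈ N ↔ (χ : G → ℂ) g ≠ 0) (hNp : IsPGroup p N) (hN1 : N ≠ ⊥) :
    N = Cfsg.pCore p G ↔ ∃ H : Subgroup G, Cfsg.IsFrobeniusComplement H ∧ Cfsg.frobeniusKernel H = (N : Set G) ∧ Nat.card H + 1 = Nat.card N := by
  classical
  have S := setting_of_char hG χ hχ hN hNp hN1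
  have hp : p.Prime := Fact.out
  constructor
  · intro hP
    obtain ⟨c, hc1'⟩ := N.ne_bot_iff_exists_ne_one.1 hN1
    have hc1 : (c : G) ≠ 1 := fun e => hc1' (Subtype.ext e)
    have hC : Subgroup.centralizer ({(c : G)} : Set G) = N := by
      refine le_antisymm (fun x hx => S.cent_eq hP c.2 hc1
        (Subgroup.mem_centralizer_singleton_iff.1 hx)) fun x hx =>
        Subgroup.mem_centralizer_singleton_iff.2 (S.abelian x hx c c.2)
    have hidx : N.index = Nat.card ↥N - 1 := by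
      conv_lhs => rw [← hC]
      rw [← CfsgLib.Char.card_isConj, show Nat.card {y : G // IsConj (c : G) y} =
        Nat.card ((N : Set G) \ {1} : Set G) from Nat.card_congr (Equiv.subtypeEquivRight fun y => ?_)]
      · rw [Nat.card_coe_set_eq, Set.ncard_diff (by simp), Set.ncard_singleton,
          ← Nat.card_coe_set_eq]
        rfl
      · refine ⟨fun h => ?_, fun h => S.trans c c.2 y h.1 hc1 h.2⟩
        obtain ⟨g, rfl⟩ := isConj_iff.1 h
        exact ⟨‹N.Normal›.conj_mem c c.2 g, by simpa using hc1⟩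
    haveI : Nontrivial ↥N := (Subgroup.nontrivial_iff_ne_bot N).2 hN1
    have hn2 : 2 ≤ Nat.card ↥N := Finite.one_lt_card
    have hcop : (Nat.card ↥N).Coprime N.index := by
      rw [hidx]
      exact (Nat.coprime_self_sub_right (by omega)).2 (Nat.coprime_one_right _)
    obtain ⟨H, hH⟩ := Subgroup.exists_right_complement'_of_coprime hcop
    have hcH : Nat.card H = Nat.card ↥N - 1 := by
      have h1 := hH.card_mul
      rw [← N.card_mul_index, hidx] at h1
      exact Nat.eq_of_mul_eq_mul_left Nat.card_pos h1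
    have hdisj : ∀ a ∈ N, a ∈ H → a = 1 := fun a ha ha' =>
      Subgroup.disjoint_def.1 hH.disjoint ha ha'
    have hdec : ∀ g : G, ∃ m ∈ N, ∃ k ∈ H, g = m * k := fun g => by
      obtain ⟨⟨m, k⟩, hmk⟩ := hH.2 g
      exact ⟨m, m.2, k, k.2, hmk.symm⟩
    refine ⟨H, ⟨?_, ?_, ?_⟩, ?_, by omega⟩
    · intro e
      have h1 : N.index = 1 := by rw [hidx, ← hcH, e, Subgroup.card_bot]
      have h2 : Nat.card ↥N = Nat.card G := by rw [← N.card_mul_index, h1, mul_one]
      omega
    · intro e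
      exact hN1 (eq_bot_iff.2 fun a ha => hdisj a ha (e ▸ Subgroup.mem_top a))
    · intro g hg
      rw [eq_bot_iff]
      rintro x ⟨hx, hx'⟩
      change x ∈ H at hx
      change x ∈ MulAut.conj g • H at hx'
      rw [Subgroup.mem_pointwise_smul_iff_inv_smul_mem] at hx'
      obtain ⟨m, hm, k, hk, rfl⟩ := hdec g
      have hx'' : (m * k)⁻¹ * x * (m * k) ∈ H := by simpa [MulAut.conj_symm_apply, mul_assoc] using hx'
      have hy : m⁻¹ * x * m ∈ H := by
        have := H.mul_mem (H.mul_mem hk hx'') (H.inv_mem hk)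
        have e : k * ((m * k)⁻¹ * x * (m * k)) * k⁻¹ = m⁻¹ * x * m := by group
        rwa [e] at this
      have hw : x⁻¹ * (m⁻¹ * x * m) = 1 := by
        refine hdisj _ ?_ (H.mul_mem (H.inv_mem hx) hy)
        have := N.mul_mem (‹N.Normal›.conj_mem _ (N.inv_mem hm) x⁻¹) hm
        have e : x⁻¹ * m⁻¹ * x⁻¹⁻¹ * m = x⁻¹ * (m⁻¹ * x * m) := by group
        rwa [e] at this
      have hm1 : m ≠ 1 := fun e => hg (by rw [e, one_mul]; exact hk)
      refine hdisj x (S.cent_eq hP hm hm1 ?_) hx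
      show x * m = m * x
      calc x * m = m * (x * (x⁻¹ * (m⁻¹ * x * m))) := by group
        _ = m * x := by rw [hw, mul_one]
    · ext x
      rw [Cfsg.frobeniusKernel, Set.mem_setOf_eq]
      constructor
      · rintro (rfl | h)
        · exact N.one_mem
        by_contra hxN
        obtain ⟨m, hm, k, hk, rfl⟩ := hdec x
        have hkN : k ∉ N := fun h' => hxN (N.mul_mem hm h')
        obtain ⟨g, hg⟩ := isConj_iff.1 (S.lift k hkN (k⁻¹ * m * k)
          (by simpa using ‹N.Normal›.conj_mem _ hm k⁻¹))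
        refine h g ?_
        rw [Subgroup.mem_pointwise_smul_iff_inv_smul_mem]
        have e : g⁻¹ * (m * k) * g = k := by
          have : g * k * g⁻¹ = m * k := by rw [hg]; group
          rw [← this]; group
        rw [show (MulAut.conj g)⁻¹ • (m * k) = g⁻¹ * (m * k) * g by simp [MulAut.conj_symm_apply, mul_assoc], e]
        exact hk
      · intro hx
        refine or_iff_not_imp_left.2 fun hx1 g hg => hx1 ?_
        rw [Subgroup.mem_pointwise_smul_iff_inv_smul_mem] at hg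
        have h' : g⁻¹ * x * g ∈ H := by simpa [MulAut.conj_symm_apply] using hg
        have h1 := hdisj _ (by simpa using ‹N.Normal›.conj_mem x hx g⁻¹) h'
        calc x = g * (g⁻¹ * x * g) * g⁻¹ := by group
          _ = 1 := by rw [h1]; group
  · rintro ⟨H, -, hK, hcard⟩
    refine le_antisymm (CfsgLib.Solv.le_pCore hNp) fun x hx => ?_
    by_contra hxN
    have hx1 : x ≠ 1 := fun e => hxN (e ▸ N.one_mem)
    have hxK : x ∉ Cfsg.frobeniusKernel H := by rw [hK]; exact hxN
    simp only [Cfsg.frobeniusKernel, Set.mem_setOf_eq, not_or, not_forall, not_not] at hxK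
    obtain ⟨-, g, hg⟩ := hxK
    obtain ⟨k, hk⟩ := CfsgLib.Solv.pCore_isPGroup (p := p) G ⟨x, hx⟩
    have hk' : x ^ p ^ k = 1 := congrArg Subtype.val hk
    have hd1 : orderOf x ∣ p ^ k := orderOf_dvd_of_pow_eq_one hk'
    have hd2 : orderOf x ∣ Nat.card H := by
      rw [Subgroup.mem_pointwise_smul_iff_inv_smul_mem] at hg
      have h' : g⁻¹ * x * g ∈ H := by simpa [MulAut.conj_symm_apply] using hg
      have := orderOf_dvd_natCard (⟨_, h'⟩ : H)
      rw [← Subgroup.orderOf_coe] at this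
      change orderOf (g⁻¹ * x * g) ∣ _ at this
      rwa [show g⁻¹ * x * g = MulAut.conj g⁻¹ x by simp, MulEquiv.orderOf_eq] at this
    obtain ⟨j, hj⟩ := hNp.exists_card_eq
    have hj0 : j ≠ 0 := by
      rintro rfl
      exact hN1 (Subgroup.eq_bot_of_card_eq N (by simpa using hj))
    have hc : (Nat.card H).Coprime (p ^ k) := by
      refine Nat.Coprime.pow_right k ((hp.coprime_iff_not_dvd.2 fun hd => ?_).symm)
      have h1 : p ∣ Nat.card H + 1 := hcard ▸ hj ▸ dvd_pow_self p hj0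
      exact hp.not_dvd_one ((Nat.dvd_add_right hd).1 h1)
    exact hx1 (orderOf_eq_one_iff.1 (Nat.dvd_one.1 (hc.gcd_eq_one ▸ Nat.dvd_gcd hd2 hd1)))

end Cfsg.Agent.S4839
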