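import Cfsg.Statements.S4840
import Cfsg.Agent.Char.TwoClasses
import Cfsg.Agent.S4835
import Cfsg.Agent.Perm.ComplementQuotientSol
import Cfsg.Agent.Inv.Q8Auto
import Cfsg.Agent.Solv.ComplementClass
import Cfsg.Agent.Solv.FittingBasic
import Cfsg.Agent.Solv.PLengthOne
import Cfsg.Agent.S3742

set_option autoImplicit false
open Cfsg

namespace Cfsg.Agent.S4840

open scoped commutatorElement

set_option maxHeartbeats 1600000

/-- Let G be a finite solvable group of order greater than 2 with an irreducible character nonzero on exactly two conjugacy classes. Then there is exactly one prime p with O_p(G) ≠ 1, and the quotient G/O_p(G) has a normal p-complement and commutative Sylow p-subgroups. -/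
theorem result {G : Type*} [Group G] [Finite G] [hs : Group.IsSolvable G] (hG : 2 < Nat.card G) (χ : Cfsg.IrrCharacter G) (hχ : Nat.card {C : ConjClasses G // ∃ g ∈ C.carrier, (χ : G → ℂ) g ≠ 0} = 2) :
    ∃ p : ℕ, p.Prime ∧ (∀ q : ℕ, q.Prime → (Cfsg.pCore q G ≠ ⊥ ↔ q = p)) ∧
      Cfsg.HasNormalPComplement p (G ⧸ Cfsg.pCore p G) ∧ ∀ Q : Sylow p (G ⧸ Cfsg.pCore p G), IsMulCommutative (Q : Subgroup (G ⧸ Cfsg.pCore p G)) := by
  classical
  letI := Fintype.ofFinite G
  obtain ⟨N, g₀, hNn, hg₀, hg₀1, hmem, hconj, -, -, hrel⟩ := CfsgLib.Char.two_classes hG χ hχ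
  haveI := hNn
  obtain ⟨N', hN'n, -, hmin, ⟨p, hp, hel⟩, hsupp, -⟩ := S4835.result hG χ hχ
  obtain rfl : N' = N := Subgroup.ext fun g => (hsupp g).symm.trans (hmem g).symm
  haveI := Fact.mk hp
  obtain ⟨⟨hcomm⟩, hexp⟩ := hel
  have hNp : IsPGroup p N' := fun a => ⟨1, Subtype.ext (by simpa using hexp a a.2)⟩
  obtain ⟨n, hn⟩ := IsPGroup.iff_card.1 hNp
  have hN1 : N' ≠ ⊥ := fun h => hg₀1 (by rwa [h, Subgroup.mem_bot] at hg₀)
  have hN1' : 1 < Nat.card N' := (Subgroup.one_lt_card_iff_ne_bot _).2 hN1
  have hn0 : n ≠ 0 := by rintro rfl; rw [hn, pow_zero] at hN1'; omega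
  -- the centraliser of `g₀` is a `p`-group
  set C := Subgroup.centralizer ({g₀} : Set G) with hC
  have hNC : N' ≤ C := fun a ha => Subgroup.mem_centralizer_singleton_iff.2
    (congrArg Subtype.val (hcomm.comm ⟨a, ha⟩ ⟨g₀, hg₀⟩))
  set k := Nat.card N' - 1 with hk
  have hGC : Nat.card G = Nat.card C * k := by
    rw [← Subgroup.card_mul_index C]
    congr 1
    rw [hC, ← CfsgLib.Char.card_filter_isConj g₀, hk,
      Nat.card_eq_fintype_card, ← Finset.card_univ,
      ← Finset.card_erase_of_mem (Finset.mem_univ (1 : N'))]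
    refine Finset.card_bij (fun g hg => ⟨g, ?_⟩) ?_ ?_ ?_
    · obtain ⟨c, rfl⟩ := isConj_iff.1 (Finset.mem_filter.1 hg).2
      exact hNn.conj_mem g₀ hg₀ c
    · intro g hg
      refine Finset.mem_erase.2 ⟨fun e => ?_, Finset.mem_univ _⟩
      obtain rfl : g = 1 := congrArg Subtype.val e
      exact hg₀1 (isConj_one_left.1 (Finset.mem_filter.1 hg).2)
    · intro a _ b _ e; exact congrArg Subtype.val e
    · intro b hb
      exact ⟨b, Finset.mem_filter.2 ⟨Finset.mem_univ _,
        hconj b b.2 (fun e => (Finset.mem_erase.1 hb).1 (Subtype.ext e))⟩, rfl⟩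
  have hd : charDegree (χ : G → ℂ) ^ 2 * Nat.card N' = Nat.card G * k := by
    have h1 := CfsgLib.Char.irr_inner_self χ.2
    rw [CfsgLib.Char.classInner_def, inv_mul_eq_iff_eq_mul₀ (CfsgLib.Char.natCard_ne_zero G), mul_one,
      CfsgLib.Char.sum_subgroup N' (fun g => (χ : G → ℂ) g * starRingEnd ℂ ((χ : G → ℂ) g))
      (fun g hg => by rw [not_not.1 (fun h => hg ((hmem g).2 h)), zero_mul]),
      ← Finset.add_sum_erase _ _ (Finset.mem_univ (1 : N'))] at h1
    have h2 : ∀ a ∈ Finset.univ.erase (1 : N'), (χ : G → ℂ) a * starRingEnd ℂ ((χ : G → ℂ) a) =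
        (χ : G → ℂ) g₀ * starRingEnd ℂ ((χ : G → ℂ) g₀) := fun a ha => by
      rw [← CfsgLib.Char.classFun_isConj (CfsgLib.Char.classFun_of_irr χ.2)
        (hconj a a.2 (fun e => (Finset.mem_erase.1 ha).1 (Subtype.ext e)))]
    rw [Finset.sum_congr rfl h2, Finset.sum_const, Finset.card_erase_of_mem (Finset.mem_univ _),
      Finset.card_univ, Fintype.card_eq_nat_card, ← hk, nsmul_eq_mul, OneMemClass.coe_one,
      CfsgLib.Char.char_one_eq (CfsgLib.Char.isCharacter_of_isIrr χ.2), Complex.conj_natCast] at h1
    rw [CfsgLib.Char.char_one_eq (CfsgLib.Char.isCharacter_of_isIrr χ.2), ← Nat.cast_one,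
      ← Nat.cast_sub (by omega), ← hk] at hrel
    have h3 : (k : ℂ) * (χ : G → ℂ) g₀ = -(charDegree (χ : G → ℂ) : ℂ) := by linear_combination hrel
    have h3' : (k : ℂ) * starRingEnd ℂ ((χ : G → ℂ) g₀) = -(charDegree (χ : G → ℂ) : ℂ) := by
      simpa using congrArg (starRingEnd ℂ) h3
    have hN' : (Nat.card N' : ℂ) = (k : ℂ) + 1 := by
      rw [← Nat.cast_one, ← Nat.cast_add]; congr 1; omega
    have : ((charDegree (χ : G → ℂ) ^ 2 * Nat.card N' : ℕ) : ℂ) = ((Nat.card G * k : ℕ) : ℂ) := by
      push_cast
      rw [hN']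
      linear_combination (k : ℂ) * h1 - ((k : ℂ) * starRingEnd ℂ ((χ : G → ℂ) g₀)) * h3 +
        (charDegree (χ : G → ℂ) : ℂ) * h3'
    exact_mod_cast this
  have hCp : ∀ q : ℕ, q.Prime → q ∣ Nat.card C → q = p := by
    intro q hq hqC
    by_contra hqp
    haveI := Fact.mk hq
    obtain ⟨Q⟩ : Nonempty (Sylow q G) := inferInstance
    have hk0 : k ≠ 0 := by omega
    -- `|Q|` divides the degree
    have hQd : Nat.card Q ∣ charDegree (χ : G → ℂ) := by
      haveI := Fintype.ofFinite Q
      have hres := CfsgLib.Char.isCharacter_restrict (Q : Subgroup G) (CfsgLib.Char.isCharacter_of_isIrr χ.2)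
      obtain ⟨a, ha⟩ := CfsgLib.Char.inner_char_irr hres
        (CfsgLib.Char.isIrr_one (G := (Q : Subgroup G)))
      rw [CfsgLib.Char.classInner_def, Finset.sum_eq_single (1 : (Q : Subgroup G))] at ha
      · rw [map_one, mul_one, inv_mul_eq_iff_eq_mul₀ (CfsgLib.Char.natCard_ne_zero _), OneMemClass.coe_one,
          CfsgLib.Char.char_one_eq (CfsgLib.Char.isCharacter_of_isIrr χ.2)] at ha
        exact ⟨a, by exact_mod_cast ha⟩
      · intro b _ hb
        have hb0 : (χ : G → ℂ) b = 0 := by
          by_contra h0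
          obtain ⟨i, hi⟩ := IsPGroup.iff_orderOf.1 Q.2 b
          have h1 : orderOf (b : G) ∣ p := orderOf_dvd_of_pow_eq_one (hexp _ ((hmem _).2 h0))
          rw [Subgroup.orderOf_coe, hi] at h1
          rcases Nat.eq_zero_or_pos i with rfl | hi0
          · exact hb (orderOf_eq_one_iff.1 (by rw [hi, pow_zero]))
          · exact hqp ((Nat.prime_dvd_prime_iff_eq hq hp).1 ((dvd_pow_self q hi0.ne').trans h1))
        rw [hb0, zero_mul]
      · intro h; exact absurd (Finset.mem_univ _) h
    have hf : ∀ a b : ℕ, a ≠ 0 → b ≠ 0 → (a * b).factorization q = a.factorization q + b.factorization q :=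
      fun a b ha hb => by rw [Nat.factorization_mul ha hb]; rfl
    have hd0 : charDegree (χ : G → ℂ) ≠ 0 := (CfsgLib.Char.charDegree_pos χ.2).ne'
    have e1 := congrArg (fun m : ℕ => m.factorization q) hd
    rw [hf _ _ (pow_ne_zero _ hd0) Nat.card_pos.ne', hf _ _ Nat.card_pos.ne' hk0, Nat.factorization_pow,
      hn, Nat.factorization_eq_zero_of_not_dvd (n := p ^ n) (fun h => hqp
        ((Nat.prime_dvd_prime_iff_eq hq hp).1 (hq.dvd_of_dvd_pow h)))] at e1
    simp only [Finsupp.smul_apply, smul_eq_mul, add_zero] at e1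
    have e2 : (Nat.card G).factorization q ≤ (charDegree (χ : G → ℂ)).factorization q := by
      rw [Q.card_eq_multiplicity] at hQd
      exact (hq.pow_dvd_iff_le_factorization hd0).1 hQd
    have e3 := congrArg (fun m : ℕ => m.factorization q) hGC
    rw [hf _ _ Nat.card_pos.ne' hk0] at e3
    have e4 := hq.factorization_pos_of_dvd Nat.card_pos.ne' hqC
    omega
  have hCpg : IsPGroup p C := IsPGroup.of_card (n := (Nat.card C).primeFactorsList.length)
    (Nat.eq_prime_pow_of_unique_prime_dvd Nat.card_pos.ne' fun hd' hdd => hCp _ hd' hdd)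
  -- the kernel of the action is `O_p(G)`
  set O := pCore p G with hO
  haveI hOn : O.Normal := CfsgLib.Solv.pCore_normal G p
  have hNO : N' ≤ O := CfsgLib.Solv.le_pCore hNp
  have hCN : Subgroup.centralizer (N' : Set G) = O := by
    apply le_antisymm
    · haveI : (Subgroup.centralizer (N' : Set G)).Normal := inferInstance
      exact CfsgLib.Solv.le_pCore (hCpg.to_le (Subgroup.centralizer_le (Set.singleton_subset_iff.2 hg₀)))
    · have hOp : IsPGroup p O := CfsgLib.Solv.pCore_isPGroup G p
      let W : Subgroup G := N' ⊓ Subgroup.centralizer (O : Set G)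
      haveI hWn : W.Normal := inferInstance
      haveI : Nontrivial O := (Subgroup.nontrivial_iff_ne_bot O).2 (fun h => hN1 (le_bot_iff.1 (h ▸ hNO)))
      have hW : W ≠ ⊥ := by
        letI : MulAction O N' := MulAction.compHom N' ((MulAut.conjNormal : G →* MulAut N').comp O.subtype)
        have h1 := hOp.card_modEq_card_fixedPoints N'
        have h2 : p ∣ Nat.card (MulAction.fixedPoints O N') :=
          Nat.modEq_zero_iff_dvd.1 (h1.symm.trans (Nat.modEq_zero_iff_dvd.2 (hn ▸ dvd_pow_self p hn0)))
        haveI : Nonempty (MulAction.fixedPoints O N') := ⟨⟨1, fun o => map_one (MulAut.conjNormal (o : G))⟩⟩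
        haveI : Nontrivial (MulAction.fixedPoints O N') :=
          Finite.one_lt_card_iff_nontrivial.1 (lt_of_lt_of_le hp.one_lt (Nat.le_of_dvd Nat.card_pos h2))
        obtain ⟨a, ha⟩ := exists_ne (⟨1, fun o => map_one (MulAut.conjNormal (o : G))⟩ : MulAction.fixedPoints O N')
        intro hW
        have h3 : ((a : N') : G) ∈ W := ⟨a.1.2, Subgroup.mem_centralizer_iff.2 fun b hb => by
          have h4 : b * ((a : N') : G) * b⁻¹ = ((a : N') : G) :=
            congrArg Subtype.val (a.2 ⟨b, hb⟩)
          exact mul_inv_eq_iff_eq_mul.1 h4⟩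
        rw [hW, Subgroup.mem_bot] at h3
        exact ha (Subtype.ext (Subtype.ext h3))
      exact Subgroup.le_centralizer_iff.1 ((hmin W hWn hW).trans inf_le_right)
  set X := G ⧸ O
  haveI : Group.IsSolvable X := Group.isSolvable_of_surjective (QuotientGroup.mk'_surjective O)
  let ρ₀ : G →* MulAut N' := MulAut.conjNormal
  have hker : O = ρ₀.ker := by
    rw [← hCN]
    ext g
    rw [MonoidHom.mem_ker, Subgroup.mem_centralizer_iff]
    constructor
    · intro h
      exact MulEquiv.ext fun a => Subtype.ext (by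
        show g * (a : G) * g⁻¹ = a
        rw [← h a a.2, mul_inv_cancel_right])
    · intro h a ha
      have h0 := DFunLike.congr_fun h (⟨a, ha⟩ : N')
      have h1 : g * a * g⁻¹ = a := congrArg Subtype.val h0
      exact (mul_inv_eq_iff_eq_mul.1 h1).symm
  let ρ : X →* MulAut N' := QuotientGroup.lift O ρ₀ hker.le
  have hfix : ∀ (x : X) (v : N'), v ≠ 1 → ρ x v = v → ∃ i, orderOf x ∣ p ^ i := by
    intro x v hv hxv
    obtain ⟨g, rfl⟩ := QuotientGroup.mk'_surjective O x
    obtain ⟨c, hc⟩ := isConj_iff.1 (hconj v v.2 (fun e => hv (Subtype.ext e)))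
    have h1 : g * (v : G) * g⁻¹ = v := congrArg Subtype.val hxv
    have h2 : c⁻¹ * g * c ∈ C := by
      refine Subgroup.mem_centralizer_singleton_iff.2 ?_
      rw [← hc, mul_inv_eq_iff_eq_mul] at h1
      calc c⁻¹ * g * c * g₀ = c⁻¹ * (g * (c * g₀ * c⁻¹)) * c := by group
        _ = c⁻¹ * (c * g₀ * c⁻¹ * g) * c := by rw [h1]
        _ = g₀ * (c⁻¹ * g * c) := by group
    obtain ⟨i, hi⟩ := IsPGroup.iff_orderOf.1 hCpg ⟨_, h2⟩
    rw [Subgroup.orderOf_mk] at hi
    refine ⟨i, (orderOf_map_dvd (QuotientGroup.mk' O) g).trans (dvd_of_eq ?_)⟩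
    rw [← hi]
    exact (MulEquiv.orderOf_eq (MulAut.conj c⁻¹) g).symm.trans (by simp [mul_assoc])
  have hOX : pCore p X = ⊥ := CfsgLib.Solv.pCore_quotient_self
  -- each Sylow subgroup of the Fitting subgroup
  have hkey : ∀ r : ℕ, r.Prime → r ≠ p → ∀ x ∈ commutator X, (∃ i, orderOf x = p ^ i) →
      ∀ a ∈ pCore r X, x * a * x⁻¹ = a := by
    intro r hr hrp
    haveI := Fact.mk hr
    set R := pCore r X with hR
    haveI : R.Normal := CfsgLib.Solv.pCore_normal X r
    have hRp : IsPGroup r R := CfsgLib.Solv.pCore_isPGroup X r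
    have hfpf : ∀ a ∈ R, a ≠ 1 → ∀ v : N', ρ a v = v → v = 1 := by
      intro a ha ha1 v hv
      by_contra hv1
      obtain ⟨i, hi⟩ := hfix a v hv1 hv
      obtain ⟨j, hj⟩ := IsPGroup.iff_orderOf.1 hRp ⟨a, ha⟩
      rw [Subgroup.orderOf_mk] at hj
      refine ha1 (orderOf_eq_one_iff.1 (Nat.eq_one_of_dvd_coprimes ?_ hi (dvd_of_eq hj)))
      exact Nat.Coprime.pow _ _ ((Nat.coprime_primes hp hr).2 (fun e => hrp e.symm))
    let χR : X →* MulAut R := MulAut.conjNormal
    -- cyclic or quaternion
    let S := N' ⋊[ρ] X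
    haveI : Finite S := Finite.of_equiv _ SemidirectProduct.equivProd.symm
    have hV : (SemidirectProduct.inl (φ := ρ)).range ≠ (⊥ : Subgroup S) := by
      intro h
      obtain ⟨a, ha⟩ := (Subgroup.ne_bot_iff_exists_ne_one).1 hN1
      have h1 : SemidirectProduct.inl (φ := ρ) a ∈ (SemidirectProduct.inl (φ := ρ)).range := ⟨a, rfl⟩
      rw [h, Subgroup.mem_bot] at h1
      exact ha (SemidirectProduct.inl_injective (h1.trans (map_one _).symm))
    have hcyc : ∀ A : Subgroup R, IsMulCommutative A → IsCyclic A := by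
      intro A hA
      haveI := hA
      let f : R →* S := SemidirectProduct.inr.comp R.subtype
      have hf : Function.Injective f := fun a b e => Subtype.ext (SemidirectProduct.inr_injective e)
      haveI : IsMulCommutative (A.map f) := Subgroup.map_isMulCommutative A f
      haveI : (SemidirectProduct.inl (φ := ρ)).range.Normal := by
        rw [SemidirectProduct.range_inl_eq_ker_rightHom]; infer_instance
      haveI := CfsgLib.Solv.isCyclic_of_fpf_abelian (A := A.map f) hV
        (Subgroup.normalizer_eq_top (H := (SemidirectProduct.inl (φ := ρ)).range) ▸ le_top) (by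
          rintro _ ⟨a, ha, rfl⟩ ha1
          rw [eq_bot_iff]
          rintro _ ⟨⟨v, rfl⟩, hv⟩
          replace hv := Subgroup.mem_centralizer_singleton_iff.1 hv
          have h1 : SemidirectProduct.inl (φ := ρ) (ρ (a : X) v) = SemidirectProduct.inl v := by
            rw [SemidirectProduct.inl_aut]
            show f a * _ * _ = _
            rw [← hv, map_inv]
            exact mul_inv_cancel_right _ _
          rw [Subgroup.mem_bot, hfpf a a.2 (fun e => ha1 (by
            show SemidirectProduct.inr _ = 1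
            rw [show (R.subtype a) = 1 from e, map_one])) v (SemidirectProduct.inl_injective h1), map_one])
      exact isCyclic_of_surjective (A.equivMapOfInjective f hf).symm.toMonoidHom
        (A.equivMapOfInjective f hf).symm.surjective
    intro x hx hxp a ha
    suffices h : χR x = 1 by exact congrArg Subtype.val (DFunLike.congr_fun h ⟨a, ha⟩)
    obtain ⟨e, he⟩ := hxp
    rcases CfsgLib.Solv.pgroup_unique_sub hRp
      (CfsgLib.Solv.unique_of_abelian_cyclic hRp hcyc) with hc | ⟨hr2, m, ⟨eR⟩⟩
    · haveI := hc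
      have hcom : ∀ φ ψ : MulAut R, φ * ψ = ψ * φ := by
        intro φ ψ
        obtain ⟨g, hg⟩ := hc
        obtain ⟨i, hi⟩ := hg (φ g)
        obtain ⟨j, hj⟩ := hg (ψ g)
        refine MulEquiv.ext fun b => ?_
        obtain ⟨l, rfl⟩ := hg b
        show φ (ψ (g ^ l)) = ψ (φ (g ^ l))
        simp only [map_zpow, ← hi, ← hj, ← zpow_mul]
        congr 1; ring
      have h1 : commutator X ≤ χR.ker := by
        rw [commutator_def, Subgroup.commutator_le]
        intro g _ g' _
        rw [MonoidHom.mem_ker, map_commutatorElement, commutatorElement_eq_one_iff_mul_comm]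
        exact hcom _ _
      exact h1 hx
    · subst hr2
      have hxo : Odd (orderOf x) := by rw [he]; exact (hp.odd_of_ne_two (Ne.symm hrp)).pow
      haveI : NeZero (2 ^ (m + 1)) := ⟨pow_ne_zero _ two_ne_zero⟩
      by_contra hx1
      obtain ⟨m', hm', eR'⟩ : ∃ m', m = 0 ∧ m' = eR := ⟨eR, by
        by_contra hm
        refine hx1 (MulEquiv.ext fun b => Subtype.ext ?_)
        show x * (b : X) * x⁻¹ = b
        by_contra hne
        set c : X := ((eR.symm (QuaternionGroup.a 1) : R) : X)
        have hidx : (Subgroup.zpowers c).relIndex R = 2 := by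
          have h2 := Subgroup.relIndex_mul_relIndex ⊥ (Subgroup.zpowers c) R bot_le
            (Subgroup.zpowers_le.2 (eR.symm _).2)
          rw [Subgroup.relIndex_bot_left, Subgroup.relIndex_bot_left, Nat.card_zpowers,
            Nat.card_congr eR.toEquiv, Nat.card_eq_fintype_card, QuaternionGroup.card] at h2
          have h3 : orderOf c = 2 * 2 ^ (m + 1) := by
            show orderOf ((eR.symm _ : R) : X) = _
            rw [Subgroup.orderOf_coe, MulEquiv.orderOf_eq, QuaternionGroup.orderOf_a_one]
          rw [h3] at h2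
          exact Nat.eq_of_mul_eq_mul_left (by positivity) (h2.trans (by ring))
        have h4 := (CfsgLib.Inv.Q8.structure_of_auto hRp (eR.symm _).2 hidx hxo
          (fun f hf => (inferInstance : R.Normal).conj_mem f hf x) ⟨b, b.2, hne⟩).1
        rw [Nat.card_congr eR.toEquiv, Nat.card_eq_fintype_card, QuaternionGroup.card] at h4
        have h5 : 2 ^ 2 ≤ 2 ^ (m + 1) := Nat.pow_le_pow_right two_pos (by omega)
        have := Nat.le_of_dvd (by norm_num) h4
        omega, rfl⟩
      subst hm'
      clear eR' m'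
      let eT : R ≃* QuaternionGroup 2 := eR
      let χ' : X →* MulAut (QuaternionGroup 2) :=
        { toFun := fun g => (eT.symm.trans (χR g)).trans eT
          map_one' := MulEquiv.ext fun q => by simp
          map_mul' := fun g g' => MulEquiv.ext fun q => by simp }
      have hχ' : ∀ g, χ' g = 1 → χR g = 1 := fun g hg => MulEquiv.ext fun b => eT.injective (by
        have := DFunLike.congr_fun hg (eT b)
        simpa [χ'] using this)
      set φ : X →* Equiv.Perm (Fin 3) := CfsgLib.Perm.Fpf.q8act.comp χ' with hφ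
      have htriv : ∀ g : X, Odd (orderOf g) → φ g = 1 → χR g = 1 := fun g hg h =>
        hχ' g (CfsgLib.Perm.Fpf.q8act_odd h hg (by rw [← map_pow, pow_orderOf_eq_one, map_one]))
      have hφx : φ x ≠ 1 := fun h => hx1 (htriv x hxo h)
      -- the image is everything
      have hsurj : φ.range = ⊤ := by
        by_contra hne
        apply hφx
        have h6 : Nat.card φ.range ∣ 6 := by
          have := Subgroup.card_subgroup_dvd_card φ.range
          rwa [Nat.card_perm, Nat.card_fin] at this
        have hlt : Nat.card φ.range ≠ 6 := fun h => hne (Subgroup.eq_top_of_card_eq _ (by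
          rw [h, Nat.card_perm, Nat.card_fin]; rfl))
        have hle : Nat.card φ.range ≤ 6 := Nat.le_of_dvd (by norm_num) h6
        haveI : IsCyclic φ.range := by
          have hpos : 0 < Nat.card φ.range := Nat.card_pos
          interval_cases hc : Nat.card φ.range
          · exact @isCyclic_of_subsingleton _ _ ((Nat.card_eq_one_iff_unique.1 hc).1)
          · exact isCyclic_of_prime_card (p := 2) hc
          · exact isCyclic_of_prime_card (p := 3) hc
          all_goals omega
        have h1 : commutator X ≤ φ.rangeRestrict.ker := by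
          rw [commutator_def, Subgroup.commutator_le]
          intro g _ g' _
          rw [MonoidHom.mem_ker, map_commutatorElement, commutatorElement_eq_one_iff_mul_comm]
          exact IsCyclic.commutative.is_comm.comm _ _
        exact congrArg Subtype.val (h1 hx)
      have hp3 : p = 3 := by
        have h1 : orderOf (φ x) ∣ p ^ e := he ▸ orderOf_map_dvd φ x
        obtain ⟨i, -, hi⟩ := (Nat.dvd_prime_pow hp).1 h1
        have hi0 : i ≠ 0 := fun h => hφx (orderOf_eq_one_iff.1 (by rw [hi, h, pow_zero]))
        have h2 : p ∣ 6 := ((dvd_pow_self p hi0).trans (dvd_of_eq hi.symm)).trans (by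
          have := orderOf_dvd_natCard (φ x)
          rwa [Nat.card_perm, Nat.card_fin] at this)
        have h3 := Nat.le_of_dvd (by norm_num) h2
        have h4 := hp.two_le
        interval_cases p
        all_goals first | rfl | (exfalso; first | omega | exact hrp rfl | (revert hp; norm_num))
      subst hp3
      -- 48 divides the order
      have h48 : 48 ∣ Nat.card X := by
        rw [← Subgroup.card_mul_index φ.ker, Subgroup.index_ker, hsurj, Subgroup.card_top, Nat.card_perm,
          Nat.card_fin]
        have hRk : R ≤ φ.ker := fun t ht => Equiv.ext fun i => by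
          show CfsgLib.Perm.Fpf.q8act (χ' t) i = i
          rw [CfsgLib.Perm.Fpf.q8act_apply]
          have : χ' t (CfsgLib.Perm.Fpf.q8rep i) =
              eT ⟨t, ht⟩ * CfsgLib.Perm.Fpf.q8rep i * (eT ⟨t, ht⟩)⁻¹ := by
            obtain ⟨s, hs'⟩ := eT.surjective (CfsgLib.Perm.Fpf.q8rep i)
            rw [← hs', ← map_inv, ← map_mul, ← map_mul]
            show eT (χR t (eT.symm (eT s))) = _
            rw [eT.symm_apply_apply]
            exact congrArg eT (Subtype.ext rfl)
          rw [this, CfsgLib.Perm.Fpf.q8cls_conj]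
        have h8 := Subgroup.card_dvd_of_le hRk
        rw [Nat.card_congr eT.toEquiv, Nat.card_eq_fintype_card, QuaternionGroup.card] at h8
        exact (mul_dvd_mul_right h8 6 : 4 * 2 * 6 ∣ _)
      have hXG : Nat.card X ∣ Nat.card G := Subgroup.card_quotient_dvd_card O
      have h16 : 16 ∣ k := by
        obtain ⟨c, hc⟩ := IsPGroup.iff_card.1 hCpg
        have h1 : 16 ∣ Nat.card C * k := hGC ▸ ((by norm_num : 16 ∣ 48).trans (h48.trans hXG))
        rw [hc] at h1
        exact (Nat.Coprime.pow_right c (by norm_num : Nat.Coprime 16 3)).dvd_of_dvd_mul_left h1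
      -- the quaternion generators acting on `N`
      let gi : X := ((eT.symm (QuaternionGroup.a 1) : R) : X)
      let gj : X := ((eT.symm (QuaternionGroup.xa 0) : R) : X)
      let gk : X := gi * gj
      let gz : X := ((eT.symm (QuaternionGroup.a 2) : R) : X)
      have hjj : gj * gj = gz := congrArg Subtype.val ((map_mul eT.symm _ _).symm.trans (congrArg eT.symm (by decide)))
      have hrel' : ∀ u v : QuaternionGroup 2, u = v → ((eT.symm u : R) : X) = (eT.symm v : R) :=
        fun u v h => by rw [h]
      have hkk : gk * gk = gz := by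
        simp only [gk, gi, gj, gz, ← Subgroup.coe_mul, ← map_mul]
        exact hrel' _ _ (by decide)
      have hjk : gj * gk = gi := by
        simp only [gk, gi, gj, gz, ← Subgroup.coe_mul, ← map_mul]
        exact hrel' _ _ (by decide)
      have hkj : gk * gj = gz * gi := by
        simp only [gk, gi, gj, gz, ← Subgroup.coe_mul, ← map_mul]
        exact hrel' _ _ (by decide)
      have hik : gi * gk = gz * gj := by
        simp only [gk, gi, gj, gz, ← Subgroup.coe_mul, ← map_mul]
        exact hrel' _ _ (by decide)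
      have hji : gj * gi = gz * gk := by
        simp only [gk, gi, gj, gz, ← Subgroup.coe_mul, ← map_mul]
        exact hrel' _ _ (by decide)
      have hki : gk * gi = gj := by
        simp only [gk, gi, gj, gz, ← Subgroup.coe_mul, ← map_mul]
        exact hrel' _ _ (by decide)
      have hgz1 : gz ≠ 1 := fun h => by
        have h1 : eT.symm (QuaternionGroup.a 2) = 1 := Subtype.ext h
        rw [EmbeddingLike.map_eq_one_iff] at h1
        exact absurd h1 (by decide)
      have hgz2 : gz * gz = 1 := by
        simp only [gz, ← Subgroup.coe_mul, ← map_mul]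
        rw [hrel' _ 1 (by decide), map_one, OneMemClass.coe_one]
      have hsw : ∀ a b : N', a * b = b * a := hcomm.comm
      have hz : ∀ v : N', ρ gz v = v⁻¹ := by
        intro v
        refine eq_inv_of_mul_eq_one_right (hfpf gz (eT.symm _).2 hgz1 (v * ρ gz v) ?_)
        rw [map_mul, ← MulAut.mul_apply, ← map_mul, hgz2, map_one, MulAut.one_apply, hsw]
      have hzg : ∀ (g : X) (v : N'), ρ (gz * g) v = (ρ g v)⁻¹ := fun g v => by
        rw [map_mul, MulAut.mul_apply, hz]
      have hcomp : ∀ (g h : X) (v : N'), ρ g (ρ h v) = ρ (g * h) v := fun g h v => by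
        rw [map_mul, MulAut.mul_apply]
      letI : CommGroup N' := { (inferInstance : Group N') with mul_comm := hsw }
      let t : N' → N' := fun v => ρ gj v * ρ gk v
      have htmul : ∀ a b, t (a * b) = t a * t b := fun a b => by
        simp only [t, map_mul]; exact mul_mul_mul_comm _ _ _ _
      have htinv : ∀ a, t a⁻¹ = (t a)⁻¹ := fun a => by simp only [t, map_inv]; rw [mul_inv]
      have hv3 : ∀ v : N', v * v * v = 1 := fun v => Subtype.ext (by
        show (v : G) * v * v = 1
        rw [← pow_two, ← pow_succ]; exact hexp v v.2)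
      have htt : ∀ v, t (t v) = v := by
        intro v
        show ρ gj (ρ gj v * ρ gk v) * ρ gk (ρ gj v * ρ gk v) = v
        rw [map_mul (ρ gj), map_mul (ρ gk), hcomp, hcomp, hcomp, hcomp, hjj, hjk, hkj, hkk, hzg, hz]
        calc v⁻¹ * ρ gi v * ((ρ gi v)⁻¹ * v⁻¹) = v⁻¹ * v⁻¹ := by rw [mul_assoc, mul_inv_cancel_left]
          _ = v := by rw [← mul_inv, inv_eq_iff_mul_eq_one, hv3]
      have hit : ∀ v, t (ρ gi v) = (ρ gi (t v))⁻¹ := by
        intro v
        show ρ gj (ρ gi v) * ρ gk (ρ gi v) = (ρ gi (ρ gj v * ρ gk v))⁻¹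
        rw [map_mul (ρ gi), hcomp, hcomp, hcomp, hcomp, show gi * gj = gk from rfl, hji, hki, hik, hzg, hzg,
          mul_inv, inv_inv]
      let U : Subgroup N' :=
        { carrier := {v | t v = v}
          one_mem' := by show t 1 = 1; simp [t]
          mul_mem' := fun {a b} ha hb => by show t (a * b) = a * b; rw [htmul, ha, hb]
          inv_mem' := fun {a} ha => by show t a⁻¹ = a⁻¹; rw [htinv, ha] }
      let Φ : U × U → N' := fun w => (w.1 : N') * ρ gi (w.2 : N')
      have hgi : ∀ v, ρ gi (ρ gi v) = v⁻¹ := fun v => by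
        rw [hcomp, show gi * gi = gz from ?_, hz]
        simp only [gk, gi, gj, gz, ← Subgroup.coe_mul, ← map_mul]
        exact hrel' _ _ (by decide)
      have hΦ : Function.Bijective Φ := by
        constructor
        · rintro ⟨a, b⟩ ⟨a', b'⟩ h
          have ha : t ((a : N') * (a' : N')⁻¹) = (a : N') * (a' : N')⁻¹ := U.mul_mem a.2 (U.inv_mem a'.2)
          have e1 : (a : N') * (a' : N')⁻¹ = ρ gi ((b' : N') * (b : N')⁻¹) := by
            rw [map_mul, map_inv, mul_inv_eq_iff_eq_mul, hsw _ (a' : N'), ← mul_assoc, eq_mul_inv_iff_mul_eq]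
            exact h
          have hb : t ((b' : N') * (b : N')⁻¹) = (b' : N') * (b : N')⁻¹ := U.mul_mem b'.2 (U.inv_mem b.2)
          have e2 : (a : N') * (a' : N')⁻¹ = ((a : N') * (a' : N')⁻¹)⁻¹ := by
            conv_lhs => rw [← ha, e1, hit, hb, ← e1]
          have e3 : (a : N') * (a' : N')⁻¹ = 1 := by
            have := hv3 ((a : N') * (a' : N')⁻¹)
            rw [eq_inv_iff_mul_eq_one.1 e2, one_mul] at this
            exact this
          have e4 : (b' : N') * (b : N')⁻¹ = 1 := (ρ gi).injective (by rw [← e1, e3, map_one])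
          exact Prod.ext (Subtype.ext (mul_inv_eq_one.1 e3)) (Subtype.ext (mul_inv_eq_one.1 e4).symm)
        · intro v
          have ha : t (v * t v)⁻¹ = (v * t v)⁻¹ := by rw [htinv, htmul, htt, mul_comm]
          have hb0 : t (v⁻¹ * t v) = (v⁻¹ * t v)⁻¹ := by
            rw [htmul, htinv, htt]
            generalize t v = w
            rw [mul_inv, inv_inv, mul_comm]
          have hb : t (ρ gi (v⁻¹ * t v))⁻¹ = (ρ gi (v⁻¹ * t v))⁻¹ := by
            rw [htinv, hit, hb0, map_inv, inv_inv]
          refine ⟨(⟨(v * t v)⁻¹, ha⟩, ⟨(ρ gi (v⁻¹ * t v))⁻¹, hb⟩), ?_⟩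
          show (v * t v)⁻¹ * ρ gi ((ρ gi (v⁻¹ * t v))⁻¹) = v
          rw [map_inv, hgi, inv_inv, mul_inv, mul_assoc, ← mul_assoc (t v)⁻¹, mul_comm (t v)⁻¹ v⁻¹,
            mul_assoc, inv_mul_cancel, mul_one, ← mul_inv, inv_eq_iff_mul_eq_one, hv3]
      have hU2 : Nat.card U * Nat.card U = Nat.card N' := by
        rw [← Nat.card_prod]; exact Nat.card_congr (Equiv.ofBijective Φ hΦ)
      obtain ⟨l, hl⟩ := IsPGroup.iff_card.1 (hNp.to_subgroup U)
      -- odd primes
      have hodd : ∀ q : ℕ, q.Prime → q ≠ 2 → q ∣ k → q ∣ Nat.card U - 1 := by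
        intro q hq hq2 hqk
        haveI := Fact.mk hq
        have hq3 : q ≠ 3 := by
          rintro rfl
          rw [hk, hn] at hqk
          have h1 := Nat.dvd_sub (dvd_pow_self 3 hn0) hqk
          rw [Nat.sub_sub_self (Nat.one_le_pow _ _ (by norm_num))] at h1
          exact absurd (Nat.le_of_dvd one_pos h1) (by norm_num)
        have hqX : q ∣ Nat.card X := by
          have h1 : q ∣ Nat.card G := hGC ▸ hqk.mul_left _
          rw [Subgroup.card_eq_card_quotient_mul_card_subgroup O] at h1
          refine (hq.dvd_mul.1 h1).resolve_right fun h => hq3 ?_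
          obtain ⟨i, hi⟩ := IsPGroup.iff_card.1 (CfsgLib.Solv.pCore_isPGroup G 3)
          rw [hO, hi] at h
          exact (Nat.prime_dvd_prime_iff_eq hq hp).1 (hq.dvd_of_dvd_pow h)
        obtain ⟨y, hy⟩ := exists_prime_orderOf_dvd_card' (G := X) q hqX
        have hyφ : φ y = 1 := by
          have h1 := orderOf_dvd_natCard (φ y)
          rw [Nat.card_perm, Nat.card_fin] at h1
          refine orderOf_eq_one_iff.1 (Nat.eq_one_of_dvd_coprimes ?_ h1 (hy ▸ orderOf_map_dvd φ y))
          refine Nat.Coprime.symm ((hq.coprime_iff_not_dvd).2 fun h => ?_)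
          have := Nat.le_of_dvd (by norm_num) h
          interval_cases q <;> revert hq h hq2 hq3 <;> decide
        have hyc := htriv y (hy ▸ hq.odd_of_ne_two hq2) hyφ
        have hyg : ∀ b : R, y * (b : X) = (b : X) * y := fun b =>
          mul_inv_eq_iff_eq_mul.1 (congrArg Subtype.val (DFunLike.congr_fun hyc b))
        have hyU : ∀ v ∈ U, ρ y v ∈ U := by
          intro v hv
          show t (ρ y v) = ρ y v
          have hyk : y * gk = gk * y := hyg (eT.symm _ * eT.symm _)
          have hyj : y * gj = gj * y := hyg _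
          show ρ gj (ρ y v) * ρ gk (ρ y v) = ρ y v
          rw [hcomp, hcomp, ← hyj, ← hyk, ← hcomp, ← hcomp, ← map_mul]
          exact congrArg _ hv
        letI : MulAction (Subgroup.zpowers y) U :=
          { smul := fun z u => ⟨ρ (z : X) u, by
              have hstab : ∀ z ∈ Subgroup.zpowers y, ∀ v ∈ U, ρ z v ∈ U := by
                intro z hz
                obtain ⟨i, rfl⟩ := (Subgroup.mem_zpowers_iff).1 hz
                obtain ⟨i', hi'⟩ : ∃ i' : ℕ, y ^ i = y ^ i' := by
                  have := mem_powers_iff_mem_zpowers.2 (Subgroup.zpow_mem_zpowers y i)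
                  obtain ⟨i', hi'⟩ := this
                  exact ⟨i', hi'.symm⟩
                rw [hi']
                clear hi'
                induction i' with
                | zero => intro v hv; simpa using hv
                | succ i' ih => intro v hv; rw [pow_succ', ← hcomp]; exact hyU _ (ih v hv)
              exact hstab z z.2 u u.2⟩
            one_smul := fun u => Subtype.ext (by show ρ (1 : X) (u : N') = u; simp)
            mul_smul := fun a b u => Subtype.ext (by
              show ρ ((a : X) * b) (u : N') = ρ (a : X) (ρ (b : X) u); rw [hcomp]) }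
        have hzp : IsPGroup q (Subgroup.zpowers y) := IsPGroup.of_card (n := 1) (by
          rw [Nat.card_zpowers, hy, pow_one])
        have h1 := hzp.card_modEq_card_fixedPoints U
        have h2 : Nat.card (MulAction.fixedPoints (Subgroup.zpowers y) U) = 1 := by
          rw [Nat.card_eq_one_iff_unique]
          refine ⟨⟨fun a b => ?_⟩, ⟨⟨1, fun z => Subtype.ext (by show ρ (z : X) 1 = 1; simp)⟩⟩⟩
          have key : ∀ u : MulAction.fixedPoints (Subgroup.zpowers y) U, ((u : U) : N') = 1 := by
            intro u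
            by_contra hu
            have h3 : ρ y ((u : U) : N') = ((u : U) : N') :=
              congrArg Subtype.val (u.2 ⟨y, Subgroup.mem_zpowers y⟩)
            obtain ⟨i, hi⟩ := hfix y _ hu h3
            rw [hy] at hi
            exact hq3 ((Nat.prime_dvd_prime_iff_eq hq hp).1 (hq.dvd_of_dvd_pow hi))
          exact Subtype.ext (Subtype.ext ((key a).trans (key b).symm))
        rw [h2] at h1
        exact (Nat.modEq_iff_dvd' Nat.card_pos).1 h1.symm
      -- arithmetic
      rw [hl] at hU2 hodd
      set u := 3 ^ l with hu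
      have hu1 : 1 ≤ u := Nat.one_le_pow _ _ (by norm_num)
      have hku : k + 1 = u * u := by rw [hU2]; omega
      have hu' : ∀ q : ℕ, q.Prime → q ∣ u + 1 → q = 2 := by
        intro q hq hqu
        by_contra hq2
        have h1 : q ∣ k := by
          have : k = (u + 1) * (u - 1) := by
            obtain ⟨w, hw⟩ : ∃ w, u = w + 1 := ⟨u - 1, by omega⟩
            rw [hw] at hku ⊢
            rw [Nat.add_sub_cancel]
            have : (w + 1) * (w + 1) = (w + 1 + 1) * w + 1 := by ring
            omega
          rw [this]; exact hqu.mul_right _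
        have h2 := Nat.dvd_sub hqu (hodd q hq hq2 h1)
        rw [show u + 1 - (u - 1) = 2 by omega] at h2
        exact hq2 ((Nat.prime_dvd_prime_iff_eq hq Nat.prime_two).1 h2)
      have hj := Nat.eq_prime_pow_of_unique_prime_dvd (p := 2) (by omega : u + 1 ≠ 0) (fun hd' hdd => hu' _ hd' hdd)
      have hl0 : l ≠ 0 := fun h => by
        rw [hu, h] at hku; omega
      have hu3 : 3 ≤ u := by rw [hu]; exact Nat.le_self_pow hl0 3
      have hk16 : k % 16 = 0 := Nat.dvd_iff_mod_eq_zero.1 h16
      have h81 : u % 16 = 1 ∨ u % 16 = 3 ∨ u % 16 = 9 ∨ u % 16 = 11 := by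
        rw [hu]; clear * - l
        induction l with
        | zero => left; rfl
        | succ l ih => rw [pow_succ, Nat.mul_mod]; rcases ih with h | h | h | h <;> rw [h] <;> decide
      generalize (u + 1).primeFactorsList.length = J at hj
      have hJ2 : 2 ≤ J := by
        by_contra h
        have : (2 : ℕ) ^ J ≤ 2 ^ 1 := Nat.pow_le_pow_right two_pos (by omega)
        omega
      have h4 : 4 ∣ u + 1 := hj ▸ pow_dvd_pow 2 hJ2
      have hmm : (u * u) % 16 = ((u % 16) * (u % 16)) % 16 := Nat.mul_mod u u 16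
      rcases h81 with h | h | h | h <;> rw [h] at hmm <;> omega
  -- elements of `p`-power order in the commutator subgroup
  have hcp : ¬ p ∣ Nat.card (commutator X) := by
    intro hd'
    obtain ⟨x, hx⟩ := exists_prime_orderOf_dvd_card' (G := commutator X) p hd'
    rw [← Subgroup.orderOf_coe] at hx
    haveI := CfsgLib.Solv.fittingSubgroup_normal X
    have hxF : (x : X) ∈ fittingSubgroup X := by
      refine CfsgLib.Solv.centralizer_fittingSubgroup_le ?_
      have hle : fittingSubgroup X ≤ Subgroup.centralizer ({(x : X)} : Set X) := by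
        rw [CfsgLib.Solv.fittingSubgroup_eq_iSup_pCore]
        refine iSup_le fun r => ?_
        by_cases hrp : (r : ℕ) = p
        · rw [hrp, hOX]; exact bot_le
        · intro a ha
          exact Subgroup.mem_centralizer_singleton_iff.2
            (mul_inv_eq_iff_eq_mul.1 (hkey r r.2 hrp x x.2 ⟨1, by rw [hx, pow_one]⟩ a ha)).symm
      exact Subgroup.mem_centralizer_iff.2 fun a ha => Subgroup.mem_centralizer_singleton_iff.1 (hle ha)
    haveI := CfsgLib.Solv.fittingSubgroup_isNilpotent (G := X)
    obtain ⟨S⟩ : Nonempty (Sylow p (fittingSubgroup X)) := inferInstance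
    have hSd : p ∣ Nat.card (fittingSubgroup X) := hx ▸ Subgroup.orderOf_dvd_natCard _ hxF
    have hSn : (S : Subgroup (fittingSubgroup X)).Normal := inferInstance
    haveI := Sylow.characteristic_of_normal S hSn
    haveI hSX : ((S : Subgroup (fittingSubgroup X)).map (fittingSubgroup X).subtype).Normal :=
      ConjAct.normal_of_characteristic_of_normal
    have h1 := CfsgLib.Solv.le_pCore (p := p) (S.2.map (fittingSubgroup X).subtype)
    rw [hOX, le_bot_iff, Subgroup.map_eq_bot_iff_of_injective _ (Subgroup.subtype_injective _)] at h1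
    exact S.ne_bot_of_dvd_card hSd h1
  refine ⟨p, hp, fun q hq => ⟨fun h => ?_, ?_⟩, ?_, fun Q => ?_⟩
  · by_contra hqp
    haveI := Fact.mk hq
    haveI : (pCore q G).Normal := CfsgLib.Solv.pCore_normal G q
    obtain ⟨i, hi⟩ := IsPGroup.iff_card.1 (CfsgLib.Solv.pCore_isPGroup G q)
    have h1 := Subgroup.card_dvd_of_le (hmin _ inferInstance h)
    rw [hi, hn] at h1
    exact hqp ((Nat.prime_dvd_prime_iff_eq hp hq).1
      (hp.dvd_of_dvd_pow ((dvd_pow_self p hn0).trans h1))).symm
  · rintro rfl h
    exact hN1 (le_bot_iff.1 (h ▸ hNO))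
  · obtain ⟨P⟩ : Nonempty (Sylow p X) := inferInstance
    set a := (Nat.card X).factorization p with ha
    set m := Nat.card X / p ^ a with hm
    have hsplit : p ^ a * m = Nat.card X := Nat.ordProj_mul_ordCompl_eq_self _ _
    have hmp : ¬ p ∣ m := Nat.not_dvd_ordCompl hp Nat.card_pos.ne'
    let f : X →* Abelianization X := (powMonoidHom m).comp Abelianization.of
    have hW : ¬ p ∣ Nat.card f.ker := by
      intro hd'
      obtain ⟨x, hx⟩ := exists_prime_orderOf_dvd_card' (G := f.ker) p hd'
      rw [← Subgroup.orderOf_coe] at hx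
      have h1 : Abelianization.of (x : X) ^ m = 1 := x.2
      have h2 : Abelianization.of (x : X) ^ p = 1 := by
        rw [← map_pow, ← hx, pow_orderOf_eq_one, map_one]
      have h3 : Abelianization.of (x : X) = 1 := orderOf_eq_one_iff.1 (Nat.eq_one_of_dvd_coprimes
        (Nat.Coprime.symm ((hp.coprime_iff_not_dvd).2 hmp)) (orderOf_dvd_of_pow_eq_one h1)
        (orderOf_dvd_of_pow_eq_one h2))
      exact hcp (hx ▸ Subgroup.orderOf_dvd_natCard _ ((QuotientGroup.eq_one_iff _).1 h3))
    have hidx : IsPGroup p f.range := by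
      rintro ⟨_, x, rfl⟩
      refine ⟨a, Subtype.ext ?_⟩
      show (Abelianization.of x ^ m) ^ p ^ a = 1
      rw [← pow_mul, mul_comm, hsplit, ← map_pow, pow_card_eq_one', map_one]
    obtain ⟨b, hb⟩ := IsPGroup.iff_card.1 hidx
    have hcard : Nat.card f.ker * p ^ b = p ^ a * m := by
      rw [hsplit, ← Subgroup.card_mul_index f.ker, Subgroup.index_ker, hb]
    have hba : b = a := by
      have e1 : (Nat.card f.ker * p ^ b).factorization p = (p ^ a * m).factorization p :=
        congrArg (fun j : ℕ => j.factorization p) hcard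
      rw [Nat.factorization_mul Nat.card_pos.ne' (pow_ne_zero _ hp.ne_zero), hsplit, Finsupp.add_apply,
        Nat.factorization_eq_zero_of_not_dvd hW, hp.factorization_pow, zero_add, Finsupp.single_eq_same] at e1
      exact e1
    refine ⟨P, f.ker, inferInstance, Subgroup.isComplement'_of_coprime ?_ ?_⟩
    · rw [P.card_eq_multiplicity, ← ha, ← hba, hb.symm, ← Subgroup.index_ker, Subgroup.card_mul_index]
    · rw [P.card_eq_multiplicity]
      exact Nat.Coprime.pow_right _ ((hp.coprime_iff_not_dvd).2 hW).symm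
  · refine ⟨⟨fun u v => ?_⟩⟩
    obtain ⟨i, hi⟩ := IsPGroup.iff_orderOf.1 Q.2 ⁅u, v⁆
    refine commutatorElement_eq_one_iff_mul_comm.1 ?_
    by_contra hne
    refine hcp (dvd_trans ?_ (Subgroup.orderOf_dvd_natCard (commutator X)
      (Subgroup.commutator_mem_commutator (Subgroup.mem_top (u : X)) (Subgroup.mem_top (v : X)))))
    rw [show ⁅(u : X), (v : X)⁆ = ((⁅u, v⁆ : (Q : Subgroup X)) : X) from
      (map_commutatorElement (Q : Subgroup X).subtype u v).symm, Subgroup.orderOf_coe, hi]
    exact dvd_pow_self p (fun e => hne (orderOf_eq_one_iff.1 (by rw [hi, e, pow_zero])))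

end Cfsg.Agent.S4840
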