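import Cfsg.Statements.S4845
import Cfsg.Agent.Blk.Inflate
import Cfsg.Agent.Char.Extraspecial
import Cfsg.Agent.Char.SmallPGroup
import Cfsg.Agent.Char.IrrProduct
import Cfsg.Agent.Char.GaloisTwist
import Cfsg.Agent.Char.Monomial

set_option autoImplicit false
open Cfsg

namespace Cfsg.Agent.S4845

section aux

open CfsgLib.Char Subgroup
open scoped commutatorElement

universe u

variable {G : Type u} [Group G] {p : ℕ}

/-- Galois-conjugacy hypothesis -/
abbrev GC (G : Type u) [Group G] : Prop :=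
  ∀ χ ψ : IrrCharacter G, charDegree (χ : G → ℂ) ≠ 1 →
    charDegree (χ : G → ℂ) = charDegree (ψ : G → ℂ) →
    ∃ k : ℕ, Nat.Coprime k (Nat.card G) ∧ ∀ g : G, (ψ : G → ℂ) g = (χ : G → ℂ) (g ^ k)

theorem same_kernel [Finite G] (h : GC G) {χ ψ : IrrCharacter G}
    (h1 : charDegree (χ : G → ℂ) ≠ 1) (he : charDegree (χ : G → ℂ) = charDegree (ψ : G → ℂ))
    {g : G} (hg : (χ : G → ℂ) g = (χ : G → ℂ) 1) : (ψ : G → ℂ) g = (ψ : G → ℂ) 1 := by
  obtain ⟨k, -, hk⟩ := h χ ψ h1 he
  obtain ⟨K, -, hK, -⟩ := exists_kernel (isCharacter_of_isIrr χ.2)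
  rw [hk, hk, one_pow]
  exact (hK _).1 (K.pow_mem ((hK g).2 hg) k)

theorem gc_quot [Finite G] (h : GC G) (N : Subgroup G) [N.Normal] : GC (G ⧸ N) := by
  intro χ ψ h1 he
  obtain ⟨k, hk, hkg⟩ := h (CfsgLib.Blk.infl N χ) (CfsgLib.Blk.infl N ψ) h1 he
  refine ⟨k, Nat.Coprime.coprime_dvd_right ⟨_, N.card_eq_card_quotient_mul_card_subgroup⟩ hk,
    fun g => ?_⟩
  obtain ⟨g, rfl⟩ := QuotientGroup.mk_surjective g
  exact hkg g

theorem linear_comm [Finite G] {χ : G → ℂ} (hχ : IsIrrCharacter G χ) (h1 : χ 1 = 1) {g : G}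
    (hg : g ∈ commutator G) : χ g = 1 := by
  obtain ⟨μ, rfl⟩ := exists_hom_of_degree_one (isCharacter_of_isIrr hχ) h1
  show (μ g : ℂ) = 1
  rw [MonoidHom.mem_ker.1 (Abelianization.commutator_subset_ker μ hg), Units.val_one]

theorem exists_not_kernel [Finite G] {g : G} (hg : g ≠ 1) :
    ∃ χ : IrrCharacter G, (χ : G → ℂ) g ≠ (χ : G → ℂ) 1 := by
  haveI := Fintype.ofFinite G
  by_contra! h
  exact hg (isConj_one_right.1 ((isConj_iff_irr 1 g).2 fun χ => (h χ).symm))

theorem linear_of_comm_kernel [Finite G] {χ : G → ℂ} (hχ : IsIrrCharacter G χ)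
    (hker : ∀ z ∈ commutator G, χ z = χ 1) : χ 1 = 1 := by
  haveI := Fintype.ofFinite G
  haveI := Fintype.ofFinite (G ⧸ commutator G)
  obtain ⟨χ', hχ', hcomp⟩ := irr_descend (QuotientGroup.mk' (commutator G))
    (QuotientGroup.mk'_surjective _) hχ fun k hk => hker k ((QuotientGroup.eq_one_iff k).1 hk)
  rw [← hcomp, Function.comp_apply, map_one]
  refine irr_degree_one_of_comm (fun a b => ?_) hχ'
  exact mul_comm (G := Abelianization G) a b

theorem exists_nonlinear [Finite G] (hne : commutator G ≠ ⊥) :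
    ∃ χ : IrrCharacter G, charDegree (χ : G → ℂ) ≠ 1 := by
  obtain ⟨⟨g, hg⟩, hx⟩ := (commutator G).ne_bot_iff_exists_ne_one.1 hne
  have hg1 : g ≠ 1 := fun e => hx (Subtype.ext e)
  obtain ⟨χ, hχ⟩ := exists_not_kernel hg1
  refine ⟨χ, fun h1 => hχ ?_⟩
  have h : (χ : G → ℂ) 1 = 1 := by rw [irr_one_eq χ.2, h1, Nat.cast_one]
  rw [linear_comm χ.2 h hg, h]

theorem comm_pow_left [Finite G] {a h : G} (hc : ⁅a, h⁆ ∈ center G) (n : ℕ) :
    ⁅a ^ n, h⁆ = ⁅a, h⁆ ^ n := by
  haveI := Fintype.ofFinite G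
  induction n with
  | zero => simp
  | succ n ih => rw [pow_succ, commutatorElement_mul_left_central hc, ih, pow_succ]

theorem comm_eq_one {a b : G} : ⁅a, b⁆ = 1 ↔ a * b = b * a :=
  commutatorElement_eq_one_iff_mul_comm

theorem comm_mem (a b : G) : ⁅a, b⁆ ∈ commutator G := by
  rw [commutator_def]; exact commutator_mem_commutator (mem_top a) (mem_top b)

theorem central_pow_ne [Finite G] [Fact p.Prime] {c : G} (h : Subgroup.zpowers c = commutator G)
    (hcard : Nat.card (commutator G) = p) : c ≠ 1 := by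
  rintro rfl
  rw [← h, Nat.card_zpowers, orderOf_one] at hcard
  exact (Fact.out : p.Prime).ne_one hcard.symm

theorem prime_sub_le [Fact p.Prime] {L : Subgroup G} (hL : Nat.card L = p) {c : G} (hc : c ∈ L)
    (hc1 : c ≠ 1) : L = Subgroup.zpowers c := by
  haveI : Finite L := Nat.finite_of_card_ne_zero (by rw [hL]; exact (Fact.out : p.Prime).ne_zero)
  refine (Subgroup.eq_of_le_of_card_ge (zpowers_le.2 hc) ?_).symm
  rw [hL, Nat.card_zpowers]
  have := Subgroup.orderOf_dvd_natCard _ hc
  rw [hL] at this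
  rcases (Nat.dvd_prime Fact.out).1 this with h | h
  · exact absurd (orderOf_eq_one_iff.1 h) hc1
  · exact h.ge

section small
variable [Finite G] [Fact p.Prime] (hG : IsPGroup p G) (hc : Nat.card (commutator G) = p)
include hG hc

theorem comm_central : commutator G ≤ center G := CfsgLib.SmallP.le_center_of_card_prime hG _ hc

theorem vanish {χ : G → ℂ} (hχ : IsIrrCharacter G χ) (hnl : χ 1 ≠ 1) {x : G}
    (hx : x ∉ center G) : χ x = 0 := by
  haveI := Fintype.ofFinite G
  obtain ⟨g, hg⟩ : ∃ g, g * x ≠ x * g := by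
    by_contra! h
    exact hx (mem_center_iff.2 h)
  have hcm := comm_central hG hc (comm_mem g x)
  have hc1 : ⁅g, x⁆ ≠ 1 := fun e => hg (comm_eq_one.1 e)
  obtain ⟨ω, hω, hω1⟩ := exists_central_scalar hχ hcm
  by_contra h0
  have h1 : χ x = ω * χ x := by
    rw [← hω x, mem_center_iff.1 hcm x,
      show ⁅g, x⁆ * x = g * x * g⁻¹ by rw [commutatorElement_def]; group]
    exact (classFun_of_irr hχ x g).symm
  have hω' : χ ⁅g, x⁆ = χ 1 := by rw [hω1, (mul_eq_right₀ h0).1 h1.symm, one_mul]
  obtain ⟨K, -, hK, -⟩ := exists_kernel (isCharacter_of_isIrr hχ)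
  refine hnl (linear_of_comm_kernel hχ fun z hz => (hK z).1 ?_)
  rw [prime_sub_le hc (comm_mem g x) hc1] at hz
  exact zpowers_le.2 ((hK _).2 hω') hz

theorem deg_sq {χ : G → ℂ} (hχ : IsIrrCharacter G χ) (hnl : χ 1 ≠ 1) :
    charDegree χ ^ 2 = (center G).index := by
  classical
  haveI := Fintype.ofFinite G
  have h := irr_inner_self hχ
  have hd := irr_one_eq hχ
  rw [classInner_def, inv_mul_eq_iff_eq_mul₀ (natCard_ne_zero G), mul_one,
    sum_subgroup (center G) _ (fun x hx => by rw [vanish hG hc hχ hnl hx, zero_mul]),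
    Finset.sum_congr rfl (g := fun _ => (charDegree χ : ℂ) * (charDegree χ : ℂ)) (fun z _ => ?_),
    Finset.sum_const, nsmul_eq_mul, Finset.card_univ, Fintype.card_eq_nat_card] at h
  · have h2 : Nat.card (center G) * (charDegree χ * charDegree χ) = Nat.card G := by
      exact_mod_cast h
    rw [← card_mul_index (center G)] at h2
    rw [sq]
    exact Nat.eq_of_mul_eq_mul_left Nat.card_pos h2
  · obtain ⟨ω, hω, hω1⟩ := exists_central_scalar hχ z.2
    have hp : ∀ n : ℕ, χ ((z : G) ^ n) = ω ^ n * χ 1 := by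
      intro n
      induction n with
      | zero => simp
      | succ n ih => rw [pow_succ, hω, ih, pow_succ]; ring
    have hr : ω ^ orderOf (z : G) = 1 := by
      have := hp (orderOf (z : G))
      rw [pow_orderOf_eq_one] at this
      exact mul_right_cancel₀ (irr_one_ne_zero hχ) (this.symm.trans (one_mul _).symm)
    have hn : ω * (starRingEnd ℂ) ω = 1 := by
      rw [Complex.mul_conj', norm_root (orderOf_pos _).ne' hr]; simp
    rw [hω1, map_mul, hd, map_natCast]
    linear_combination ((charDegree χ : ℂ) * (charDegree χ : ℂ)) * hn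

theorem deg_eq {χ ψ : IrrCharacter G} (h1 : charDegree (χ : G → ℂ) ≠ 1)
    (h2 : charDegree (ψ : G → ℂ) ≠ 1) : charDegree (χ : G → ℂ) = charDegree (ψ : G → ℂ) := by
  have e : ∀ θ : IrrCharacter G, charDegree (θ : G → ℂ) ≠ 1 →
      charDegree (θ : G → ℂ) ^ 2 = (center G).index := fun θ h =>
    deg_sq hG hc θ.2 fun e => h (charDegree_eq (n := 1) (by rw [e, Nat.cast_one]))
  exact Nat.pow_left_injective (by norm_num) ((e χ h1).trans (e ψ h2).symm)

theorem center_cyclic (h : GC G) : IsCyclic (center G) := by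
  haveI := Fintype.ofFinite G
  obtain ⟨χ, hχ⟩ := exists_nonlinear (G := G) fun e => by
    rw [e, card_bot] at hc
    exact (Fact.out : p.Prime).ne_one hc.symm
  have hf : ∀ g : G, (χ : G → ℂ) g = (χ : G → ℂ) 1 → g = 1 := by
    intro g hg
    by_contra hg1
    obtain ⟨ψ, hψ⟩ := exists_not_kernel hg1
    apply hψ
    by_cases hl : charDegree (ψ : G → ℂ) = 1
    · have hl1 : (ψ : G → ℂ) 1 = 1 := by rw [irr_one_eq ψ.2, hl, Nat.cast_one]
      obtain ⟨μ, hμ⟩ := exists_hom_of_degree_one (isCharacter_of_isIrr ψ.2) hl1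
      let θ : IrrCharacter G := ⟨_, irr_mul_linear χ.2 μ⟩
      have hθ1 : (θ : G → ℂ) 1 = (χ : G → ℂ) 1 := by simp [θ]
      have hθd : charDegree (θ : G → ℂ) = charDegree (χ : G → ℂ) :=
        charDegree_eq (by rw [hθ1, irr_one_eq χ.2])
      have := same_kernel h hχ hθd.symm hg
      rw [hθ1] at this
      simp only [θ, hg] at this
      rw [hl1, hμ]
      exact (mul_eq_left₀ (irr_one_ne_zero χ.2)).1 this
    · exact same_kernel h hχ (deg_eq hG hc hχ hl) hg
  obtain ⟨ω, hω, -, -⟩ := exists_center_linear χ.2 hf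
  exact isCyclic_of_subgroup_isDomain ((Units.coeHom ℂ).comp ω) (Units.val_injective.comp hω)

end small

theorem degree_le_index [Finite G] {χ : G → ℂ} (hχ : IsIrrCharacter G χ) (A : Subgroup G)
    (hA : ∀ a b : A, a * b = b * a) : charDegree χ ≤ A.index := by
  classical
  haveI := Fintype.ofFinite G
  set r : A → ℂ := fun a => χ a with hr
  have hrc : IsCharacter A r := isCharacter_restrict A (isCharacter_of_isIrr hχ)
  choose n hn using fun ψ : IrrCharacter A => inner_char_irr hrc ψ.2
  have hsum := classFun_eq_sum (classFun_of_char hrc)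
  have h1 : (charDegree χ : ℂ) = ∑ ψ, (n ψ : ℂ) := by
    rw [← irr_one_eq hχ, show χ 1 = r 1 by simp [hr], congrFun hsum 1, Finset.sum_apply]
    exact Finset.sum_congr rfl fun ψ _ => by
      simp [hn, irr_degree_one_of_comm hA ψ.2]
  have h2 : classInner r r = ∑ ψ, (n ψ : ℂ) * (n ψ : ℂ) := by
    conv_lhs => arg 2; rw [hsum]
    rw [classInner_sum_right]
    exact Finset.sum_congr rfl fun ψ _ => by rw [classInner_smul_right, hn]; simp
  have h3 : (Nat.card G : ℝ)⁻¹ * ∑ g : G, ‖χ g‖ ^ 2 = 1 := by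
    rw [← classInner_self_re, irr_inner_self hχ]; simp
  have h4 : ((∑ ψ, n ψ * n ψ : ℕ) : ℝ) = (Nat.card A : ℝ)⁻¹ * ∑ a : A, ‖r a‖ ^ 2 := by
    rw [← classInner_self_re, h2]; simp
  have h5 : ∑ a : A, ‖r a‖ ^ 2 ≤ ∑ g : G, ‖χ g‖ ^ 2 := by
    rw [← Finset.sum_image (f := fun g : G => ‖χ g‖ ^ 2) (g := fun a : A => (a : G))
      (Subtype.val_injective.injOn)]
    exact Finset.sum_le_sum_of_subset_of_nonneg (Finset.subset_univ _) fun _ _ _ => by positivity
  rw [inv_mul_eq_iff_eq_mul₀ (by exact_mod_cast Nat.card_pos.ne'), mul_one] at h3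
  have h6 : (∑ ψ, n ψ * n ψ) ≤ A.index := by
    have hA0 : (0 : ℝ) < Nat.card A := by exact_mod_cast Nat.card_pos
    rw [← Nat.cast_le (α := ℝ), h4, inv_mul_le_iff₀ hA0]
    refine h5.trans (le_of_eq ?_)
    rw [h3, ← card_mul_index A]
    push_cast; ring
  have h7 : charDegree χ = ∑ ψ, n ψ := by exact_mod_cast h1
  rw [h7]
  exact le_trans (Finset.sum_le_sum fun ψ _ => Nat.le_mul_self _) h6

theorem exists_central_sub [Finite G] [Fact p.Prime] (hG : IsPGroup p G) (H : Subgroup G)
    [H.Normal] (hH : H ≠ ⊥) :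
    ∃ z : G, z ∈ H ∧ z ∈ center G ∧ orderOf z = p := by
  have hpa : IsPGroup p (ConjAct G) := hG.of_equiv ConjAct.toConjAct
  obtain ⟨n, hn⟩ := IsPGroup.iff_card.1 (hG.to_subgroup H)
  have hn0 : n ≠ 0 := fun e => hH (H.eq_bot_of_card_eq (by rw [hn, e, pow_zero]))
  obtain ⟨w, hw, hw1⟩ := hpa.exists_fixed_point_of_prime_dvd_card_of_fixed_point (α := H)
    (hn ▸ dvd_pow_self p hn0) (a := 1) (fun g => Subtype.ext (by simp [ConjAct.smul_def]))
  have hwz : (w : G) ∈ center G := mem_center_iff.2 fun g => by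
    have := congrArg Subtype.val (hw (ConjAct.toConjAct g))
    rw [ConjAct.Subgroup.val_conj_smul, ConjAct.smul_def, ConjAct.ofConjAct_toConjAct] at this
    exact mul_inv_eq_iff_eq_mul.1 this
  obtain ⟨k, hk⟩ := IsPGroup.iff_orderOf.1 hG (w : G)
  have hk0 : k ≠ 0 := fun e => hw1 (Subtype.ext (orderOf_eq_one_iff.1 (by rw [hk, e, pow_zero])).symm)
  obtain ⟨k, rfl⟩ := Nat.exists_eq_succ_of_ne_zero hk0
  refine ⟨(w : G) ^ p ^ k, H.pow_mem w.2 _, (center G).pow_mem hwz _, ?_⟩
  rw [orderOf_pow' _ (pow_ne_zero _ (Fact.out : p.Prime).ne_zero), hk,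
    Nat.gcd_eq_right (pow_dvd_pow p k.le_succ), pow_succ,
    Nat.mul_div_cancel_left _ (pow_pos (Fact.out : p.Prime).pos k)]

theorem quot_data [Finite G] [Fact p.Prime] {z : G} (hzc : z ∈ commutator G) (hzp : orderOf z = p)
    [(Subgroup.zpowers z).Normal] {m : ℕ} (hc : Nat.card (commutator G) = p ^ (m + 1)) :
    Nat.card (commutator (G ⧸ Subgroup.zpowers z)) = p ^ m := by
  set f := QuotientGroup.mk' (Subgroup.zpowers z)
  have he : commutator (G ⧸ Subgroup.zpowers z) = (commutator G).map f := by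
    rw [commutator_def, commutator_def, map_commutator,
      map_top_of_surjective f (QuotientGroup.mk'_surjective _)]
  have h := relIndex_ker (K := commutator G) f
  rw [QuotientGroup.ker_mk'] at h
  rw [he, ← h]
  have h2 := relIndex_mul_relIndex ⊥ (Subgroup.zpowers z) (commutator G) bot_le (zpowers_le.2 hzc)
  rw [relIndex_bot_left, relIndex_bot_left, Nat.card_zpowers, hzp, hc, pow_succ'] at h2
  exact Nat.eq_of_mul_eq_mul_left (Fact.out : p.Prime).pos h2

theorem normal_zpowers {z : G} (hz : z ∈ center G) : (Subgroup.zpowers z).Normal :=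
  ⟨fun n hn g => by
    have := mem_center_iff.1 (zpowers_le.2 hz hn) g
    rw [this, mul_inv_cancel_right]; exact hn⟩

theorem step_false [Finite G] [Fact p.Prime] (hG : IsPGroup p G)
    (hc : Nat.card (commutator G) = p ^ 2) (h : GC G) : False := by
  classical
  haveI := Fintype.ofFinite G
  have hp := (Fact.out : p.Prime)
  -- data attached to a central subgroup of order p in the derived group
  have data : ∀ z : G, z ∈ commutator G → z ∈ center G → orderOf z = p →
      (∀ y ∈ commutator G, y ^ p ∈ Subgroup.zpowers z) ∧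
      (∀ y ∈ commutator G, ∀ g, ⁅y, g⁆ ∈ Subgroup.zpowers z) ∧
      ∃ Z : Subgroup G, center G ≤ Z ∧
        (∀ g, g ∈ Z ↔ ∀ k, ⁅g, k⁆ ∈ Subgroup.zpowers z) ∧
        (∃ x ∈ Z, ∀ g ∈ Z, ∃ i : ℕ, ∃ w ∈ center G, g = x ^ i * w) ∧
        ∃ χ : IrrCharacter G, charDegree (χ : G → ℂ) ≠ 1 ∧
          (χ : G → ℂ) z = (χ : G → ℂ) 1 ∧ charDegree (χ : G → ℂ) ^ 2 = Z.index := by
    intro z hzc hzz hzp
    haveI := normal_zpowers hzz
    set f := QuotientGroup.mk' (Subgroup.zpowers z) with hf
    have hqc := quot_data hzc hzp (m := 1) hc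
    rw [pow_one] at hqc
    have hQ := hG.to_quotient (Subgroup.zpowers z)
    have hqz := comm_central hQ hqc
    have he : ∀ y ∈ commutator G, f y ∈ commutator (G ⧸ Subgroup.zpowers z) := fun y hy => by
      have := mem_map_of_mem f hy
      rw [commutator_def, map_commutator, map_top_of_surjective f (QuotientGroup.mk'_surjective _)] at this
      rw [commutator_def]; exact this
    have hmem : ∀ g : G, f g = 1 ↔ g ∈ Subgroup.zpowers z := fun g => QuotientGroup.eq_one_iff g
    refine ⟨fun y hy => (hmem _).1 ?_, fun y hy g => (hmem _).1 ?_,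
      (center (G ⧸ Subgroup.zpowers z)).comap f, ?_, ?_, ?_, ?_⟩
    · rw [map_pow]
      have := orderOf_dvd_natCard _ (he y hy)
      rw [hqc] at this
      exact orderOf_dvd_iff_pow_eq_one.1 this
    · rw [map_commutatorElement, comm_eq_one]
      exact (mem_center_iff.1 (hqz (he y hy)) _).symm
    · intro g hg
      refine mem_comap.2 (mem_center_iff.2 fun q => ?_)
      obtain ⟨q, rfl⟩ := QuotientGroup.mk'_surjective _ q
      rw [← map_mul, ← map_mul, mem_center_iff.1 hg q]
    · intro g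
      constructor
      · intro hg k
        rw [← hmem, map_commutatorElement, comm_eq_one]
        exact (mem_center_iff.1 (mem_comap.1 hg) _).symm
      · intro hg
        refine mem_comap.2 (mem_center_iff.2 fun q => ?_)
        obtain ⟨q, rfl⟩ := QuotientGroup.mk'_surjective _ q
        have := (hmem _).2 (hg q)
        rw [map_commutatorElement, comm_eq_one] at this
        exact this.symm
    · haveI := center_cyclic hQ hqc (gc_quot h _)
      obtain ⟨t, ht⟩ := IsCyclic.exists_generator (α := center (G ⧸ Subgroup.zpowers z))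
      obtain ⟨x, hx⟩ := QuotientGroup.mk'_surjective (Subgroup.zpowers z) (t : G ⧸ Subgroup.zpowers z)
      refine ⟨x, mem_comap.2 (by rw [hx]; exact t.2), fun g hg => ?_⟩
      obtain ⟨i, hi⟩ := Submonoid.mem_powers_iff _ _ |>.1
        (mem_powers_iff_mem_zpowers.2 (ht ⟨f g, mem_comap.1 hg⟩))
      have hi' : f (x ^ i) = f g := by
        rw [map_pow, hx]
        exact congrArg Subtype.val hi
      refine ⟨i, (x ^ i)⁻¹ * g, zpowers_le.2 hzz ?_, (mul_inv_cancel_left _ _).symm⟩
      rw [← hmem, map_mul, map_inv, hi', inv_mul_cancel]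
    · obtain ⟨χ, hχ⟩ := exists_nonlinear (G := G ⧸ Subgroup.zpowers z) fun e => by
        rw [e, card_bot] at hqc
        exact hp.ne_one hqc.symm
      refine ⟨CfsgLib.Blk.infl _ χ, hχ, CfsgLib.Blk.infl_kernel _ χ (mem_zpowers z), ?_⟩
      rw [CfsgLib.Blk.charDegree_infl,
        deg_sq hQ hqc χ.2 fun e => hχ (charDegree_eq (n := 1) (by rw [e, Nat.cast_one])),
        index_comap_of_surjective _ (QuotientGroup.mk'_surjective _)]
  have hD : commutator G ≠ ⊥ := fun e => by
    rw [e, card_bot] at hc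
    exact absurd hc.symm (by simpa using hp.ne_one)
  obtain ⟨z, hzc, hzz, hzp⟩ := exists_central_sub hG (commutator G) hD
  obtain ⟨hpw, hlow, Z, hZ, hZm, ⟨x, hxZ, hgen⟩, χ, hχ1, hχz, hχd⟩ := data z hzc hzz hzp
  have hN : Subgroup.zpowers z ≤ center G := zpowers_le.2 hzz
  have hzpow : ∀ y ∈ Subgroup.zpowers z, y ^ p = 1 := fun y hy => by
    have := orderOf_dvd_natCard _ hy
    rw [Nat.card_zpowers, hzp] at this
    exact orderOf_dvd_iff_pow_eq_one.1 this
  have hxk : ∀ k, ⁅x, k⁆ ∈ center G := fun k => hN ((hZm x).1 hxZ k)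
  have hexp : ∀ (g : G) (i : ℕ) (w : G), w ∈ center G → g = x ^ i * w → ∀ k : G, ⁅g, k⁆ = ⁅x, k⁆ ^ i := by
    intro g i w hw hg k
    have hwk : ⁅w, k⁆ = 1 := comm_eq_one.2 (mem_center_iff.1 hw k).symm
    rw [hg, commutatorElement_mul_left_central (by rw [hwk]; exact one_mem _), hwk, mul_one,
      comm_pow_left (hxk k)]
  have hcop : ∀ c ∈ Subgroup.zpowers z, ∀ i : ℕ, ¬ p ∣ i → c ^ i = 1 → c = 1 := by
    intro c hc' i hi hci
    have h1 : orderOf c ∣ Nat.gcd p i := Nat.dvd_gcd (orderOf_dvd_of_pow_eq_one (hzpow c hc'))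
      (orderOf_dvd_of_pow_eq_one hci)
    rwa [(hp.coprime_iff_not_dvd.2 hi), Nat.dvd_one, orderOf_eq_one_iff] at h1
  by_cases hcl : commutator G ≤ center G
  · by_cases hel : ∀ y ∈ commutator G, y ^ p = 1
    · -- elementary
      obtain ⟨z', hz'c, hz'⟩ : ∃ z' ∈ commutator G, z' ∉ Subgroup.zpowers z := by
        by_contra! hh
        have := card_le_card_group (Subgroup.zpowers z) |>.trans le_rfl
        have h2 := Nat.card_le_card_of_injective _ (inclusion_injective (show commutator G ≤ Subgroup.zpowers z from hh))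
        rw [hc, Nat.card_zpowers, hzp] at h2
        nlinarith [hp.two_le]
      have hz'p : orderOf z' = p := orderOf_eq_prime (hel z' hz'c) fun e => hz' (e ▸ one_mem _)
      obtain ⟨-, -, Z', hZ', hZ'm, ⟨x', hx'Z, hgen'⟩, χ', hχ'1, hχ'z, hχ'd⟩ :=
        data z' hz'c (hcl hz'c) hz'p
      have hrel : ∀ (W : Subgroup G) (y : G), center G ≤ W → (∀ k, ⁅y, k⁆ ∈ commutator G) →
          (∀ g ∈ W, ∃ i : ℕ, ∃ w ∈ center G, g = y ^ i * w) → (center G).relIndex W ∣ p := by
        intro W y hW hy hgy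
        have hyp : y ^ p ∈ center G := mem_center_iff.2 fun k => by
          refine (comm_eq_one.1 ?_).symm
          rw [comm_pow_left (hcl (hy k))]
          exact hel _ (hy k)
        have hk := relIndex_ker (K := W) (QuotientGroup.mk' (center G))
        rw [QuotientGroup.ker_mk'] at hk
        rw [hk]
        refine (card_dvd_of_le (K := Subgroup.zpowers (QuotientGroup.mk' (center G) y)) ?_).trans ?_
        · rintro _ ⟨g, hg, rfl⟩
          obtain ⟨i, w, hw, rfl⟩ := hgy g hg
          rw [map_mul, map_pow, show QuotientGroup.mk' (center G) w = 1 from (QuotientGroup.eq_one_iff w).2 hw,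
            mul_one]
          exact npow_mem_zpowers _ _
        · rw [Nat.card_zpowers]
          refine orderOf_dvd_of_pow_eq_one ?_
          rw [← map_pow]
          exact (QuotientGroup.eq_one_iff _).2 hyp
      obtain ⟨e, -, he⟩ := (Nat.dvd_prime_pow hp).1 (by
        rw [pow_one]; exact hrel Z x hZ (fun k => comm_mem x k) hgen :
          (center G).relIndex Z ∣ p ^ 1)
      obtain ⟨e', -, he'⟩ := (Nat.dvd_prime_pow hp).1 (by
        rw [pow_one]; exact hrel Z' x' hZ' (fun k => comm_mem x' k) hgen' :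
          (center G).relIndex Z' ∣ p ^ 1)
      have he1 : e ≤ 1 := by
        have := hrel Z x hZ (fun k => comm_mem x k) hgen
        rw [he] at this
        exact (Nat.pow_dvd_pow_iff_le_right hp.one_lt).1 (by simpa using this)
      have he'1 : e' ≤ 1 := by
        have := hrel Z' x' hZ' (fun k => comm_mem x' k) hgen'
        rw [he'] at this
        exact (Nat.pow_dvd_pow_iff_le_right hp.one_lt).1 (by simpa using this)
      obtain ⟨n, hn⟩ := IsPGroup.iff_card.1 hG
      haveI := Fintype.ofFinite G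
      obtain ⟨a, -, ha⟩ := (Nat.dvd_prime_pow hp).1 (hn ▸ degree_dvd_card χ.2)
      obtain ⟨a', -, ha'⟩ := (Nat.dvd_prime_pow hp).1 (hn ▸ degree_dvd_card χ'.2)
      have h1 := relIndex_mul_index hZ
      have h2 := relIndex_mul_index hZ'
      rw [he, ← hχd, ha, ← pow_mul, ← pow_add] at h1
      rw [he', ← hχ'd, ha', ← pow_mul, ← pow_add] at h2
      have h3 : e + a * 2 = e' + a' * 2 :=
        Nat.pow_right_injective hp.two_le (h1.trans h2.symm)
      have haa : a = a' := by omega
      have hk : (χ : G → ℂ) z' = (χ : G → ℂ) 1 :=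
        same_kernel h hχ'1 (by rw [ha, ha', haa]) hχ'z
      apply hχ1
      refine charDegree_eq (n := 1) ?_
      rw [Nat.cast_one]
      refine linear_of_comm_kernel χ.2 ?_
      obtain ⟨K, -, hK, -⟩ := exists_kernel (isCharacter_of_isIrr χ.2)
      have hle : commutator G ≤ K := by
        have hM : Subgroup.zpowers z ⊔ Subgroup.zpowers z' = commutator G := by
          refine eq_of_le_of_card_ge (sup_le (zpowers_le.2 hzc) (zpowers_le.2 hz'c)) ?_
          have h5 : Subgroup.zpowers z < Subgroup.zpowers z ⊔ Subgroup.zpowers z' :=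
            lt_of_le_of_ne le_sup_left fun e => hz' (e ▸ mem_sup_right (mem_zpowers z'))
          have h6 := card_dvd_of_le (sup_le (zpowers_le.2 hzc) (zpowers_le.2 hz'c) :
            Subgroup.zpowers z ⊔ Subgroup.zpowers z' ≤ commutator G)
          rw [hc] at h6 ⊢
          obtain ⟨s, hs2, hs⟩ := (Nat.dvd_prime_pow hp).1 h6
          rw [hs]
          by_contra hlt
          have hs1 : s ≤ 1 := by
            by_contra hh
            exact hlt (Nat.pow_le_pow_right hp.pos (by omega))
          have h7 := eq_of_le_of_card_ge h5.le (by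
            rw [hs, Nat.card_zpowers, hzp]
            exact (Nat.pow_le_pow_right hp.pos hs1).trans (pow_one p).le)
          exact h5.ne h7
        rw [← hM]
        exact sup_le (zpowers_le.2 ((hK z).2 hχz)) (zpowers_le.2 ((hK z').2 hk))
      exact fun y hy => (hK y).1 (hle hy)
    · -- cyclic
      obtain ⟨a, b, hab⟩ : ∃ a b : G, ⁅a, b⁆ ^ p ≠ 1 := by
        by_contra! hh
        refine hel fun y hy => ?_
        rw [commutator_eq_closure] at hy
        induction hy using closure_induction with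
        | mem t ht => obtain ⟨a, b, rfl⟩ := ht; exact hh a b
        | one => simp
        | mul s t hs ht ihs iht =>
          rw [← commutator_eq_closure] at hs
          rw [Commute.mul_pow (mem_center_iff.1 (hcl hs) t).symm, ihs, iht, mul_one]
        | inv s hs ihs => rw [inv_pow, ihs, inv_one]
      have hpZ : ∀ g : G, g ^ p ∈ Z := fun g => (hZm _).2 fun k => by
        rw [comm_pow_left (hcl (comm_mem g k))]
        exact hpw _ (comm_mem g k)
      obtain ⟨i, w, hw, hi⟩ := hgen _ (hpZ a)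
      obtain ⟨j, w', hw', hj⟩ := hgen _ (hpZ b)
      have ea : ∀ k, ⁅a, k⁆ ^ p = ⁅x, k⁆ ^ i := fun k => by
        rw [← comm_pow_left (hcl (comm_mem a k))]; exact hexp _ i w hw hi k
      have eb : ∀ k, ⁅b, k⁆ ^ p = ⁅x, k⁆ ^ j := fun k => by
        rw [← comm_pow_left (hcl (comm_mem b k))]; exact hexp _ j w' hw' hj k
      have hpi : ¬ p ∣ i := by
        rintro ⟨t, rfl⟩
        apply hab
        rw [ea b, pow_mul, hzpow _ ((hZm x).1 hxZ b), one_pow]
      have hxa : ⁅x, a⁆ = 1 := hcop _ ((hZm x).1 hxZ a) i hpi (by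
        rw [← ea a, commutatorElement_self, one_pow])
      apply hab
      rw [← commutatorElement_inv, inv_pow, eb a, hxa, one_pow, inv_one]
  · -- class three: an abelian subgroup of index p
    obtain ⟨y0, hy0, hy0z⟩ := SetLike.not_le_iff_exists.1 hcl
    obtain ⟨i, w, hw, hi⟩ := hgen y0 ((hZm y0).2 fun k => hlow y0 hy0 k)
    have hpi : ¬ p ∣ i := by
      rintro ⟨t, rfl⟩
      refine hy0z (mem_center_iff.2 fun k => (comm_eq_one.1 ?_).symm)
      rw [hexp y0 _ w hw hi k, pow_mul, hzpow _ ((hZm x).1 hxZ k), one_pow]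
    set C := Subgroup.centralizer ({y0} : Set G) with hCdef
    have hC : ∀ c, c ∈ C ↔ ⁅y0, c⁆ = 1 := fun c => by
      rw [hCdef, mem_centralizer_singleton_iff, comm_eq_one, eq_comm]
    have hCZ : ∀ c ∈ C, ∀ g ∈ Z, g * c = c * g := by
      intro c hc' g hg
      have hxc : ⁅x, c⁆ = 1 := hcop _ ((hZm x).1 hxZ c) i hpi (by
        rw [← hexp y0 i w hw hi c]; exact (hC c).1 hc')
      obtain ⟨k, v, hv, hk⟩ := hgen g hg
      exact comm_eq_one.1 (by rw [hexp g k v hv hk c, hxc, one_pow])
    have hDZ : commutator G ≤ Z := fun y hy => (hZm y).2 (hlow y hy)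
    have hidx : C.index ∣ p := by
      let φ : G →* Subgroup.zpowers z :=
        { toFun := fun g => ⟨⁅y0, g⁆, hlow y0 hy0 g⟩
          map_one' := Subtype.ext (by simp)
          map_mul' := fun s t => Subtype.ext
            (commutatorElement_mul_right_central (hN (hlow y0 hy0 t))) }
      have hk : φ.ker = C := by
        ext g
        rw [MonoidHom.mem_ker, hC]
        exact Subtype.ext_iff
      rw [← hk, index_ker]
      have := card_subgroup_dvd_card φ.range
      rwa [Nat.card_zpowers, hzp] at this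
    -- commutators inside C are central
    have hCC : ∀ c ∈ C, ∀ d ∈ C, ⁅c, d⁆ ∈ center G := by
      intro c hc' d hd
      refine mem_center_iff.2 fun g => ?_
      have hconj : ∀ e : G, g * e * g⁻¹ = ⁅g, e⁆ * e := fun e => by
        rw [commutatorElement_def]; group
      have hu := hDZ (comm_mem g c)
      have hv := hDZ (comm_mem g d)
      have key : g * ⁅c, d⁆ * g⁻¹ = ⁅c, d⁆ := by
        rw [show g * ⁅c, d⁆ * g⁻¹ = ⁅g * c * g⁻¹, g * d * g⁻¹⁆ by
          simp only [commutatorElement_def]; group, hconj c, hconj d]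
        have c1 : Commute ⁅g, c⁆ c := hCZ c hc' _ hu
        have c2 : Commute ⁅g, c⁆ d := hCZ d hd _ hu
        have c3 : Commute ⁅g, d⁆ c := hCZ c hc' _ hv
        have c4 : Commute ⁅g, d⁆ d := hCZ d hd _ hv
        have c5 : Commute ⁅g, c⁆ ⁅g, d⁆ := by
          obtain ⟨k, v, hv', hk⟩ := hgen _ hv
          have : ⁅⁅g, d⁆, ⁅g, c⁆⁆ = ⁅x, ⁅g, c⁆⁆ ^ k := hexp _ k v hv' hk _
          obtain ⟨k', v', hv'', hk'⟩ := hgen _ hu
          have hx2 : ⁅⁅g, c⁆, x⁆ = ⁅x, x⁆ ^ k' := hexp _ k' v' hv'' hk' _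
          rw [commutatorElement_self, one_pow] at hx2
          rw [← commutatorElement_inv ⁅g, c⁆ x, hx2, inv_one, one_pow] at this
          exact (comm_eq_one.1 this).symm
        generalize ⁅g, c⁆ = u at c1 c2 c5 ⊢
        generalize ⁅g, d⁆ = v at c3 c4 c5 ⊢
        simp only [commutatorElement_def]
        calc u * c * (v * d) * (u * c)⁻¹ * (v * d)⁻¹
            = u * (c * v) * d * c⁻¹ * u⁻¹ * d⁻¹ * v⁻¹ := by group
          _ = u * v * (c * d * c⁻¹) * u⁻¹ * d⁻¹ * v⁻¹ := by rw [← c3.eq]; group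
          _ = v * u * (c * d * c⁻¹) * u⁻¹ * d⁻¹ * v⁻¹ := by rw [c5.eq]
          _ = v * (c * d * c⁻¹) * u * u⁻¹ * d⁻¹ * v⁻¹ := by
              rw [mul_assoc v u, ((c1.mul_right c2).mul_right c1.inv_right).eq]; group
          _ = v * (c * d * c⁻¹ * d⁻¹) * v⁻¹ := by group
          _ = c * d * c⁻¹ * d⁻¹ := by
              rw [(((c3.mul_right c4).mul_right c3.inv_right).mul_right c4.inv_right).eq]; group
      exact mul_inv_eq_iff_eq_mul.1 key
    obtain ⟨y, hy⟩ : ∃ y, y ∉ C := by
      by_contra! hh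
      exact hy0z (mem_center_iff.2 fun k => (comm_eq_one.1 ((hC k).1 (hh k))).symm)
    have hcinz : ∀ t : G, t ∈ commutator G → t ∈ center G → t ∈ Subgroup.zpowers z := by
      intro t ht htz
      by_contra htn
      have h5 : Subgroup.zpowers z ⊔ Subgroup.zpowers t = commutator G := by
        refine eq_of_le_of_card_ge (sup_le (zpowers_le.2 hzc) (zpowers_le.2 ht)) ?_
        have h6 := card_dvd_of_le (sup_le (zpowers_le.2 hzc) (zpowers_le.2 ht) :
            Subgroup.zpowers z ⊔ Subgroup.zpowers t ≤ commutator G)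
        rw [hc] at h6 ⊢
        obtain ⟨s, hs2, hs⟩ := (Nat.dvd_prime_pow hp).1 h6
        rw [hs]
        refine Nat.pow_le_pow_right hp.pos ?_
        by_contra hh
        have h7 := eq_of_le_of_card_ge (le_sup_left : Subgroup.zpowers z ≤
            Subgroup.zpowers z ⊔ Subgroup.zpowers t) (by
          rw [hs, Nat.card_zpowers, hzp]
          exact (Nat.pow_le_pow_right hp.pos (by omega : s ≤ 1)).trans (pow_one p).le)
        exact htn (h7 ▸ mem_sup_right (mem_zpowers t))
      exact hcl (h5 ▸ sup_le hN (zpowers_le.2 htz))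
    haveI := normal_zpowers hzz
    set f := QuotientGroup.mk' (Subgroup.zpowers z) with hf
    have hQ := hG.to_quotient (Subgroup.zpowers z)
    haveI := Fintype.ofFinite (G ⧸ Subgroup.zpowers z)
    have hqc := quot_data hzc hzp (m := 1) hc
    rw [pow_one] at hqc
    have hmem : ∀ g : G, f g = 1 ↔ g ∈ Subgroup.zpowers z := fun g => QuotientGroup.eq_one_iff g
    have hker : ∀ c ∈ C, ⁅f c, f y⁆ = 1 → c ∈ Z := by
      intro c hc' hcy
      refine (hZm c).2 fun k => (hmem _).1 ?_
      rw [map_commutatorElement]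
      have hsub : C ⊔ Subgroup.zpowers y ≤ (Subgroup.centralizer ({f c} : Set _)).comap f := by
        refine sup_le (fun d hd => ?_) (zpowers_le.2 ?_)
        · refine mem_comap.2 (mem_centralizer_singleton_iff.2 ?_)
          refine (comm_eq_one.1 ?_).symm
          rw [← map_commutatorElement, hmem]
          exact hcinz _ (comm_mem c d) (hCC c hc' d hd)
        · exact mem_comap.2 (mem_centralizer_singleton_iff.2 (comm_eq_one.1 hcy).symm)
      have htop : C ⊔ Subgroup.zpowers y = ⊤ := by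
        rw [← index_eq_one]
        rcases (Nat.dvd_prime hp).1 ((index_dvd_of_le le_sup_left).trans hidx) with h1 | h1
        · exact h1
        · exfalso
          have h2 := relIndex_mul_index (le_sup_left : C ≤ C ⊔ Subgroup.zpowers y)
          rw [h1] at h2
          have h3 : C.relIndex (C ⊔ Subgroup.zpowers y) * p ≤ 1 * p := by
            rw [h2, one_mul]; exact Nat.le_of_dvd hp.pos hidx
          have h4 : C.relIndex (C ⊔ Subgroup.zpowers y) = 1 := by
            rcases Nat.eq_zero_or_pos (C.relIndex (C ⊔ Subgroup.zpowers y)) with h0 | h0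
            · rw [h0, zero_mul] at h2
              exact absurd h2.symm index_ne_zero_of_finite
            · have := Nat.le_of_mul_le_mul_right h3 hp.pos
              omega
          exact hy (relIndex_eq_one.1 h4 (mem_sup_right (mem_zpowers y)))
      refine comm_eq_one.2 ?_
      exact (mem_centralizer_singleton_iff.1 (mem_comap.1 (hsub (htop ▸ mem_top k)))).symm
    have hab : ∀ c d : C, c * d = d * c := by
      rintro ⟨c, hc'⟩ ⟨d, hd⟩
      refine Subtype.ext ?_
      show c * d = d * c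
      by_cases h1 : ⁅f c, f y⁆ = 1
      · exact hCZ d hd c (hker c hc' h1)
      · have h2 := prime_sub_le hqc (comm_mem (f c) (f y)) h1
        have h3 := comm_mem (f d) (f y)
        rw [h2, ← mem_powers_iff_mem_zpowers] at h3
        obtain ⟨k, hk⟩ := (Submonoid.mem_powers_iff _ _).1 h3
        have hq := comm_central hQ hqc
        have hinv : ⁅(f c ^ k)⁻¹, f y⁆ = (⁅f c, f y⁆ ^ k)⁻¹ := by
          rw [← comm_pow_left (hq (comm_mem _ _))]
          apply eq_inv_of_mul_eq_one_left
          rw [← commutatorElement_mul_left_central (hq (comm_mem _ _)), inv_mul_cancel,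
            commutatorElement_one_left]
        have he : (c ^ k)⁻¹ * d ∈ Z := hker _ (C.mul_mem (C.inv_mem (C.pow_mem hc' k)) hd) (by
          rw [map_mul, map_inv, map_pow, commutatorElement_mul_left_central (hq (comm_mem _ _)),
            hinv, hk, inv_mul_cancel])
        have h4 : Commute ((c ^ k)⁻¹ * d) c := hCZ c hc' _ he
        have h5 : Commute (c ^ k * ((c ^ k)⁻¹ * d)) c :=
          Commute.mul_left ((Commute.refl c).pow_left k) h4
        rw [mul_inv_cancel_left] at h5
        exact h5.symm.eq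
    -- characters of degree p with different kernels
    obtain ⟨ψ, hψ⟩ := exists_not_kernel (g := z) fun e => by
      rw [e, orderOf_one] at hzp
      exact hp.ne_one hzp.symm
    have hψ1 : charDegree (ψ : G → ℂ) ≠ 1 := fun e => hψ (by
      have h1 : (ψ : G → ℂ) 1 = 1 := by rw [irr_one_eq ψ.2, e, Nat.cast_one]
      rw [linear_comm ψ.2 h1 hzc, h1])
    have hdeg : ∀ θ : IrrCharacter G, charDegree (θ : G → ℂ) ≠ 1 → charDegree (θ : G → ℂ) = p := by
      intro θ hθ
      obtain ⟨n, hn⟩ := IsPGroup.iff_card.1 hG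
      haveI := Fintype.ofFinite G
      obtain ⟨a, -, ha⟩ := (Nat.dvd_prime_pow hp).1 (hn ▸ degree_dvd_card θ.2)
      have h1 := (degree_le_index θ.2 C hab).trans (Nat.le_of_dvd hp.pos hidx)
      rw [ha] at h1 hθ ⊢
      have ha0 : a ≠ 0 := fun e => hθ (by rw [e, pow_zero])
      have ha1 : a ≤ 1 := (Nat.pow_le_pow_iff_right hp.one_lt).1 (by rwa [pow_one])
      rw [show a = 1 by omega, pow_one]
    exact hψ (same_kernel h hχ1 ((hdeg χ hχ1).trans (hdeg ψ hψ1).symm) hχz)

theorem no_large [Fact p.Prime] : ∀ (m : ℕ) (G : Type u) [Group G] [Finite G], IsPGroup p G →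
    Nat.card (commutator G) = p ^ (m + 2) → GC G → False := by
  intro m
  induction m with
  | zero => intro G _ _ hG hc h; exact step_false hG hc h
  | succ m ih =>
    intro G _ _ hG hc h
    have hD : commutator G ≠ ⊥ := fun e => by
      rw [e, card_bot] at hc
      exact absurd hc.symm (by simpa using (Fact.out : p.Prime).ne_one)
    obtain ⟨z, hzc, hzz, hzp⟩ := exists_central_sub hG (commutator G) hD
    haveI := normal_zpowers hzz
    exact ih _ (hG.to_quotient _) (quot_data hzc hzp (m := m + 2) hc) (gc_quot h _)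

theorem gc_of_small [Finite G] [Fact p.Prime] (hG : IsPGroup p G) (hcyc : IsCyclic (center G))
    (hc : Nat.card (commutator G) = p) : GC G := by
  classical
  haveI := Fintype.ofFinite G
  have hDne : commutator G ≠ ⊥ := fun e => by
    rw [e, card_bot] at hc
    exact (Fact.out : p.Prime).ne_one hc.symm
  intro χ ψ h1 he
  have hnl : ∀ θ : IrrCharacter G, charDegree (θ : G → ℂ) ≠ 1 → (θ : G → ℂ) 1 ≠ 1 :=
    fun θ h e => h (charDegree_eq (n := 1) (by rw [e, Nat.cast_one]))
  have h2 : charDegree (ψ : G → ℂ) ≠ 1 := he ▸ h1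
  -- nonlinear characters are faithful on the centre
  have hf : ∀ θ : IrrCharacter G, charDegree (θ : G → ℂ) ≠ 1 →
      ∀ z ∈ center G, (θ : G → ℂ) z = (θ : G → ℂ) 1 → z = 1 := by
    intro θ hθ z hz hzk
    by_contra hz1
    obtain ⟨K, -, hK, -⟩ := exists_kernel (isCharacter_of_isIrr θ.2)
    refine hnl θ hθ (linear_of_comm_kernel θ.2 fun y hy => (hK y).1 ?_)
    obtain ⟨k, hk⟩ := IsPGroup.iff_orderOf.1 hG z
    have hk0 : k ≠ 0 := fun e => hz1 (orderOf_eq_one_iff.1 (by rw [hk, e, pow_zero]))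
    obtain ⟨k, rfl⟩ := Nat.exists_eq_succ_of_ne_zero hk0
    have hord : orderOf (z ^ p ^ k) = p := by
      rw [orderOf_pow' _ (pow_ne_zero _ (Fact.out : p.Prime).ne_zero), hk,
        Nat.gcd_eq_right (pow_dvd_pow p k.le_succ), pow_succ,
        Nat.mul_div_cancel_left _ (pow_pos (Fact.out : p.Prime).pos k)]
    have hsub : (commutator G).subgroupOf (center G) =
        (Subgroup.zpowers (z ^ p ^ k)).subgroupOf (center G) := by
      haveI := hcyc
      haveI := Fintype.ofFinite (center G)
      have key : ∀ A : Subgroup (center G), Nat.card A = p → ∀ a, a ∈ A ↔ a ^ p = 1 := by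
        intro A hA
        have hsub : (Finset.univ.filter fun a : center G => a ∈ A) ⊆
            Finset.univ.filter fun a : center G => a ^ p = 1 := fun a ha => by
          rw [Finset.mem_filter] at ha ⊢
          have := orderOf_dvd_natCard _ ha.2
          rw [hA] at this
          exact ⟨ha.1, orderOf_dvd_iff_pow_eq_one.1 this⟩
        have he := Finset.eq_of_subset_of_card_le hsub (by
          rw [← Fintype.card_subtype fun a : center G => a ∈ A, Fintype.card_eq_nat_card, hA]
          exact IsCyclic.card_pow_eq_one_le (Fact.out : p.Prime).pos)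
        intro a
        simpa using Finset.ext_iff.1 he a
      ext a
      rw [key _ (by rw [Nat.card_congr (subgroupOfEquivOfLe (comm_central hG hc)).toEquiv, hc]) a,
        key _ (by rw [Nat.card_congr (subgroupOfEquivOfLe (zpowers_le.2 ((center G).pow_mem hz _))).toEquiv,
          Nat.card_zpowers, hord]) a]
    have hy' : (⟨y, comm_central hG hc hy⟩ : center G) ∈ (commutator G).subgroupOf (center G) :=
      mem_subgroupOf.2 hy
    rw [hsub] at hy'
    exact zpowers_le.2 (K.pow_mem ((hK z).2 hzk) _) (mem_subgroupOf.1 hy')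
  have hscal : ∀ θ : IrrCharacter G, charDegree (θ : G → ℂ) ≠ 1 →
      ∃ w : center G →* ℂˣ, Function.Injective w ∧
        ∀ z : center G, (θ : G → ℂ) z = (w z : ℂ) * (θ : G → ℂ) 1 := by
    intro θ hθ
    choose ω hω hω1 using fun z : center G => exists_central_scalar θ.2 z.2
    let w : center G →* ℂ :=
      { toFun := ω
        map_one' := by
          have := hω1 1
          rw [OneMemClass.coe_one] at this
          exact mul_right_cancel₀ (irr_one_ne_zero θ.2) (this.symm.trans (one_mul _).symm)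
        map_mul' := fun a b => by
          have := hω b (a : G)
          rw [← Subgroup.coe_mul, hω1 (a * b), hω1 a, ← mul_assoc] at this
          rw [mul_comm (ω a) (ω b)]
          exact mul_right_cancel₀ (irr_one_ne_zero θ.2) this }
    refine ⟨w.toHomUnits, (injective_iff_map_eq_one _).2 fun z hz => ?_, fun z => hω1 z⟩
    have : ω z = 1 := congrArg Units.val hz
    exact Subtype.ext (hf θ hθ z z.2 (by rw [hω1, this, one_mul]))
  obtain ⟨u, hu, huz⟩ := hscal χ h1
  obtain ⟨v, hv, hvz⟩ := hscal ψ h2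
  haveI := hcyc
  obtain ⟨t, ht⟩ := IsCyclic.exists_generator (α := center G)
  have hr : ∀ w : center G →* ℂˣ, Function.Injective w →
      IsPrimitiveRoot ((w t : ℂˣ) : ℂ) (Nat.card (center G)) := by
    intro w hw
    rw [IsPrimitiveRoot.coe_units_iff, ← orderOf_eq_card_of_forall_mem_zpowers (fun x => ht x),
      ← orderOf_injective w hw t]
    exact IsPrimitiveRoot.orderOf _
  haveI : NeZero (Nat.card (center G)) := ⟨Nat.card_pos.ne'⟩
  obtain ⟨k, hk, hkc, hkt⟩ :=
    ((hr u hu).isPrimitiveRoot_iff (ξ := ((v t : ℂˣ) : ℂ))).1 (hr v hv)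
  obtain ⟨n, hn⟩ := IsPGroup.iff_card.1 (hG.to_subgroup (center G))
  obtain ⟨m, hm⟩ := IsPGroup.iff_card.1 hG
  obtain ⟨z0, hz0, -, hz0p⟩ := exists_central_sub hG (commutator G) hDne
  have hn0 : n ≠ 0 := fun e => by
    have := orderOf_dvd_natCard _ (comm_central hG hc hz0)
    rw [hn, e, pow_zero, hz0p] at this
    exact (Fact.out : p.Prime).ne_one (Nat.dvd_one.1 this)
  have hkp : Nat.Coprime k p := hkc.coprime_dvd_right (hn ▸ dvd_pow_self p hn0)
  have hkG : Nat.Coprime k (Nat.card G) := by rw [hm]; exact hkp.pow_right m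
  refine ⟨k, hkG, fun g => ?_⟩
  by_cases hg : g ∈ center G
  · obtain ⟨i, hi⟩ := (Submonoid.mem_powers_iff _ _).1
      (mem_powers_iff_mem_zpowers.2 (ht ⟨g, hg⟩))
    have e1 := hvz ⟨g, hg⟩
    have e2 := huz (⟨g, hg⟩ ^ k)
    rw [SubmonoidClass.coe_pow] at e2
    rw [show (ψ : G → ℂ) g = _ from e1, show (χ : G → ℂ) (g ^ k) = _ from e2,
      irr_one_eq χ.2, irr_one_eq ψ.2, he, ← hi, map_pow, map_pow, map_pow]
    simp only [Units.val_pow_eq_pow_val]
    rw [← hkt, ← pow_mul, ← pow_mul, mul_comm i k]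
  · have hgk : g ^ k ∉ center G := fun e => hg ((conj_pow_mem_iff hkG _ g).1 e)
    rw [vanish hG hc ψ.2 (hnl ψ h2) hg, vanish hG hc χ.2 (hnl χ h1) hgk]

end aux


/-- Let p be a prime and P a finite non-commutative p-group. Then every two irreducible characters of P of the same degree greater than 1 are Galois conjugate (one is obtained from the other by composing with g ↦ g^k for some k prime to the order of P) if and only if the centre of P is cyclic and the derived subgroup of P has order p. -/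
theorem result {P : Type*} [Group P] [Finite P] (p : ℕ) [Fact p.Prime] (hP : IsPGroup p P) (hna : ¬ IsMulCommutative P) :
    (∀ χ ψ : Cfsg.IrrCharacter P, Cfsg.charDegree (χ : P → ℂ) ≠ 1 → Cfsg.charDegree (χ : P → ℂ) = Cfsg.charDegree (ψ : P → ℂ) → ∃ k : ℕ, Nat.Coprime k (Nat.card P) ∧ ∀ g : P, (ψ : P → ℂ) g = (χ : P → ℂ) (g ^ k)) ↔
      (IsCyclic (Subgroup.center P) ∧ Nat.card (commutator P) = p) := by
  constructor
  · intro h
    have hD : commutator P ≠ ⊥ := fun e => hna ⟨⟨fun a b => comm_eq_one.1 (by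
      have := comm_mem a b
      rw [e] at this
      exact Subgroup.mem_bot.1 this)⟩⟩
    obtain ⟨m, hm⟩ := IsPGroup.iff_card.1 (hP.to_subgroup (commutator P))
    have hm0 : m ≠ 0 := fun e => hD (Subgroup.eq_bot_of_card_eq _ (by rw [hm, e, pow_zero]))
    by_cases hm1 : m = 1
    · subst hm1
      rw [pow_one] at hm
      exact ⟨center_cyclic hP hm h, hm⟩
    · obtain ⟨j, rfl⟩ : ∃ j, m = j + 2 := ⟨m - 2, by omega⟩
      exact (no_large j P hP hm h).elim
  · rintro ⟨hz, hc⟩
    exact gc_of_small hP hz hc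

end Cfsg.Agent.S4845
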