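import Cfsg.Statements.S4859
import Cfsg.Agent.Char.FrobeniusSchur
import Cfsg.Agent.Char.Classes

set_option autoImplicit false
open Cfsg

namespace Cfsg.Agent.S4859

open CfsgLib.Char
open scoped ComplexConjugate

/-- Let p be an odd prime, G a finite group and x an element of G whose order is a power of p (possibly 1) and whose centralizer has even order. Let y be a 2-element of the centralizer of x whose order is largest among the 2-elements of that centralizer. Then x * y is not a square in G, and some non-principal real-valued irreducible character of G does not vanish at x * y. -/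
theorem result {G : Type*} [Group G] [Finite G] (p : ℕ) [Fact p.Prime] (hp : p ≠ 2) (x : G) (hx : ∃ k : ℕ, orderOf x = p ^ k) (heven : Even (Nat.card (Subgroup.centralizer ({x} : Set G)))) (y : G) (hy : y ∈ Subgroup.centralizer ({x} : Set G)) (hy2 : ∃ k : ℕ, orderOf y = 2 ^ k) (hmax : ∀ z ∈ Subgroup.centralizer ({x} : Set G), (∃ k : ℕ, orderOf z = 2 ^ k) → orderOf z ≤ orderOf y) : (¬ ∃ u : G, u * u = x * y) ∧ ∃ χ : Cfsg.IrrCharacter G, ¬ ((χ : G → ℂ) = fun _ => (1 : ℂ)) ∧ (∀ g : G, ((χ : G → ℂ) g).im = 0) ∧ (χ : G → ℂ) (x * y) ≠ 0 := by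
  classical
  haveI := Fintype.ofFinite G
  have hp' : p.Prime := Fact.out
  obtain ⟨a, ha⟩ := hx
  obtain ⟨b, hb⟩ := hy2
  have hcomm : Commute x y := (Subgroup.mem_centralizer_singleton_iff.mp hy).symm
  have hy1 : y ≠ 1 := by
    intro h
    obtain ⟨z, hz⟩ := exists_prime_orderOf_dvd_card' 2
      (even_iff_two_dvd.mp heven) (G := Subgroup.centralizer ({x} : Set G))
    have := hmax (z : G) z.2 ⟨1, by rw [Subgroup.orderOf_coe, hz, pow_one]⟩
    rw [Subgroup.orderOf_coe, hz, h, orderOf_one] at this
    omega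
  have hb0 : 0 < b := by
    rcases Nat.eq_zero_or_pos b with rfl | h
    · exact absurd (orderOf_eq_one_iff.mp (by rw [hb, pow_zero])) hy1
    · exact h
  have hcop : (orderOf x).Coprime (orderOf y) := by
    rw [ha, hb]
    exact Nat.Coprime.pow a b ((Nat.coprime_primes hp' Nat.prime_two).mpr hp)
  have hsq : ¬ ∃ u : G, u * u = x * y := by
    rintro ⟨u, hu⟩
    have hord : orderOf (x * y) = p ^ a * 2 ^ b := by
      rw [hcomm.orderOf_mul_eq_mul_orderOf_of_coprime hcop, ha, hb]
    have hd : 2 ∣ p ^ a * 2 ^ b := (dvd_pow_self 2 hb0.ne').mul_left _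
    -- the order of a square root is twice the order
    have h1 : orderOf (u ^ 2) = orderOf u / Nat.gcd (orderOf u) 2 := orderOf_pow u
    rw [sq, hu, hord] at h1
    have hud : orderOf u = 2 * (p ^ a * 2 ^ b) := by
      rcases (Nat.dvd_prime Nat.prime_two).mp (Nat.gcd_dvd_right (orderOf u) 2) with hg | hg
      · rw [hg, Nat.div_one] at h1
        have : Nat.gcd (orderOf u) 2 = 2 := Nat.gcd_eq_right (h1 ▸ hd)
        omega
      · rw [hg] at h1
        have h2 : 2 ∣ orderOf u := hg ▸ Nat.gcd_dvd_left _ _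
        omega
    have hmem : u ^ p ^ a ∈ Subgroup.centralizer ({x} : Set G) := by
      rw [Subgroup.mem_centralizer_singleton_iff]
      have hxy : Commute u (x * y) := by rw [← hu]; exact (Commute.refl u).mul_right (Commute.refl u)
      -- `x` is a power of `x * y`
      have hxp : x ∈ Subgroup.zpowers (x * y) := by
        obtain ⟨w, hw⟩ := exists_pow_eq_self_of_coprime (x := x) (n := orderOf y) hcop.symm
        refine ⟨(orderOf y * w : ℕ), ?_⟩
        show (x * y) ^ ((orderOf y * w : ℕ) : ℤ) = x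
        rw [zpow_natCast, hcomm.mul_pow, pow_mul, pow_mul, hw, pow_orderOf_eq_one, one_pow, mul_one]
      obtain ⟨i, hi⟩ := hxp
      simp only at hi
      rw [← hi]
      exact ((hxy.zpow_right i).pow_left _).eq
    have ho : orderOf (u ^ p ^ a) = 2 ^ (b + 1) := by
      rw [orderOf_pow' u (pow_ne_zero a hp'.ne_zero), hud,
        Nat.gcd_eq_right ⟨2 * 2 ^ b, by ring⟩]
      rw [show 2 * (p ^ a * 2 ^ b) = 2 ^ (b + 1) * p ^ a by ring,
        Nat.mul_div_cancel _ (pow_pos hp'.pos a)]
    have := hmax _ hmem ⟨b + 1, ho⟩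
    rw [ho, hb] at this
    exact absurd this (Nat.pow_lt_pow_right (by omega) (by omega)).not_ge
  refine ⟨hsq, ?_⟩
  set θ : G → ℂ := fun g => ((Finset.univ.filter fun s : G => s * s = g).card : ℂ) with hθ
  have hcl : IsClassFunction G θ := by
    intro g h
    simp only [hθ]
    congr 1
    refine Finset.card_equiv (MulAut.conj h⁻¹).toEquiv fun s => ?_
    simp only [Finset.mem_filter, Finset.mem_univ, true_and, MulEquiv.toEquiv_eq_coe,
      MulEquiv.coe_toEquiv, MulAut.conj_apply, inv_inv]
    constructor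
    · intro hs
      rw [show h⁻¹ * s * h * (h⁻¹ * s * h) = h⁻¹ * (s * s) * h by group, hs]
      group
    · intro hs
      rw [← hs]; group
  have hinner : ∀ χ : IrrCharacter G, classInner θ (χ : G → ℂ) = conj (fsInd (χ : G → ℂ)) := by
    intro χ
    rw [classInner_def, fsInd, map_mul, map_inv₀, map_natCast, map_sum]
    congr 1
    have h1 : ∀ g : G, θ g * conj ((χ : G → ℂ) g) = ∑ s ∈ Finset.univ.filter (fun s : G => s * s = g),
        conj ((χ : G → ℂ) (s * s)) := fun g => by
      rw [Finset.sum_congr rfl fun s hs => by rw [(Finset.mem_filter.mp hs).2], Finset.sum_const,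
        nsmul_eq_mul]
    rw [Finset.sum_congr rfl fun g _ => h1 g]
    exact Finset.sum_fiberwise Finset.univ (fun s : G => s * s) _
  have h0 : θ (x * y) = 0 := by
    simp only [hθ, Nat.cast_eq_zero, Finset.card_eq_zero, Finset.filter_eq_empty_iff]
    exact fun s _ hs => hsq ⟨s, hs⟩
  have hexp := congrFun (classFun_eq_sum hcl) (x * y)
  simp only [Finset.sum_apply, Pi.smul_apply, smul_eq_mul, hinner] at hexp
  rw [h0] at hexp
  by_contra hno
  push Not at hno
  let one' : IrrCharacter G := ⟨fun _ => 1, isIrr_one⟩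
  rw [← Finset.add_sum_erase Finset.univ _ (Finset.mem_univ one'),
    Finset.sum_eq_zero fun χ hχ => ?_] at hexp
  · simp [one', fsInd] at hexp
  · by_cases hr : ∀ g : G, ((χ : G → ℂ) g).im = 0
    · rw [hno χ (fun h => Finset.ne_of_mem_erase hχ (Subtype.ext h)) hr, mul_zero]
    · push Not at hr
      obtain ⟨g, hg⟩ := hr
      obtain ⟨n, ρ, hirr, hρ⟩ := χ.2
      rw [← hρ, fsInd_eq_zero ρ hirr ⟨g, fun h => hg (by
        rw [← hρ]; exact Complex.conj_eq_iff_im.mp h)⟩, map_zero, zero_mul]

end Cfsg.Agent.S4859
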