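import Cfsg.Statements.S4866
import Cfsg.Agent.Char.PermLemma
import Mathlib.GroupTheory.GroupAction.Quotient

set_option autoImplicit false
open Cfsg

namespace Cfsg.Agent.S4866

open CfsgLib.Char

/-- Let K be a normal subgroup of odd index in the finite group G. Then G has as many orbits on the real-valued irreducible complex characters of K (acting by conjugation) as it has orbits on the conjugacy classes of K that are real in K; equivalently, the number of G-orbits of real-valued irreducible characters of K equals the number of G-conjugacy classes of elements of K that are conjugate in K to their inverses. -/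
theorem result {G : Type*} [Group G] [Finite G] (K : Subgroup G) [K.Normal] (hodd : Odd K.index) : Nat.card (Quot (fun θ η : {θ : Cfsg.IrrCharacter ↥K // (∀ k : ↥K, ((θ : ↥K → ℂ) k).im = 0)} => ∃ g : G, ∀ k k' : ↥K, (k' : G) = g * (k : G) * g⁻¹ → (η.1 : ↥K → ℂ) k' = (θ.1 : ↥K → ℂ) k)) = Nat.card (Quot (fun x y : {x : ↥K // IsConj x x⁻¹} => ∃ g : G, (y.1 : G) = g * x.1 * g⁻¹)) := by
  classical
  haveI : Fintype G := Fintype.ofFinite G
  haveI : Fintype K := Fintype.ofFinite _
  letI actI : MulAction G (IrrCharacter K) :=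
    { smul := fun g θ => ⟨conjN (θ : K → ℂ) g⁻¹, irr_conjN θ.2 g⁻¹⟩
      one_smul := fun θ => Subtype.ext (show conjN (θ : K → ℂ) 1⁻¹ = θ by rw [inv_one, conjN_one])
      mul_smul := fun g h θ => Subtype.ext (show conjN (θ : K → ℂ) (g * h)⁻¹ =
        conjN (conjN (θ : K → ℂ) h⁻¹) g⁻¹ by rw [conjN_mul, mul_inv_rev]) }
  let cm : G → ConjClasses K → ConjClasses K := fun g =>
    ConjClasses.map (MulAut.conjNormal g : MulAut K).toMonoidHom
  have hcm : ∀ (g : G) (a : K), cm g (ConjClasses.mk a) = ConjClasses.mk (MulAut.conjNormal g a) :=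
    fun g a => rfl
  letI actC : MulAction G (ConjClasses K) :=
    { smul := cm
      one_smul := fun c => by
        obtain ⟨a, rfl⟩ := ConjClasses.exists_rep c
        exact (hcm 1 a).trans (by simp)
      mul_smul := fun g h c => by
        obtain ⟨a, rfl⟩ := ConjClasses.exists_rep c
        exact (hcm (g * h) a).trans ((congrArg ConjClasses.mk (by simp)).trans (hcm g _).symm) }
  have hsm : ∀ (g : G) (a : K), g • ConjClasses.mk a = ConjClasses.mk (MulAut.conjNormal g a) := hcm
  have hsI : ∀ (g : G) (θ : IrrCharacter K) (k : K),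
      ((g • θ : IrrCharacter K) : K → ℂ) k = (θ : K → ℂ) (MulAut.conjNormal g⁻¹ k) := fun g θ k =>
    congrFun (conjN_eq_comp (θ : K → ℂ) g⁻¹) k
  have hconjinv : ∀ (g : G) (a b : K), IsConj a b → IsConj (MulAut.conjNormal g a) (MulAut.conjNormal g b) :=
    fun g a b h => (MulAut.conjNormal g : MulAut K).toMonoidHom.map_isConj h
  have hinvconj : ∀ a b : K, IsConj a b → IsConj a⁻¹ b⁻¹ := fun a b h => by
    obtain ⟨c, rfl⟩ := isConj_iff.mp h
    exact isConj_iff.mpr ⟨c, by group⟩
  let realI : IrrCharacter K → Prop := fun θ => ∀ k : K, ((θ : K → ℂ) k).im = 0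
  let realC : ConjClasses K → Prop := fun c => ∀ a, ConjClasses.mk a = c → IsConj a a⁻¹
  have hrI : ∀ (g : G) θ, realI θ → realI (g • θ) := fun g θ h k => by rw [hsI]; exact h _
  have hrC : ∀ (g : G) c, realC c → realC (g • c) := by
    intro g c h a ha
    obtain ⟨b, rfl⟩ := ConjClasses.exists_rep c
    rw [hsm, ConjClasses.mk_eq_mk_iff_isConj] at ha
    refine ha.trans (IsConj.trans ?_ (hinvconj _ _ ha).symm)
    rw [← map_inv]
    exact hconjinv g b b⁻¹ (h b rfl)
  letI : MulAction G {θ // realI θ} :=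
    { smul := fun g θ => ⟨g • θ.1, hrI g θ.1 θ.2⟩
      one_smul := fun θ => Subtype.ext (one_smul G θ.1)
      mul_smul := fun g h θ => Subtype.ext (mul_smul g h θ.1) }
  letI : MulAction G {c // realC c} :=
    { smul := fun g c => ⟨g • c.1, hrC g c.1 c.2⟩
      one_smul := fun c => Subtype.ext (one_smul G c.1)
      mul_smul := fun g h c => Subtype.ext (mul_smul g h c.1) }
  have hinner : ∀ k : K, ∀ a : K, IsConj a (MulAut.conjNormal (k : G) a) := fun k a =>
    isConj_iff.mpr ⟨k, Subtype.ext (by simp)⟩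
  have hKI : ∀ (g : G), g ∈ K → ∀ θ : IrrCharacter K, g • θ = θ := fun g hg θ =>
    Subtype.ext (conjN_of_mem (classFun_of_irr θ.2) (inv_mem hg))
  have hKC : ∀ (g : G), g ∈ K → ∀ c : ConjClasses K, g • c = c := fun g hg c => by
    obtain ⟨a, rfl⟩ := ConjClasses.exists_rep c
    rw [hsm, ConjClasses.mk_eq_mk_iff_isConj]
    exact (hinner ⟨g, hg⟩ a).symm
  have hsq : ∀ {X : Type _} [MulAction G X] (g : G) (x : X), (∀ h ∈ K, h • x = x) → (g * g) • x = x →
      g • x = x := by
    intro X _ g x hK h2
    obtain ⟨j, hj⟩ := hodd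
    have hm : g ^ K.index ∈ K := K.pow_index_mem g
    rw [hj] at hm
    have h3 : g ∈ MulAction.stabilizer G x := by
      have h4 : g * g ∈ MulAction.stabilizer G x := h2
      have h5 : g ^ (2 * j + 1) ∈ MulAction.stabilizer G x := hK _ hm
      have := mul_mem (inv_mem (pow_mem h4 j)) h5
      rwa [← pow_two, ← pow_mul, pow_succ, inv_mul_cancel_left] at this
    exact h3
  have hfix : ∀ g : G, Nat.card (MulAction.fixedBy {θ // realI θ} g) =
      Nat.card (MulAction.fixedBy {c // realC c} g) := by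
    intro g
    let f : K → K := fun k => (MulAut.conjNormal g⁻¹ k)⁻¹
    have hf : ∀ θ : IrrCharacter K, (θ : K → ℂ) ∘ f =
        fun k => (starRingEnd ℂ) (((g • θ : IrrCharacter K) : K → ℂ) k) := fun θ => funext fun k => by
      rw [hsI]
      exact char_conj_eq (isCharacter_of_isIrr θ.2) _
    have hfirr : ∀ θ : IrrCharacter K, IsIrrCharacter K ((θ : K → ℂ) ∘ f) := fun θ => by
      rw [hf]; exact irr_conj (g • θ).2
    have hconjI : ∀ θ : IrrCharacter K, (θ : K → ℂ) ∘ f = (θ : K → ℂ) ↔ realI θ ∧ g • θ = θ := by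
      intro θ
      rw [hf]
      constructor
      · intro h
        have h' : ∀ k, ((g • θ : IrrCharacter K) : K → ℂ) k = (starRingEnd ℂ) ((θ : K → ℂ) k) :=
          fun k => by
            have := congrArg (starRingEnd ℂ) (congrFun h k)
            simpa using this
        have h2 : (g * g) • θ = θ := Subtype.ext (funext fun k => by
          rw [mul_smul, hsI, h', ← congrFun h k, hsI])
        have h3 := hsq g θ (fun x hx => hKI x hx θ) h2
        refine ⟨fun k => ?_, h3⟩
        have := congrFun h k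
        rw [h3] at this
        exact Complex.conj_eq_iff_im.mp this
      · rintro ⟨h1, h2⟩
        funext k
        rw [h2]
        exact Complex.conj_eq_iff_im.mpr (h1 k)
    have hconjC : ∀ c : ConjClasses K, (∀ a, ConjClasses.mk a = c → ConjClasses.mk (f a) = c) ↔
        realC c ∧ g • c = c := by
      intro c
      obtain ⟨b, rfl⟩ := ConjClasses.exists_rep c
      constructor
      · intro h
        have h1 : IsConj (MulAut.conjNormal g⁻¹ b)⁻¹ b := ConjClasses.mk_eq_mk_iff_isConj.mp (h b rfl)
        have h1' : IsConj (MulAut.conjNormal g⁻¹ b) b⁻¹ := by simpa using hinvconj _ _ h1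
        have h2 : (g⁻¹ * g⁻¹) • ConjClasses.mk b = ConjClasses.mk b := by
          rw [mul_smul, hsm, hsm, ConjClasses.mk_eq_mk_iff_isConj]
          exact (hconjinv g⁻¹ _ _ h1').trans (by rw [map_inv]; exact h1)
        have h3 := hsq g⁻¹ (ConjClasses.mk b) (fun x hx => hKC x hx _) h2
        have h4 : g • ConjClasses.mk b = ConjClasses.mk b := inv_smul_eq_iff.mp h3 |>.symm
        rw [hsm, ConjClasses.mk_eq_mk_iff_isConj] at h3
        refine ⟨fun a ha => ?_, h4⟩
        have ha' := ConjClasses.mk_eq_mk_iff_isConj.mp ha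
        exact ha'.trans ((h3.symm.trans h1').trans (hinvconj _ _ ha').symm)
      · rintro ⟨hr, hg⟩ a ha
        have ha' := ConjClasses.mk_eq_mk_iff_isConj.mp ha
        have h3 : g⁻¹ • ConjClasses.mk b = ConjClasses.mk b := inv_smul_eq_iff.mpr hg.symm
        rw [hsm, ConjClasses.mk_eq_mk_iff_isConj] at h3
        rw [ConjClasses.mk_eq_mk_iff_isConj]
        exact (hinvconj _ _ ((hconjinv g⁻¹ _ _ ha').trans h3)).trans (hr b rfl).symm
    calc Nat.card (MulAction.fixedBy {θ // realI θ} g)
        = Nat.card {θ : IrrCharacter K // (θ : K → ℂ) ∘ f = (θ : K → ℂ)} :=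
          Nat.card_congr
            { toFun := fun θ => ⟨θ.1.1, (hconjI _).mpr ⟨θ.1.2, congrArg Subtype.val θ.2⟩⟩
              invFun := fun θ => ⟨⟨θ.1, ((hconjI _).mp θ.2).1⟩, Subtype.ext ((hconjI _).mp θ.2).2⟩
              left_inv := fun θ => rfl
              right_inv := fun θ => rfl }
      _ = Nat.card {c : ConjClasses K // ∀ a, ConjClasses.mk a = c → ConjClasses.mk (f a) = c} :=
          card_fixed_irr_eq_classes f hfirr
      _ = Nat.card (MulAction.fixedBy {c // realC c} g) :=
          Nat.card_congr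
            { toFun := fun c => ⟨⟨c.1, ((hconjC _).mp c.2).1⟩, Subtype.ext ((hconjC _).mp c.2).2⟩
              invFun := fun c => ⟨c.1.1, (hconjC _).mpr ⟨c.1.2, congrArg Subtype.val c.2⟩⟩
              left_inv := fun c => rfl
              right_inv := fun c => rfl }
  haveI : ∀ g : G, Fintype (MulAction.fixedBy {θ // realI θ} g) := fun g => Fintype.ofFinite _
  haveI : ∀ g : G, Fintype (MulAction.fixedBy {c // realC c} g) := fun g => Fintype.ofFinite _
  haveI : Fintype (MulAction.orbitRel.Quotient G {θ // realI θ}) := Fintype.ofFinite _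
  haveI : Fintype (MulAction.orbitRel.Quotient G {c // realC c}) := Fintype.ofFinite _
  have hI := MulAction.sum_card_fixedBy_eq_card_orbits_mul_card_group G {θ // realI θ}
  have hC := MulAction.sum_card_fixedBy_eq_card_orbits_mul_card_group G {c // realC c}
  simp only [← Nat.card_eq_fintype_card, hfix] at hI hC
  have hmain := Nat.eq_of_mul_eq_mul_right Nat.card_pos (hI.symm.trans hC)
  refine Eq.trans ?_ (hmain.trans ?_)
  · refine Nat.card_congr (Quot.congrRight fun θ η => ?_)
    show (∃ g : G, _) ↔ θ ∈ MulAction.orbit G η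
    constructor
    · rintro ⟨g, hg⟩
      refine ⟨g⁻¹, Subtype.ext (Subtype.ext (funext fun k => ?_))⟩
      show ((g⁻¹ • η.1 : IrrCharacter K) : K → ℂ) k = _
      rw [hsI, inv_inv]
      exact hg k _ (MulAut.conjNormal_apply g k)
    · rintro ⟨g, rfl⟩
      refine ⟨g⁻¹, fun k k' hk => ?_⟩
      show _ = ((g • η.1 : IrrCharacter K) : K → ℂ) k
      rw [hsI]
      exact congrArg (η.1 : K → ℂ) (Subtype.ext (by simpa using hk))
  · have hreal : ∀ x : {x : ↥K // IsConj x x⁻¹}, realC (ConjClasses.mk x.1) := fun x a ha => by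
      have ha' := ConjClasses.mk_eq_mk_iff_isConj.mp ha
      exact ha'.trans (x.2.trans (hinvconj _ _ ha').symm)
    refine (Nat.card_congr (Equiv.ofBijective (Quot.lift
      (fun x => (Quotient.mk'' ⟨ConjClasses.mk x.1, hreal x⟩ :
        MulAction.orbitRel.Quotient G {c // realC c})) ?_) ⟨?_, ?_⟩)).symm
    · rintro x y ⟨g, hg⟩
      refine Quotient.sound' (MulAction.orbitRel_apply.mpr ⟨g⁻¹, Subtype.ext ?_⟩)
      show g⁻¹ • ConjClasses.mk y.1 = ConjClasses.mk x.1
      rw [hsm]
      exact congrArg ConjClasses.mk (Subtype.ext (by simp [hg, mul_assoc]))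
    · rintro ⟨x⟩ ⟨y⟩ hxy
      obtain ⟨g, hg⟩ := MulAction.orbitRel_apply.mp (Quotient.exact' hxy)
      have hg' : g • ConjClasses.mk y.1 = ConjClasses.mk x.1 := congrArg Subtype.val hg
      rw [hsm, ConjClasses.mk_eq_mk_iff_isConj] at hg'
      obtain ⟨k, hk⟩ := isConj_iff.mp hg'
      refine Quot.sound ⟨((k : G) * g)⁻¹, ?_⟩
      rw [← hk]
      simp [mul_assoc]
    · intro q
      induction q using Quotient.inductionOn' with
      | h c =>
        obtain ⟨a, ha⟩ := ConjClasses.exists_rep c.1
        exact ⟨Quot.mk _ ⟨a, c.2 a ha⟩, congrArg Quotient.mk'' (Subtype.ext ha)⟩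

end Cfsg.Agent.S4866
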