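import Cfsg.Statements.S4870
import Cfsg.Agent.Char.LinearTwist

set_option autoImplicit false
open Cfsg

namespace Cfsg.Agent.S4870

open CfsgLib.Char

/-- Let G be a finite group with a non-abelian minimal normal subgroup N, and let φ be an irreducible complex character of N with stabilizer I in G (the elements g with φ(g n g⁻¹) = φ(n) for all n ∈ N) such that φ extends to an irreducible character of I. Put d = φ(1)·[G : I]. Then the number of linear characters of G is at most [G : I] times the number of irreducible characters of G of degree d. -/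
theorem result {G : Type*} [Group G] [Finite G] (N : Subgroup G) (hN : N.Normal) (hN1 : N ≠ ⊥) (hmin : ∀ M : Subgroup G, M.Normal → M ≤ N → M = ⊥ ∨ M = N) (hna : ¬ IsMulCommutative ↥N) (φ : Cfsg.IrrCharacter ↥N) (I : Subgroup G) (hI : ∀ g : G, g ∈ I ↔ ∀ n n' : ↥N, (n' : G) = g * (n : G) * g⁻¹ → (φ : ↥N → ℂ) n' = (φ : ↥N → ℂ) n) (hNI : N ≤ I) (hext : ∃ ψ : Cfsg.IrrCharacter ↥I, ∀ n : ↥N, (ψ : ↥I → ℂ) (Subgroup.inclusion hNI n) = (φ : ↥N → ℂ) n) : Nat.card {χ : Cfsg.IrrCharacter G // Cfsg.charDegree (χ : G → ℂ) = 1} ≤ I.index * Nat.card {χ : Cfsg.IrrCharacter G // Cfsg.charDegree (χ : G → ℂ) = Cfsg.charDegree (φ : ↥N → ℂ) * I.index} := by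
  classical
  haveI := Fintype.ofFinite G
  haveI := hN
  haveI := Fintype.ofFinite N
  haveI := Fintype.ofFinite I
  obtain ⟨ψ, hψ⟩ := hext
  have hT : ∀ g : G, g ∈ I ↔ conjN (φ : N → ℂ) g = (φ : N → ℂ) := by
    intro g
    rw [hI g]
    constructor
    · intro h; funext n
      exact h n ⟨g * n * g⁻¹, hN.conj_mem n n.2 g⟩ rfl
    · intro h n n' hn
      have : n' = ⟨g * n * g⁻¹, hN.conj_mem n n.2 g⟩ := Subtype.ext hn
      rw [this]
      exact congrFun h n
  have hNtriv : ∀ (L : G →* ℂˣ), ∀ n ∈ N, L n = 1 := by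
    intro L n hn
    have hsupr : ⁅N, N⁆ = N := by
      rcases hmin ⁅N, N⁆ inferInstance (Subgroup.commutator_le_left N N) with h | h
      · exfalso
        refine hna ⟨⟨fun a b => Subtype.ext ?_⟩⟩
        have h1 := Subgroup.commutator_eq_bot_iff_le_centralizer.mp h a.2
        exact (Subgroup.mem_centralizer_iff.mp h1 b b.2).symm
      · exact h
    have h1 : n ∈ commutator G := by
      rw [← hsupr] at hn
      exact Subgroup.commutator_mono le_top le_top hn
    exact MonoidHom.mem_ker.1 (Abelianization.commutator_subset_ker L h1)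
  have h := card_linear_le φ.2 hT hNI ψ.2 hψ hNtriv (fun _ => True) (fun _ => True) (fun _ _ _ => trivial)
  rw [← card_degree_one (fun _ => True)] at h
  simpa using h

end Cfsg.Agent.S4870
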