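import Cfsg.Statements.S4871
import Cfsg.Agent.Char.Monomial
import Cfsg.Agent.Char.PPrimeDegree

set_option autoImplicit false
open Cfsg

namespace Cfsg.Agent.S4871

open CfsgLib.Char Pointwise

set_option maxHeartbeats 800000

/-- Let G be a finite group that is the semidirect product of a normal elementary abelian subgroup N of odd order by a non-trivial 2-subgroup P, with N the unique minimal normal subgroup of G. Consider the strongly real irreducible complex characters of G (Frobenius–Schur indicator +1) whose degree is 1 or even. Then their average degree is at least 4/3: four times their number is at most three times the sum of their degrees. -/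
theorem result {G : Type*} [Group G] [Finite G] (N P : Subgroup G) (hN : N.Normal) (q : ℕ) [Fact q.Prime] (hq : q ≠ 2) (hNel : Cfsg.IsElementaryAbelian q N) (hP : IsPGroup 2 ↥P) (hP1 : P ≠ ⊥) (hdisj : N ⊓ P = ⊥) (hprod : N ⊔ P = ⊤) (hmin : N ≠ ⊥ ∧ ∀ M : Subgroup G, M.Normal → M ≠ ⊥ → N ≤ M) : 4 * Nat.card {χ : Cfsg.IrrCharacter G // (Cfsg.charDegree (χ : G → ℂ) = 1 ∨ 2 ∣ Cfsg.charDegree (χ : G → ℂ)) ∧ (Nat.card G : ℂ)⁻¹ * ∑ᶠ g : G, (χ : G → ℂ) (g * g) = 1} ≤ 3 * (∑ᶠ χ : {χ : Cfsg.IrrCharacter G // (Cfsg.charDegree (χ : G → ℂ) = 1 ∨ 2 ∣ Cfsg.charDegree (χ : G → ℂ)) ∧ (Nat.card G : ℂ)⁻¹ * ∑ᶠ g : G, (χ : G → ℂ) (g * g) = 1}, Cfsg.charDegree (χ.1 : G → ℂ)) := by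
  classical
  letI := Fintype.ofFinite G
  haveI := hN
  obtain ⟨hcom, hexp⟩ := hNel
  have hcomm : ∀ a ∈ N, ∀ b ∈ N, a * b = b * a := fun a ha b hb =>
    congrArg Subtype.val (hcom.is_comm.comm ⟨a, ha⟩ ⟨b, hb⟩)
  have hqp : q.Prime := Fact.out
  obtain ⟨c, hc⟩ := hqp.odd_of_ne_two hq
  have hsq : ∀ a ∈ N, (a ^ (c + 1)) ^ 2 = a := by
    intro a ha
    rw [← pow_mul, show (c + 1) * 2 = q + 1 by omega, pow_succ, hexp a ha, one_mul]
  -- projection to `P`
  let π : P →* G ⧸ N := (QuotientGroup.mk' N).comp P.subtype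
  have hπi : Function.Injective π := by
    rw [injective_iff_map_eq_one]
    intro a ha
    have h1 : (a : G) ∈ N ⊓ P := ⟨(QuotientGroup.eq_one_iff _).1 ha, a.2⟩
    rw [hdisj, Subgroup.mem_bot] at h1
    exact Subtype.ext h1
  have hπs : Function.Surjective π := by
    intro y
    obtain ⟨g, rfl⟩ := QuotientGroup.mk'_surjective N y
    have hg : g ∈ ((N ⊔ P : Subgroup G) : Set G) := by rw [hprod]; trivial
    rw [Subgroup.normal_mul] at hg
    obtain ⟨n, hn, s, hs, rfl⟩ := hg
    refine ⟨⟨s, hs⟩, (QuotientGroup.eq).2 ?_⟩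
    show s⁻¹ * (n * s) ∈ N
    simpa [mul_assoc] using hN.conj_mem n hn s⁻¹
  let f : G →* P := (MulEquiv.ofBijective π ⟨hπi, hπs⟩).symm.toMonoidHom.comp (QuotientGroup.mk' N)
  have hf : ∀ g : G, g * (f g : G)⁻¹ ∈ N := by
    intro g
    have h1 : π (f g) = QuotientGroup.mk' N g :=
      (MulEquiv.ofBijective π ⟨hπi, hπs⟩).apply_symm_apply _
    have h2 : (f g : G)⁻¹ * g ∈ N := (QuotientGroup.eq).1 h1
    have h3 := hN.conj_mem _ h2 (f g : G)
    simpa [mul_assoc] using h3
  have hfN : ∀ n ∈ N, f n = 1 := by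
    intro n hn
    show (MulEquiv.ofBijective π ⟨hπi, hπs⟩).symm (QuotientGroup.mk' N n) = 1
    rw [QuotientGroup.mk'_apply, (QuotientGroup.eq_one_iff n).2 hn, map_one]
  -- a central involution inverting `N`
  haveI : Nontrivial P := (Subgroup.nontrivial_iff_ne_bot P).2 hP1
  haveI := hP.center_nontrivial
  obtain ⟨k, hk⟩ := IsPGroup.iff_card.1 (hP.to_subgroup (Subgroup.center P))
  have hk0 : k ≠ 0 := by
    rintro rfl
    rw [pow_zero] at hk
    exact absurd hk Finite.one_lt_card.ne'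
  obtain ⟨z₁, hz₁⟩ := exists_prime_orderOf_dvd_card' (G := Subgroup.center P) 2 (hk ▸ dvd_pow_self 2 hk0)
  set z : G := ((z₁ : P) : G) with hz
  have hzo : orderOf z = 2 := by rw [hz, Subgroup.orderOf_coe, Subgroup.orderOf_coe, hz₁]
  have hz2 : z * z = 1 := by rw [← pow_two, ← hzo, pow_orderOf_eq_one]
  have hzne : z ≠ 1 := fun h => by rw [h, orderOf_one] at hzo; omega
  have hzinv : z⁻¹ = z := inv_eq_of_mul_eq_one_left hz2
  have hzc : ∀ s ∈ P, s * z = z * s := fun s hs =>
    congrArg Subtype.val (Subgroup.mem_center_iff.1 z₁.2 ⟨s, hs⟩)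
  have hzN : ∀ n ∈ N, z * n * z⁻¹ = n⁻¹ := by
    let C : Subgroup G := N ⊓ Subgroup.centralizer ({z} : Set G)
    have hCn : C.Normal := by
      constructor
      rintro a ⟨ha, haz⟩ g
      replace haz : a * z = z * a := Subgroup.mem_centralizer_singleton_iff.1 haz
      refine ⟨hN.conj_mem a ha g, Subgroup.mem_centralizer_singleton_iff.2 ?_⟩
      have hg : g * a * g⁻¹ = (f g : G) * a * (f g : G)⁻¹ := by
        have h1 := hcomm _ (hf g) _ (hN.conj_mem a ha (f g : G))
        calc g * a * g⁻¹ = (g * (f g : G)⁻¹ * ((f g : G) * a * (f g : G)⁻¹)) * (g * (f g : G)⁻¹)⁻¹ := by group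
          _ = _ := by rw [h1, mul_inv_cancel_right]
      rw [hg]
      have h2 := hzc _ (f g).2
      calc (f g : G) * a * (f g : G)⁻¹ * z = (f g : G) * a * (f g : G)⁻¹ * z * ((f g : G) * (f g : G)⁻¹) := by group
        _ = (f g : G) * a * (f g : G)⁻¹ * ((f g : G) * z) * (f g : G)⁻¹ := by rw [h2]; group
        _ = (f g : G) * (a * z) * (f g : G)⁻¹ := by group
        _ = (f g : G) * (z * a) * (f g : G)⁻¹ := by rw [haz]
        _ = z * ((f g : G) * a * (f g : G)⁻¹) := by
          rw [← mul_assoc, h2]; group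
    have hC : C = ⊥ := by
      by_contra hne
      have hNC : N ≤ Subgroup.centralizer ({z} : Set G) := (hmin.2 C hCn hne).trans inf_le_right
      have hzn : (Subgroup.zpowers z).Normal := by
        apply Subgroup.Normal.mk
        intro a ha g
        have hgz : g * z = z * g := by
          have h1 := Subgroup.mem_centralizer_singleton_iff.1 (hNC (hf g))
          have h2 := hzc _ (f g).2
          calc g * z = (g * (f g : G)⁻¹) * ((f g : G) * z) := by group
            _ = ((g * (f g : G)⁻¹) * z) * (f g : G) := by rw [h2]; group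
            _ = z * g := by rw [h1]; group
        obtain ⟨i, rfl⟩ := Subgroup.mem_zpowers_iff.1 ha
        rw [(show Commute g z from hgz).zpow_right i |>.eq, mul_inv_cancel_right]
        exact ha
      have hNP : N ≤ P := (hmin.2 _ hzn (by simpa [Subgroup.zpowers_eq_bot] using hzne)).trans
        (Subgroup.zpowers_le.2 (z₁ : P).2)
      exact hmin.1 (by rw [← hdisj, inf_eq_left.2 hNP])
    intro n hn
    have hm : n * (z * n * z⁻¹) ∈ C := by
      refine ⟨N.mul_mem hn (hN.conj_mem n hn z), Subgroup.mem_centralizer_singleton_iff.2 ?_⟩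
      rw [hzinv]
      calc n * (z * n * z) * z = n * (z * n) * (z * z) := by group
        _ = (n * (z * n * z⁻¹)) * z := by rw [hz2, hzinv]; simp [mul_assoc, hz2]
        _ = ((z * n * z⁻¹) * n) * z := by rw [hcomm n hn _ (hN.conj_mem n hn z)]
        _ = z * (n * (z * n * z)) := by rw [hzinv]; group
    rw [hC, Subgroup.mem_bot] at hm
    exact eq_inv_of_mul_eq_one_right hm
  -- the linear character of `N` and its extension
  obtain ⟨x, hxN, hx1⟩ := (Subgroup.ne_bot_iff_exists_ne_one).1 hmin.1 |> fun ⟨a, ha⟩ =>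
    (⟨(a : G), a.2, fun e => ha (Subtype.ext e)⟩ : ∃ x ∈ N, x ≠ 1)
  obtain ⟨lam, hlam⟩ := exists_linear_ne_one (H := N) (x := ⟨x, hxN⟩) (by
    rw [show commutator N = ⊥ from (commutator_eq_bot_iff_center_eq_top _).2
      (top_le_iff.1 fun a _ => Subgroup.mem_center_iff.2 fun b => hcom.is_comm.comm b a), Subgroup.mem_bot]
    exact fun e => hx1 (congrArg Subtype.val e))
  let θ : N → ℂ := fun n => (lam n : ℂ)
  have hθ : IsIrrCharacter N θ := isIrr_linear lam
  have hθe : ∀ a b : N, θ a = θ b ↔ lam a = lam b := fun a b => Units.val_inj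
  let T : Subgroup G := inertia θ
  letI : Fintype T := Fintype.ofFinite T
  letI : Fintype N := Fintype.ofFinite N
  have hT : ∀ g, g ∈ T ↔ conjN θ g = θ := fun g => mem_inertia
  have hT' : ∀ g, g ∈ T ↔ ∀ n : N, lam ⟨g * n * g⁻¹, hN.conj_mem n n.2 g⟩ = lam n :=
    fun g => mem_inertia'.trans (forall_congr' fun n => hθe _ _)
  have hNT : N ≤ T := le_inertia (classFun_of_irr hθ)
  have hfT : ∀ t ∈ T, (f t : G) ∈ T := by
    intro t ht
    have := T.mul_mem (T.inv_mem (hNT (hf t))) ht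
    simpa using this
  let e : T →* ℂˣ := MonoidHom.mk' (fun t => lam ⟨(t : G) * (f t : G)⁻¹, hf t⟩) (by
    intro a b
    have h1 := (hT' _).1 (hfT a a.2) ⟨(b : G) * (f b : G)⁻¹, hf b⟩
    rw [← h1, ← map_mul]
    refine congrArg lam (Subtype.ext ?_)
    show (a : G) * b * (f ((a : G) * b) : G)⁻¹ =
      (a : G) * (f a : G)⁻¹ * ((f a : G) * ((b : G) * (f b : G)⁻¹) * (f a : G)⁻¹)
    rw [map_mul, Subgroup.coe_mul]; group)
  -- real linear characters
  let E : Set (G →* ℂˣ) := {μ | ∀ g, μ g * μ g = 1}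
  have hEN : ∀ μ ∈ E, ∀ n ∈ N, μ n = 1 := by
    intro μ hμ n hn
    rw [← hsq n hn, map_pow, pow_two]; exact hμ _
  haveI : Finite (G →* ℂˣ) := by
    refine Finite.of_injective (fun μ : G →* ℂˣ =>
      (⟨_, isIrr_linear μ⟩ : IrrCharacter G)) fun μ ν h => ?_
    ext g
    exact congrFun (congrArg Subtype.val h) g
  let r : (G →* ℂˣ) → (T →* ℂˣ) := fun μ => e * μ.comp T.subtype
  let I : Set (T →* ℂˣ) := r '' E
  have hres : ∀ i ∈ I, ∀ n : N, i ⟨n, hNT n.2⟩ = lam n := by
    rintro _ ⟨μ, hμ, rfl⟩ n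
    show lam _ * μ (n : G) = lam n
    rw [hEN μ hμ n n.2, mul_one]
    exact congrArg lam (Subtype.ext (show (n : G) * (f n : G)⁻¹ = n by simp [hfN n n.2]))
  have hzT : z ∉ T := by
    intro h
    have h1 : ∀ n : N, lam n * lam n = 1 := by
      intro n
      have h2 := (hT' z).1 h n
      have h3 : (⟨z * (n : G) * z⁻¹, hN.conj_mem n n.2 z⟩ : N) = n⁻¹ := Subtype.ext (hzN n n.2)
      rw [h3, map_inv] at h2
      nth_rewrite 1 [← h2]
      exact inv_mul_cancel _
    refine hlam ?_
    rw [show (⟨x, hxN⟩ : N) = (⟨x, hxN⟩ ^ (c + 1)) ^ 2 from Subtype.ext (hsq x hxN).symm, pow_two, map_mul]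
    exact h1 _
  set d := T.index with hd
  have hd2 : 2 ∣ d := by
    obtain ⟨m, hm⟩ := IsPGroup.iff_card.1 hP
    have h1 : d ∣ 2 ^ m := by
      rw [← hm, Nat.card_congr (MulEquiv.ofBijective π ⟨hπi, hπs⟩).toEquiv, ← Subgroup.index_eq_card]
      exact Subgroup.index_dvd_of_le hNT
    obtain ⟨j, -, hj⟩ := (Nat.dvd_prime_pow Nat.prime_two).1 h1
    rcases Nat.eq_zero_or_pos j with rfl | hj0
    · exact absurd (Subgroup.index_eq_one.1 hj ▸ Subgroup.mem_top z : z ∈ T) hzT
    · exact hj ▸ dvd_pow_self 2 hj0.ne'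
  have hind : ∀ i ∈ I, IsIrrCharacter G (indFun T (fun t => (i t : ℂ))) ∧
      classInner (fun n : N => (i ⟨n, hNT n.2⟩ : ℂ)) θ ≠ 0 := by
    intro i hi
    have h1 : (fun n : N => (i ⟨n, hNT n.2⟩ : ℂ)) = θ := funext fun n => by rw [hres i hi n]
    have h2 : classInner (fun n : N => (i ⟨n, hNT n.2⟩ : ℂ)) θ ≠ 0 := by
      rw [h1, irr_inner_self hθ]; exact one_ne_zero
    exact ⟨(clifford_induce hθ hT hNT (isIrr_linear i) h2).1, h2⟩
  have hdeg : ∀ i : T →* ℂˣ, indFun T (fun t => (i t : ℂ)) 1 = d := by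
    intro i; rw [indFun_one]; simp [hd]
  have hnu : ∀ i ∈ I, (Nat.card G : ℂ)⁻¹ * ∑ᶠ g : G, indFun T (fun t => (i t : ℂ)) (g * g) = 1 := by
    intro i hi
    obtain ⟨μ, hμ, rfl⟩ := hi
    let F : G → ℂ := fun g => extendByZero T (fun t => (r μ t : ℂ)) (g * g)
    rw [finsum_eq_sum_of_fintype]
    simp only [indFun_apply]
    rw [← Finset.mul_sum, Finset.sum_comm]
    have h1 : ∀ y : G, ∑ g : G, extendByZero T (fun t => (r μ t : ℂ)) (y⁻¹ * (g * g) * y) = ∑ g : G, F g :=
      fun y => Fintype.sum_equiv (MulAut.conj y⁻¹).toEquiv _ _ fun g => by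
        show _ = extendByZero T (fun t => (r μ t : ℂ)) (y⁻¹ * g * y⁻¹⁻¹ * (y⁻¹ * g * y⁻¹⁻¹))
        congr 1; group
    rw [Finset.sum_congr rfl fun y _ => h1 y, Finset.sum_const, Finset.card_univ, nsmul_eq_mul,
      Fintype.card_eq_nat_card]
    let χg : G → (N →* ℂ) := fun g => (Units.coeHom ℂ).comp
      (lam * lam.comp (MulAut.conjNormal g : N ≃* N).toMonoidHom)
    have hshift : ∀ (g : G) (m : N), F ((m : G) * g) = χg g m * F g := by
      intro g m
      have hmem : (m : G) * (g * m * g⁻¹) ∈ N := N.mul_mem m.2 (hN.conj_mem m m.2 g)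
      have heq : (m : G) * g * ((m : G) * g) = ((m : G) * (g * m * g⁻¹)) * (g * g) := by group
      show extendByZero T _ _ = _ * extendByZero T _ _
      rw [heq]
      by_cases hg : g * g ∈ T
      · rw [extendByZero_mem' _ _ hg, extendByZero_mem' _ _ (T.mul_mem (hNT hmem) hg)]
        have h2 : r μ ⟨_, T.mul_mem (hNT hmem) hg⟩ = r μ ⟨_, hNT hmem⟩ * r μ ⟨_, hg⟩ :=
          map_mul (r μ) ⟨_, hNT hmem⟩ ⟨_, hg⟩
        rw [h2, hres _ ⟨μ, hμ, rfl⟩ ⟨_, hmem⟩, Units.val_mul]
        congr 1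
        show ((lam ⟨_, hmem⟩ : ℂˣ) : ℂ) = ((lam m * lam (MulAut.conjNormal g m) : ℂˣ) : ℂ)
        rw [← map_mul]
        exact congrArg (fun a => ((lam a : ℂˣ) : ℂ)) (Subtype.ext rfl)
      · rw [extendByZero_not_mem _ _ hg, mul_zero, extendByZero_not_mem]
        intro h
        exact hg (by simpa [mul_assoc] using T.mul_mem (T.inv_mem (hNT hmem)) h)
    have hA : ∀ g : G, χg g = 1 ↔ g * z ∈ T := by
      intro g
      rw [hT']
      constructor
      · intro h n
        have h2 := congrArg (fun φ : N →* ℂ => φ (⟨z * n * z⁻¹, hN.conj_mem n n.2 z⟩)) h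
        change ((lam _ * lam _ : ℂˣ) : ℂ) = 1 at h2
        rw [Units.val_eq_one] at h2
        have h3 : (⟨z * (n : G) * z⁻¹, hN.conj_mem n n.2 z⟩ : N) = n⁻¹ := Subtype.ext (hzN n n.2)
        have h4 : (⟨g * z * (n : G) * (g * z)⁻¹, hN.conj_mem n n.2 (g * z)⟩ : N) =
            MulAut.conjNormal g n⁻¹ := by
          apply Subtype.ext
          show g * z * (n : G) * (g * z)⁻¹ = g * (n⁻¹ : G) * g⁻¹
          rw [← hzN n n.2]; group
        rw [h3, map_inv] at h2
        rw [h4]
        exact (inv_mul_eq_one.1 h2).symm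
      · intro h
        ext n
        show ((lam n * lam (MulAut.conjNormal g n) : ℂˣ) : ℂ) = 1
        rw [Units.val_eq_one]
        have h2 := h n⁻¹
        have h4 : (⟨g * z * ((n⁻¹ : N) : G) * (g * z)⁻¹, hN.conj_mem _ (n⁻¹).2 (g * z)⟩ : N) =
            MulAut.conjNormal g n := by
          apply Subtype.ext
          show g * z * ((n⁻¹ : N) : G) * (g * z)⁻¹ = g * (n : G) * g⁻¹
          have := hzN _ (n⁻¹).2
          rw [InvMemClass.coe_inv, inv_inv] at this
          rw [InvMemClass.coe_inv]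
          nth_rewrite 2 [← this]; group
        rw [h4, map_inv] at h2
        rw [h2, mul_inv_cancel]
    have hF1 : ∀ g : G, χg g = 1 → F g = 1 := by
      intro g hg
      have hgz := (hA g).1 hg
      have hsz : (f g : G) * z ∈ T := by
        have := T.mul_mem (T.inv_mem (hNT (hf g))) hgz
        simpa [mul_assoc] using this
      have hss : (f g : G) * (f g : G) ∈ T := by
        have := T.mul_mem hsz hsz
        have e1 : (f g : G) * z * ((f g : G) * z) = (f g : G) * (f g : G) * (z * z) := by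
          rw [mul_assoc, ← mul_assoc z, ← hzc _ (f g).2]; group
        rwa [e1, hz2, mul_one] at this
      set n : N := ⟨g * (f g : G)⁻¹, hf g⟩
      have hmem : g * g * (f (g * g) : G)⁻¹ = (n : G) * ((f g : G) * n * (f g : G)⁻¹) := by
        rw [map_mul, Subgroup.coe_mul]
        show _ = g * (f g : G)⁻¹ * ((f g : G) * (g * (f g : G)⁻¹) * (f g : G)⁻¹)
        group
      have hggT : g * g ∈ T := by
        have := T.mul_mem (hNT (hf (g * g))) (show (f (g * g) : G) ∈ T by rw [map_mul]; exact hss)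
        rwa [inv_mul_cancel_right] at this
      show extendByZero T _ _ = 1
      rw [extendByZero_mem' _ _ hggT]
      show ((lam _ * μ (g * g) : ℂˣ) : ℂ) = 1
      rw [map_mul μ, hμ, mul_one, Units.val_eq_one]
      have h3 := congrArg (fun φ : N →* ℂ => φ n) hg
      change ((lam n * lam (MulAut.conjNormal g n) : ℂˣ) : ℂ) = 1 at h3
      rw [Units.val_eq_one, ← map_mul] at h3
      refine Eq.trans (congrArg lam (Subtype.ext ?_)) h3
      show _ = (n : G) * (g * (n : G) * g⁻¹)
      refine hmem.trans ?_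
      congr 1
      have h5 := hcomm _ (hN.conj_mem _ n.2 (f g : G)) _ n.2
      calc (f g : G) * n * (f g : G)⁻¹ = (n : G) * ((f g : G) * n * (f g : G)⁻¹) * (n : G)⁻¹ := by
            rw [← h5, mul_inv_cancel_right]
        _ = g * n * g⁻¹ := by show g * (f g : G)⁻¹ * _ * (g * (f g : G)⁻¹)⁻¹ = _; group
    have hsum : ∑ g : G, F g = (Nat.card T : ℂ) := by
      have hNc : (Nat.card N : ℂ) ≠ 0 := natCard_ne_zero N
      refine mul_left_cancel₀ hNc ?_
      have e1 : (Nat.card N : ℂ) * ∑ g : G, F g = ∑ m : N, ∑ g : G, F ((m : G) * g) := by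
        have e0 : ∀ m : N, ∑ g : G, F ((m : G) * g) = ∑ g : G, F g := fun m =>
          Fintype.sum_equiv (Equiv.mulLeft (m : G)) _ _ (fun g => rfl)
        rw [Finset.sum_congr rfl fun m _ => e0 m, Finset.sum_const, Finset.card_univ, nsmul_eq_mul,
          Fintype.card_eq_nat_card]
      rw [e1, Finset.sum_comm]
      have e2 : ∀ g : G, ∑ m : N, F ((m : G) * g) = if g * z ∈ T then (Nat.card N : ℂ) else 0 := by
        intro g
        rw [Finset.sum_congr rfl fun m _ => hshift g m, ← Finset.sum_mul, sum_hom_units]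
        by_cases hg : χg g = 1
        · rw [if_pos hg, if_pos ((hA g).1 hg), hF1 g hg, mul_one, Fintype.card_eq_nat_card]
        · rw [if_neg hg, if_neg (fun h => hg ((hA g).2 h))]; simp
      rw [Finset.sum_congr rfl fun g _ => e2 g,
        Fintype.sum_equiv (Equiv.mulRight z) (fun g => if g * z ∈ T then (Nat.card N : ℂ) else 0)
          (fun g => if g ∈ T then (Nat.card N : ℂ) else 0) (fun g => rfl),
        Finset.sum_ite, Finset.sum_const_zero, add_zero, Finset.sum_const, nsmul_eq_mul, mul_comm]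
      rw [Nat.card_eq_fintype_card (α := T), Fintype.card_subtype]
    rw [hsum]
    have := natCard_ne_zero G
    have := natCard_ne_zero T
    field_simp
  -- counting
  have hfib : Nat.card E ≤ d * Nat.card I := by
    letI : Fintype E := Fintype.ofFinite _
    letI : Fintype I := Fintype.ofFinite _
    rw [Nat.card_eq_fintype_card, Nat.card_eq_fintype_card, ← Finset.card_univ, ← Finset.card_univ]
    refine Finset.card_le_mul_card_image_of_maps_to (f := fun μ : E => (⟨r μ, μ, μ.2, rfl⟩ : I))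
      (fun a _ => Finset.mem_univ _) d (fun i _ => ?_)
    set S := Finset.univ.filter (fun μ : E => (⟨r μ, μ, μ.2, rfl⟩ : I) = i)
    let v : S → (G ⧸ T → ℂ) := fun μ y => ((μ.1.1 y.out : ℂˣ) : ℂ)
    have hv : LinearIndependent ℂ v := by
      have h1 : LinearIndependent ℂ (fun μ : S => ((Units.coeHom ℂ).comp μ.1.1 : G → ℂ)) :=
        (linearIndependent_monoidHom G ℂ).comp (fun μ : S => (Units.coeHom ℂ).comp μ.1.1)
          (fun a b h => Subtype.ext (Subtype.ext (MonoidHom.ext fun g =>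
            Units.ext (DFunLike.congr_fun h g))))
      rw [Fintype.linearIndependent_iff] at h1 ⊢
      intro a ha
      refine h1 a (funext fun g => ?_)
      have h2 := congrFun ha (QuotientGroup.mk g)
      simp only [Finset.sum_apply, Pi.smul_apply, smul_eq_mul, Pi.zero_apply, v] at h2 ⊢
      obtain ⟨t, ht⟩ := QuotientGroup.mk_out_eq_mul T g
      obtain hS | hS := isEmpty_or_nonempty S
      · simp
      obtain ⟨μ₀⟩ := hS
      have h3 : ∀ μ : S, μ.1.1 (t : G) = μ₀.1.1 (t : G) := by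
        intro μ
        have e1 := congrArg (fun j : I => (j.1 t : ℂˣ))
          ((Finset.mem_filter.1 μ.2).2.trans (Finset.mem_filter.1 μ₀.2).2.symm)
        exact mul_left_cancel e1
      rw [ht] at h2
      have h4 : (∑ μ : S, a μ * ((μ.1.1 g : ℂˣ) : ℂ)) * ((μ₀.1.1 (t : G) : ℂˣ) : ℂ) = 0 := by
        rw [Finset.sum_mul, ← h2]
        refine Finset.sum_congr rfl fun μ _ => ?_
        rw [map_mul, Units.val_mul, h3 μ, mul_assoc]
      exact (mul_eq_zero.1 h4).resolve_right (Units.ne_zero _)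
    have h5 := hv.fintype_card_le_finrank
    rw [Module.finrank_fintype_fun_eq_card, Fintype.card_coe] at h5
    rw [hd, Subgroup.index_eq_card, Nat.card_eq_fintype_card]
    exact h5
  set Ω := {χ : IrrCharacter G // (charDegree (χ : G → ℂ) = 1 ∨ 2 ∣ charDegree (χ : G → ℂ)) ∧
    (Nat.card G : ℂ)⁻¹ * ∑ᶠ g : G, (χ : G → ℂ) (g * g) = 1}
  letI : Fintype Ω := Fintype.ofFinite _
  let img : I → Ω := fun i => ⟨⟨_, (hind i i.2).1⟩,
    Or.inr (by rw [charDegree_eq (hdeg i.1)]; exact hd2), hnu i i.2⟩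
  have himg : Function.Injective img := by
    intro i j h
    have h1 := clifford_unique hθ hT hNT (isIrr_linear i.1) (isIrr_linear j.1) (hind i i.2).2 (hind j j.2).2
      (congrArg (fun χ : Ω => (χ.1 : G → ℂ)) h)
    exact Subtype.ext (MonoidHom.ext fun t => Units.ext (congrFun h1 t))
  set Lin := Finset.univ.filter (fun χ : Ω => charDegree (χ.1 : G → ℂ) = 1)
  have hlin : Lin.card ≤ Nat.card E := by
    have hex : ∀ χ : Lin, ∃ μ : E, (χ.1.1 : G → ℂ) = fun g => ((μ.1 g : ℂˣ) : ℂ) := by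
      intro χ
      have hc := isCharacter_of_isIrr χ.1.1.2
      have h1 : (χ.1.1 : G → ℂ) 1 = 1 := by
        rw [char_one_eq hc, (Finset.mem_filter.1 χ.2).2, Nat.cast_one]
      obtain ⟨μ, hμ⟩ := exists_hom_of_degree_one hc h1
      refine ⟨⟨μ, ?_⟩, hμ⟩
      have h2 := χ.1.2.2
      rw [finsum_eq_sum_of_fintype, hμ] at h2
      by_contra hne
      have hne1 : ((Units.coeHom ℂ).comp (μ * μ)) ≠ (1 : G →* ℂ) := fun e0 => hne fun g => by
        have := DFunLike.congr_fun e0 g
        exact Units.ext this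
      have h3 : ∑ g : G, ((μ (g * g) : ℂˣ) : ℂ) = 0 := by
        have := sum_hom_units ((Units.coeHom ℂ).comp (μ * μ))
        rw [if_neg hne1] at this
        simpa [map_mul] using this
      rw [h3, mul_zero] at h2
      exact zero_ne_one h2
    choose g hg using hex
    rw [← Nat.card_eq_finsetCard]
    exact Nat.card_le_card_of_injective g fun a b h => Subtype.ext (Subtype.ext (Subtype.ext
      ((hg a).trans ((congrArg (fun μ : E => fun x => ((μ.1 x : ℂˣ) : ℂ)) h).trans (hg b).symm))))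
  rw [Nat.card_eq_fintype_card, finsum_eq_sum_of_fintype, ← Finset.card_univ, Finset.mul_sum]
  letI : Fintype I := Fintype.ofFinite _
  set J := Finset.univ.image img
  have hJ : J.card = Nat.card I := by
    rw [Finset.card_image_of_injective _ himg, Finset.card_univ, Nat.card_eq_fintype_card]
  have hpt : ∀ χ : Ω, 4 + (if χ ∈ J then d else 0) ≤ 3 * charDegree (χ.1 : G → ℂ) +
      (if χ ∈ Lin then 1 else 0) := by
    intro χ
    have hpos := charDegree_pos χ.1.2
    have hd1 : 1 < d := Nat.le_of_dvd (Nat.pos_of_ne_zero Subgroup.index_ne_zero_of_finite) hd2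
    by_cases hJm : χ ∈ J
    · obtain ⟨i, -, rfl⟩ := Finset.mem_image.1 hJm
      rw [if_pos hJm]
      have : charDegree ((img i).1 : G → ℂ) = d := charDegree_eq (hdeg i.1)
      omega
    · rw [if_neg hJm]
      rcases χ.2.1 with h | h
      · rw [if_pos (show χ ∈ Lin from Finset.mem_filter.2 ⟨Finset.mem_univ _, h⟩)]; omega
      · have := Nat.le_of_dvd hpos h
        omega
  have hkey := Finset.sum_le_sum (s := Finset.univ) fun χ _ => hpt χ
  rw [Finset.sum_add_distrib, Finset.sum_add_distrib, Finset.sum_const, smul_eq_mul, Finset.sum_ite_mem,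
    Finset.sum_ite_mem, Finset.univ_inter, Finset.univ_inter, Finset.sum_const, smul_eq_mul,
    Finset.sum_const, smul_eq_mul, hJ, mul_one] at hkey
  have := hlin.trans hfib
  rw [mul_comm (Nat.card I) d] at hkey
  rw [mul_comm 4]
  convert (Nat.le_of_add_le_add_right (hkey.trans (Nat.add_le_add_left this _))) using 2

end Cfsg.Agent.S4871
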