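import Cfsg.Statements.S4873
import Cfsg.Agent.S4866
import Cfsg.Agent.Char.ExtCrit
import Cfsg.Agent.Char.FrobeniusSchur
import Cfsg.Agent.Char.PermLemma

set_option autoImplicit false
open Cfsg

namespace Cfsg.Agent.S4873

open CfsgLib.Char

/-- Let N be a normal subgroup of odd index in the finite group G. Then every irreducible complex character of N with Frobenius–Schur indicator +1 lies under exactly one irreducible character of G with Frobenius–Schur indicator +1. -/
theorem result {G : Type*} [Group G] [Finite G] (N : Subgroup G) [N.Normal] (hodd : Odd N.index) (φ : Cfsg.IrrCharacter ↥N) (hφ : (Nat.card ↥N : ℂ)⁻¹ * ∑ᶠ g : ↥N, (φ : ↥N → ℂ) (g * g) = 1) : ∃! χ : Cfsg.IrrCharacter G, (Nat.card G : ℂ)⁻¹ * ∑ᶠ g : G, (χ : G → ℂ) (g * g) = 1 ∧ (∑ᶠ n : ↥N, (χ : G → ℂ) n * (starRingEnd ℂ) ((φ : ↥N → ℂ) n)) ≠ 0 := by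
  classical
  haveI : Fintype G := Fintype.ofFinite G
  haveI : Fintype N := Fintype.ofFinite _
  have hreal : ∀ {H : Type _} [Group H] [Fintype H] (θ : IrrCharacter H),
      (Nat.card H : ℂ)⁻¹ * ∑ᶠ g : H, (θ : H → ℂ) (g * g) = 1 →
        ∀ g, (starRingEnd ℂ) ((θ : H → ℂ) g) = (θ : H → ℂ) g := by
    intro H _ _ θ hθ g
    obtain ⟨n, ρ, hirr, hρ⟩ := θ.2
    by_contra hne
    rw [finsum_eq_sum_of_fintype, ← hρ] at hθ
    have h0 := fsInd_eq_zero ρ hirr ⟨g, by rw [hρ]; exact hne⟩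
    rw [fsInd] at h0
    rw [h0] at hθ
    exact zero_ne_one hθ
  have hcrit : ∀ χ : IrrCharacter G,
      (∑ᶠ n : ↥N, (χ : G → ℂ) n * (starRingEnd ℂ) ((φ : ↥N → ℂ) n)) ≠ 0 ↔
        classInner (fun n : N => (χ : G → ℂ) n) (φ : N → ℂ) ≠ 0 := fun χ => by
    rw [classInner_def, finsum_eq_sum_of_fintype, mul_ne_zero_iff]
    simp [natCard_ne_zero N]
  choose m hm using fun χ : IrrCharacter G =>
    inner_char_irr (isCharacter_restrict N (isCharacter_of_isIrr χ.2)) φ.2
  have hind : indFun N (φ : N → ℂ) = ∑ χ : IrrCharacter G, (m χ : ℂ) • (χ : G → ℂ) := by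
    conv_lhs => rw [classFun_eq_sum (indFun_classFun N (φ : N → ℂ))]
    refine Finset.sum_congr rfl fun χ _ => ?_
    rw [CfsgLib.Char.frobenius N _ (classFun_of_irr χ.2), ← classInner_conj, hm, map_natCast]
  have hsq : ∀ y : G, y * y ∈ N → y ∈ N := fun y hy => by
    obtain ⟨j, hj⟩ := id hodd
    have h := N.pow_index_mem y
    rw [hj, pow_succ, pow_mul, pow_two] at h
    exact (N.mul_mem_cancel_left (pow_mem hy j)).mp h
  have hν : ∑ χ : IrrCharacter G, (m χ : ℂ) * fsInd (χ : G → ℂ) = 1 := by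
    have h1 : fsInd (indFun N (φ : N → ℂ)) = 1 := by
      rw [← hφ, finsum_eq_sum_of_fintype]
      simp only [fsInd, indFun_apply, ← Finset.mul_sum]
      rw [mul_left_comm]
      congr 1
      rw [Finset.sum_comm, Finset.sum_congr rfl fun x _ =>
        (Equiv.sum_comp (MulAut.conj x).toEquiv
          (fun g => extendByZero N (φ : N → ℂ) (x⁻¹ * (g * g) * x))).symm]
      simp only [MulEquiv.toEquiv_eq_coe, EquivLike.coe_coe, MulAut.conj_apply]
      have hsimp : ∀ x i : G, x⁻¹ * (x * i * x⁻¹ * (x * i * x⁻¹)) * x = i * i := fun x i => by group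
      simp only [hsimp, Finset.sum_const, Finset.card_univ, nsmul_eq_mul, ← Nat.card_eq_fintype_card]
      rw [← mul_assoc, inv_mul_cancel₀ (natCard_ne_zero G), one_mul,
        sum_subgroup N _ fun g hg => extendByZero_not_mem _ _ fun h => hg (hsq g h)]
      exact Finset.sum_congr rfl fun n _ => by
        rw [← Subgroup.coe_mul, extendByZero_mem]
    rw [← h1, hind]
    simp only [fsInd, Finset.sum_apply, Pi.smul_apply, smul_eq_mul]
    rw [Finset.sum_comm, Finset.mul_sum]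
    exact Finset.sum_congr rfl fun χ _ => by rw [← Finset.mul_sum, mul_left_comm]
  -- the map from real characters of G to orbits of real characters of N
  let R := {θ : IrrCharacter N // ∀ k : N, ((θ : N → ℂ) k).im = 0}
  let X := {χ : IrrCharacter G // (χ : G → ℂ) ∘ (fun g => g⁻¹) = (χ : G → ℂ)}
  let r : R → R → Prop := fun θ η => ∃ g : G, ∀ k k' : N, (k' : G) = g * (k : G) * g⁻¹ →
    (η.1 : N → ℂ) k' = (θ.1 : N → ℂ) k
  have hXreal : ∀ χ : X, ∀ g, (starRingEnd ℂ) ((χ.1 : G → ℂ) g) = (χ.1 : G → ℂ) g := fun χ g => by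
    rw [← char_conj_eq (isCharacter_of_isIrr χ.1.2)]; exact congrFun χ.2 g
  have hinvol : ∀ {α : Type _} [DecidableEq α] (s : Finset α) (f : α → α), (∀ a ∈ s, f a ∈ s) →
      (∀ a ∈ s, f (f a) = a) → ∀ w : α → ℕ, (∀ a ∈ s, w (f a) = w a) → Odd (∑ a ∈ s, w a) →
        ∃ a ∈ s, f a = a ∧ w a ≠ 0 := by
    intro α _ s f hf hff w hw hsum
    by_contra! hno
    have h0 : ∑ a ∈ s, ((w a : ℕ) : ZMod 2) = 0 := by
      refine Finset.sum_involution (fun a _ => f a) (fun a ha => ?_) (fun a ha hne e => ?_) hf hff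
      · rw [hw a ha, ← two_mul, show (2 : ZMod 2) = 0 from rfl, zero_mul]
      · exact hne (by rw [hno a ha e, Nat.cast_zero])
    rw [← Nat.cast_sum, ZMod.natCast_eq_zero_iff_even] at h0
    exact Nat.not_even_iff_odd.mpr hsum h0
  have hex : ∀ χ : X, ∃ θ : R, classInner (fun n : N => (χ.1 : G → ℂ) n) (θ.1 : N → ℂ) ≠ 0 := by
    intro χ
    obtain ⟨θ, hθ, hc⟩ := exists_constituent_res (N := N) χ.1.2
    set s := Finset.univ.image (conjN θ) with hs
    have hodd' : Odd (∑ _a ∈ s, 1) := by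
      rw [← Finset.card_eq_sum_ones, card_orbit]
      exact hodd.of_dvd_nat (Subgroup.index_dvd_of_le (le_inertia (classFun_of_irr hθ)))
    let f : (N → ℂ) → (N → ℂ) := fun ψ n => (starRingEnd ℂ) (ψ n)
    have hres : ∀ ψ ∈ s, IsIrrCharacter N ψ ∧ classInner (fun n : N => (χ.1 : G → ℂ) n) ψ ≠ 0 := by
      intro ψ hψ
      obtain ⟨g, -, rfl⟩ := Finset.mem_image.mp hψ
      exact ⟨irr_conjN hθ g, by rwa [inner_res_conjN (classFun_of_irr χ.1.2)]⟩
    obtain ⟨ψ, hψ, hfix, -⟩ := hinvol s f (fun ψ hψ => by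
      obtain ⟨h1, h2⟩ := hres ψ hψ
      have h3 : classInner (fun n : N => (χ.1 : G → ℂ) n) (f ψ) ≠ 0 := by
        have : classInner (fun n : N => (χ.1 : G → ℂ) n) (f ψ) =
            (starRingEnd ℂ) (classInner (fun n : N => (χ.1 : G → ℂ) n) ψ) := by
          simp only [classInner_def, map_mul, map_inv₀, map_natCast, map_sum, f, Complex.conj_conj,
            hXreal]
        rw [this]
        exact fun e => h2 (by simpa using e)
      obtain ⟨g, hg⟩ := conjugate_of_constituents χ.1.2 hθ (irr_conj h1) hc h3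
      exact Finset.mem_image.mpr ⟨g, Finset.mem_univ _, hg.symm⟩)
      (fun ψ _ => funext fun n => Complex.conj_conj _) (fun _ => 1) (fun _ _ => rfl) hodd'
    exact ⟨⟨⟨ψ, (hres ψ hψ).1⟩, fun k => Complex.conj_eq_iff_im.mp (congrFun hfix k)⟩, (hres ψ hψ).2⟩
  choose c hc using hex
  let F : X → Quot r := fun χ => Quot.mk r (c χ)
  have hrel : ∀ (χ : X) (θ : R), classInner (fun n : N => (χ.1 : G → ℂ) n) (θ.1 : N → ℂ) ≠ 0 →
      F χ = Quot.mk r θ := by
    intro χ θ hθ
    obtain ⟨g, hg⟩ := conjugate_of_constituents χ.1.2 θ.1.2 (c χ).1.2 hθ (hc χ)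
    refine Quot.sound ⟨g, fun k k' hk => ?_⟩
    rw [congrFun hg k]
    exact congrArg (θ.1 : N → ℂ) (Subtype.ext hk)
  have hover : ∀ θ : R, ∃ χ : X, classInner (fun n : N => (χ.1 : G → ℂ) n) (θ.1 : N → ℂ) ≠ 0 := by
    intro θ
    choose w hw using fun χ : IrrCharacter G =>
      inner_char_irr (isCharacter_restrict N (isCharacter_of_isIrr χ.2)) θ.1.2
    have hdeg : ∀ χ : IrrCharacter G, ∃ k : ℕ, w χ ≠ 0 →
        charDegree (χ : G → ℂ) = k * charDegree (θ.1 : N → ℂ) := fun χ => by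
      by_cases h0 : w χ = 0
      · exact ⟨0, fun h => absurd h0 h⟩
      obtain ⟨k, hk, -⟩ := degree_quotient χ.2 θ.1.2 (by rw [hw]; exact_mod_cast h0)
      rw [irr_one_eq χ.2, irr_one_eq θ.1.2] at hk
      exact ⟨k, fun _ => by exact_mod_cast hk⟩
    choose k hk using hdeg
    have hsum : ∑ χ : IrrCharacter G, w χ * k χ = N.index := by
      refine Nat.eq_of_mul_eq_mul_right (charDegree_pos θ.1.2) ?_
      have h1 := congrFun (classFun_eq_sum (indFun_classFun N (θ.1 : N → ℂ))) 1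
      rw [indFun_one] at h1
      simp only [Finset.sum_apply, Pi.smul_apply, smul_eq_mul] at h1
      rw [irr_one_eq θ.1.2, Finset.sum_congr rfl (g := fun χ : IrrCharacter G =>
        ((w χ * k χ * charDegree (θ.1 : N → ℂ) : ℕ) : ℂ)) fun χ _ => ?_, ← Nat.cast_sum,
        ← Nat.cast_mul, Nat.cast_inj] at h1
      · rw [Finset.sum_mul]; exact h1.symm
      · rw [CfsgLib.Char.frobenius N _ (classFun_of_irr χ.2), ← classInner_conj, hw, map_natCast,
          irr_one_eq χ.2]
        by_cases h0 : w χ = 0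
        · simp [h0]
        · rw [hk χ h0]; push_cast; ring
    let f : IrrCharacter G → IrrCharacter G := fun χ => ⟨_, irr_conj χ.2⟩
    have hwf : ∀ χ, w (f χ) = w χ := fun χ => by
      apply Nat.cast_injective (R := ℂ)
      rw [← hw, ← hw]
      have : classInner (fun n : N => (f χ : G → ℂ) n) (θ.1 : N → ℂ) =
          (starRingEnd ℂ) (classInner (fun n : N => (χ : G → ℂ) n) (θ.1 : N → ℂ)) := by
        simp only [classInner_def, map_mul, map_inv₀, map_natCast, map_sum, f, Complex.conj_conj]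
        congr 1
        exact Finset.sum_congr rfl fun n _ => by rw [Complex.conj_eq_iff_im.mpr (θ.2 n)]
      rw [this, hw, map_natCast]
    obtain ⟨χ, -, hfix, hne⟩ := hinvol Finset.univ f (fun _ _ => Finset.mem_univ _)
      (fun χ _ => Subtype.ext (funext fun g => Complex.conj_conj _)) (fun χ => w χ * k χ)
      (fun χ _ => by
        by_cases h0 : w χ = 0
        · rw [hwf, h0, zero_mul, zero_mul]
        · have h1 := hk χ h0
          have h2 := hk (f χ) (by rwa [hwf])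
          have h3 : charDegree (f χ : G → ℂ) = charDegree (χ : G → ℂ) :=
            charDegree_eq (by simp [f, irr_one_eq χ.2])
          rw [hwf, Nat.eq_of_mul_eq_mul_right (charDegree_pos θ.1.2) ((h2.symm.trans h3).trans h1)])
      (hsum ▸ hodd)
    refine ⟨⟨χ, funext fun g => ?_⟩, ?_⟩
    · rw [Function.comp_apply, char_conj_eq (isCharacter_of_isIrr χ.2)]
      exact congrFun (congrArg Subtype.val hfix) g
    · rw [hw]; exact_mod_cast left_ne_zero_of_mul hne
  have hcard : Nat.card X = Nat.card (Quot r) := by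
    rw [card_fixed_irr_eq_classes (fun g : G => g⁻¹) irr_comp_inv]
    refine Eq.trans ?_ (Cfsg.Agent.S4866.result N hodd).symm
    refine (Nat.card_congr (Equiv.ofBijective (Quot.lift (fun x => (⟨ConjClasses.mk ((x.1 : N) : G), ?_⟩ :
      {K : ConjClasses G // ∀ g, ConjClasses.mk g = K → ConjClasses.mk g⁻¹ = K})) ?_) ⟨?_, ?_⟩)).symm
    · intro a ha
      obtain ⟨t, ht⟩ := isConj_iff.mp x.2
      obtain ⟨u, hu⟩ := isConj_iff.mp (ConjClasses.mk_eq_mk_iff_isConj.mp ha).symm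
      rw [ConjClasses.mk_eq_mk_iff_isConj]
      have h1 : IsConj ((x.1 : N) : G) ((x.1 : N) : G)⁻¹ :=
        isConj_iff.mpr ⟨(t : G), by simpa using congrArg Subtype.val ht⟩
      refine (IsConj.trans ?_ h1.symm)
      rw [← hu]
      exact isConj_iff.mpr ⟨u⁻¹, by group⟩
    · rintro x y ⟨g, hg⟩
      refine Subtype.ext ?_
      rw [ConjClasses.mk_eq_mk_iff_isConj]
      exact isConj_iff.mpr ⟨g, hg.symm⟩
    · rintro ⟨x⟩ ⟨y⟩ hxy
      obtain ⟨g, hg⟩ := isConj_iff.mp (ConjClasses.mk_eq_mk_iff_isConj.mp (congrArg Subtype.val hxy))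
      exact Quot.sound ⟨g, hg.symm⟩
    · rintro ⟨K, hK⟩
      obtain ⟨a, rfl⟩ := ConjClasses.exists_rep K
      obtain ⟨t, ht⟩ := isConj_iff.mp (ConjClasses.mk_eq_mk_iff_isConj.mp (hK a rfl)).symm
      obtain ⟨j, hj⟩ := id hodd
      have ht2 : ∀ i : ℕ, (t * t) ^ i * a * ((t * t) ^ i)⁻¹ = a := fun i => by
        induction i with
        | zero => simp
        | succ i ih =>
          have h2 : t * t * a * (t * t)⁻¹ = a := by
            calc t * t * a * (t * t)⁻¹ = t * (t * a * t⁻¹) * t⁻¹ := by group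
              _ = (t * a * t⁻¹)⁻¹ := by nth_rw 1 [ht]; simp [mul_assoc]
              _ = a := by rw [ht, inv_inv]
          calc (t * t) ^ (i + 1) * a * ((t * t) ^ (i + 1))⁻¹
              = t * t * ((t * t) ^ i * a * ((t * t) ^ i)⁻¹) * (t * t)⁻¹ := by rw [pow_succ']; simp [mul_assoc]
            _ = a := by rw [ih, h2]
      have haN : a ∈ N := by
        rw [← QuotientGroup.eq_one_iff]
        refine eq_one_of_isConj_inv_odd (G := G ⧸ N) (by rwa [← Subgroup.index_eq_card]) ?_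
        exact isConj_iff.mpr ⟨QuotientGroup.mk' N t, by
          rw [← map_inv]; show QuotientGroup.mk' N t * QuotientGroup.mk' N a * _ = _
          rw [← map_mul, ← map_mul, ht]; rfl⟩
      have htN : t * (t * t) ^ j ∈ N := by
        have h := N.pow_index_mem t
        rwa [hj, pow_succ', pow_mul, pow_two] at h
      refine ⟨Quot.mk _ ⟨⟨a, haN⟩, isConj_iff.mpr ⟨⟨_, htN⟩, Subtype.ext ?_⟩⟩, rfl⟩
      show t * (t * t) ^ j * a * (t * (t * t) ^ j)⁻¹ = a⁻¹
      calc t * (t * t) ^ j * a * (t * (t * t) ^ j)⁻¹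
          = t * ((t * t) ^ j * a * ((t * t) ^ j)⁻¹) * t⁻¹ := by group
        _ = a⁻¹ := by rw [ht2, ht]
  haveI : Finite (Quot r) := Finite.of_surjective (Quot.mk r) Quot.mk_surjective
  have hsurj : Function.Surjective F := by
    rintro ⟨θ⟩
    obtain ⟨χ, hχ⟩ := hover θ
    exact ⟨χ, hrel χ θ hχ⟩
  have hinj : Function.Injective F := (hsurj.bijective_of_nat_card_le hcard.le).1
  let φR : R := ⟨φ, fun k => Complex.conj_eq_iff_im.mp (hreal φ hφ k)⟩
  obtain ⟨χ₀, hχ₀⟩ := hover φR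
  have huniq : ∀ χ : X, m χ.1 ≠ 0 → χ = χ₀ := fun χ hχ =>
    hinj ((hrel χ φR (by show classInner (fun n : N => (χ.1 : G → ℂ) n) (φ : N → ℂ) ≠ 0; rw [hm]; exact_mod_cast hχ)).trans
      (hrel χ₀ φR hχ₀).symm)
  have hν0 : fsInd (χ₀.1 : G → ℂ) = 1 := by
    rw [Finset.sum_eq_single χ₀.1 (fun χ _ hne => ?_) (fun h => absurd (Finset.mem_univ _) h)] at hν
    · obtain ⟨n, ρ, hirr, hρ⟩ := χ₀.1.2
      obtain ⟨B, -, -, -, h | h⟩ := fsInd_real ρ hirr (fun g => by rw [hρ]; exact hXreal χ₀ g)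
      · rwa [hρ] at h
      · rw [hρ] at h
        rw [h] at hν
        have h2 := congrArg Complex.re hν
        simp at h2
        have : (0 : ℝ) ≤ (m χ₀.1 : ℝ) := Nat.cast_nonneg _
        linarith
    · by_cases h0 : m χ = 0
      · simp [h0]
      obtain ⟨n, ρ, hirr, hρ⟩ := χ.2
      by_cases hr : ∀ g, (starRingEnd ℂ) ((χ : G → ℂ) g) = (χ : G → ℂ) g
      · exact absurd (congrArg Subtype.val (huniq ⟨χ, funext fun g => by
          rw [Function.comp_apply, char_conj_eq (isCharacter_of_isIrr χ.2), hr]⟩ h0)) hne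
      · push Not at hr
        rw [← hρ, fsInd_eq_zero ρ hirr (by rw [hρ]; exact hr), mul_zero]
  refine ⟨χ₀.1, ⟨?_, (hcrit _).mpr hχ₀⟩, fun χ ⟨h1, h2⟩ => ?_⟩
  · rw [finsum_eq_sum_of_fintype]; exact hν0
  · have hX : (χ : G → ℂ) ∘ (fun g => g⁻¹) = (χ : G → ℂ) := funext fun g => by
      rw [Function.comp_apply, char_conj_eq (isCharacter_of_isIrr χ.2), hreal χ h1]
    refine congrArg Subtype.val (huniq ⟨χ, hX⟩ ?_)
    have := (hcrit χ).mp h2
    rw [hm] at this
    exact_mod_cast this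

end Cfsg.Agent.S4873
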