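import Cfsg.Statements.S4885
import Cfsg.Agent.Char.PPrimeDegree
import Cfsg.Agent.Blk.Inflate
import Cfsg.Agent.S0915
import Cfsg.Agent.Solv.PLengthOne
import Cfsg.Agent.Perm.HallHigman
import Cfsg.Agent.Perm.PComp
import Cfsg.Agent.Solv.Basic

set_option autoImplicit false
open Cfsg

namespace Cfsg.Agent.S4885


open CfsgLib.Char CfsgLib.Blk

universe u

/-- A normal subgroup over `K ≤ P'` of index prime to `p` is `K`, if `O_{p'}` is trivial. -/
theorem le_of_coprime {X : Type u} [Group X] [Finite X] {p : ℕ} [Fact p.Prime] (P : Sylow p X)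
    (hcore : pPrimeCore p X = ⊥) (K R : Subgroup X) [K.Normal] [R.Normal] (hKR : K ≤ R)
    (hK : K ≤ ⁅(P : Subgroup X), (P : Subgroup X)⁆) (hco : ¬ p ∣ K.relIndex R) : R ≤ K := by
  classical
  have hp : p.Prime := Fact.out
  haveI := (inferInstance : K.Normal).subgroupOf R
  have hPR : ∀ x ∈ R, (∃ k, orderOf x = p ^ k) → x ∈ K := by
    rintro x hx ⟨k, hk⟩
    have h1 : orderOf ((⟨x, hx⟩ : R) : R ⧸ K.subgroupOf R) ∣ p ^ k := by
      rw [← hk, ← Subgroup.orderOf_mk x hx]
      exact orderOf_map_dvd (QuotientGroup.mk' (K.subgroupOf R)) ⟨x, hx⟩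
    have h2 : orderOf ((⟨x, hx⟩ : R) : R ⧸ K.subgroupOf R) ∣ K.relIndex R := by
      rw [Subgroup.relIndex, Subgroup.index_eq_card]
      exact orderOf_dvd_natCard _
    have h3 := Nat.eq_one_of_dvd_coprimes
      (Nat.Coprime.pow_left k (hp.coprime_iff_not_dvd.2 hco)) h1 h2
    rw [orderOf_eq_one_iff, QuotientGroup.eq_one_iff] at h3
    exact h3
  set H : Subgroup X := (P : Subgroup X) ⊔ R with hH
  let Q : Sylow p H := P.subtype le_sup_left
  have hQ : (Q : Subgroup H) = (P : Subgroup X).subgroupOf H := rfl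
  haveI : (R.subgroupOf H).Normal := (inferInstance : R.Normal).subgroupOf H
  have hsup : (Q : Subgroup H) ⊔ R.subgroupOf H = ⊤ := by
    rw [hQ, ← Subgroup.subgroupOf_sup le_sup_left le_sup_right, Subgroup.subgroupOf_self]
  have hPord : ∀ x ∈ (P : Subgroup X), ∃ k, orderOf x = p ^ k := fun x hx => by
    obtain ⟨k, hk⟩ := IsPGroup.iff_orderOf.1 P.isPGroup' ⟨x, hx⟩
    exact ⟨k, by rwa [Subgroup.orderOf_mk] at hk⟩
  have hfr : (Q : Subgroup H) ⊓ R.subgroupOf H ≤
      (frattini (Q : Subgroup H)).map (Q : Subgroup H).subtype := by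
    refine le_trans ?_ (Subgroup.map_mono (CfsgLib.Solv.commutator_le_frattini Q.isPGroup'))
    rw [Subgroup.map_subtype_commutator]
    intro x hx
    have h1 := hK (hPR x hx.2 (hPord _ hx.1))
    have h2 : ⁅(P : Subgroup X), (P : Subgroup X)⁆ =
        ⁅(Q : Subgroup H), (Q : Subgroup H)⁆.map H.subtype := by
      rw [Subgroup.map_commutator, hQ, Subgroup.map_subgroupOf_eq_of_le le_sup_left]
    rw [h2] at h1
    obtain ⟨y, hy, hye⟩ := h1
    rwa [show x = y from Subtype.ext hye.symm]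
  obtain ⟨N, hN, hNp, m, hm⟩ := CfsgLib.Perm.exists_of_hasNormalPComplement
    (CfsgLib.Solv.tate Q (R.subgroupOf H) inferInstance hsup hfr)
  haveI := hN
  -- the `p'`-part of `R` is trivial, so `R` is a `p`-group
  have hRH : R ≤ H := le_sup_right
  let N' : Subgroup R := N.comap (Subgroup.inclusion hRH)
  have hN' : N' = ⊥ := by
    haveI : N'.Normal := hN.comap _
    have h1 : (Nat.card N').Coprime p := (hp.coprime_iff_not_dvd.2 fun hd =>
      hNp (hd.trans (Subgroup.card_comap_dvd_of_injective N _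
        (Subgroup.inclusion_injective hRH)))).symm
    have h2 := Subgroup.map_mono (f := R.subtype) (CfsgLib.Solv.le_pPrimeCore h1)
    rw [CfsgLib.Solv.map_pPrimeCore_subtype_eq_inf R, hcore, bot_inf_eq, le_bot_iff,
      Subgroup.map_eq_bot_iff_of_injective _ R.subtype_injective] at h2
    exact h2
  intro x hx
  refine hPR x hx ?_
  have h1 : (Subgroup.inclusion hRH ⟨x, hx⟩) ^ p ^ m ∈ N := hm ▸ N.pow_index_mem _
  have h2 : (⟨x, hx⟩ : R) ^ p ^ m ∈ N' := by
    simp only [N', Subgroup.mem_comap, map_pow]; exact h1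
  rw [hN', Subgroup.mem_bot] at h2
  have h3 := orderOf_dvd_of_pow_eq_one h2
  rw [Subgroup.orderOf_mk] at h3
  obtain ⟨j, -, hj⟩ := (Nat.dvd_prime_pow hp).1 h3
  exact ⟨j, hj⟩

/-- What the `p'`-degree characters of the principal block say about a subgroup in their kernels. -/
theorem side {G : Type u} [Group G] [Finite G] {p : ℕ} [Fact p.Prime] (hp : p ∣ Nat.card G)
    (hps : IsPSolvable p G) {M : Ideal AlgInt} (hM : IsPModular p M) (C : Subgroup G) [C.Normal]
    (hAC : pPrimeCore p G ≤ C)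
    (hk : ∀ χ : IrrCharacter G, χ ∈ principalBlock M G → ¬ p ∣ charDegree (χ : G → ℂ) →
      ∀ c ∈ C, (χ : G → ℂ) c = (χ : G → ℂ) 1) :
    C ≠ ⊤ ∧ pPrimeCore p (G ⧸ C) = ⊥ := by
  classical
  haveI := CfsgLib.Blk.IsPModular.isPrime hM
  haveI : (pPrimeCore p G).Normal := CfsgLib.Solv.pPrimeCore_normal G p
  set A := pPrimeCore p G with hA
  haveI := Fintype.ofFinite (G ⧸ A)
  have hπ : Function.Surjective (QuotientGroup.mk' A) := QuotientGroup.mk'_surjective A
  have hcore : pPrimeCore p (G ⧸ A) = ⊥ := CfsgLib.Solv.pPrimeCore_quotient_self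
  obtain ⟨P⟩ := (inferInstance : Nonempty (Sylow p (G ⧸ A)))
  set C' := C.map (QuotientGroup.mk' A) with hC'
  haveI : C'.Normal := (inferInstance : C.Normal).map _ hπ
  have hker : ∀ g ∈ C', ∀ ψ : IrrCharacter (G ⧸ A), ¬ p ∣ charDegree (ψ : G ⧸ A → ℂ) →
      (ψ : G ⧸ A → ℂ) g = (ψ : G ⧸ A → ℂ) 1 := by
    rintro _ ⟨c, hc, rfl⟩ ψ hψ
    have h1 : infl A ψ ∈ principalBlock M G := by
      rw [principalBlock_eq_image A hM CfsgLib.Solv.not_dvd_card_pPrimeCore]
      exact Set.mem_image_of_mem _ (S0915.result p M hM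
        (CfsgLib.Perm.isPSolvable_quotient hps A) hcore ⟨_, isIrr_one⟩ ψ)
    exact hk (infl A ψ) h1 (by rwa [charDegree_infl]) c hc
  have hmax : ∀ L : Subgroup (G ⧸ A), L.Normal →
      L ⊓ Subgroup.centralizer ((P : Subgroup (G ⧸ A)) : Set (G ⧸ A)) = ⊥ → L ≤ ⊥ := by
    intro L hL hL2
    haveI := hL
    refine hcore ▸ CfsgLib.Solv.le_pPrimeCore
      ((Fact.out : p.Prime).coprime_iff_not_dvd.2 fun hd => ?_).symm
    letI : MulAction (P : Subgroup (G ⧸ A)) L :=
      MulAction.compHom L ((MulAut.conjNormal (H := L)).comp (P : Subgroup (G ⧸ A)).subtype)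
    have h := P.isPGroup'.card_modEq_card_fixedPoints L
    have h1 : Nat.card (MulAction.fixedPoints (P : Subgroup (G ⧸ A)) L) = 1 := by
      rw [Nat.card_eq_one_iff_exists]
      refine ⟨⟨1, fun x => map_one (MulAut.conjNormal (x : G ⧸ A) : MulAut L)⟩, fun m => ?_⟩
      refine Subtype.ext (Subtype.ext ?_)
      have : ((m : L) : G ⧸ A) ∈
          L ⊓ Subgroup.centralizer ((P : Subgroup (G ⧸ A)) : Set (G ⧸ A)) :=
        ⟨(m : L).2, fun x hx => mul_inv_eq_iff_eq_mul.1 (congrArg Subtype.val (m.2 ⟨x, hx⟩) :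
          x * ((m : L) : G ⧸ A) * x⁻¹ = (m : L))⟩
      rw [hL2] at this
      exact Subgroup.mem_bot.1 this
    rw [h1] at h
    exact (Fact.out : p.Prime).not_dvd_one
      (Nat.modEq_zero_iff_dvd.1 (h.symm.trans (Nat.modEq_zero_iff_dvd.2 hd)))
  have hCD : C' ≤ ⁅(P : Subgroup (G ⧸ A)), (P : Subgroup (G ⧸ A))⁆ := by
    intro g hg
    have h1 : g ∈ {g : G ⧸ A | ∀ χ : IrrCharacter (G ⧸ A), ¬ p ∣ charDegree (χ : G ⧸ A → ℂ) →
        (χ : G ⧸ A → ℂ) g = (χ : G ⧸ A → ℂ) 1} := hker g hg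
    rw [kernel_pprime P ⊥ (bot_inf_eq _) hmax, bot_sup_eq, SetLike.mem_coe] at h1
    exact Subgroup.normalCore_le _ h1
  refine ⟨fun htop => ?_, ?_⟩
  · -- otherwise `P = P'`
    have h1 : C' = ⊤ := by rw [hC', htop, Subgroup.map_top_of_surjective _ hπ]
    rw [h1, top_le_iff] at hCD
    have hP : (P : Subgroup (G ⧸ A)) = ⊤ := top_le_iff.1 (hCD ▸ Subgroup.commutator_le.2
      fun a ha b hb => mul_mem (mul_mem (mul_mem ha hb) (inv_mem ha)) (inv_mem hb))
    haveI : Group.IsNilpotent (G ⧸ A) := by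
      refine IsPGroup.isNilpotent (p := p) ?_
      have := P.isPGroup'
      rw [hP] at this
      exact this.of_equiv Subgroup.topEquiv
    haveI : Nontrivial (G ⧸ A) := by
      rw [← Finite.one_lt_card_iff_nontrivial, ← Subgroup.index_eq_card]
      refine lt_of_le_of_ne (Nat.pos_of_ne_zero Subgroup.index_ne_zero_of_finite) fun h => ?_
      refine CfsgLib.Solv.not_dvd_card_pPrimeCore (G := G) (p := p) ?_
      rwa [← hA, ← mul_one (Nat.card A), h, Subgroup.card_mul_index]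
    refine (IsSolvable.commutator_lt_top_of_nontrivial (G ⧸ A)).ne ?_
    rw [commutator_def]
    rwa [hP] at hCD
  · haveI := CfsgLib.Solv.pPrimeCore_normal (G ⧸ C) p
    set R := (pPrimeCore p (G ⧸ C)).comap (QuotientGroup.mk' C) with hR
    have hCR : C ≤ R := QuotientGroup.le_comap_mk' C _
    haveI : R.Normal := (inferInstance : (pPrimeCore p (G ⧸ C)).Normal).comap _
    haveI : (R.map (QuotientGroup.mk' A)).Normal := (inferInstance : R.Normal).map _ hπ
    have hidx : C.relIndex R = Nat.card (pPrimeCore p (G ⧸ C)) := by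
      have h1 := Subgroup.relIndex_comap (⊥ : Subgroup (G ⧸ C)) (QuotientGroup.mk' C) R
      rw [MonoidHom.comap_bot, QuotientGroup.ker_mk', Subgroup.relIndex_bot_left,
        Subgroup.map_comap_eq_self_of_surjective (QuotientGroup.mk'_surjective C)] at h1
      exact h1
    have hd : C'.relIndex (R.map (QuotientGroup.mk' A)) ∣ C.relIndex R := by
      rw [hC', Subgroup.relIndex_map_map, QuotientGroup.ker_mk', sup_eq_left.2 hAC,
        sup_eq_left.2 (hAC.trans hCR)]
    have h2 := le_of_coprime P hcore C' (R.map (QuotientGroup.mk' A)) (Subgroup.map_mono hCR) hCD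
      fun h => CfsgLib.Solv.not_dvd_card_pPrimeCore (hidx ▸ h.trans hd)
    rw [hC', Subgroup.map_le_map_iff, QuotientGroup.ker_mk', sup_eq_left.2 hAC] at h2
    rw [← Subgroup.map_comap_eq_self_of_surjective (QuotientGroup.mk'_surjective C)
      (pPrimeCore p (G ⧸ C)), Subgroup.map_eq_bot_iff, QuotientGroup.ker_mk']
    exact h2


/-- Let p and q be primes dividing the order of the finite group G, and suppose G is p-solvable and q-solvable. Fix maximal ideals of the algebraic integers containing p and q, defining the principal p-block and the principal q-block. If the irreducible characters of degree prime to p in the principal p-block are exactly the irreducible characters of degree prime to q in the principal q-block, then p = q. -/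
theorem result {G : Type*} [Group G] [Finite G] (p q : ℕ) [Fact p.Prime] [Fact q.Prime] (hp : p ∣ Nat.card G) (hq : q ∣ Nat.card G) (hps : Cfsg.IsPSolvable p G) (hqs : Cfsg.IsPSolvable q G) (Mp Mq : Ideal Cfsg.AlgInt) (hMp : Cfsg.IsPModular p Mp) (hMq : Cfsg.IsPModular q Mq) (h : ∀ χ : Cfsg.IrrCharacter G, (χ ∈ Cfsg.principalBlock Mp G ∧ ¬ p ∣ Cfsg.charDegree (χ : G → ℂ)) ↔ (χ ∈ Cfsg.principalBlock Mq G ∧ ¬ q ∣ Cfsg.charDegree (χ : G → ℂ))) : p = q := by
  classical
  by_contra hpq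
  haveI := CfsgLib.Blk.IsPModular.isPrime hMp
  haveI := CfsgLib.Blk.IsPModular.isPrime hMq
  haveI := Fintype.ofFinite G
  haveI := CfsgLib.Solv.pPrimeCore_normal G p
  haveI := CfsgLib.Solv.pPrimeCore_normal G q
  set C := Cfsg.pPrimeCore p G ⊔ Cfsg.pPrimeCore q G with hC
  have hk : ∀ χ : Cfsg.IrrCharacter G, χ ∈ Cfsg.principalBlock Mp G →
      ¬ p ∣ Cfsg.charDegree (χ : G → ℂ) → ∀ c ∈ C, (χ : G → ℂ) c = (χ : G → ℂ) 1 := by
    intro χ h1 h2
    obtain ⟨h3, -⟩ := (h χ).1 ⟨h1, h2⟩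
    obtain ⟨K, -, hK, -⟩ := exists_kernel (isCharacter_of_isIrr χ.2)
    intro c hc
    refine (hK c).1 ((sup_le (fun a ha => (hK a).2 ?_) (fun b hb => (hK b).2 ?_) : C ≤ K) hc)
    · rw [principalBlock_eq_image (Cfsg.pPrimeCore p G) hMp
        CfsgLib.Solv.not_dvd_card_pPrimeCore] at h1
      obtain ⟨ψ, -, rfl⟩ := h1
      exact infl_kernel _ ψ ha
    · rw [principalBlock_eq_image (Cfsg.pPrimeCore q G) hMq
        CfsgLib.Solv.not_dvd_card_pPrimeCore] at h3
      obtain ⟨ψ, -, rfl⟩ := h3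
      exact infl_kernel _ ψ hb
  obtain ⟨hne, hp0⟩ := side hp hps hMp C le_sup_left hk
  obtain ⟨-, hq0⟩ := side hq hqs hMq C le_sup_right fun χ h1 h2 =>
    hk χ ((h χ).2 ⟨h1, h2⟩).1 ((h χ).2 ⟨h1, h2⟩).2
  haveI : Nontrivial (G ⧸ C) := QuotientGroup.nontrivial_iff.2 hne
  refine CfsgLib.Solv.PLen.pPrimeCore_ne_bot_of_pCore_eq_bot
    (CfsgLib.Perm.isPSolvable_quotient hps C) ?_ hp0
  haveI := CfsgLib.Solv.pCore_normal (G ⧸ C) p
  refine le_bot_iff.1 (hq0 ▸ CfsgLib.Solv.le_pPrimeCore ?_)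
  obtain ⟨k, hk⟩ := IsPGroup.iff_card.1 (CfsgLib.Solv.pCore_isPGroup (G ⧸ C) p)
  rw [hk]
  exact ((Nat.coprime_primes Fact.out Fact.out).2 hpq).pow_left k

end Cfsg.Agent.S4885
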