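import Cfsg.Statements.S4888
import Cfsg.Agent.Blk.ThompsonPrincipal

set_option autoImplicit false
open Cfsg

namespace Cfsg.Agent.S4888

open CfsgLib.Char CfsgLib.Blk


/-- Let G be a finite group, p a prime and M a maximal ideal of the algebraic integers containing p. Then all height-zero irreducible characters of the principal p-block of G (equivalently, all its characters of degree prime to p) have the same degree if and only if G has a normal p-complement. -/
theorem result {G : Type*} [Group G] [Finite G] (p : ℕ) [Fact p.Prime] (M : Ideal Cfsg.AlgInt) (hM : Cfsg.IsPModular p M) : (∃ d : ℕ, ∀ χ : Cfsg.IrrCharacter G, χ ∈ (Cfsg.principalBlock M G) → Cfsg.blockHeight p (Cfsg.principalBlock M G) (χ : G → ℂ) = 0 → Cfsg.charDegree (χ : G → ℂ) = d) ↔ Cfsg.HasNormalPComplement p G := by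
  classical
  haveI := CfsgLib.Blk.IsPModular.isPrime hM
  have hp : p.Prime := Fact.out
  let T : IrrCharacter G := ⟨fun _ => 1, isIrr_one⟩
  have hT : T ∈ principalBlock M G := sameBlock_refl _
  have hdT : charDegree (T : G → ℂ) = 1 := by simp [charDegree, T]
  have hinf : sInf ((fun ψ : IrrCharacter G => (charDegree (ψ : G → ℂ)).factorization p) ''
      principalBlock M G) = 0 := Nat.sInf_eq_zero.2 (Or.inl ⟨T, hT, by simp [hdT]⟩)
  have hz : ∀ χ : IrrCharacter G,
      blockHeight p (principalBlock M G) (χ : G → ℂ) = 0 ↔ ¬ p ∣ charDegree (χ : G → ℂ) := by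
    intro χ
    rw [blockHeight, hinf, Nat.sub_zero, Nat.factorization_eq_zero_iff]
    simp [hp, (charDegree_pos χ.2).ne']
  constructor
  · rintro ⟨d, hd⟩
    refine hnpc_of_linear hM fun χ hχ hχd => ?_
    have h1 := (hd χ hχ ((hz χ).2 hχd)).trans (hd T hT ((hz T).2 (by rw [hdT]; exact hp.not_dvd_one))).symm
    rw [irr_one_eq χ.2, h1, hdT, Nat.cast_one]
  · intro h
    obtain ⟨N, hN, h1, m, h2⟩ := CfsgLib.Perm.exists_of_hasNormalPComplement h
    haveI := hN
    refine ⟨1, fun χ hχ h0 => ?_⟩
    rw [principalBlock_eq_image N hM h1] at hχ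
    obtain ⟨χ', -, rfl⟩ := hχ
    haveI := Fintype.ofFinite (G ⧸ N)
    have hdv : charDegree (χ' : G ⧸ N → ℂ) ∣ p ^ m := by
      rw [← h2, Subgroup.index_eq_card]
      exact degree_dvd_card χ'.2
    obtain ⟨i, -, hi⟩ := (Nat.dvd_prime_pow hp).1 hdv
    rw [hz, charDegree_infl, hi] at h0
    rw [charDegree_infl, hi]
    rcases Nat.eq_zero_or_pos i with rfl | hi0
    · exact pow_zero p
    · exact absurd (dvd_pow_self p hi0.ne') h0

end Cfsg.Agent.S4888
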