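import Cfsg.Statements.S4911
import Cfsg.Agent.Char.GlauberApp
import Cfsg.Agent.Char.GlauberSolv
import Cfsg.Agent.Char.PermLemma

set_option autoImplicit false
set_option maxHeartbeats 200000
open Cfsg

namespace Cfsg.Agent.S4911

open CfsgLib.Char
open scoped ComplexConjugate

/-- Let P and K be subgroups of a finite group with P a p-group normalizing K and K of order prime to p. Then the number of P-invariant real-valued irreducible complex characters of K equals the number of conjugacy classes of K that are real (closed under inversion) and P-invariant. Moreover, if every real-valued irreducible character of K is P-invariant, then every real element of K (one conjugate in K to its inverse) is conjugate in K to an element centralized by P. -/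
theorem result {G : Type*} [Group G] [Finite G] (p : ℕ) [Fact p.Prime] (P K : Subgroup G) (hP : IsPGroup p ↥P) (hK : ¬ p ∣ Nat.card ↥K) (hPK : P ≤ Subgroup.normalizer (K : Set G)) : Nat.card {θ : Cfsg.IrrCharacter ↥K // (∀ k : ↥K, ((θ : ↥K → ℂ) k).im = 0) ∧ (∀ x ∈ P, ∀ k k' : ↥K, (k' : G) = x * (k : G) * x⁻¹ → (θ : ↥K → ℂ) k' = (θ : ↥K → ℂ) k)} = Nat.card {c : ConjClasses ↥K // (∀ k : ↥K, ConjClasses.mk k = c → IsConj k k⁻¹) ∧ ∀ k : ↥K, ConjClasses.mk k = c → ∀ x ∈ P, ∀ k' : ↥K, (k' : G) = x * (k : G) * x⁻¹ → ConjClasses.mk k' = c} ∧ ((∀ θ : Cfsg.IrrCharacter ↥K, (∀ k : ↥K, ((θ : ↥K → ℂ) k).im = 0) → (∀ x ∈ P, ∀ k k' : ↥K, (k' : G) = x * (k : G) * x⁻¹ → (θ : ↥K → ℂ) k' = (θ : ↥K → ℂ) k)) → ∀ k : ↥K, IsConj k k⁻¹ → ∃ k' : ↥K, IsConj k k' ∧ ∀ x ∈ P, x * (k' : G) * x⁻¹ = (k' : G)) := by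
  classical
  haveI := Fintype.ofFinite G
  haveI := Fintype.ofFinite K
  have hnorm : ∀ s ∈ P, ∀ g ∈ K, s * g * s⁻¹ ∈ K := fun s hs g hg =>
    (Subgroup.mem_normalizer_iff.mp (hPK hs) g).mp hg
  set A : Subgroup (MulAut K) := (actHom K P hnorm).range with hA
  have hPA : IsPGroup p A := hP.of_surjective (actHom K P hnorm).rangeRestrict (actHom K P hnorm).rangeRestrict_surjective
  have hn : ∀ σ ∈ A, ∀ π ∈ A, σ⁻¹ * π * σ ∈ A := fun σ hσ π hπ =>
    A.mul_mem (A.mul_mem (A.inv_mem hσ) hπ) hσ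
  haveI := Fintype.ofFinite (fixedSub A)
  set C := fixedSub A
  have hι := fixedEmb A
  have hinvP : ∀ χ : K → ℂ,
      (∀ x ∈ P, ∀ k k' : ↥K, (k' : G) = x * (k : G) * x⁻¹ → χ k' = χ k) ↔ IsInv A χ := fun χ =>
    (autInv_actHom K P hnorm χ).symm.trans
      ⟨fun h a g => h a a.2 g, fun h σ hσ g => h ⟨σ, hσ⟩ g⟩
  have hreal : ∀ {H : Type _} [Group H] (χ : H → ℂ),
      (∀ k, (χ k).im = 0) ↔ (fun k => conj (χ k)) = χ := fun {H} _ χ =>
    ⟨fun h => funext fun k => Complex.conj_eq_iff_im.mpr (h k),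
      fun h k => Complex.conj_eq_iff_im.mp (congrFun h k)⟩
  -- the correspondence respects complex conjugation
  have hgconj : ∀ (χ : K → ℂ) (β : C → ℂ), Glau C.subtype p χ β →
      Glau C.subtype p (fun k => conj (χ k)) (fun c => conj (β c)) := by
    rintro χ β ⟨m, hm, hmp⟩
    refine ⟨m, ?_, hmp⟩
    rw [← Complex.conj_natCast m, ← hm, classInner_def, classInner_def, map_mul, map_inv₀,
      map_natCast, map_sum]
    congr 1
    exact Finset.sum_congr rfl fun c _ => by simp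
  let Inv := {θ : IrrCharacter K // (∀ k : ↥K, ((θ : ↥K → ℂ) k).im = 0) ∧
    (∀ x ∈ P, ∀ k k' : ↥K, (k' : G) = x * (k : G) * x⁻¹ → (θ : ↥K → ℂ) k' = (θ : ↥K → ℂ) k)}
  choose f hf using fun θ : Inv => glau_exists hPA hK hι θ.1.2 ((hinvP _).mp θ.2.2)
  have hfreal : ∀ θ : Inv, (f θ : C → ℂ) ∘ (fun g => g⁻¹) = (f θ : C → ℂ) := by
    intro θ
    have h1 : (fun k => conj ((θ.1 : K → ℂ) k)) = (θ.1 : K → ℂ) := (hreal _).mp θ.2.1
    have h2 := hgconj _ _ (hf θ)
    rw [h1] at h2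
    have h3 := glau_unique hPA hK hι θ.1.2 ((hinvP _).mp θ.2.2) (irr_conj (f θ).2) (f θ).2 h2 (hf θ)
    funext c
    show (f θ : C → ℂ) c⁻¹ = _
    rw [char_conj_eq (isCharacter_of_isIrr (f θ).2)]
    exact congrFun h3 c
  have e1 : Nat.card Inv = Nat.card {β : IrrCharacter C // (β : C → ℂ) ∘ (fun g => g⁻¹) = (β : C → ℂ)} := by
    refine Nat.card_eq_of_bijective (fun θ => ⟨f θ, hfreal θ⟩) ⟨fun a b hab => ?_, fun β => ?_⟩
    · have hfab : f a = f b := congrArg Subtype.val hab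
      exact Subtype.ext (Subtype.ext (glau_inj hPA hK hι a.1.2 b.1.2 ((hinvP _).mp a.2.2)
        ((hinvP _).mp b.2.2) (f a).2 (hf a) (hfab ▸ hf b)))
    · obtain ⟨χ, hi, hg⟩ := glau_surj hPA hK hι β.1.2
      have hβc : (fun c => conj ((β.1 : C → ℂ) c)) = (β.1 : C → ℂ) := funext fun c => by
        rw [← char_conj_eq (isCharacter_of_isIrr β.1.2)]
        exact congrFun β.2 c
      have h2 := hgconj _ _ hg
      rw [hβc] at h2
      have h3 := glau_inj hPA hK hι (irr_conj χ.2) χ.2 hi.conj_val hi β.1.2 h2 hg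
      have key : ∀ θ : Inv, θ.1 = χ → f θ = β.1 := by
        intro θ hθ
        have hfθ := hf θ
        rw [hθ] at hfθ
        exact Subtype.ext (glau_unique hPA hK hι χ.2 hi (f θ).2 β.1.2 hfθ hg)
      let θ₀ : Inv := ⟨χ, (hreal _).mpr h3, (hinvP _).mpr hi⟩
      exact ⟨θ₀, Subtype.ext (key θ₀ rfl)⟩
  let RC := {L : ConjClasses C // ∀ g, ConjClasses.mk g = L → ConjClasses.mk g⁻¹ = L}
  have e2 : Nat.card {β : IrrCharacter C // (β : C → ℂ) ∘ (fun g => g⁻¹) = (β : C → ℂ)} =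
      Nat.card RC := card_fixed_irr_eq_classes (fun g : C => g⁻¹) (fun χ => irr_comp_inv χ)
  let CK := {c : ConjClasses ↥K // (∀ k : ↥K, ConjClasses.mk k = c → IsConj k k⁻¹) ∧
    ∀ k : ↥K, ConjClasses.mk k = c → ∀ x ∈ P, ∀ k' : ↥K, (k' : G) = x * (k : G) * x⁻¹ →
      ConjClasses.mk k' = c}
  let F : ConjClasses C → ConjClasses K := ConjClasses.map C.subtype
  have hF : ∀ c : C, F (ConjClasses.mk c) = ConjClasses.mk (c : K) := fun c => rfl
  have hFmem : ∀ L : RC, (∀ k : ↥K, ConjClasses.mk k = F L.1 → IsConj k k⁻¹) ∧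
      ∀ k : ↥K, ConjClasses.mk k = F L.1 → ∀ x ∈ P, ∀ k' : ↥K, (k' : G) = x * (k : G) * x⁻¹ →
        ConjClasses.mk k' = F L.1 := by
    rintro ⟨L, hL⟩
    obtain ⟨c, rfl⟩ := ConjClasses.exists_rep L
    have hc : IsConj (c : K) (c : K)⁻¹ :=
      C.subtype.map_isConj (ConjClasses.mk_eq_mk_iff_isConj.mp (hL c rfl)).symm
    refine ⟨fun k hk => ?_, fun k hk x hx k' hk' => ?_⟩
    · rw [hF, ConjClasses.mk_eq_mk_iff_isConj] at hk
      exact hk.trans (hc.trans (by simpa using (isConj_iff.mpr (by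
        obtain ⟨u, hu⟩ := isConj_iff.mp hk.symm
        exact ⟨u, by rw [← hu]; group⟩) : IsConj (c : K)⁻¹ k⁻¹)))
    · rw [hF, ConjClasses.mk_eq_mk_iff_isConj] at hk
      have e : k' = actHom K P hnorm ⟨x, hx⟩ k := Subtype.ext hk'
      have hfix : actHom K P hnorm ⟨x, hx⟩ (c : K) = c := c.2 _ ⟨⟨x, hx⟩, rfl⟩
      rw [hF, ConjClasses.mk_eq_mk_iff_isConj, e, ← hfix]
      exact (actHom K P hnorm ⟨x, hx⟩ : K ≃* K).toMonoidHom.map_isConj hk
  have hfixed : ∀ c : CK, ∃ d : C, ConjClasses.mk (d : K) = c.1 := by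
    intro c
    refine exists_fixed_in_class hPA hK fun σ hσ g hg => ?_
    obtain ⟨⟨x, hx⟩, rfl⟩ := hσ
    exact c.2.2 g hg x hx _ rfl
  have e3 : Nat.card RC = Nat.card CK := by
    refine Nat.card_eq_of_bijective (fun L => ⟨F L.1, hFmem L⟩) ⟨fun a b hab => ?_, fun c => ?_⟩
    · obtain ⟨a', ha'⟩ := ConjClasses.exists_rep a.1
      obtain ⟨b', hb'⟩ := ConjClasses.exists_rep b.1
      have h1 : F a.1 = F b.1 := congrArg Subtype.val hab
      rw [← ha', ← hb', hF, hF, ConjClasses.mk_eq_mk_iff_isConj] at h1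
      exact Subtype.ext (by
        rw [← ha', ← hb']
        exact ConjClasses.mk_eq_mk_iff_isConj.mpr (conj_in_fixed hPA hK h1))
    · obtain ⟨d, hd⟩ := hfixed c
      refine ⟨⟨ConjClasses.mk d, fun g hg => ?_⟩, Subtype.ext (show F (ConjClasses.mk d) = c.1 by rw [hF, hd])⟩
      have hdr : IsConj d d⁻¹ := conj_in_fixed hPA hK (by simpa using c.2.1 (d : K) hd)
      rw [ConjClasses.mk_eq_mk_iff_isConj] at hg ⊢
      obtain ⟨u, hu⟩ := isConj_iff.mp hg.symm
      exact (isConj_iff.mpr ⟨u, by rw [← hu]; group⟩ : IsConj d⁻¹ g⁻¹).symm.trans hdr.symm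
  refine ⟨(e1.trans e2).trans e3, fun hall k hk => ?_⟩
  -- all real classes are invariant
  have hfK : ∀ χ : IrrCharacter K, IsIrrCharacter K ((χ : K → ℂ) ∘ fun g => g⁻¹) := irr_comp_inv
  have e4 : Nat.card Inv =
      Nat.card {χ : IrrCharacter K // (χ : K → ℂ) ∘ (fun g => g⁻¹) = (χ : K → ℂ)} := by
    refine Nat.card_congr (Equiv.subtypeEquivRight fun θ => ?_)
    have hc : ((θ : K → ℂ) ∘ fun g => g⁻¹) = fun g => conj ((θ : K → ℂ) g) :=
      funext fun g => char_conj_eq (isCharacter_of_isIrr θ.2) g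
    rw [hc, ← hreal]
    exact ⟨fun h => h.1, fun h => ⟨h, hall θ h⟩⟩
  rw [card_fixed_irr_eq_classes (fun g : K => g⁻¹) hfK, e1, e2, e3] at e4
  have hclk : ∀ g : K, ConjClasses.mk g = ConjClasses.mk k → ConjClasses.mk g⁻¹ = ConjClasses.mk k := by
    intro g hg
    rw [ConjClasses.mk_eq_mk_iff_isConj] at hg ⊢
    obtain ⟨u, hu⟩ := isConj_iff.mp hg.symm
    exact (isConj_iff.mpr ⟨u, by rw [← hu]; group⟩ : IsConj k⁻¹ g⁻¹).symm.trans hk.symm
  let incl : CK → {L : ConjClasses K // ∀ g, ConjClasses.mk g = L → ConjClasses.mk g⁻¹ = L} :=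
    fun c => ⟨c.1, fun g hg => by
      rw [← hg, ConjClasses.mk_eq_mk_iff_isConj]; exact (c.2.1 g hg).symm⟩
  have hbij := ((Nat.bijective_iff_injective_and_card incl).mpr
    ⟨fun a b h => Subtype.ext (show (incl a).1 = (incl b).1 by rw [h]), e4⟩).2 ⟨ConjClasses.mk k, hclk⟩
  obtain ⟨c, hc⟩ := hbij
  obtain ⟨d, hd⟩ := hfixed c
  refine ⟨(d : K), ?_, fun x hx => ?_⟩
  · rw [← ConjClasses.mk_eq_mk_iff_isConj, hd]
    exact (congrArg Subtype.val hc).symm
  · exact congrArg Subtype.val (d.2 (actHom K P hnorm ⟨x, hx⟩) ⟨⟨x, hx⟩, rfl⟩)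

end Cfsg.Agent.S4911
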