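import Cfsg.Statements.S4914
import Cfsg.Agent.Char.RelGlauUnique

set_option autoImplicit false
open Cfsg

namespace Cfsg.Agent.S4914

/-- Let P and K be subgroups of a finite group G with P a p-group normalizing K, and suppose K has a normal Sylow p-subgroup Q. Let C be the subgroup of those k ∈ K whose commutator with every element of P lies in Q (so that C/Q is the fixed-point subgroup of P on K/Q). Then there is a bijection f from the P-invariant irreducible complex characters of K onto the P-invariant irreducible complex characters of C such that, for every P-invariant irreducible character χ of K, the multiplicity of f(χ) in the restriction of χ to C is a natural number congruent to 1 or to −1 modulo p, every other P-invariant irreducible character of C occurs in that restriction with multiplicity divisible by p, and the degrees of χ and f(χ) are congruent modulo p up to sign. -/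
theorem result {G : Type*} [Group G] [Finite G] (p : ℕ) [Fact p.Prime] (P K Q C : Subgroup G) (hP : IsPGroup p ↥P) (hPK : P ≤ Subgroup.normalizer (K : Set G)) (hQK : Q ≤ K) (hQn : ∀ k ∈ K, ∀ q ∈ Q, k * q * k⁻¹ ∈ Q) (hQp : ∃ a : ℕ, Nat.card ↥Q = p ^ a) (hQsyl : ¬ p ∣ Q.relIndex K) (hCK : C ≤ K) (hC : ∀ k : G, k ∈ C ↔ (k ∈ K ∧ ∀ x ∈ P, x * k * x⁻¹ * k⁻¹ ∈ Q)) : ∃ f : {χ : Cfsg.IrrCharacter ↥K // (∀ x ∈ P, ∀ k k' : ↥K, (k' : G) = x * (k : G) * x⁻¹ → (χ : ↥K → ℂ) k' = (χ : ↥K → ℂ) k)} → {ξ : Cfsg.IrrCharacter ↥C // (∀ x ∈ P, ∀ k k' : ↥C, (k' : G) = x * (k : G) * x⁻¹ → (ξ : ↥C → ℂ) k' = (ξ : ↥C → ℂ) k)}, Function.Bijective f ∧ ∀ χ, (∀ ξ : {ξ : Cfsg.IrrCharacter ↥C // (∀ x ∈ P, ∀ k k' : ↥C, (k' : G) = x * (k : G) * x⁻¹ → (ξ : ↥C → ℂ) k' = (ξ : ↥C → ℂ) k)}, ∃ m : ℕ, (Nat.card ↥C : ℂ)⁻¹ * ∑ᶠ c : ↥C, (χ.1 : ↥K → ℂ) (Subgroup.inclusion hCK c) * (starRingEnd ℂ) ((ξ.1 : ↥C → ℂ) c) = (m : ℂ) ∧ (ξ = f χ → ((m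 : ZMod p) = 1 ∨ (m : ZMod p) = -1)) ∧ (ξ ≠ f χ → p ∣ m)) ∧ ((Cfsg.charDegree ((f χ).1 : ↥C → ℂ) : ZMod p) = (Cfsg.charDegree (χ.1 : ↥K → ℂ) : ZMod p) ∨ (Cfsg.charDegree ((f χ).1 : ↥C → ℂ) : ZMod p) = -(Cfsg.charDegree (χ.1 : ↥K → ℂ) : ZMod p)) := by
  classical
  haveI := Fintype.ofFinite G
  haveI : Fintype K := Fintype.ofFinite _
  haveI : Fintype C := Fintype.ofFinite _
  have hconj : ∀ x ∈ P, ∀ k ∈ K, x * k * x⁻¹ ∈ K := fun x hx k hk =>
    (Subgroup.mem_normalizer_iff.mp (hPK hx) k).mp hk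
  letI : MulDistribMulAction P K :=
    { smul := fun a k => ⟨a * k * (a : G)⁻¹, hconj a a.2 k k.2⟩
      one_smul := fun k => Subtype.ext (by show ((1 : P) : G) * k * ((1 : P) : G)⁻¹ = k; simp)
      mul_smul := fun a b k => Subtype.ext (by
        show ((a * b : P) : G) * k * ((a * b : P) : G)⁻¹ = a * (b * k * (b : G)⁻¹) * (a : G)⁻¹
        push_cast; group)
      smul_mul := fun a k l => Subtype.ext (by
        show (a : G) * ((k * l : K) : G) * (a : G)⁻¹ = a * k * (a : G)⁻¹ * (a * l * (a : G)⁻¹)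
        push_cast; group)
      smul_one := fun a => Subtype.ext (by show (a : G) * ((1 : K) : G) * (a : G)⁻¹ = 1; simp) }
  have hcoe : ∀ (a : P) (k : K), ((a • k : K) : G) = a * k * (a : G)⁻¹ := fun a k => rfl
  let Q' : Subgroup K := Q.subgroupOf K
  let C' : Subgroup K := C.subgroupOf K
  haveI hQn' : Q'.Normal := ⟨fun q hq k => hQn k k.2 q hq⟩
  haveI : Fintype C' := Fintype.ofFinite _
  have hQp' : IsPGroup p Q' := by
    obtain ⟨a, ha⟩ := hQp
    exact (IsPGroup.of_card ha).of_equiv (Subgroup.subgroupOfEquivOfLe hQK).symm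
  -- `P` stabilises the normal Sylow subgroup
  have hidx : ¬ p ∣ Q'.index := hQsyl
  have hstab : ∀ a : P, ∀ x ∈ Q', a • x ∈ Q' := by
    intro a x hx
    by_contra hn
    let f : K →* K ⧸ Q' := QuotientGroup.mk' Q'
    have h1 : f (a • x) ≠ 1 := fun e => hn ((QuotientGroup.eq_one_iff _).mp e)
    obtain ⟨j, hj⟩ := hQp' ⟨x, hx⟩
    have hj' : x ^ p ^ j = 1 := congrArg Subtype.val hj
    have h2 : f (a • x) ^ p ^ j = 1 := by rw [← map_pow, ← smul_pow', hj', smul_one, map_one]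
    have h3 : orderOf (f (a • x)) ∣ p ^ j := orderOf_dvd_of_pow_eq_one h2
    obtain ⟨i, -, hi⟩ := (Nat.dvd_prime_pow Fact.out).mp h3
    have h4 := orderOf_dvd_natCard (f (a • x))
    rw [hi] at h4
    rcases i.eq_zero_or_pos with rfl | hi0
    · exact h1 (orderOf_eq_one_iff.mp (by rw [hi, pow_zero]))
    · exact hidx ((dvd_pow_self p hi0.ne').trans h4)
  have hR : CfsgLib.RelGlau.Rel p P Q' C' := ⟨hP, hstab, hQp', hidx, fun g => by
    have key : ∀ a : P, ((a • g)⁻¹ * g ∈ Q') ↔ (a : G) * g * (a : G)⁻¹ * (g : G)⁻¹ ∈ Q := fun a => by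
      rw [← inv_mem_iff (x := (a • g)⁻¹ * g), mul_inv_rev, inv_inv]
      exact ⟨fun h => hQn'.mem_comm h, fun h => hQn'.mem_comm (a := a • g) (b := g⁻¹) h⟩
    show (g : G) ∈ C ↔ _
    rw [hC]
    exact ⟨fun h a => (key a).mpr (h.2 a a.2), fun h => ⟨g.2, fun x hx => (key ⟨x, hx⟩).mp (h _)⟩⟩⟩
  obtain ⟨F, hF, hFp⟩ := CfsgLib.RelGlau.correspondence hR
  let e : C' ≃* C := Subgroup.subgroupOfEquivOfLe hCK
  have hinv : ∀ χ : Cfsg.IrrCharacter ↥K,
      (∀ x ∈ P, ∀ k k' : ↥K, (k' : G) = x * (k : G) * x⁻¹ → (χ : ↥K → ℂ) k' = (χ : ↥K → ℂ) k) ↔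
        CfsgLib.Char.IsInv P (χ : ↥K → ℂ) := fun χ =>
    ⟨fun h a k => h a a.2 k _ rfl, fun h x hx k k' he => by
      rw [show k' = (⟨x, hx⟩ : P) • k from Subtype.ext he]
      exact h _ k⟩
  let tC : Cfsg.IrrCharacter ↥C ≃ Cfsg.IrrCharacter C' :=
    { toFun := fun ξ => ⟨(ξ : C → ℂ) ∘ e, CfsgLib.Char.irr_mulEquiv e ξ.2⟩
      invFun := fun ξ => ⟨(ξ : C' → ℂ) ∘ e.symm, CfsgLib.Char.irr_mulEquiv e.symm ξ.2⟩
      left_inv := fun ξ => Subtype.ext (funext fun x => congrArg (ξ : C → ℂ) (e.apply_symm_apply x))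
      right_inv := fun ξ => Subtype.ext (funext fun x => congrArg (ξ : C' → ℂ) (e.symm_apply_apply x)) }
  have hinvC : ∀ ξ : Cfsg.IrrCharacter ↥C,
      (∀ x ∈ P, ∀ k k' : ↥C, (k' : G) = x * (k : G) * x⁻¹ → (ξ : ↥C → ℂ) k' = (ξ : ↥C → ℂ) k) ↔
        CfsgLib.RelGlau.InvSub P C' (tC ξ : C' → ℂ) := fun ξ =>
    ⟨fun h a k k' he => h a a.2 (e k) (e k') (congrArg Subtype.val he), fun h x hx k k' he => by
      have h1 := h ⟨x, hx⟩ (e.symm k) (e.symm k') (Subtype.ext he)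
      change (ξ : C → ℂ) (e (e.symm k')) = (ξ : C → ℂ) (e (e.symm k)) at h1
      rwa [e.apply_symm_apply, e.apply_symm_apply] at h1⟩
  let EK := Equiv.subtypeEquivRight hinv
  let EC := Equiv.subtypeEquiv (q := fun ξ : Cfsg.IrrCharacter C' => CfsgLib.RelGlau.InvSub P C' (ξ : C' → ℂ)) tC hinvC
  refine ⟨fun χ => EC.symm (F (EK χ)), EC.symm.bijective.comp (hF.comp EK.bijective), fun χ => ?_⟩
  obtain ⟨hm, hdeg⟩ := hFp (EK χ)
  refine ⟨fun ξ => ?_, ?_⟩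
  · obtain ⟨m, h1, h2, h3⟩ := hm (EC ξ)
    refine ⟨m, ?_, fun he => h2 (EC.eq_symm_apply.mp he), fun hne => h3 fun he =>
      hne (EC.eq_symm_apply.mpr he)⟩
    rw [← h1, finsum_eq_sum_of_fintype,
      show (EC ξ).1.1 = (ξ.1 : C → ℂ) ∘ e from rfl,
      show (fun c : C' => ((EK χ).1 : K → ℂ) c) =
        (fun c : C => (χ.1 : K → ℂ) (Subgroup.inclusion hCK c)) ∘ e from funext fun c => rfl,
      CfsgLib.Char.classInner_mulEquiv]
    rfl
  · have hd : Cfsg.charDegree (((EC.symm (F (EK χ))).1 : Cfsg.IrrCharacter ↥C) : C → ℂ) =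
        Cfsg.charDegree ((F (EK χ)).1 : C' → ℂ) := by
      apply CfsgLib.Char.charDegree_eq
      show ((F (EK χ)).1 : C' → ℂ) (e.symm 1) = _
      rw [map_one, CfsgLib.Char.irr_one_eq (F (EK χ)).1.2]
    rw [hd]
    exact hdeg

end Cfsg.Agent.S4914
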