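import Cfsg.Statements.S4916
import Cfsg.Agent.Blk.DegSq
import Cfsg.Agent.Blk.Cover

set_option autoImplicit false
open Cfsg

namespace Cfsg.Agent.S4916

set_option linter.unusedSectionVars false
open CfsgLib.Char CfsgLib.Blk
open scoped ComplexConjugate


/-- Let G be a finite group, p a prime and M a maximal ideal of the algebraic integers containing p. Then the principal character is the only irreducible character of degree prime to p in the principal p-block of G if and only if p does not divide the order of G. -/
theorem result {G : Type*} [Group G] [Finite G] (p : ℕ) [Fact p.Prime] (M : Ideal Cfsg.AlgInt) (hM : Cfsg.IsPModular p M) : (∀ χ : Cfsg.IrrCharacter G, χ ∈ Cfsg.principalBlock M G → ¬ p ∣ Cfsg.charDegree (χ : G → ℂ) → (χ : G → ℂ) = fun _ => (1 : ℂ)) ↔ ¬ p ∣ Nat.card G := by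
  classical
  haveI := CfsgLib.Blk.IsPModular.isPrime hM
  haveI := Fintype.ofFinite G
  haveI := charP_res (M := M) hM
  let T : IrrCharacter G := ⟨fun _ => 1, isIrr_one⟩
  have hT : T ∈ principalBlock M G := sameBlock_refl _
  constructor
  · intro h hG
    have h1 := red_sum_deg_sq hM isPBlock_principalBlock hG
    rw [Finset.sum_eq_single T] at h1
    · have hd : charDegree (T : G → ℂ) = 1 := by
        have := irr_one_eq (χ := (T : G → ℂ)) T.2
        simp only [T] at this
        exact_mod_cast this.symm
      rw [if_pos hT, hd, Nat.cast_one, one_pow] at h1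
      exact one_ne_zero h1
    · intro χ _ hne
      split_ifs with hχ
      · have hd : p ∣ charDegree (χ : G → ℂ) := by
          by_contra hd
          exact hne (Subtype.ext (h χ hχ hd))
        rw [(CharP.cast_eq_zero_iff (Res M) p _).2 hd, sq, mul_zero]
      · rfl
    · simp
  · intro hG χ hχ _
    exact congrArg Subtype.val (eq_of_sameBlock_pPrime hM hG (θ := T) (θ' := χ) hχ).symm

end Cfsg.Agent.S4916
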