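import Cfsg.Statements.S4955
import Cfsg.Agent.Char.Burnside
import Cfsg.Agent.Char.Classes
import Cfsg.Agent.Char.ExtMore
import Cfsg.Agent.Char.GaloisTwist
import Cfsg.Agent.Blk.Criterion
import Mathlib.Analysis.SpecialFunctions.Log.Basic
import Mathlib.GroupTheory.Complement

set_option autoImplicit false
open Cfsg

namespace Cfsg.Agent.S4955

open CfsgLib.Char CfsgLib.Blk
open scoped ComplexConjugate

/-- a column restricted to a Galois stable set of characters avoiding zeros -/
theorem card_le_col_normSq {G : Type*} [Group G] [Finite G] (g : G) (S : Finset (IrrCharacter G))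
    (hS : ∀ m : ℕ, (hm : m.Coprime (Nat.card G)) → ∀ χ ∈ S,
      (⟨_, irr_pow hm χ.2⟩ : IrrCharacter G) ∈ S)
    (hne : ∀ χ ∈ S, (χ : G → ℂ) g ≠ 0) :
    (S.card : ℝ) ≤ ∑ χ ∈ S, Complex.normSq ((χ : G → ℂ) g) := by
  classical
  haveI := Fintype.ofFinite G
  set P0 : ℂ := ∏ χ ∈ S, (χ : G → ℂ) g * (χ : G → ℂ) g⁻¹ with hP0
  have hi : ∀ (χ : IrrCharacter G) (u : G), IsIntegral ℤ ((χ : G → ℂ) u) := fun χ u =>
    char_isIntegral (isCharacter_of_isIrr χ.2) u
  have hPint : IsIntegral ℤ P0 := IsIntegral.prod _ fun χ _ => (hi χ g).mul (hi χ g⁻¹)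
  obtain ⟨z, hz⟩ := int_of_fixed hPint fun φ => by
    obtain ⟨m, hm, hφ⟩ := algHom_char_pow G φ
    have e : (⟨P0, mem_qbar_of_integral hPint⟩ : QBar) = ∏ χ ∈ S,
        ⟨(χ : G → ℂ) g, mem_qbar_of_integral (hi χ g)⟩ *
          ⟨(χ : G → ℂ) g⁻¹, mem_qbar_of_integral (hi χ g⁻¹)⟩ :=
      Subtype.ext (by simp [hP0])
    rw [e, map_prod]
    have hinj : Function.Injective
        (fun χ : IrrCharacter G => (⟨fun u => (χ : G → ℂ) (u ^ m), irr_pow hm χ.2⟩ : IrrCharacter G)) :=
      fun a b h => Subtype.ext (funext fun u => by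
        obtain ⟨v, rfl⟩ := (pow_coprime_bijective (G := G) hm).2 u
        exact congrFun (congrArg Subtype.val h) v)
    refine Finset.prod_nbij _ (fun χ hχ => hS m hm χ hχ) hinj.injOn
      (Finset.surjOn_of_injOn_of_card_le _ (fun χ hχ => hS m hm χ hχ) hinj.injOn le_rfl) fun χ _ => ?_
    rw [map_mul, hφ _ (isCharacter_of_isIrr χ.2), hφ _ (isCharacter_of_isIrr χ.2)]
  have hreal : P0 = ((∏ χ ∈ S, Complex.normSq ((χ : G → ℂ) g) : ℝ) : ℂ) := by
    rw [hP0, Complex.ofReal_prod]
    exact Finset.prod_congr rfl fun χ _ => by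
      rw [char_conj_eq (isCharacter_of_isIrr χ.2), Complex.mul_conj]
  have hone : (1 : ℝ) ≤ ∏ χ ∈ S, Complex.normSq ((χ : G → ℂ) g) := by
    have e : ((z : ℝ) : ℂ) = ((∏ χ ∈ S, Complex.normSq ((χ : G → ℂ) g) : ℝ) : ℂ) := by
      rw [← hreal, hz, Complex.ofReal_intCast]
    rw [Complex.ofReal_inj] at e
    have hpos : (0 : ℝ) < z := by
      rw [e]; exact Finset.prod_pos fun χ hχ => Complex.normSq_pos.2 (hne χ hχ)
    rw [← e]
    exact_mod_cast (Int.add_one_le_iff.2 (by exact_mod_cast hpos) : (0 : ℤ) + 1 ≤ z)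
  have hlog0 : 0 ≤ ∑ χ ∈ S, Real.log (Complex.normSq ((χ : G → ℂ) g)) := by
    rw [← Real.log_prod fun χ hχ => (Complex.normSq_pos.2 (hne χ hχ)).ne']
    exact Real.log_nonneg hone
  have hle : ∑ χ ∈ S, Real.log (Complex.normSq ((χ : G → ℂ) g)) ≤
      ∑ χ ∈ S, (Complex.normSq ((χ : G → ℂ) g) - 1) :=
    Finset.sum_le_sum fun χ hχ => Real.log_le_sub_one_of_pos (Complex.normSq_pos.2 (hne χ hχ))
  rw [Finset.sum_sub_distrib, Finset.sum_const, nsmul_eq_mul, mul_one] at hle
  linarith

/-- Let X be a finite group with an abelian normal Sylow p-subgroup V (a normal p-subgroup of index prime to p in which any two elements commute), and let G be a complement to V in X. Then for every v in V, writing C for the centralizer of v in G, the number k(X) of conjugacy classes of X satisfies k(X) ≤ (order of C)·(order of V) − ((order of G) − k(G)); the statement is written with the subtracted term moved to the left. In particular, if some v in V is centralized by no nonidentity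 element of G, then k(X) is at most the order of V. -/
theorem result {X : Type*} [Group X] [Finite X] (p : ℕ) [Fact p.Prime] (V : Subgroup X) [V.Normal] (hVp : IsPGroup p V) (hidx : ¬ p ∣ V.index) (hab : ∀ a ∈ V, ∀ b ∈ V, a * b = b * a) (G : Subgroup X) (hGV : Subgroup.IsComplement' V G) (v : X) (hv : v ∈ V) : Nat.card (ConjClasses X) + Nat.card G ≤ Nat.card ↥(G ⊓ Subgroup.centralizer ({v} : Set X)) * Nat.card V + Nat.card (ConjClasses G) := by
  classical
  haveI := Fintype.ofFinite X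
  have hp : p.Prime := Fact.out
  obtain ⟨M, hM⟩ := CfsgLib.Blk.exists_isPModular hp
  haveI := hM.2.1.isPrime
  obtain ⟨k, hk⟩ := IsPGroup.iff_orderOf.1 hVp ⟨v, hv⟩
  rw [Subgroup.orderOf_mk] at hk
  have hne : ∀ χ : IrrCharacter X, (χ : X → ℂ) v ≠ 0 := by
    intro χ h0
    obtain ⟨n, ρ, hirr, hρ⟩ := χ.2
    haveI := hirr
    have hd := finrank_dvd_index ρ V hab
    have hnp : ¬ p ∣ n := fun h => hidx (h.trans (by simpa using hd))
    have h1 := red_char_eq (M := M) hM (isCharacter_of_isIrr χ.2) (g := v) (x := v) (y := 1)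
      (mul_one v) (Commute.one_right v) ⟨k, hk⟩
    have hn : (χ : X → ℂ) 1 = (n : ℂ) := by rw [← hρ, Representation.char_one]; simp
    have h2 : ((n : ℕ) : ℂ) ∈ locRing M := natCast_mem _ n
    rw [h0, hn, red_zero] at h1
    exact hnp ((natCast_memLocalIdeal_iff hM n).1 ((red_eq_zero_iff h2).1 h1.symm))
  set S : Finset (IrrCharacter X) :=
    Finset.univ.filter (fun χ => ¬ ∀ n ∈ V, (χ : X → ℂ) n = (χ : X → ℂ) 1) with hS
  set T : Finset (IrrCharacter X) :=
    Finset.univ.filter (fun χ => ∀ n ∈ V, (χ : X → ℂ) n = (χ : X → ℂ) 1) with hT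
  have hcardS : (S.card : ℝ) ≤ ∑ χ ∈ S, Complex.normSq ((χ : X → ℂ) v) := by
    refine card_le_col_normSq v S (fun m hm χ hχ => ?_) (fun χ _ => hne χ)
    rw [hS, Finset.mem_filter] at hχ ⊢
    refine ⟨Finset.mem_univ _, fun h => hχ.2 fun n hn => ?_⟩
    obtain ⟨y, hy⟩ := exists_pow_eq_self_of_coprime (hm.coprime_dvd_right (orderOf_dvd_natCard n))
    have h1 := h (n ^ y) (V.pow_mem hn y)
    simp only [one_pow] at h1
    rwa [← pow_mul, mul_comm, pow_mul, hy] at h1
  -- the characters trivial on `V` come from the quotient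
  haveI := Fintype.ofFinite (X ⧸ V)
  let q := QuotientGroup.mk' V
  have hq : Function.Surjective q := QuotientGroup.mk'_surjective V
  let e : IrrCharacter (X ⧸ V) → IrrCharacter X := fun χ => ⟨_, irr_comp q hq χ.2⟩
  have hTe : T = Finset.univ.image e := by
    ext χ
    simp only [hT, Finset.mem_filter, Finset.mem_univ, true_and, Finset.mem_image]
    constructor
    · intro h
      obtain ⟨χ', hχ', he⟩ := irr_descend q hq χ.2 fun x hx => h x ((QuotientGroup.eq_one_iff x).mp hx)
      exact ⟨⟨χ', hχ'⟩, Subtype.ext he⟩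
    · rintro ⟨χ', rfl⟩ n hn
      show (χ' : X ⧸ V → ℂ) (q n) = (χ' : X ⧸ V → ℂ) (q 1)
      rw [show q n = q 1 by rw [map_one]; exact (QuotientGroup.eq_one_iff n).mpr hn]
  have hinj : Function.Injective e := fun a b h => Subtype.ext (funext fun u => by
    obtain ⟨x, rfl⟩ := hq u
    exact congrFun (congrArg Subtype.val h) x)
  let eG : X ⧸ V ≃* G := hGV.symm.QuotientMulEquiv
  have hTcard : T.card = Nat.card (ConjClasses G) := by
    rw [hTe, Finset.card_image_of_injective _ hinj, Finset.card_univ, Fintype.card_eq_nat_card,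
      card_irr_eq_card_conjClasses]
    exact Nat.card_congr (Equiv.ofBijective (ConjClasses.map eG.toMonoidHom)
      ⟨fun a b h => by
        obtain ⟨a, rfl⟩ := ConjClasses.exists_rep a
        obtain ⟨b, rfl⟩ := ConjClasses.exists_rep b
        refine ConjClasses.mk_eq_mk_iff_isConj.mpr ?_
        have h1 : IsConj (eG a) (eG b) := ConjClasses.mk_eq_mk_iff_isConj.mp h
        simpa using eG.symm.toMonoidHom.map_isConj h1,
      ConjClasses.map_surjective eG.surjective⟩)
  have hTsum : ∑ χ ∈ T, Complex.normSq ((χ : X → ℂ) v) = (Nat.card G : ℝ) := by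
    have h := sum_degree_sq (G := X ⧸ V)
    have h' : ((∑ χ ∈ T, Complex.normSq ((χ : X → ℂ) v) : ℝ) : ℂ) = (Nat.card (X ⧸ V) : ℂ) := by
      rw [hTe, Finset.sum_image hinj.injOn, ← h, Complex.ofReal_sum]
      refine Finset.sum_congr rfl fun χ _ => ?_
      show ((Complex.normSq ((χ : X ⧸ V → ℂ) (q v)) : ℝ) : ℂ) = _
      rw [show q v = 1 from (QuotientGroup.eq_one_iff v).mpr hv, irr_one_eq χ.2,
        Complex.normSq_natCast]
      push_cast
      ring
    rw [Nat.card_congr eG.toEquiv] at h'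
    exact_mod_cast h'
  have hC : Nat.card (Subgroup.centralizer ({v} : Set X)) =
      Nat.card V * Nat.card ↥(G ⊓ Subgroup.centralizer ({v} : Set X)) := by
    have hVC : ∀ w ∈ V, w ∈ Subgroup.centralizer ({v} : Set X) := fun w hw => by
      rw [Subgroup.mem_centralizer_singleton_iff]; exact hab w hw v hv
    rw [← Nat.card_prod]
    refine (Nat.card_congr (Equiv.ofBijective (fun wh : V × ↥(G ⊓ Subgroup.centralizer ({v} : Set X)) =>
      (⟨wh.1 * wh.2, mul_mem (hVC _ wh.1.2) wh.2.2.2⟩ : Subgroup.centralizer ({v} : Set X))) ⟨?_, ?_⟩)).symm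
    · rintro ⟨w, h⟩ ⟨w', h'⟩ he
      have h1 := @hGV.1 (w, ⟨h.1, h.2.1⟩) (w', ⟨h'.1, h'.2.1⟩) (congrArg Subtype.val he)
      simp only [Prod.mk.injEq, Subtype.mk.injEq] at h1
      exact Prod.ext h1.1 (Subtype.ext h1.2)
    · rintro ⟨c, hc⟩
      obtain ⟨⟨w, h⟩, he⟩ := hGV.2 c
      refine ⟨(w, ⟨h.1, h.2, ?_⟩), Subtype.ext he⟩
      have : (h : X) = (w : X)⁻¹ * c := by rw [← he]; simp
      rw [this]
      exact (Subgroup.centralizer ({v} : Set X)).mul_mem (Subgroup.inv_mem _ (hVC _ w.2)) hc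
  have hall : ∑ χ : IrrCharacter X, Complex.normSq ((χ : X → ℂ) v) =
      (Nat.card (Subgroup.centralizer ({v} : Set X)) : ℝ) := by
    have h := second_orth v v
    rw [if_pos (IsConj.refl v)] at h
    simp only [Complex.mul_conj] at h
    exact_mod_cast h
  rw [← Finset.sum_filter_add_sum_filter_not Finset.univ
    (fun χ : IrrCharacter X => ∀ n ∈ V, (χ : X → ℂ) n = (χ : X → ℂ) 1)] at hall
  rw [← hT, ← hS, hTsum, hC] at hall
  have hk : Nat.card (ConjClasses X) = T.card + S.card := by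
    rw [← card_irr_eq_card_conjClasses, ← Fintype.card_eq_nat_card, hT, hS,
      Finset.card_filter_add_card_filter_not, Finset.card_univ]
  have hfin : (S.card + Nat.card G : ℝ) ≤ (Nat.card V * Nat.card ↥(G ⊓ Subgroup.centralizer ({v} : Set X)) : ℕ) := by
    push_cast at hall ⊢
    linarith
  have : S.card + Nat.card G ≤ Nat.card V * Nat.card ↥(G ⊓ Subgroup.centralizer ({v} : Set X)) := by
    exact_mod_cast hfin
  rw [hk, mul_comm (Nat.card ↥(G ⊓ Subgroup.centralizer ({v} : Set X)))]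
  omega

end Cfsg.Agent.S4955
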