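import Cfsg.Statements.S4956
import Mathlib.GroupTheory.CommutingProbability
import Mathlib.GroupTheory.Complement
import Mathlib.Algebra.BigOperators.Group.Finset.Basic
import Mathlib.GroupTheory.OrderOfElement

set_option autoImplicit false
open Cfsg

namespace Cfsg.Agent.S4956

/-- Let X be a finite group, V an abelian normal subgroup of X (any two elements of V commute) and G a complement to V in X whose order is coprime to that of V. Let S be a set of representatives of the orbits of G on V under conjugation: S lies in V and every element of V is conjugate under G to exactly one member of S. Then the number of conjugacy classes of X equals the sum, over s in S, of the number of conjugacy classes of the centralizer of s in G. -/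
theorem result {X : Type*} [Group X] [Finite X] (V : Subgroup X) [V.Normal] (hab : ∀ a ∈ V, ∀ b ∈ V, a * b = b * a) (G : Subgroup X) (hGV : Subgroup.IsComplement' V G) (hcop : (Nat.card V).Coprime (Nat.card G)) (S : Finset X) (hSV : ∀ s ∈ S, s ∈ V) (hrep : ∀ v ∈ V, ∃! s, s ∈ S ∧ ∃ g ∈ G, g * v * g⁻¹ = s) : Nat.card (ConjClasses X) = ∑ s ∈ S, Nat.card (ConjClasses ↥(G ⊓ Subgroup.centralizer ({s} : Set X))) := by
  classical
  haveI : Fintype X := Fintype.ofFinite X
  haveI : Fintype G := Fintype.ofFinite G
  haveI : Fintype V := Fintype.ofFinite V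
  letI : CommGroup V :=
    { (inferInstance : Group V) with mul_comm := fun a b => Subtype.ext (hab a a.2 b b.2) }
  -- the count over a commuting pair of complement elements
  let Cset : X → X → Type _ := fun g h => {v : V // g * v = v * g ∧ h * v = v * h}
  have hcount : ∀ g h : X, g ∈ G → h ∈ G → g * h = h * g →
      Nat.card {ab : V × V // (ab.1 : X) * g * ((ab.2 : X) * h) = (ab.2 : X) * h * ((ab.1 : X) * g)} =
        Nat.card V * Nat.card (Cset g h) := by
    intro g h hg hh hgh
    let act : X → V →* V := fun k => (MulAut.conjNormal k : MulAut V).toMonoidHom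
    have hact : ∀ (k : X) (v : V), ((act k v : V) : X) = k * v * k⁻¹ := fun k v => MulAut.conjNormal_apply k v
    have hact2 : ∀ (k l : X) (v : V), act (k * l) v = act k (act l v) := fun k l v =>
      Subtype.ext (by simp only [hact]; group)
    let φ : V × V →* V := ((MonoidHom.id V / act h).comp (MonoidHom.fst V V)) /
      ((MonoidHom.id V / act g).comp (MonoidHom.snd V V))
    have hker : ∀ ab : V × V, ab ∈ φ.ker ↔
        (ab.1 : X) * g * ((ab.2 : X) * h) = (ab.2 : X) * h * ((ab.1 : X) * g) := by
      rintro ⟨a, b⟩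
      rw [MonoidHom.mem_ker]
      show a / act h a / (b / act g b) = 1 ↔ _
      rw [div_eq_one, div_eq_div_iff_mul_eq_mul, Subtype.ext_iff, Subgroup.coe_mul, Subgroup.coe_mul,
        hact, hact]
      constructor
      · intro e
        calc (a : X) * g * ((b : X) * h) = (a : X) * (g * b * g⁻¹) * (g * h) := by group
          _ = (b : X) * (h * a * h⁻¹) * (h * g) := by rw [e, hgh]
          _ = (b : X) * h * ((a : X) * g) := by group
      · intro e
        calc (a : X) * (g * b * g⁻¹) = (a : X) * g * ((b : X) * h) * (g * h)⁻¹ := by group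
          _ = (b : X) * h * ((a : X) * g) * (h * g)⁻¹ := by rw [e, hgh]
          _ = (b : X) * (h * a * h⁻¹) := by group
    let K : Subgroup X := Subgroup.closure {g, h}
    haveI : Fintype K := Fintype.ofFinite _
    have hKG : K ≤ G := (Subgroup.closure_le G).mpr (by
      rintro x (rfl | rfl)
      exacts [hg, hh])
    have hKcop : (Nat.card V).Coprime (Nat.card K) := hcop.coprime_dvd_right (Subgroup.card_dvd_of_le hKG)
    let nm : V →* V := ∏ k : K, act k
    have hnm : ∀ v, nm v = ∏ k : K, act k v := fun v => MonoidHom.finsetProd_apply _ _ _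
    have hnm_act : ∀ (k : K) (v : V), nm (act k v) = nm v := fun k v => by
      rw [hnm, hnm]
      exact Fintype.prod_equiv (Equiv.mulRight k) _ _ fun l => (hact2 l k v).symm
    have hact_nm : ∀ (k : K) (v : V), act k (nm v) = nm v := fun k v => by
      rw [hnm, map_prod]
      exact Fintype.prod_equiv (Equiv.mulLeft k) _ _ fun l => (hact2 k l v).symm
    have hpow : ∀ v : V, ∃ m : ℕ, (v ^ Nat.card K) ^ m = v := fun v =>
      exists_pow_eq_self_of_coprime (hKcop.symm.coprime_dvd_right (orderOf_dvd_natCard v))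
    have hgK : g ∈ K := Subgroup.subset_closure (Or.inl rfl)
    have hhK : h ∈ K := Subgroup.subset_closure (Or.inr rfl)
    have hrange : φ.range = nm.ker := by
      refine le_antisymm ?_ fun v hv => ?_
      · rintro _ ⟨⟨a, b⟩, rfl⟩
        rw [MonoidHom.mem_ker]
        show nm (a / act h a / (b / act g b)) = 1
        simp only [map_div]
        rw [hnm_act ⟨h, hhK⟩ a, hnm_act ⟨g, hgK⟩ b, div_self', div_self', div_one]
      · let M : Subgroup X :=
          { carrier := {k | ∀ v : V, v / act k v ∈ φ.range}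
            one_mem' := fun v => by
              have : act 1 v = v := Subtype.ext (by rw [hact]; simp)
              rw [this, div_self']; exact one_mem _
            mul_mem' := fun {k l} hk hl v => by
              have := mul_mem (hl v) (hk (act l v))
              rwa [div_mul_div_cancel, ← hact2] at this
            inv_mem' := fun {k} hk v => by
              have := inv_mem (hk (act k⁻¹ v))
              rw [inv_div, ← hact2, mul_inv_cancel] at this
              have h1 : act 1 v = v := Subtype.ext (by rw [hact]; simp)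
              rwa [h1] at this }
        have hKM : K ≤ M := (Subgroup.closure_le M).mpr (by
          rintro x (rfl | rfl)
          · intro v
            refine ⟨(1, v⁻¹), ?_⟩
            show (1 : V) / act h 1 / (v⁻¹ / act x v⁻¹) = _
            simp only [map_one, div_one, map_inv]
            simp [div_eq_mul_inv, mul_comm]
          · intro v
            refine ⟨(v, 1), ?_⟩
            show v / act x v / ((1 : V) / act g 1) = _
            simp only [map_one, div_one])
        have h1 : v ^ Nat.card K ∈ φ.range := by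
          have h2 : ∏ k : K, v / act k v ∈ φ.range := prod_mem fun k _ => hKM k.2 v
          rw [Finset.prod_div_distrib, Finset.prod_const, Finset.card_univ, ← hnm,
            MonoidHom.mem_ker.mp hv, div_one, ← Nat.card_eq_fintype_card] at h2
          exact h2
        obtain ⟨m, hm⟩ := hpow v
        rw [← hm]
        exact pow_mem h1 m
    have hC : Nat.card nm.range = Nat.card (Cset g h) := by
      refine Nat.card_congr (Equiv.subtypeEquivRight fun w => ?_)
      constructor
      · rintro ⟨v, rfl⟩
        refine ⟨?_, ?_⟩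
        · exact mul_inv_eq_iff_eq_mul.mp ((hact g _).symm.trans (congrArg Subtype.val (hact_nm ⟨g, hgK⟩ v)))
        · exact mul_inv_eq_iff_eq_mul.mp ((hact h _).symm.trans (congrArg Subtype.val (hact_nm ⟨h, hhK⟩ v)))
      · rintro ⟨h1, h2⟩
        have hfix : ∀ k : K, act k w = w := by
          have hle : K ≤ Subgroup.centralizer ({(w : X)} : Set X) := (Subgroup.closure_le _).mpr (by
            rintro x (rfl | rfl)
            exacts [Subgroup.mem_centralizer_singleton_iff.mpr h1, Subgroup.mem_centralizer_singleton_iff.mpr h2])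
          intro k
          refine Subtype.ext ?_
          rw [hact]
          exact mul_inv_eq_iff_eq_mul.mpr (Subgroup.mem_centralizer_singleton_iff.mp (hle k.2))
        obtain ⟨m, hm⟩ := hpow w
        refine ⟨w ^ m, ?_⟩
        rw [map_pow, hnm, Finset.prod_congr rfl fun k _ => hfix k, Finset.prod_const, Finset.card_univ,
          ← Nat.card_eq_fintype_card, hm]
    have e1 := φ.ker.card_mul_index
    rw [Subgroup.index_ker, hrange, Nat.card_prod] at e1
    have e2 := nm.ker.card_mul_index
    rw [Subgroup.index_ker, hC] at e2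
    have e3 : Nat.card {ab : V × V // (ab.1 : X) * g * ((ab.2 : X) * h) = (ab.2 : X) * h * ((ab.1 : X) * g)} =
        Nat.card φ.ker := Nat.card_congr (Equiv.subtypeEquivRight fun ab => (hker ab).symm)
    refine Nat.eq_of_mul_eq_mul_right (Nat.card_pos (α := nm.ker)) ?_
    rw [e3, e1]
    conv_lhs => arg 2; rw [← e2]
    ring
  -- pairs of the complement centralising a given element
  let P : X → Type _ := fun v => {p : X × X // (p.1 ∈ G ∧ p.2 ∈ G) ∧ p.1 * p.2 = p.2 * p.1 ∧
    p.1 * v = v * p.1 ∧ p.2 * v = v * p.2}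
  have hbij : Function.Bijective fun z : V × G => (z.1 : X) * z.2 := hGV
  let e : V × G ≃ X := Equiv.ofBijective _ hbij
  have hL : Nat.card {p : X × X // Commute p.1 p.2} =
      ∑ q : {q : G × G // (q.1 : X) * q.2 = q.2 * q.1}, Nat.card V * Nat.card (Cset (q.1.1 : X) (q.1.2 : X)) := by
    rw [← Finset.sum_congr rfl fun q _ => hcount _ _ q.1.1.2 q.1.2.2 q.2, ← Nat.card_sigma]
    refine (Nat.card_congr (Equiv.ofBijective (fun z => (⟨((z.2.1.1 : X) * z.1.1.1, (z.2.1.2 : X) * z.1.1.2), z.2.2⟩ :
      {p : X × X // Commute p.1 p.2})) ⟨?_, ?_⟩)).symm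
    · rintro ⟨⟨⟨g, h⟩, hq⟩, ⟨⟨a, b⟩, hab'⟩⟩ ⟨⟨⟨g', h'⟩, hq'⟩, ⟨⟨a', b'⟩, hab''⟩⟩ he
      have h1 := hbij.1 (show (fun z : V × G => (z.1 : X) * z.2) (a, g) = (fun z : V × G => (z.1 : X) * z.2) (a', g') from
        congrArg (fun p : {p : X × X // Commute p.1 p.2} => p.1.1) he)
      have h2 := hbij.1 (show (fun z : V × G => (z.1 : X) * z.2) (b, h) = (fun z : V × G => (z.1 : X) * z.2) (b', h') from
        congrArg (fun p : {p : X × X // Commute p.1 p.2} => p.1.2) he)
      simp only [Prod.mk.injEq] at h1 h2
      obtain ⟨rfl, rfl⟩ := h1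
      obtain ⟨rfl, rfl⟩ := h2
      rfl
    · rintro ⟨⟨x, y⟩, hxy⟩
      obtain ⟨⟨a, g⟩, rfl⟩ := hbij.2 x
      obtain ⟨⟨b, h⟩, rfl⟩ := hbij.2 y
      have hxy' : (a : X) * g * ((b : X) * h) = (b : X) * h * ((a : X) * g) := hxy
      have hgh : (g : X) * h = h * g := by
        obtain ⟨va, hva⟩ : ∃ va : V, (va : X) = (a : X) * (g * b * (g : X)⁻¹) :=
          ⟨⟨_, V.mul_mem a.2 ((inferInstance : V.Normal).conj_mem b b.2 g)⟩, rfl⟩
        obtain ⟨vb, hvb⟩ : ∃ vb : V, (vb : X) = (b : X) * (h * a * (h : X)⁻¹) :=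
          ⟨⟨_, V.mul_mem b.2 ((inferInstance : V.Normal).conj_mem a a.2 h)⟩, rfl⟩
        have heq : (va : X) * ((g * h : G) : X) = (vb : X) * ((h * g : G) : X) := by
          rw [hva, hvb, Subgroup.coe_mul, Subgroup.coe_mul]
          simpa [mul_assoc] using hxy'
        exact congrArg (fun z : V × G => ((z.2 : G) : X)) (hbij.1 (a₁ := (va, g * h)) (a₂ := (vb, h * g)) heq)
      exact ⟨⟨⟨(g, h), hgh⟩, ⟨(a, b), hxy'⟩⟩, rfl⟩
  have hT : ∑ q : {q : G × G // (q.1 : X) * q.2 = q.2 * q.1}, Nat.card (Cset (q.1.1 : X) (q.1.2 : X)) =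
      ∑ v : V, Nat.card (P (v : X)) := by
    rw [← Nat.card_sigma, ← Nat.card_sigma]
    exact Nat.card_congr
      { toFun := fun z => ⟨z.2.1, (z.1.1.1, z.1.1.2), ⟨z.1.1.1.2, z.1.1.2.2⟩, z.1.2, z.2.2⟩
        invFun := fun z => ⟨⟨(⟨z.2.1.1, z.2.2.1.1⟩, ⟨z.2.1.2, z.2.2.1.2⟩), z.2.2.2.1⟩, ⟨z.1, z.2.2.2.2⟩⟩
        left_inv := fun z => rfl
        right_inv := fun z => rfl }
  choose rep hrepS hrepU using hrep
  let r : V → X := fun v => rep v v.2
  have hr : ∀ v : V, r v ∈ S ∧ ∃ g ∈ G, g * (v : X) * g⁻¹ = r v := fun v => hrepS v v.2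
  have hfib : ∀ s ∈ S, ∑ v ∈ Finset.univ.filter (fun v : V => r v = s), Nat.card (P (v : X)) =
      Nat.card G * Nat.card (ConjClasses ↥(G ⊓ Subgroup.centralizer ({s} : Set X))) := by
    intro s hs
    set H := G ⊓ Subgroup.centralizer ({s} : Set X) with hH
    have hPs : Nat.card (P s) = Nat.card (ConjClasses H) * Nat.card H := by
      rw [← card_comm_eq_card_conjClasses_mul_card]
      exact Nat.card_congr
        { toFun := fun p => ⟨(⟨p.1.1, p.2.1.1, Subgroup.mem_centralizer_singleton_iff.mpr p.2.2.2.1⟩,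
            ⟨p.1.2, p.2.1.2, Subgroup.mem_centralizer_singleton_iff.mpr p.2.2.2.2⟩), Subtype.ext p.2.2.1⟩
          invFun := fun p => ⟨((p.1.1 : X), (p.1.2 : X)), ⟨(Subgroup.mem_inf.mp p.1.1.2).1,
            (Subgroup.mem_inf.mp p.1.2.2).1⟩, congrArg Subtype.val p.2,
            Subgroup.mem_centralizer_singleton_iff.mp (Subgroup.mem_inf.mp p.1.1.2).2,
            Subgroup.mem_centralizer_singleton_iff.mp (Subgroup.mem_inf.mp p.1.2.2).2⟩
          left_inv := fun p => rfl
          right_inv := fun p => rfl }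
    have hPv : ∀ v ∈ Finset.univ.filter (fun v : V => r v = s), Nat.card (P (v : X)) = Nat.card (P s) := by
      intro v hv
      obtain ⟨g, hg, hgv⟩ := (hr v).2
      rw [(Finset.mem_filter.mp hv).2] at hgv
      subst hgv
      refine Nat.card_congr (Equiv.subtypeEquiv
        ((MulAut.conj g).toEquiv.prodCongr (MulAut.conj g).toEquiv) fun p => ?_)
      simp only [Equiv.prodCongr_apply, Prod.map_fst, Prod.map_snd, MulEquiv.toEquiv_eq_coe,
        EquivLike.coe_coe, MulAut.conj_apply]
      have hG' : ∀ z : X, g * z * g⁻¹ ∈ G ↔ z ∈ G := fun z => by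
        rw [Subgroup.mul_mem_cancel_right _ (inv_mem hg), Subgroup.mul_mem_cancel_left _ hg]
      have hmul : ∀ z w : X, g * z * g⁻¹ * (g * w * g⁻¹) = g * w * g⁻¹ * (g * z * g⁻¹) ↔ z * w = w * z :=
        fun z w => by rw [conj_mul, conj_mul, mul_left_inj, mul_right_inj]
      rw [hG', hG', hmul, hmul, hmul]
    rw [Finset.sum_congr rfl hPv, Finset.sum_const, smul_eq_mul, hPs]
    have horb : (Finset.univ.filter (fun v : V => r v = s)).card * Nat.card H = Nat.card G := by
      have hcard : Nat.card G = ∑ v ∈ Finset.univ.filter (fun v : V => r v = s), Nat.card H := by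
        rw [← Finset.card_univ.trans (Nat.card_eq_fintype_card).symm]
        have hsV := hSV s hs
        let F : G → V := fun g => ⟨(g : X)⁻¹ * s * g, by
          have := (inferInstance : V.Normal).conj_mem s hsV (g : X)⁻¹
          rwa [inv_inv] at this⟩
        have hF : ∀ g ∈ (Finset.univ : Finset G), F g ∈ Finset.univ.filter (fun v : V => r v = s) := by
          intro g _
          refine Finset.mem_filter.mpr ⟨Finset.mem_univ _, (hrepU _ (F g).2 s ⟨hs, g, g.2, ?_⟩).symm⟩
          simp [F, mul_assoc]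
        rw [Finset.card_eq_sum_card_fiberwise hF]
        refine Finset.sum_congr rfl fun v hv => ?_
        obtain ⟨g₀, hg₀, hgv⟩ := (hr v).2
        rw [(Finset.mem_filter.mp hv).2] at hgv
        rw [← Fintype.card_subtype, ← Nat.card_eq_fintype_card]
        refine Nat.card_congr
          { toFun := fun g => ⟨(g.1 : X) * g₀⁻¹, Subgroup.mem_inf.mpr ⟨mul_mem g.1.2 (inv_mem hg₀),
              Subgroup.mem_centralizer_singleton_iff.mpr ?_⟩⟩
            invFun := fun k => ⟨⟨(k : X) * g₀, mul_mem (Subgroup.mem_inf.mp k.2).1 hg₀⟩, Subtype.ext ?_⟩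
            left_inv := fun g => Subtype.ext (Subtype.ext (by simp))
            right_inv := fun k => Subtype.ext (by simp) }
        · have h1 : (g.1 : X)⁻¹ * s * g.1 = (v : X) := congrArg Subtype.val g.2
          calc (g.1 : X) * g₀⁻¹ * s = (g.1 : X) * (g₀⁻¹ * s * g₀) * g₀⁻¹ := by group
            _ = (g.1 : X) * (v : X) * g₀⁻¹ := by rw [← hgv]; group
            _ = s * ((g.1 : X) * g₀⁻¹) := by rw [← h1]; group
        · show ((k : X) * g₀)⁻¹ * s * ((k : X) * g₀) = v
          have hk := Subgroup.mem_centralizer_singleton_iff.mp (Subgroup.mem_inf.mp k.2).2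
          calc ((k : X) * g₀)⁻¹ * s * ((k : X) * g₀) = g₀⁻¹ * (k : X)⁻¹ * (s * (k : X)) * g₀ := by group
            _ = g₀⁻¹ * s * g₀ := by rw [← hk]; group
            _ = v := by rw [← hgv]; group
      rw [hcard, Finset.sum_const, smul_eq_mul]
    rw [← horb]
    ring
  have hR : ∑ v : V, Nat.card (P (v : X)) =
      Nat.card G * ∑ s ∈ S, Nat.card (ConjClasses ↥(G ⊓ Subgroup.centralizer ({s} : Set X))) := by
    rw [Finset.mul_sum, ← Finset.sum_fiberwise_of_maps_to (fun v _ => (hr v).1)]
    exact Finset.sum_congr rfl hfib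
  refine Nat.eq_of_mul_eq_mul_right (Nat.card_pos (α := X)) ?_
  rw [← card_comm_eq_card_conjClasses_mul_card, hL, ← Finset.mul_sum, hT, hR,
    ← hGV.card_mul_card]
  ring

end Cfsg.Agent.S4956
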