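import Cfsg.Statements.S4964
import Cfsg.Agent.Blk.Inflate
import Cfsg.Agent.Blk.NormalP
import Cfsg.Agent.Solv.CoprimeAction
import Cfsg.Agent.Fus.Tate

set_option autoImplicit false
open Cfsg

namespace Cfsg.Agent.S4964

open CfsgLib.Char CfsgLib.Blk
open scoped commutatorElement
set_option linter.unusedSectionVars false

/-- A `p'`-element centralising `D / [D, D]` centralises `D`. -/
theorem centralizes_of_mod_derived {G : Type*} [Group G] [Finite G] {p : ℕ} [Fact p.Prime]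
    (D : Subgroup G) [D.Normal] (hD : IsPGroup p D) {g : G} (hg : ¬ p ∣ orderOf g)
    (h : (g : G ⧸ ⁅D, D⁆) ∈ Subgroup.centralizer ((D.map (QuotientGroup.mk' ⁅D, D⁆) : Subgroup _) : Set (G ⧸ ⁅D, D⁆))) :
    g ∈ Subgroup.centralizer (D : Set G) := by
  have hzp : Subgroup.zpowers g ≤ (Subgroup.centralizer
      ((D.map (QuotientGroup.mk' ⁅D, D⁆) : Subgroup _) : Set (G ⧸ ⁅D, D⁆))).comap (QuotientGroup.mk' ⁅D, D⁆) :=
    Subgroup.zpowers_le.2 h
  refine CfsgLib.Solv.le_centralizer_of_trivial_on_frattini_quotient ?_ ?_ (Subgroup.mem_zpowers g)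
  · obtain ⟨k, hk⟩ := IsPGroup.iff_card.1 (hD.to_subgroup (frattini D))
    rw [hk, Nat.card_zpowers]
    exact (Nat.Coprime.pow_left k ((Fact.out : p.Prime).coprime_iff_not_dvd.2 hg)).symm
  · intro a ha k hk
    refine CfsgLib.Fus.commutator_le_frattini_map hD ?_
    rw [← QuotientGroup.eq_one_iff, ← QuotientGroup.mk'_apply, map_commutatorElement,
      commutatorElement_eq_one_iff_mul_comm]
    exact (Subgroup.mem_centralizer_iff.1 (hzp ha) _ ⟨k, hk, rfl⟩).symm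


/-- Let D be a normal p-subgroup of the finite group G, let D′ be its commutator subgroup (normal in G), and fix a maximal ideal M of the algebraic integers containing p. Then (i) two irreducible characters of G ⧸ D′ lie in the same p-block if and only if their inflations to G do, and (ii) every p-block of G contains the inflation of some irreducible character of G ⧸ D′; so inflation induces a bijection between the p-blocks of G ⧸ D′ and the p-blocks of G. -/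
theorem result {G : Type*} [Group G] [Finite G] (p : ℕ) [Fact p.Prime] (M : Ideal Cfsg.AlgInt) (hM : Cfsg.IsPModular p M) (D : Subgroup G) [D.Normal] (hD : IsPGroup p D) : (∀ χ ψ : Cfsg.IrrCharacter (G ⧸ ⁅D, D⁆), Cfsg.SameBlock M (χ : G ⧸ ⁅D, D⁆ → ℂ) (ψ : G ⧸ ⁅D, D⁆ → ℂ) ↔ Cfsg.SameBlock M ((χ : G ⧸ ⁅D, D⁆ → ℂ) ∘ QuotientGroup.mk) ((ψ : G ⧸ ⁅D, D⁆ → ℂ) ∘ QuotientGroup.mk)) ∧ ∀ B : Set (Cfsg.IrrCharacter G), Cfsg.IsPBlock M B → ∃ χ : Cfsg.IrrCharacter (G ⧸ ⁅D, D⁆), ∃ θ ∈ B, (θ : G → ℂ) = (χ : G ⧸ ⁅D, D⁆ → ℂ) ∘ QuotientGroup.mk := by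
  classical
  haveI := CfsgLib.Blk.IsPModular.isPrime hM
  haveI := Fintype.ofFinite G
  haveI := Fintype.ofFinite (G ⧸ ⁅D, D⁆)
  have hP : IsPGroup p ↥⁅D, D⁆ := hD.to_le (Subgroup.commutator_le_self D)
  refine ⟨fun χ ψ => ⟨fun h => sameBlock_infl _ h, fun h => ?_⟩, fun B hB => ?_⟩
  · have hDq : IsPGroup p (D.map (QuotientGroup.mk' ⁅D, D⁆)) := hD.map _
    haveI : (D.map (QuotientGroup.mk' ⁅D, D⁆)).Normal :=
      Subgroup.Normal.map inferInstance _ (QuotientGroup.mk'_surjective _)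
    refine sameBlock_of_regular hM fun x hx => ?_
    obtain ⟨g, hg, rfl⟩ := exists_regular_lift ⁅D, D⁆ hP x hx
    by_cases hgD : g ∈ Subgroup.centralizer (D : Set G)
    · have hgC : g ∈ Subgroup.centralizer ((⁅D, D⁆ : Subgroup G) : Set G) :=
        Subgroup.centralizer_le (show (⁅D, D⁆ : Subgroup G) ≤ D from (Subgroup.commutator_le_self D)) hgD
      have hidx : (Subgroup.centralizer ({(g : G ⧸ ⁅D, D⁆)} : Set (G ⧸ ⁅D, D⁆))).comap
          (QuotientGroup.mk' ⁅D, D⁆) = Subgroup.centralizer ({g} : Set G) :=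
        centralizer_mk_eq_of_mem ⁅D, D⁆ hP hgC hg
      have e : ∀ θ : IrrCharacter (G ⧸ ⁅D, D⁆), centralChar ((θ : G ⧸ ⁅D, D⁆ → ℂ) ∘ QuotientGroup.mk) g =
          centralChar (θ : G ⧸ ⁅D, D⁆ → ℂ) (g : G ⧸ ⁅D, D⁆) := fun θ => by
        have h2 := Subgroup.index_comap_of_surjective
          (Subgroup.centralizer ({(g : G ⧸ ⁅D, D⁆)} : Set (G ⧸ ⁅D, D⁆)))
          (f := QuotientGroup.mk' ⁅D, D⁆) (QuotientGroup.mk'_surjective _)
        rw [hidx] at h2
        simp [centralChar, h2]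
      rw [← e χ, ← e ψ]
      exact (sameBlock_iff_red (infl _ χ).2 (infl _ ψ).2).1 h g
    · have hz : ∀ θ : IrrCharacter (G ⧸ ⁅D, D⁆),
          red M (centralChar (θ : G ⧸ ⁅D, D⁆ → ℂ) (g : G ⧸ ⁅D, D⁆)) = 0 := by
        intro θ
        rw [red_eq_zero_iff (centralChar_mem θ.2 _)]
        by_contra hne
        exact hgD (centralizes_of_mod_derived D hD hg
          (mem_centralizer_of_centralChar hM _ hDq θ.2 _ hne))
      rw [hz, hz]
  · obtain ⟨θ, hθ, hk⟩ := exists_trivial_on hM hB ⁅D, D⁆ hP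
    obtain ⟨χ, rfl⟩ := exists_infl ⁅D, D⁆ hk
    exact ⟨χ, _, hθ, rfl⟩

end Cfsg.Agent.S4964
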