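import Cfsg.Statements.S4965
import Mathlib.GroupTheory.GroupAction.CardCommute
import Mathlib.GroupTheory.SemidirectProduct
import Mathlib.GroupTheory.Index
import Mathlib.Tactic.Group

set_option autoImplicit false
open Cfsg

namespace Cfsg.Agent.S4965

/-- Let X be a finite group with an abelian normal subgroup V (any two elements of V commute), and let φ be the action of X ⧸ V on V induced by conjugation (well defined because V is abelian; the hypothesis hφ says that the class of x acts as conjugation by x). Then X has at most as many conjugacy classes as the semidirect product of V by X ⧸ V formed with this action: the split extension has the largest class number among extensions with the given action. -/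
theorem result {X : Type*} [Group X] [Finite X] (V : Subgroup X) [V.Normal] (hab : ∀ a ∈ V, ∀ b ∈ V, a * b = b * a) (φ : X ⧸ V →* MulAut ↥V) (hφ : ∀ (x : X) (v : ↥V), ((φ (QuotientGroup.mk x) v : ↥V) : X) = x * v * x⁻¹) : Nat.card (ConjClasses X) ≤ Nat.card (ConjClasses (SemidirectProduct ↥V (X ⧸ V) φ)) := by
  classical
  let SD := SemidirectProduct ↥V (X ⧸ V) φ
  haveI : Finite SD := Finite.of_equiv _ SemidirectProduct.equivProd.symm
  have hcard : Nat.card SD = Nat.card X := by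
    rw [Nat.card_congr SemidirectProduct.equivProd, Nat.card_prod, ← Subgroup.index_eq_card,
      V.card_mul_index]
  let mk : X → X ⧸ V := QuotientGroup.mk
  have hrep : ∀ q : (X ⧸ V) × (X ⧸ V), ∃ r : X × X,
      (∃ z : X × X, Commute z.1 z.2 ∧ (mk z.1, mk z.2) = q) → Commute r.1 r.2 ∧ (mk r.1, mk r.2) = q := by
    intro q
    by_cases h : ∃ z : X × X, Commute z.1 z.2 ∧ (mk z.1, mk z.2) = q
    · obtain ⟨z, hz⟩ := h
      exact ⟨z, fun _ => hz⟩
    · exact ⟨1, fun h' => absurd h' h⟩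
  choose r hr using hrep
  have hmem : ∀ p : {p : X × X // Commute p.1 p.2},
      p.1.1 * (r (mk p.1.1, mk p.1.2)).1⁻¹ ∈ V ∧ p.1.2 * (r (mk p.1.1, mk p.1.2)).2⁻¹ ∈ V := by
    intro p
    obtain ⟨-, h⟩ := hr _ ⟨p.1, p.2, rfl⟩
    have h1 : mk (r (mk p.1.1, mk p.1.2)).1 = mk p.1.1 := congrArg Prod.fst h
    have h2 : mk (r (mk p.1.1, mk p.1.2)).2 = mk p.1.2 := congrArg Prod.snd h
    constructor
    · rw [← QuotientGroup.eq_one_iff, QuotientGroup.mk_mul, QuotientGroup.mk_inv]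
      show mk p.1.1 * (mk _)⁻¹ = 1
      rw [h1, mul_inv_cancel]
    · rw [← QuotientGroup.eq_one_iff, QuotientGroup.mk_mul, QuotientGroup.mk_inv]
      show mk p.1.2 * (mk _)⁻¹ = 1
      rw [h2, mul_inv_cancel]
  let F : {p : X × X // Commute p.1 p.2} → SD × SD := fun p =>
    (⟨⟨_, (hmem p).1⟩, mk p.1.1⟩, ⟨⟨_, (hmem p).2⟩, mk p.1.2⟩)
  have hF : ∀ p, Commute (F p).1 (F p).2 := by
    intro p
    obtain ⟨hc, h⟩ := hr _ ⟨p.1, p.2, rfl⟩
    obtain ⟨x₀, hx₀⟩ : ∃ x₀, x₀ = (r (mk p.1.1, mk p.1.2)).1 := ⟨_, rfl⟩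
    obtain ⟨y₀, hy₀⟩ : ∃ y₀, y₀ = (r (mk p.1.1, mk p.1.2)).2 := ⟨_, rfl⟩
    have hxy : x₀ * y₀ = y₀ * x₀ := by rw [hx₀, hy₀]; exact hc
    have hp : p.1.1 * p.1.2 = p.1.2 * p.1.1 := p.2
    refine SemidirectProduct.ext (Subtype.ext ?_) ?_
    · show p.1.1 * (r (mk p.1.1, mk p.1.2)).1⁻¹ * ((φ (mk p.1.1) ⟨_, (hmem p).2⟩ : V) : X) =
        p.1.2 * (r (mk p.1.1, mk p.1.2)).2⁻¹ * ((φ (mk p.1.2) ⟨_, (hmem p).1⟩ : V) : X)
      have e1 : φ (mk p.1.1) = φ (mk x₀) := by rw [hx₀]; exact congrArg φ (congrArg Prod.fst h).symm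
      have e2 : φ (mk p.1.2) = φ (mk y₀) := by rw [hy₀]; exact congrArg φ (congrArg Prod.snd h).symm
      rw [e1, e2, hφ, hφ]
      show p.1.1 * (r _).1⁻¹ * (x₀ * (p.1.2 * (r _).2⁻¹) * x₀⁻¹) =
        p.1.2 * (r _).2⁻¹ * (y₀ * (p.1.1 * (r _).1⁻¹) * y₀⁻¹)
      rw [← hx₀, ← hy₀]
      calc p.1.1 * x₀⁻¹ * (x₀ * (p.1.2 * y₀⁻¹) * x₀⁻¹) = p.1.1 * p.1.2 * (x₀ * y₀)⁻¹ := by group
        _ = p.1.2 * p.1.1 * (y₀ * x₀)⁻¹ := by rw [hp, hxy]
        _ = p.1.2 * y₀⁻¹ * (y₀ * (p.1.1 * x₀⁻¹) * y₀⁻¹) := by group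
    · exact congrArg mk hp
  have hinj : Function.Injective fun p => (⟨F p, hF p⟩ : {z : SD × SD // Commute z.1 z.2}) := by
    intro p p' e
    have e' := congrArg Subtype.val e
    have h1 : mk p.1.1 = mk p'.1.1 := congrArg (fun z : SD × SD => z.1.right) e'
    have h2 : mk p.1.2 = mk p'.1.2 := congrArg (fun z : SD × SD => z.2.right) e'
    have h3 : p.1.1 * (r (mk p.1.1, mk p.1.2)).1⁻¹ = p'.1.1 * (r (mk p'.1.1, mk p'.1.2)).1⁻¹ :=
      congrArg (fun z : SD × SD => (z.1.left : X)) e'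
    have h4 : p.1.2 * (r (mk p.1.1, mk p.1.2)).2⁻¹ = p'.1.2 * (r (mk p'.1.1, mk p'.1.2)).2⁻¹ :=
      congrArg (fun z : SD × SD => (z.2.left : X)) e'
    rw [h1, h2] at h3 h4
    exact Subtype.ext (Prod.ext (mul_right_cancel h3) (mul_right_cancel h4))
  have := Nat.card_le_card_of_injective _ hinj
  rw [card_comm_eq_card_conjClasses_mul_card, card_comm_eq_card_conjClasses_mul_card, hcard] at this
  exact Nat.le_of_mul_le_mul_right this Nat.card_pos

end Cfsg.Agent.S4965
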