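import Cfsg.Statements.S4966
import Cfsg.Agent.Char.Rep
import Mathlib.LinearAlgebra.Dual.Lemmas
import Mathlib.LinearAlgebra.BilinearForm.Basic
import Mathlib.Algebra.CharP.Two
import Mathlib.Tactic.LinearCombination

set_option autoImplicit false
open Cfsg

namespace Cfsg.Agent.S4966

section aux

open Module Submodule

variable {F : Type*} [Field F] {G : Type*} [Group G] {V : Type*} [AddCommGroup V] [Module F V]
  [FiniteDimensional F V] (ρ : Representation F G V) (B : LinearMap.BilinForm F V)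

abbrev Inv (W : Submodule F V) : Prop := ∀ g : G, ∀ w ∈ W, ρ g w ∈ W

abbrev LGood (C : LinearMap.BilinForm F V) (W : Submodule F V) : Prop :=
  ∀ x ∈ W, (∀ y ∈ W, C x y = 0) → x = 0

abbrev RGood (C : LinearMap.BilinForm F V) (W : Submodule F V) : Prop :=
  ∀ x ∈ W, (∀ y ∈ W, C y x = 0) → x = 0

/-- the shape of the conclusion on a subspace -/
def Concl (p : ℕ) (X : Submodule F V) : Prop :=
  ∃ U W : Submodule F V, U ⊓ W = ⊥ ∧ U ⊔ W = X ∧ Inv ρ U ∧ Inv ρ W ∧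
    (∃ A : LinearMap.BilinForm F V, (∀ x : V, A x x = 0) ∧
      (∀ g : G, ∀ x ∈ U, ∀ y ∈ U, A (ρ g x) (ρ g y) = A x y) ∧ LGood A U) ∧
    (∃ S : LinearMap.BilinForm F V, (∀ x y : V, S x y = S y x) ∧
      (∀ g : G, ∀ x ∈ W, ∀ y ∈ W, S (ρ g x) (ρ g y) = S x y) ∧ LGood S W) ∧
    (p = 2 → ∀ g : G, ∀ w ∈ W, ρ g w = w)

theorem inv_compl [Finite G] (hne : (Nat.card G : F) ≠ 0) {W : Submodule F V} (hW : Inv ρ W) :
    ∃ W' : Submodule F V, IsCompl W W' ∧ Inv ρ W' := by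
  haveI : NeZero (Nat.card G : F) := ⟨hne⟩
  haveI : Representation.IsSemisimpleRepresentation ρ :=
    (Representation.isSemisimpleRepresentation_iff_isSemisimpleModule_asModule ρ).mpr inferInstance
  let S : Subrepresentation ρ := ⟨W, fun g _ hw => hW g _ hw⟩
  obtain ⟨S', h⟩ := ComplementedLattice.exists_isCompl S
  refine ⟨S'.toSubmodule, ⟨disjoint_iff.mpr ?_, codisjoint_iff.mpr ?_⟩,
    fun g _ hw => S'.apply_mem_toSubmodule g hw⟩
  · exact (congrArg Subrepresentation.toSubmodule h.inf_eq_bot :)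
  · exact (congrArg Subrepresentation.toSubmodule h.sup_eq_top :)

theorem inv_compl_within [Finite G] (hne : (Nat.card G : F) ≠ 0) {W X : Submodule F V} (hW : Inv ρ W)
    (hX : Inv ρ X) (hWX : W ≤ X) :
    ∃ Y : Submodule F V, Y ≤ X ∧ Inv ρ Y ∧ W ⊓ Y = ⊥ ∧ W ⊔ Y = X := by
  obtain ⟨W', hc, hi⟩ := inv_compl ρ hne hW
  refine ⟨W' ⊓ X, inf_le_right, fun g w hw => ⟨hi g w hw.1, hX g w hw.2⟩,
    eq_bot_iff.mpr fun x hx => ?_, le_antisymm (sup_le hWX inf_le_right) fun x hx => ?_⟩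
  · have : x ∈ W ⊓ W' := ⟨hx.1, hx.2.1⟩
    rwa [hc.inf_eq_bot] at this
  · obtain ⟨a, ha, b, hb, rfl⟩ := Submodule.mem_sup.mp (hc.sup_eq_top ▸ Submodule.mem_top : x ∈ W ⊔ W')
    exact Submodule.mem_sup.mpr ⟨a, ha, b, ⟨hb, by simpa using sub_mem hx (hWX ha)⟩, rfl⟩

/-- pairing of two subspaces represents functionals -/
theorem rep_pair {C : LinearMap.BilinForm F V} {Y Z : Submodule F V}
    (h1 : ∀ y ∈ Y, (∀ z ∈ Z, C y z = 0) → y = 0) (h2 : ∀ z ∈ Z, (∀ y ∈ Y, C y z = 0) → z = 0)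
    (f : V →ₗ[F] F) : ∃ z ∈ Z, ∀ y ∈ Y, C y z = f y := by
  let Φ : Z →ₗ[F] Module.Dual F Y :=
    (C.flip.compl₁₂ Z.subtype Y.subtype)
  let Ψ : Y →ₗ[F] Module.Dual F Z := (C.compl₁₂ Y.subtype Z.subtype)
  have hΦ : Function.Injective Φ := by
    rw [← LinearMap.ker_eq_bot, LinearMap.ker_eq_bot']
    intro z hz
    exact Subtype.ext (h2 z z.2 fun y hy => LinearMap.congr_fun hz ⟨y, hy⟩)
  have hΨ : Function.Injective Ψ := by
    rw [← LinearMap.ker_eq_bot, LinearMap.ker_eq_bot']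
    intro y hy
    exact Subtype.ext (h1 y y.2 fun z hz => LinearMap.congr_fun hy ⟨z, hz⟩)
  have e1 := LinearMap.finrank_le_finrank_of_injective hΦ
  have e2 := LinearMap.finrank_le_finrank_of_injective hΨ
  rw [Subspace.dual_finrank_eq] at e1 e2
  have hs : Function.Surjective Φ :=
    (LinearMap.injective_iff_surjective_of_finrank_eq_finrank
      (by rw [Subspace.dual_finrank_eq]; exact le_antisymm e1 e2)).mp hΦ
  obtain ⟨z, hz⟩ := hs (f.comp Y.subtype)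
  exact ⟨z, z.2, fun y hy => LinearMap.congr_fun hz ⟨y, hy⟩⟩

/-- paired subspaces have equal dimension -/
theorem pair_finrank {C : LinearMap.BilinForm F V} {Y Z : Submodule F V}
    (h1 : ∀ y ∈ Y, (∀ z ∈ Z, C y z = 0) → y = 0) (h2 : ∀ z ∈ Z, (∀ y ∈ Y, C y z = 0) → z = 0) :
    finrank F Y = finrank F Z := by
  let Φ : Z →ₗ[F] Module.Dual F Y :=
    (C.flip.compl₁₂ Z.subtype Y.subtype)
  let Ψ : Y →ₗ[F] Module.Dual F Z := (C.compl₁₂ Y.subtype Z.subtype)
  have hΦ : Function.Injective Φ := by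
    rw [← LinearMap.ker_eq_bot, LinearMap.ker_eq_bot']
    intro z hz
    exact Subtype.ext (h2 z z.2 fun y hy => LinearMap.congr_fun hz ⟨y, hy⟩)
  have hΨ : Function.Injective Ψ := by
    rw [← LinearMap.ker_eq_bot, LinearMap.ker_eq_bot']
    intro y hy
    exact Subtype.ext (h1 y y.2 fun z hz => LinearMap.congr_fun hy ⟨z, hz⟩)
  have e1 := LinearMap.finrank_le_finrank_of_injective hΦ
  have e2 := LinearMap.finrank_le_finrank_of_injective hΨ
  rw [Subspace.dual_finrank_eq] at e1 e2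
  exact le_antisymm e2 e1

/-- left and right nondegeneracy agree -/
theorem rgood_of_lgood {C : LinearMap.BilinForm F V} {X : Submodule F V} (h : LGood C X) :
    RGood C X := by
  intro r hr hr0
  by_contra hne
  let Ψ : X →ₗ[F] Module.Dual F X := (C.compl₁₂ X.subtype X.subtype)
  have hΨ : Function.Injective Ψ := by
    rw [← LinearMap.ker_eq_bot, LinearMap.ker_eq_bot']
    intro y hy
    exact Subtype.ext (h y y.2 fun z hz => LinearMap.congr_fun hy ⟨z, hz⟩)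
  have hs := (LinearMap.injective_iff_surjective_of_finrank_eq_finrank
      Subspace.dual_finrank_eq.symm).mp hΨ
  have hne' : (⟨r, hr⟩ : X) ≠ 0 := fun e => hne (congrArg Subtype.val e)
  obtain ⟨f, hf⟩ : ∃ f : Module.Dual F X, f ⟨r, hr⟩ ≠ 0 := by
    by_contra hc
    push Not at hc
    exact hne' ((Module.forall_dual_apply_eq_zero_iff F _).mp hc)
  obtain ⟨z, rfl⟩ := hs f
  exact hf (hr0 z z.2)

variable {ρ B}

theorem inv_apply (hB : ∀ g : G, ∀ x y : V, B (ρ g x) (ρ g y) = B x y) (g : G) (x y : V) :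
    B x (ρ g y) = B (ρ g⁻¹ x) y := by
  rw [← hB g (ρ g⁻¹ x) y, Representation.self_inv_apply]

theorem inv_apply' (hB : ∀ g : G, ∀ x y : V, B (ρ g x) (ρ g y) = B x y) (g : G) (x y : V) :
    B (ρ g x) y = B x (ρ g⁻¹ y) := by
  rw [← hB g x (ρ g⁻¹ y), Representation.self_inv_apply]

/-- split off a nondegenerate invariant subspace -/
theorem split (hB : ∀ g : G, ∀ x y : V, B (ρ g x) (ρ g y) = B x y) {X Y : Submodule F V}
    (hX : Inv ρ X) (hgood : LGood B X) (hY : Inv ρ Y) (hYX : Y ≤ X) (hl : LGood B Y) (hr : RGood B Y) :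
    ∃ Z : Submodule F V, Z ≤ X ∧ Inv ρ Z ∧ Y ⊓ Z = ⊥ ∧ Y ⊔ Z = X ∧ LGood B Z := by
  let Z : Submodule F V :=
    { carrier := {z | z ∈ X ∧ ∀ y ∈ Y, B y z = 0}
      add_mem' := fun {a b} ha hb => ⟨X.add_mem ha.1 hb.1, fun y hy => by
        rw [map_add, ha.2 y hy, hb.2 y hy, add_zero]⟩
      zero_mem' := ⟨X.zero_mem, fun y _ => map_zero _⟩
      smul_mem' := fun c a ha => ⟨X.smul_mem c ha.1, fun y hy => by
        rw [map_smul, ha.2 y hy, smul_zero]⟩ }
  have hYZ : Y ⊓ Z = ⊥ := eq_bot_iff.mpr fun x hx =>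
    (Submodule.mem_bot F).mpr (hr x hx.1 hx.2.2)
  have hsup : Y ⊔ Z = X := by
    refine le_antisymm (sup_le hYX fun z hz => hz.1) fun x hx => ?_
    obtain ⟨y, hy, hyx⟩ := rep_pair (C := B) hl hr (B.flip x)
    refine Submodule.mem_sup.mpr ⟨y, hy, x - y, ⟨X.sub_mem hx (hYX hy), fun w hw => ?_⟩, by abel⟩
    rw [map_sub, sub_eq_zero]
    exact (hyx w hw).symm
  refine ⟨Z, fun z hz => hz.1, fun g z hz => ⟨hX g z hz.1, fun y hy => ?_⟩, hYZ, hsup,
    fun r hrZ h => ?_⟩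
  · rw [inv_apply hB]; exact hz.2 _ (hY _ y hy)
  · obtain ⟨y, hy, hyr⟩ := rep_pair (C := B.flip) (Y := Y) (Z := Y)
      (fun a ha h => hr a ha h) (fun a ha h => hl a ha h) (B r)
    have h0 : r - y = 0 := by
      refine hgood _ (X.sub_mem hrZ.1 (hYX hy)) fun x hx => ?_
      rw [← hsup] at hx
      obtain ⟨a, ha, b, hb, rfl⟩ := Submodule.mem_sup.mp hx
      have e1 : B y a = B r a := hyr a ha
      rw [map_sub, LinearMap.sub_apply, map_add, map_add, e1, h b hb, hb.2 y hy]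
      simp
    rw [sub_eq_zero] at h0
    subst h0
    have : r ∈ Y ⊓ Z := ⟨hy, hrZ⟩
    rwa [hYZ] at this

/-- glue a form on a new summand -/
theorem glue {Y U : Submodule F V} (hd : U ⊓ Y = ⊥) (hY : Inv ρ Y) (hU : Inv ρ U)
    (AY AU : LinearMap.BilinForm F V)
    (hiY : ∀ g : G, ∀ x ∈ Y, ∀ y ∈ Y, AY (ρ g x) (ρ g y) = AY x y)
    (hiU : ∀ g : G, ∀ x ∈ U, ∀ y ∈ U, AU (ρ g x) (ρ g y) = AU x y)
    (hgY : LGood AY Y) (hgU : LGood AU U) :
    ∃ P Q : V →ₗ[F] V, (∀ g : G, ∀ x ∈ U ⊔ Y, ∀ y ∈ U ⊔ Y,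
        (AY.compl₁₂ P P + AU.compl₁₂ Q Q) (ρ g x) (ρ g y) = (AY.compl₁₂ P P + AU.compl₁₂ Q Q) x y) ∧
      LGood (AY.compl₁₂ P P + AU.compl₁₂ Q Q) (U ⊔ Y) := by
  obtain ⟨C, hC⟩ := Submodule.exists_isCompl (U ⊔ Y)
  have hc : IsCompl Y (U ⊔ C) := by
    refine ⟨disjoint_iff.mpr (eq_bot_iff.mpr fun x hx => ?_), codisjoint_iff.mpr ?_⟩
    · obtain ⟨u, hu, c, hc', rfl⟩ := Submodule.mem_sup.mp hx.2
      have hc0 : c = 0 := by
        have : c ∈ (U ⊔ Y) ⊓ C := ⟨by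
          simpa using (U ⊔ Y).sub_mem (Submodule.mem_sup_right hx.1) (Submodule.mem_sup_left hu), hc'⟩
        rwa [hC.inf_eq_bot] at this
      subst hc0
      rw [add_zero] at hx ⊢
      have : u ∈ U ⊓ Y := ⟨hu, hx.1⟩
      rwa [hd] at this
    · rw [← sup_assoc, sup_comm Y U]; exact hC.sup_eq_top
  have hc' : IsCompl U (Y ⊔ C) := by
    refine ⟨disjoint_iff.mpr (eq_bot_iff.mpr fun x hx => ?_), codisjoint_iff.mpr ?_⟩
    · obtain ⟨u, hu, c, hc', rfl⟩ := Submodule.mem_sup.mp hx.2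
      have hc0 : c = 0 := by
        have : c ∈ (U ⊔ Y) ⊓ C := ⟨by
          simpa using (U ⊔ Y).sub_mem (Submodule.mem_sup_left hx.1) (Submodule.mem_sup_right hu), hc'⟩
        rwa [hC.inf_eq_bot] at this
      subst hc0
      rw [add_zero] at hx ⊢
      have : u ∈ U ⊓ Y := ⟨hx.1, hu⟩
      rwa [hd] at this
    · rw [← sup_assoc]; exact hC.sup_eq_top
  obtain ⟨P, hP1, hP2⟩ : ∃ P : V →ₗ[F] V, (∀ y ∈ Y, P y = y) ∧ ∀ z ∈ U ⊔ C, P z = 0 :=
    ⟨Y.projection _ hc, fun y hy => Submodule.projection_apply_of_mem_left hc hy,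
      fun z hz => Submodule.projection_apply_of_mem_right hc hz⟩
  obtain ⟨Q, hQ1, hQ2⟩ : ∃ Q : V →ₗ[F] V, (∀ y ∈ U, Q y = y) ∧ ∀ z ∈ Y ⊔ C, Q z = 0 :=
    ⟨U.projection _ hc', fun y hy => Submodule.projection_apply_of_mem_left hc' hy,
      fun z hz => Submodule.projection_apply_of_mem_right hc' hz⟩
  have hev : ∀ u ∈ U, ∀ y ∈ Y, ∀ u' ∈ U, ∀ y' ∈ Y,
      (AY.compl₁₂ P P + AU.compl₁₂ Q Q) (u + y) (u' + y') = AY y y' + AU u u' := by
    intro u hu y hy u' hu' y' hy'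
    simp [hP1 y hy, hP1 y' hy', hP2 u (Submodule.mem_sup_left hu), hP2 u' (Submodule.mem_sup_left hu'),
      hQ1 u hu, hQ1 u' hu', hQ2 y (Submodule.mem_sup_left hy), hQ2 y' (Submodule.mem_sup_left hy')]
  refine ⟨P, Q, fun g x hx x' hx' => ?_, fun x hx h => ?_⟩
  · obtain ⟨u, hu, y, hy, rfl⟩ := Submodule.mem_sup.mp hx
    obtain ⟨u', hu', y', hy', rfl⟩ := Submodule.mem_sup.mp hx'
    rw [map_add (ρ g), map_add (ρ g), hev _ (hU g u hu) _ (hY g y hy) _ (hU g u' hu') _ (hY g y' hy'),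
      hev u hu y hy u' hu' y' hy', hiY g y hy y' hy', hiU g u hu u' hu']
  · obtain ⟨u, hu, y, hy, rfl⟩ := Submodule.mem_sup.mp hx
    have hu0 : u = 0 := hgU u hu fun u' hu' => by
      have := h (u' + 0) (by rw [add_zero]; exact Submodule.mem_sup_left hu')
      rw [hev u hu y hy u' hu' 0 Y.zero_mem] at this
      simpa using this
    have hy0 : y = 0 := hgY y hy fun y' hy' => by
      have := h (0 + y') (by rw [zero_add]; exact Submodule.mem_sup_right hy')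
      rw [hev u hu y hy 0 U.zero_mem y' hy'] at this
      simpa using this
    rw [hu0, hy0, add_zero]

set_option maxHeartbeats 1000000 in
/-- the induction -/
theorem main [Finite G] (p : ℕ) [Fact p.Prime] [CharP F p] (hne : (Nat.card G : F) ≠ 0)
    (hB : ∀ g : G, ∀ x y : V, B (ρ g x) (ρ g y) = B x y) :
    ∀ n : ℕ, ∀ X : Submodule F V, finrank F X = n → Inv ρ X → LGood B X → Concl ρ p X := by
  intro n
  induction n using Nat.strong_induction_on with
  | _ n ih =>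
  intro X hn hX hgood
  by_cases h0 : X = ⊥
  · subst h0
    refine ⟨⊥, ⊥, inf_idem _, sup_idem _, fun g w hw => ?_, fun g w hw => ?_, ⟨0, ?_, ?_, ?_⟩,
      ⟨0, ?_, ?_, ?_⟩, fun _ g w hw => ?_⟩
    all_goals first
      | exact fun x hx _ => (Submodule.mem_bot F).mp hx
      | exact fun x => rfl
      | exact fun x y => rfl
      | exact fun g x _ y _ => rfl
      | (rw [(Submodule.mem_bot F).mp hw, map_zero]; exact Submodule.zero_mem _)
      | (rw [(Submodule.mem_bot F).mp hw, map_zero])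
  -- combining a split with the induction
  have combine : ∀ Y : Submodule F V, Y ≤ X → Inv ρ Y → Y ≠ ⊥ → LGood B Y → RGood B Y →
      ((∃ A : LinearMap.BilinForm F V, (∀ x : V, A x x = 0) ∧
        (∀ g : G, ∀ x ∈ Y, ∀ y ∈ Y, A (ρ g x) (ρ g y) = A x y) ∧ LGood A Y) ∨
       ((∃ S : LinearMap.BilinForm F V, (∀ x y : V, S x y = S y x) ∧
        (∀ g : G, ∀ x ∈ Y, ∀ y ∈ Y, S (ρ g x) (ρ g y) = S x y) ∧ LGood S Y) ∧
        (p = 2 → ∀ g : G, ∀ w ∈ Y, ρ g w = w))) → Concl ρ p X := by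
    intro Y hYX hY hY0 hl hr hform
    obtain ⟨Z, hZX, hZ, hYZ, hsup, hZg⟩ := split hB hX hgood hY hYX hl hr
    have hlt : finrank F Z < n := by
      have h1 := Submodule.finrank_sup_add_finrank_inf_eq Y Z
      have h2 : 0 < finrank F Y := by
        rw [Nat.pos_iff_ne_zero, Ne, Submodule.finrank_eq_zero]; exact hY0
      rw [hsup, hYZ, finrank_bot, hn] at h1
      omega
    obtain ⟨U, W, hUW, hUWs, hU, hW, ⟨A, hAa, hAi, hAg⟩, ⟨S, hSs, hSi, hSg⟩, h2⟩ :=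
      ih _ hlt Z rfl hZ hZg
    have hUZ : U ≤ Z := hUWs ▸ le_sup_left
    have hWZ : W ≤ Z := hUWs ▸ le_sup_right
    have key : ∀ {a b c : Submodule F V}, a ≤ Z → b ≤ Z → a ⊓ b = ⊥ → c = Y → (a ⊔ c) ⊓ b = ⊥ := by
      intro a b c ha hb hab hc
      subst hc
      refine eq_bot_iff.mpr fun x hx => ?_
      obtain ⟨u, hu, y, hy, rfl⟩ := Submodule.mem_sup.mp hx.1
      have hy0 : y ∈ c ⊓ Z := ⟨hy, by simpa using Z.sub_mem (hb hx.2) (ha hu)⟩
      rw [hYZ, Submodule.mem_bot] at hy0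
      subst hy0
      have : u + 0 ∈ a ⊓ b := ⟨by simpa using hu, hx.2⟩
      rwa [hab] at this
    have hinvs : ∀ a : Submodule F V, Inv ρ a → Inv ρ (a ⊔ Y) := by
      intro a ha g x hx
      obtain ⟨u, hu, y, hy, rfl⟩ := Submodule.mem_sup.mp hx
      rw [map_add]
      exact Submodule.mem_sup.mpr ⟨_, ha g u hu, _, hY g y hy, rfl⟩
    have hdis : ∀ a : Submodule F V, a ≤ Z → a ⊓ Y = ⊥ := fun a ha =>
      eq_bot_iff.mpr fun x hx => by
        have : x ∈ Y ⊓ Z := ⟨hx.2, ha hx.1⟩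
        rwa [hYZ] at this
    rcases hform with ⟨A0, hA0a, hA0i, hA0g⟩ | ⟨⟨S0, hS0s, hS0i, hS0g⟩, hY2⟩
    · obtain ⟨P, Q, hi, hg⟩ := glue (hdis U hUZ) hY hU A0 A hA0i hAi hA0g hAg
      refine ⟨U ⊔ Y, W, key hUZ hWZ hUW rfl, ?_, hinvs U hU, hW,
        ⟨_, fun x => by simp [hA0a, hAa], hi, hg⟩, ⟨S, hSs, hSi, hSg⟩, h2⟩
      rw [sup_comm U Y, sup_assoc, hUWs, hsup]
    · obtain ⟨P, Q, hi, hg⟩ := glue (hdis W hWZ) hY hW S0 S hS0i hSi hS0g hSg
      refine ⟨U, W ⊔ Y, ?_, ?_, hU, hinvs W hW, ⟨A, hAa, hAi, hAg⟩,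
        ⟨_, fun x y => by simp [hS0s (P x), hSs (Q x)], hi, hg⟩, fun hp g w hw => ?_⟩
      · rw [inf_comm]; exact key hWZ hUZ (inf_comm U W ▸ hUW) rfl
      · rw [← sup_assoc, hUWs, sup_comm, hsup]
      · obtain ⟨u, hu, y, hy, rfl⟩ := Submodule.mem_sup.mp hw
        rw [map_add, h2 hp g u hu, hY2 hp g y hy]
  classical
  have hex : ∃ d, ∃ Y : Submodule F V, Y ≤ X ∧ Inv ρ Y ∧ Y ≠ ⊥ ∧ finrank F Y = d :=
    ⟨_, X, le_rfl, hX, h0, rfl⟩
  -- nonzero forms on minimal subspaces are nondegenerate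
  have hmin : ∀ {Y : Submodule F V}, Inv ρ Y →
      (∀ Y' : Submodule F V, Y' ≤ Y → Inv ρ Y' → Y' ≠ ⊥ → Y' = Y) →
      ∀ C : LinearMap.BilinForm F V, (∀ g : G, ∀ x y : V, C (ρ g x) (ρ g y) = C x y) →
      (∃ x ∈ Y, ∃ y ∈ Y, C x y ≠ 0) → LGood C Y := by
    intro Y hY hirr C hC hnz x hx h
    by_contra hx0
    let R : Submodule F V :=
      { carrier := {a | a ∈ Y ∧ ∀ y ∈ Y, C a y = 0}
        add_mem' := fun {a b} ha hb => ⟨Y.add_mem ha.1 hb.1, fun y hy => by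
          rw [map_add, LinearMap.add_apply, ha.2 y hy, hb.2 y hy, add_zero]⟩
        zero_mem' := ⟨Y.zero_mem, fun y _ => by simp⟩
        smul_mem' := fun c a ha => ⟨Y.smul_mem c ha.1, fun y hy => by
          rw [map_smul, LinearMap.smul_apply, ha.2 y hy, smul_zero]⟩ }
    have hR := hirr R (fun a ha => ha.1) (fun g a ha => ⟨hY g a ha.1, fun y hy => by
      rw [inv_apply' hC]; exact ha.2 _ (hY _ y hy)⟩) fun e => hx0 (by
        have : x ∈ R := ⟨hx, h⟩
        rwa [e] at this)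
    obtain ⟨a, ha, b, hb, hab⟩ := hnz
    exact hab ((hR.symm ▸ ha : a ∈ R).2 b hb)
  have hflip : ∀ g : G, ∀ x y : V, B.flip (ρ g x) (ρ g y) = B.flip x y := fun g x y => hB g y x
  by_cases hani : ∃ Y : Submodule F V, Y ≤ X ∧ Inv ρ Y ∧
      (∀ Y' : Submodule F V, Y' ≤ Y → Inv ρ Y' → Y' ≠ ⊥ → Y' = Y) ∧ ∃ x ∈ Y, ∃ y ∈ Y, B x y ≠ 0
  · obtain ⟨Y, hYX, hY, hirr, hnz⟩ := hani
    have hl := hmin hY hirr B hB hnz
    have hr : RGood B Y := hmin hY hirr B.flip hflip (by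
      obtain ⟨a, ha, b, hb, hab⟩ := hnz; exact ⟨b, hb, a, ha, hab⟩)
    have hY0 : Y ≠ ⊥ := by
      rintro rfl
      obtain ⟨a, ha, b, hb, hab⟩ := hnz
      rw [(Submodule.mem_bot F).mp ha] at hab
      simp at hab
    refine combine Y hYX hY hY0 hl hr ?_
    by_cases hp2 : p = 2
    · subst hp2
      haveI : CharP F 2 := ‹_›
      by_cases hsym : ∃ x ∈ Y, ∃ y ∈ Y, (B + B.flip) x y ≠ 0
      · exact Or.inl ⟨B + B.flip, fun x => by simp [CharTwo.add_self_eq_zero],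
          fun g x _ y _ => by simp [hB],
          hmin hY hirr _ (fun g x y => by simp [hB]) hsym⟩
      push Not at hsym
      have hs : ∀ x ∈ Y, ∀ y ∈ Y, B x y = B y x := fun x hx y hy => by
        have := hsym x hx y hy
        simpa [CharTwo.add_eq_zero] using this
      let K : Submodule F V :=
        { carrier := {a | a ∈ Y ∧ B a a = 0}
          add_mem' := fun {a b} ha hb => ⟨Y.add_mem ha.1 hb.1, by
            simp [ha.2, hb.2, hs a ha.1 b hb.1, CharTwo.add_self_eq_zero]⟩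
          zero_mem' := ⟨Y.zero_mem, by simp⟩
          smul_mem' := fun c a ha => ⟨Y.smul_mem c ha.1, by simp [ha.2]⟩ }
      obtain ⟨C, hC⟩ := Submodule.exists_isCompl Y
      obtain ⟨P, hP1⟩ : ∃ P : V →ₗ[F] V, (∀ x, P x ∈ Y) ∧ ∀ y ∈ Y, P y = y :=
        ⟨Y.projection _ hC, fun x => Submodule.projection_apply_mem hC x,
          fun y hy => Submodule.projection_apply_of_mem_left hC hy⟩
      have hinvP : ∀ g : G, ∀ x ∈ Y, ∀ y ∈ Y,
          B.compl₁₂ P P (ρ g x) (ρ g y) = B.compl₁₂ P P x y := fun g x hx y hy => by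
        simp [hP1.2 _ (hY g x hx), hP1.2 _ (hY g y hy), hP1.2 x hx, hP1.2 y hy, hB]
      have hgP : LGood (B.compl₁₂ P P) Y := fun x hx h => hl x hx fun y hy => by
        simpa [hP1.2 x hx, hP1.2 y hy] using h y hy
      by_cases hK : K = ⊥
      · refine Or.inr ⟨⟨B.compl₁₂ P P, fun x y => ?_, hinvP, hgP⟩, fun _ g w hw => ?_⟩
        · simpa using hs _ (hP1.1 x) _ (hP1.1 y)
        · have h1 : ρ g w - w ∈ K := ⟨Y.sub_mem (hY g w hw) hw, by
            simp [hB, hs _ (hY g w hw) _ hw, CharTwo.sub_eq_add]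
            linear_combination (B w w + B w (ρ g w)) * (CharTwo.two_eq_zero (R := F))⟩
          rwa [hK, Submodule.mem_bot, sub_eq_zero] at h1
      · have hKY := hirr K (fun a ha => ha.1) (fun g a ha => ⟨hY g a ha.1, by rw [hB]; exact ha.2⟩) hK
        refine Or.inl ⟨B.compl₁₂ P P, fun x => ?_, hinvP, hgP⟩
        exact (hKY.symm ▸ hP1.1 x : P x ∈ K).2
    · have h2 : (2 : F) ≠ 0 := by
        intro h
        have : ((2 : ℕ) : F) = 0 := by simpa using h
        rw [CharP.cast_eq_zero_iff F p] at this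
        exact hp2 ((Nat.prime_dvd_prime_iff_eq Fact.out Nat.prime_two).mp this)
      by_cases hsym : ∃ x ∈ Y, ∃ y ∈ Y, (B + B.flip) x y ≠ 0
      · exact Or.inr ⟨⟨B + B.flip, fun x y => by simp [add_comm],
          fun g x _ y _ => by simp [hB], hmin hY hirr _ (fun g x y => by simp [hB]) hsym⟩,
          fun h => absurd h hp2⟩
      · push Not at hsym
        refine Or.inl ⟨B - B.flip, fun x => by simp, fun g x _ y _ => by simp [hB],
          hmin hY hirr _ (fun g x y => by simp [hB]) ?_⟩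
        obtain ⟨a, ha, b, hb, hab⟩ := hnz
        refine ⟨a, ha, b, hb, fun h => hab ?_⟩
        have h3 : B a b + B b a = 0 := by simpa using hsym a ha b hb
        have h4 : B a b - B b a = 0 := by simpa using h
        have h5 : (2 : F) * B a b = 0 := by linear_combination h3 + h4
        exact (mul_eq_zero.mp h5).resolve_left h2
  -- all minimal invariant subspaces are isotropic
  push Not at hani
  obtain ⟨Y, hYX, hY, hY0, hYd⟩ := Nat.find_spec hex
  have hYirr : ∀ Y' : Submodule F V, Y' ≤ Y → Inv ρ Y' → Y' ≠ ⊥ → Y' = Y := fun Y' hle hi hne' => by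
    refine Submodule.eq_of_le_of_finrank_le hle ?_
    rw [hYd]
    exact Nat.find_min' hex ⟨Y', hle.trans hYX, hi, hne', rfl⟩
  have hYiso := hani Y hYX hY hYirr
  -- pairings with Y
  have hann : ∀ C : LinearMap.BilinForm F V, (∀ g : G, ∀ x y : V, C (ρ g x) (ρ g y) = C x y) →
      ∀ Z : Submodule F V, Inv ρ Z → (∀ z ∈ Z, (∀ y ∈ Y, C y z = 0) → z = 0) → Z ≠ ⊥ →
      ∀ y ∈ Y, (∀ z ∈ Z, C y z = 0) → y = 0 := by
    intro C hC Z hZ hZr hZ0 y hy h
    by_contra hy0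
    let R : Submodule F V :=
      { carrier := {a | a ∈ Y ∧ ∀ z ∈ Z, C a z = 0}
        add_mem' := fun {a b} ha hb => ⟨Y.add_mem ha.1 hb.1, fun z hz => by
          rw [map_add, LinearMap.add_apply, ha.2 z hz, hb.2 z hz, add_zero]⟩
        zero_mem' := ⟨Y.zero_mem, fun y _ => by simp⟩
        smul_mem' := fun c a ha => ⟨Y.smul_mem c ha.1, fun z hz => by
          rw [map_smul, LinearMap.smul_apply, ha.2 z hz, smul_zero]⟩ }
    have hR := hYirr R (fun a ha => ha.1) (fun g a ha => ⟨hY g a ha.1, fun z hz => by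
      rw [inv_apply' hC]; exact ha.2 _ (hZ _ z hz)⟩) fun e => hy0 (by
        have : y ∈ R := ⟨hy, h⟩
        rwa [e] at this)
    obtain ⟨z, hz, hz0⟩ := Z.ne_bot_iff.mp hZ0
    exact hz0 (hZr z hz fun w hw => (hR.symm ▸ hw : w ∈ R).2 z hz)
  have hirr2 : ∀ C : LinearMap.BilinForm F V, (∀ g : G, ∀ x y : V, C (ρ g x) (ρ g y) = C x y) →
      ∀ Z : Submodule F V, Inv ρ Z → (∀ z ∈ Z, (∀ y ∈ Y, C y z = 0) → z = 0) → Z ≠ ⊥ →
      ∀ Z' : Submodule F V, Z' ≤ Z → Inv ρ Z' → Z' ≠ ⊥ → Z' = Z := by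
    intro C hC Z hZ hZr hZ0 Z' hle hi hne'
    refine Submodule.eq_of_le_of_finrank_le hle (le_of_eq ?_)
    rw [← pair_finrank (hann C hC Z hZ hZr hZ0) hZr,
      ← pair_finrank (hann C hC Z' hi (fun z hz => hZr z (hle hz)) hne') fun z hz => hZr z (hle hz)]
  have hside : ∀ C : LinearMap.BilinForm F V, (∀ g : G, ∀ x y : V, C (ρ g x) (ρ g y) = C x y) →
      LGood C X → ∃ Z : Submodule F V, Z ≤ X ∧ Inv ρ Z ∧ Z ≠ ⊥ ∧
        ∀ z ∈ Z, (∀ y ∈ Y, C y z = 0) → z = 0 := by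
    intro C hC hCg
    let R : Submodule F V :=
      { carrier := {a | a ∈ X ∧ ∀ y ∈ Y, C y a = 0}
        add_mem' := fun {a b} ha hb => ⟨X.add_mem ha.1 hb.1, fun y hy => by
          rw [map_add, ha.2 y hy, hb.2 y hy, add_zero]⟩
        zero_mem' := ⟨X.zero_mem, fun y _ => map_zero _⟩
        smul_mem' := fun c a ha => ⟨X.smul_mem c ha.1, fun y hy => by
          rw [map_smul, ha.2 y hy, smul_zero]⟩ }
    have hR : Inv ρ R := fun g a ha => ⟨hX g a ha.1, fun y hy => by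
      rw [inv_apply hC]; exact ha.2 _ (hY _ y hy)⟩
    obtain ⟨Z, hZX, hZ, hRZ, hRZs⟩ := inv_compl_within ρ hne hR hX (fun a ha => ha.1)
    refine ⟨Z, hZX, hZ, fun e => ?_, fun z hz h => ?_⟩
    · subst e
      rw [sup_bot_eq] at hRZs
      obtain ⟨y, hy, hy0⟩ := Y.ne_bot_iff.mp hY0
      exact hy0 (hCg y (hYX hy) fun x hx => (hRZs.symm ▸ hx : x ∈ R).2 y hy)
    · have : z ∈ R ⊓ Z := ⟨⟨hZX hz, h⟩, hz⟩
      rwa [hRZ] at this
  obtain ⟨Y2, hY2X, hY2, hY20, hpR, hpL⟩ : ∃ Y2 : Submodule F V, Y2 ≤ X ∧ Inv ρ Y2 ∧ Y2 ≠ ⊥ ∧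
      (∀ z ∈ Y2, (∀ y ∈ Y, B y z = 0) → z = 0) ∧ ∀ z ∈ Y2, (∀ y ∈ Y, B z y = 0) → z = 0 := by
    obtain ⟨Zr, hrX, hrI, hr0, hrp⟩ := hside B hB hgood
    obtain ⟨Zl, hlX, hlI, hl0, hlp⟩ := hside B.flip hflip (rgood_of_lgood hgood)
    by_cases h1 : ∀ z ∈ Zr, (∀ y ∈ Y, B z y = 0) → z = 0
    · exact ⟨Zr, hrX, hrI, hr0, hrp, h1⟩
    by_cases h2 : ∀ z ∈ Zl, (∀ y ∈ Y, B y z = 0) → z = 0
    · exact ⟨Zl, hlX, hlI, hl0, h2, hlp⟩
    have hrL : ∀ a ∈ Zr, ∀ y ∈ Y, B a y = 0 := by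
      let L : Submodule F V :=
        { carrier := {a | a ∈ Zr ∧ ∀ y ∈ Y, B a y = 0}
          add_mem' := fun {a b} ha hb => ⟨Zr.add_mem ha.1 hb.1, fun y hy => by
            rw [map_add, LinearMap.add_apply, ha.2 y hy, hb.2 y hy, add_zero]⟩
          zero_mem' := ⟨Zr.zero_mem, fun y _ => by simp⟩
          smul_mem' := fun c a ha => ⟨Zr.smul_mem c ha.1, fun y hy => by
            rw [map_smul, LinearMap.smul_apply, ha.2 y hy, smul_zero]⟩ }
      have hL := hirr2 B hB Zr hrI hrp hr0 L (fun a ha => ha.1)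
        (fun g a ha => ⟨hrI g a ha.1, fun y hy => by rw [inv_apply' hB]; exact ha.2 _ (hY _ y hy)⟩)
        (fun e => h1 fun z hz h => by
          have : z ∈ L := ⟨hz, h⟩
          rwa [e] at this)
      exact fun a ha => (hL.symm ▸ ha : a ∈ L).2
    have hlR : ∀ b ∈ Zl, ∀ y ∈ Y, B y b = 0 := by
      let L : Submodule F V :=
        { carrier := {a | a ∈ Zl ∧ ∀ y ∈ Y, B y a = 0}
          add_mem' := fun {a b} ha hb => ⟨Zl.add_mem ha.1 hb.1, fun y hy => by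
            rw [map_add, ha.2 y hy, hb.2 y hy, add_zero]⟩
          zero_mem' := ⟨Zl.zero_mem, fun y _ => by simp⟩
          smul_mem' := fun c a ha => ⟨Zl.smul_mem c ha.1, fun y hy => by
            rw [map_smul, ha.2 y hy, smul_zero]⟩ }
      have hL := hirr2 B.flip hflip Zl hlI hlp hl0 L (fun a ha => ha.1)
        (fun g a ha => ⟨hlI g a ha.1, fun y hy => by rw [inv_apply hB]; exact ha.2 _ (hY _ y hy)⟩)
        (fun e => h2 fun z hz h => by
          have : z ∈ L := ⟨hz, h⟩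
          rwa [e] at this)
      exact fun b hb => (hL.symm ▸ hb : b ∈ L).2
    let D : Submodule F V :=
      { carrier := {x | ∃ a ∈ Zr, ∃ b ∈ Zl, x = a + b ∧ ∀ y ∈ Y, B b y = B y a}
        add_mem' := by
          rintro _ _ ⟨a, ha, b, hb, rfl, h⟩ ⟨a', ha', b', hb', rfl, h'⟩
          exact ⟨a + a', Zr.add_mem ha ha', b + b', Zl.add_mem hb hb', by abel, fun y hy => by
            simp [h y hy, h' y hy]⟩
        zero_mem' := ⟨0, Zr.zero_mem, 0, Zl.zero_mem, by simp, fun y _ => by simp⟩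
        smul_mem' := by
          rintro c _ ⟨a, ha, b, hb, rfl, h⟩
          exact ⟨c • a, Zr.smul_mem c ha, c • b, Zl.smul_mem c hb, smul_add c a b, fun y hy => by
            simp [h y hy]⟩ }
    refine ⟨D, ?_, ?_, fun e => ?_, ?_, ?_⟩
    · rintro _ ⟨a, ha, b, hb, rfl, -⟩; exact X.add_mem (hrX ha) (hlX hb)
    · rintro g _ ⟨a, ha, b, hb, rfl, h⟩
      refine ⟨ρ g a, hrI g a ha, ρ g b, hlI g b hb, map_add _ _ _, fun y hy => ?_⟩
      rw [inv_apply' hB g b y, inv_apply hB g y a]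
      exact h _ (hY _ y hy)
    · obtain ⟨a, ha, ha0⟩ := Zr.ne_bot_iff.mp hr0
      obtain ⟨b, hb, hb'⟩ := rep_pair (C := B.flip) (hann B.flip hflip Zl hlI hlp hl0) hlp (B.flip a)
      have hmem : a + b ∈ D := ⟨a, ha, b, hb, rfl, fun y hy => hb' y hy⟩
      rw [e, Submodule.mem_bot] at hmem
      exact ha0 (hrp a ha fun y hy => by
        rw [show a = -b from eq_neg_of_add_eq_zero_left hmem, map_neg, hlR b hb y hy, neg_zero])
    · rintro _ ⟨a, ha, b, hb, rfl, h⟩ hz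
      have ha0 : a = 0 := hrp a ha fun y hy => by
        simpa [hlR b hb y hy] using hz y hy
      have hb0 : b = 0 := hlp b hb fun y hy => by
        show B b y = 0
        rw [h y hy, ha0, map_zero]
      rw [ha0, hb0, add_zero]
    · rintro _ ⟨a, ha, b, hb, rfl, h⟩ hz
      have hb0 : b = 0 := hlp b hb fun y hy => by
        show B b y = 0
        simpa [hrL a ha y hy] using hz y hy
      have ha0 : a = 0 := hrp a ha fun y hy => by
        rw [← h y hy, hb0, map_zero, LinearMap.zero_apply]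
      rw [ha0, hb0, add_zero]
  have hY2irr := hirr2 B hB Y2 hY2 hpR hY20
  have hY2iso := hani Y2 hY2X hY2 hY2irr
  have hlY := hann B hB Y2 hY2 hpR hY20
  have hrY := hann B.flip hflip Y2 hY2 hpL hY20
  have hdisj : Y ⊓ Y2 = ⊥ := eq_bot_iff.mpr fun x hx =>
    (Submodule.mem_bot F).mpr (hpR x hx.2 fun y hy => hYiso y hy x hx.1)
  have hW0 : Inv ρ (Y ⊔ Y2) := by
    intro g x hx
    obtain ⟨u, hu, v, hv, rfl⟩ := Submodule.mem_sup.mp hx
    rw [map_add]
    exact Submodule.mem_sup.mpr ⟨_, hY g u hu, _, hY2 g v hv, rfl⟩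
  refine combine (Y ⊔ Y2) (sup_le hYX hY2X) hW0 (fun e => hY0 (eq_bot_iff.mpr (e ▸ le_sup_left)))
    ?_ ?_ (Or.inl ?_)
  · intro x hx h
    obtain ⟨u, hu, v, hv, rfl⟩ := Submodule.mem_sup.mp hx
    have hv0 : v = 0 := hpL v hv fun y hy => by
      simpa [hYiso u hu y hy] using h y (Submodule.mem_sup_left hy)
    have hu0 : u = 0 := hlY u hu fun z hz => by
      simpa [hv0] using h z (Submodule.mem_sup_right hz)
    rw [hu0, hv0, add_zero]
  · intro x hx h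
    obtain ⟨u, hu, v, hv, rfl⟩ := Submodule.mem_sup.mp hx
    have hv0 : v = 0 := hpR v hv fun y hy => by
      simpa [hYiso y hy u hu] using h y (Submodule.mem_sup_left hy)
    have hu0 : u = 0 := hrY u hu fun z hz => by
      simpa [hv0] using h z (Submodule.mem_sup_right hz)
    rw [hu0, hv0, add_zero]
  obtain ⟨C, hC⟩ := Submodule.exists_isCompl (Y ⊔ Y2)
  have hc : IsCompl Y (Y2 ⊔ C) := by
    refine ⟨disjoint_iff.mpr (eq_bot_iff.mpr fun x hx => ?_), codisjoint_iff.mpr ?_⟩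
    · obtain ⟨u, hu, c, hc', rfl⟩ := Submodule.mem_sup.mp hx.2
      have hc0 : c = 0 := by
        have : c ∈ (Y ⊔ Y2) ⊓ C := ⟨by
          simpa using (Y ⊔ Y2).sub_mem (Submodule.mem_sup_left hx.1) (Submodule.mem_sup_right hu), hc'⟩
        rwa [hC.inf_eq_bot] at this
      subst hc0
      rw [add_zero] at hx ⊢
      have : u ∈ Y ⊓ Y2 := ⟨hx.1, hu⟩
      rwa [hdisj] at this
    · rw [← sup_assoc]; exact hC.sup_eq_top
  obtain ⟨P, hP1, hP2⟩ : ∃ P : V →ₗ[F] V, (∀ y ∈ Y, P y = y) ∧ ∀ z ∈ Y2, P z = 0 :=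
    ⟨Y.projection _ hc, fun y hy => Submodule.projection_apply_of_mem_left hc hy,
      fun z hz => Submodule.projection_apply_of_mem_right hc (Submodule.mem_sup_left hz)⟩
  let A₁ : LinearMap.BilinForm F V := B.compl₁₂ P (LinearMap.id - P)
  have hev : ∀ u ∈ Y, ∀ v ∈ Y2, ∀ u' ∈ Y, ∀ v' ∈ Y2,
      (A₁ - A₁.flip) (u + v) (u' + v') = B u v' - B u' v := by
    intro u hu v hv u' hu' v' hv'
    simp [A₁, hP1 u hu, hP1 u' hu', hP2 v hv, hP2 v' hv']
  refine ⟨A₁ - A₁.flip, fun x => by simp, fun g x hx x' hx' => ?_, fun x hx h => ?_⟩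
  · obtain ⟨u, hu, v, hv, rfl⟩ := Submodule.mem_sup.mp hx
    obtain ⟨u', hu', v', hv', rfl⟩ := Submodule.mem_sup.mp hx'
    rw [map_add (ρ g), map_add (ρ g), hev _ (hY g u hu) _ (hY2 g v hv) _ (hY g u' hu') _ (hY2 g v' hv'),
      hev u hu v hv u' hu' v' hv', hB, hB]
  · obtain ⟨u, hu, v, hv, rfl⟩ := Submodule.mem_sup.mp hx
    have hu0 : u = 0 := hlY u hu fun z hz => by
      have := h (0 + z) (by rw [zero_add]; exact Submodule.mem_sup_right hz)
      rw [hev u hu v hv 0 Y.zero_mem z hz] at this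
      simpa using this
    have hv0 : v = 0 := hpR v hv fun y hy => by
      have := h (y + 0) (by rw [add_zero]; exact Submodule.mem_sup_left hy)
      rw [hev u hu v hv y hy 0 Y2.zero_mem] at this
      simpa using this
    rw [hu0, hv0, add_zero]

end aux


/-- Let F be a finite field of characteristic p, G a finite group of order prime to p, and V a finite-dimensional representation of G over F carrying a nondegenerate G-invariant bilinear form (equivalently, V is self-dual). Then V is the direct sum of two G-invariant subspaces U and W such that U carries a G-invariant alternating bilinear form that is nondegenerate on U and W carries a G-invariant symmetric bilinear form that is nondegenerate on W; moreover when p = 2 the decomposition can be chosen with G acting trivially on W. -/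
theorem result {F : Type*} [Field F] [Fintype F] (p : ℕ) [Fact p.Prime] [CharP F p] {G : Type*} [Group G] [Finite G] (hcop : ¬ p ∣ Nat.card G) {V : Type*} [AddCommGroup V] [Module F V] [FiniteDimensional F V] (ρ : Representation F G V) (B : LinearMap.BilinForm F V) (hB : B.Nondegenerate) (hBinv : ∀ g : G, ∀ x y : V, B (ρ g x) (ρ g y) = B x y) : ∃ U W : Submodule F V, IsCompl U W ∧ (∀ g : G, ∀ u ∈ U, ρ g u ∈ U) ∧ (∀ g : G, ∀ w ∈ W, ρ g w ∈ W) ∧ (∃ A : LinearMap.BilinForm F V, (∀ x : V, A x x = 0) ∧ (∀ g : G, ∀ x ∈ U, ∀ y ∈ U, A (ρ g x) (ρ g y) = A x y) ∧ (∀ x ∈ U, (∀ y ∈ U, A x y = 0) → x = 0)) ∧ (∃ S : LinearMap.BilinForm F V, (∀ x y : V, S x y = S y x) ∧ (∀ g : G, ∀ x ∈ W, ∀ y ∈ W, S (ρ g x) (ρ g y) = S x y) ∧ (∀ x ∈ W, (∀ y ∈ W, S x y = 0) → x = 0)) ∧ (p = 2 → ∀ g : G, ∀ w ∈ W, ρ g w = w) := by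
  have hne : (Nat.card G : F) ≠ 0 := fun h => hcop ((CharP.cast_eq_zero_iff F p _).mp h)
  obtain ⟨U, W, h1, h2, h3, h4, h5, h6, h7⟩ := main (ρ := ρ) (B := B) p hne hBinv _ ⊤ rfl
    (fun g w _ => Submodule.mem_top) fun x _ h => hB.1 x fun y => h y Submodule.mem_top
  exact ⟨U, W, ⟨disjoint_iff.mpr h1, codisjoint_iff.mpr h2⟩, h3, h4, h5, h6, h7⟩

end Cfsg.Agent.S4966
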