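import Cfsg.Statements.S4967
import Mathlib.FieldTheory.Finite.Basic
import Mathlib.FieldTheory.Normal.Basic
import Mathlib.FieldTheory.Finite.GaloisField
import Mathlib.RingTheory.IntegralDomain
import Mathlib.LinearAlgebra.BilinearForm.Properties
import Mathlib.LinearAlgebra.Dual.Lemmas

set_option autoImplicit false
open Cfsg

namespace Cfsg.Agent.S4967

section aux

open Module Polynomial

theorem frob_pow_apply {F K : Type*} [Field F] [Fintype F] [Field K] [Algebra F K]
    [Algebra.IsAlgebraic F K] (i : ℕ) (x : K) :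
    (FiniteField.frobeniusAlgEquivOfAlgebraic F K ^ i) x = x ^ Fintype.card F ^ i := by
  rw [AlgEquiv.coe_pow]
  exact congrFun (FiniteField.coe_frobeniusAlgEquivOfAlgebraic_iterate F K i) x

/-- self-duality forces the unitary condition -/
theorem unitary_of_root {F K : Type*} [Field F] [Fintype F] [Field K] [Algebra F K] [Finite K]
    {a : K} (ha0 : a ≠ 0) (hgen : Algebra.adjoin F {a} = ⊤) (hn : 2 ≤ finrank F K)
    (hroot : aeval a⁻¹ (minpoly F a) = 0) :
    Even (finrank F K) ∧ a ^ (Fintype.card F ^ (finrank F K / 2) + 1) = 1 := by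
  have hint : IsIntegral F a := Algebra.IsIntegral.isIntegral a
  have hmin : minpoly F a⁻¹ = minpoly F a :=
    (minpoly.eq_of_irreducible_of_monic (minpoly.irreducible hint) hroot (minpoly.monic hint)).symm
  obtain ⟨g, hg⟩ := (Normal.minpoly_eq_iff_mem_orbit K).mp hmin
  obtain ⟨⟨i, hi⟩, rfl⟩ := (FiniteField.bijective_frobeniusAlgEquivOfAlgebraic_pow F K).2 g
  change (FiniteField.frobeniusAlgEquivOfAlgebraic F K ^ i) a = a⁻¹ at hg
  set σ := FiniteField.frobeniusAlgEquivOfAlgebraic F K
  have h2 : (σ ^ (2 * i)) a = a := by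
    rw [two_mul, pow_add, AlgEquiv.mul_apply, hg, map_inv₀, hg, inv_inv]
  have h3 : σ ^ (2 * i) = 1 := by
    have : ((σ ^ (2 * i) : K ≃ₐ[F] K) : K →ₐ[F] K) = AlgHom.id F K :=
      AlgHom.ext_of_adjoin_eq_top hgen (by
        rintro x rfl
        exact h2)
    exact AlgEquiv.ext fun x => DFunLike.congr_fun this x
  have h4 := orderOf_dvd_of_pow_eq_one h3
  rw [FiniteField.orderOf_frobeniusAlgEquivOfAlgebraic] at h4
  have hi0 : i ≠ 0 := by
    rintro rfl
    rw [pow_zero, AlgEquiv.one_apply] at hg
    have hsq : a * a = 1 := by nth_rewrite 2 [hg]; exact mul_inv_cancel₀ ha0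
    have hbot : Algebra.adjoin F {a} ≤ ⊥ := Algebra.adjoin_le (by
      rintro x rfl
      rcases mul_self_eq_one_iff.mp hsq with h | h
      · rw [h]; exact one_mem _
      · rw [h]; exact neg_mem (one_mem _))
    rw [hgen, top_le_iff] at hbot
    have hd : finrank F (⊥ : Subalgebra F K) = finrank F K := by
      rw [hbot]; exact Subalgebra.topEquiv.toLinearEquiv.finrank_eq
    rw [Subalgebra.finrank_bot] at hd
    omega
  obtain ⟨c, hc⟩ := h4
  have hc1 : c = 1 := by
    rcases c with _ | _ | c
    · omega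
    · rfl
    · nlinarith
  rw [hc1, mul_one] at hc
  refine ⟨⟨i, by omega⟩, ?_⟩
  rw [frob_pow_apply] at hg
  rw [show finrank F K / 2 = i by omega, pow_succ, hg, inv_mul_cancel₀ ha0]

section rep

variable {F : Type*} [Field F] {H : Type*} [CommGroup H] {V : Type*} [AddCommGroup V] [Module F V]
  (ρ : Representation F H V)

abbrev Kc : Subalgebra F (Module.End F V) := Algebra.adjoin F (Set.range ρ)

theorem Kc_comm (x y : Kc ρ) : x * y = y * x := by
  have : IsMulCommutative (Kc ρ) := Algebra.isMulCommutative_adjoin F (by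
    rintro _ ⟨g, rfl⟩ _ ⟨h, rfl⟩
    rw [← map_mul, mul_comm, map_mul])
  exact Std.Commutative.comm x y

variable (hirr : ∀ U : Submodule F V, (∀ h : H, ∀ u ∈ U, ρ h u ∈ U) → U = ⊥ ∨ U = ⊤)
include hirr

theorem Kc_inj {f : Kc ρ} (hf : f ≠ 0) : Function.Injective (f : Module.End F V) := by
  rw [← LinearMap.ker_eq_bot]
  refine (hirr _ fun h u hu => ?_).resolve_right fun e => hf (Subtype.ext ?_)
  · rw [LinearMap.mem_ker] at hu ⊢
    have := congrArg Subtype.val (Kc_comm ρ f ⟨ρ h, Algebra.subset_adjoin ⟨h, rfl⟩⟩)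
    have h2 := DFunLike.congr_fun this u
    change (f : Module.End F V) (ρ h u) = ρ h ((f : Module.End F V) u) at h2
    rw [h2, hu, map_zero]
  · exact LinearMap.ker_eq_top.mp e

theorem Kc_eval {v : V} (hv : v ≠ 0) :
    Function.Bijective fun f : Kc ρ => (f : Module.End F V) v := by
  let ev : Kc ρ →ₗ[F] V := (LinearMap.applyₗ v).comp (Kc ρ).val.toLinearMap
  show Function.Bijective ev
  constructor
  · rw [← LinearMap.ker_eq_bot, LinearMap.ker_eq_bot']
    intro f hf
    by_contra h0
    exact hv (Kc_inj ρ hirr h0 (hf.trans (map_zero _).symm))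
  · rw [← LinearMap.range_eq_top]
    refine (hirr _ fun h u hu => ?_).resolve_left fun e => ?_
    · obtain ⟨f, rfl⟩ := hu
      exact ⟨⟨ρ h, Algebra.subset_adjoin ⟨h, rfl⟩⟩ * f, rfl⟩
    · have : ev 1 ∈ (⊥ : Submodule F V) := e ▸ LinearMap.mem_range_self ev 1
      exact hv ((Submodule.mem_bot F).mp this)

end rep

theorem aeval_adjoint {F V : Type*} [Field F] [AddCommGroup V] [Module F V]
    {B : LinearMap.BilinForm F V} {A A' : Module.End F V} (h : ∀ x y, B (A x) y = B x (A' y))
    (g : F[X]) : ∀ x y, B (aeval A g x) y = B x (aeval A' g y) := by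
  induction g using Polynomial.induction_on' with
  | add p q hp hq => intro x y; simp [hp x y, hq x y]
  | monomial n c =>
    have hn : ∀ m x y, B ((A ^ m) x) y = B x ((A' ^ m) y) := by
      intro m
      induction m with
      | zero => simp
      | succ m ih =>
        intro x y
        rw [pow_succ, pow_succ', Module.End.mul_apply, Module.End.mul_apply, ih, h]
    intro x y
    simp [hn n x y, Algebra.algebraMap_eq_smul_one, Module.End.mul_apply]

end aux


/-- Let F be a finite field with r elements and of characteristic p, H a finite abelian group of order prime to p, and V a faithful irreducible representation of H over F of dimension n (faithful: distinct elements act differently; irreducible: the only H-invariant subspaces are 0 and V). Call V self-dual when it carries a nondegenerate H-invariant bilinear form. If n = 1 and V is self-dual then H has order at most 2. If n ≥ 2 then V is self-dual if and only if n is even and the order of H divides r^(n/2) + 1. -/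
theorem result {F : Type*} [Field F] [Fintype F] (p : ℕ) [Fact p.Prime] [CharP F p] {H : Type*} [CommGroup H] [Finite H] (hcop : ¬ p ∣ Nat.card H) {V : Type*} [AddCommGroup V] [Module F V] [FiniteDimensional F V] (ρ : Representation F H V) (hfaith : Function.Injective ρ) (hirr : ∀ U : Submodule F V, (∀ h : H, ∀ u ∈ U, ρ h u ∈ U) → U = ⊥ ∨ U = ⊤) : (Module.finrank F V = 1 → (∃ B : LinearMap.BilinForm F V, B.Nondegenerate ∧ ∀ h : H, ∀ x y : V, B (ρ h x) (ρ h y) = B x y) → Nat.card H ≤ 2) ∧ (2 ≤ Module.finrank F V → ((∃ B : LinearMap.BilinForm F V, B.Nondegenerate ∧ ∀ h : H, ∀ x y : V, B (ρ h x) (ρ h y) = B x y) ↔ (Even (Module.finrank F V) ∧ Nat.card H ∣ Fintype.card F ^ (Module.finrank F V / 2) + 1))) := by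
  classical
  constructor
  · rintro h1 ⟨B, hB, hinv⟩
    obtain ⟨v, hv, hspan⟩ := finrank_eq_one_iff'.mp h1
    have hBv : B v v ≠ 0 := by
      intro h0
      refine hv (hB.1 v fun y => ?_)
      obtain ⟨c, rfl⟩ := hspan y
      rw [map_smul, h0, smul_zero]
    have hpm : ∀ h : H, ρ h = 1 ∨ ρ h = -1 := by
      intro h
      obtain ⟨c, hc⟩ := hspan (ρ h v)
      have h2 := hinv h v v
      simp only [← hc, map_smul, LinearMap.smul_apply, smul_eq_mul, ← mul_assoc] at h2
      have hc2 : c * c = 1 := mul_right_cancel₀ hBv (h2.trans (one_mul _).symm)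
      have hx : ∀ x, ρ h x = c • x := fun x => by
        obtain ⟨d, rfl⟩ := hspan x
        rw [map_smul, ← hc, smul_comm]
      rcases mul_self_eq_one_iff.mp hc2 with rfl | rfl
      · exact Or.inl (LinearMap.ext fun x => by simp [hx])
      · exact Or.inr (LinearMap.ext fun x => by simp [hx])
    let f : H → Bool := fun h => decide (ρ h = 1)
    have hf : Function.Injective f := by
      intro a b hab
      apply hfaith
      have hab' : (ρ a = 1) ↔ (ρ b = 1) := by simpa [f] using hab
      rcases hpm a with ha | ha <;> rcases hpm b with hb | hb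
      · rw [ha, hb]
      · rw [ha, hab'.mp ha]
      · rw [hb, hab'.mpr hb]
      · rw [ha, hb]
    simpa using Nat.card_le_card_of_injective f hf
  intro hn
  haveI : Nontrivial V := Module.finrank_pos_iff.mp (by omega : 0 < Module.finrank F V)
  obtain ⟨v, hv⟩ := exists_ne (0 : V)
  haveI : Finite V := Module.finite_of_finite F
  haveI : Finite (Module.End F V) := Finite.of_injective _ DFunLike.coe_injective
  letI : CommRing (Kc ρ) := { (inferInstance : Ring (Kc ρ)) with mul_comm := Kc_comm ρ }
  haveI : Nontrivial (Kc ρ) := ⟨0, 1, fun e => hv (by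
    simpa using (DFunLike.congr_fun (congrArg Subtype.val e) v).symm)⟩
  haveI : NoZeroDivisors (Kc ρ) := ⟨fun {a b} hab => by
    by_contra hne
    rw [not_or] at hne
    have h2 : (a : Module.End F V) ((b : Module.End F V) v) = 0 := DFunLike.congr_fun (congrArg Subtype.val hab) v
    exact hv (Kc_inj ρ hirr hne.2 ((Kc_inj ρ hirr hne.1 (h2.trans (map_zero _).symm)).trans (map_zero _).symm))⟩
  haveI : IsDomain (Kc ρ) := NoZeroDivisors.to_isDomain _
  letI : Field (Kc ρ) := (Finite.isField_of_domain (Kc ρ)).toField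
  let ev : Kc ρ ≃ₗ[F] V := LinearEquiv.ofBijective
    ((LinearMap.applyₗ v).comp (Kc ρ).val.toLinearMap) (Kc_eval ρ hirr hv)
  have hdim : Module.finrank F (Kc ρ) = Module.finrank F V := ev.finrank_eq
  let ι : H →* Kc ρ :=
    { toFun := fun h => ⟨ρ h, Algebra.subset_adjoin ⟨h, rfl⟩⟩
      map_one' := Subtype.ext (map_one ρ)
      map_mul' := fun a b => Subtype.ext (map_mul ρ a b) }
  have hι : Function.Injective ι := fun a b e => hfaith (congrArg Subtype.val e)
  haveI : IsCyclic H := isCyclic_of_subgroup_isDomain ι hι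
  obtain ⟨h0, hh0⟩ := IsCyclic.exists_generator (α := H)
  set a : Kc ρ := ι h0 with ha
  have ha0 : a ≠ 0 := by
    intro e
    have := congrArg ι (mul_inv_cancel h0)
    rw [map_mul, map_one, ← ha, e, zero_mul] at this
    exact zero_ne_one this
  have hord : orderOf a = Nat.card H := by
    rw [ha, orderOf_injective ι hι, orderOf_eq_card_of_forall_mem_zpowers hh0]
  have hpow : ∀ h : H, ∃ j : ℕ, ι h = a ^ j := fun h => by
    obtain ⟨j, hj⟩ := (Submonoid.mem_powers_iff _ _).1 (mem_powers_iff_mem_zpowers.2 (hh0 h))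
    exact ⟨j, by rw [← hj, map_pow]⟩
  constructor
  · rintro ⟨B, hB, hinv⟩
    have hgen : Algebra.adjoin F {a} = (⊤ : Subalgebra F (Kc ρ)) := by
      rw [eq_top_iff]
      rintro ⟨x, hx⟩ -
      induction hx using Algebra.adjoin_induction with
      | mem y hy =>
        obtain ⟨h, rfl⟩ := hy
        obtain ⟨j, hj⟩ := hpow h
        show ι h ∈ _
        rw [hj]
        exact pow_mem (Algebra.self_mem_adjoin_singleton F a) j
      | algebraMap r => exact Subalgebra.algebraMap_mem _ r
      | add x y hx hy h1 h2 => exact add_mem h1 h2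
      | mul x y hx hy h1 h2 => exact mul_mem h1 h2
    have hroot : Polynomial.aeval a⁻¹ (minpoly F a) = 0 := by
      have hinv' : a⁻¹ = ι h0⁻¹ := inv_eq_of_mul_eq_one_right (by rw [ha, ← map_mul, mul_inv_cancel, map_one])
      have hadj : ∀ x y, B ((a : Module.End F V) x) y = B x (((ι h0⁻¹ : Kc ρ) : Module.End F V) y) := fun x y => by
        show B (ρ h0 x) y = B x (ρ h0⁻¹ y)
        rw [← hinv h0 x (ρ h0⁻¹ y), Representation.self_inv_apply]
      have key := aeval_adjoint hadj (minpoly F a)
      rw [hinv']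
      apply Subtype.ext
      rw [← Subalgebra.coe_val, ← Polynomial.aeval_algHom_apply]
      refine LinearMap.ext fun y => hB.2 _ fun x => ?_
      show B x (Polynomial.aeval ((ι h0⁻¹ : Kc ρ) : Module.End F V) (minpoly F a) y) = 0
      rw [← key, ← Subalgebra.coe_val, Polynomial.aeval_algHom_apply, minpoly.aeval, map_zero]
      simp
    obtain ⟨he, h1⟩ := unitary_of_root ha0 hgen (hdim ▸ hn) hroot
    rw [hdim] at he h1
    exact ⟨he, hord ▸ orderOf_dvd_of_pow_eq_one h1⟩
  · rintro ⟨he, hdvd⟩
    set k := Module.finrank F V / 2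
    let σ := FiniteField.frobeniusAlgEquivOfAlgebraic F (Kc ρ) ^ k
    obtain ⟨φ, hφ⟩ : ∃ φ : Kc ρ →ₗ[F] F, φ 1 ≠ 0 := by
      by_contra! hc
      exact one_ne_zero ((Module.forall_dual_apply_eq_zero_iff F (1 : Kc ρ)).mp hc)
    let B : LinearMap.BilinForm F V :=
      (((LinearMap.mul F (Kc ρ)).compr₂ φ).compl₁₂ ev.symm.toLinearMap (σ.toLinearMap.comp ev.symm.toLinearMap))
    have hB : ∀ x y, B x y = φ (ev.symm x * σ (ev.symm y)) := fun x y => rfl
    refine ⟨B, ⟨fun x hx => ?_, fun y hy => ?_⟩, fun h x y => ?_⟩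
    · by_contra h0
      have h1 : ev.symm x ≠ 0 := by simpa using h0
      have := hx (ev (σ.symm (ev.symm x)⁻¹))
      rw [hB, LinearEquiv.symm_apply_apply, AlgEquiv.apply_symm_apply, mul_inv_cancel₀ h1] at this
      exact hφ this
    · by_contra h0
      have h1 : σ (ev.symm y) ≠ 0 := by simpa using h0
      have := hy (ev (σ (ev.symm y))⁻¹)
      rw [hB, LinearEquiv.symm_apply_apply, inv_mul_cancel₀ h1] at this
      exact hφ this
    · have hev : ∀ z, ev.symm (ρ h z) = ι h * ev.symm z := fun z => by
        rw [LinearEquiv.symm_apply_eq]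
        show ρ h z = ρ h (ev (ev.symm z))
        rw [LinearEquiv.apply_symm_apply]
      rw [hB, hB, hev, hev, map_mul σ, show σ (ι h) = _ from frob_pow_apply k (ι h),
        mul_mul_mul_comm, ← pow_succ', ← map_pow,
        orderOf_dvd_iff_pow_eq_one.1 ((orderOf_dvd_natCard h).trans hdvd), map_one, one_mul]

end Cfsg.Agent.S4967
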