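import Cfsg.Statements.S4989
import Cfsg.Agent.Char.NonVanishing
import Cfsg.Agent.Char.Orth

set_option autoImplicit false
open Cfsg

namespace Cfsg.Agent.S4989

open CfsgLib.Char

/-- Let H be a subgroup of the finite group G and χ an irreducible complex character of G. Then the inner product of the restriction of χ to H with itself, (1/#H)·Σ_{h ∈ H} |χ(h)|², is at most 1 + #(Z ∖ H)/#H, where Z is the set of zeros of χ in G. -/
theorem result {G : Type*} [Group G] [Finite G] (H : Subgroup G) (χ : Cfsg.IrrCharacter G) : (Nat.card ↥H : ℝ)⁻¹ * ∑ᶠ h : ↥H, ‖(χ : G → ℂ) h‖ ^ 2 ≤ 1 + (Set.ncard ({x : G | (χ : G → ℂ) x = 0} \ (H : Set G)) : ℝ) / (Nat.card ↥H : ℝ) := by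
  classical
  haveI : Fintype G := Fintype.ofFinite G
  rw [finsum_eq_sum_of_fintype]
  have hHpos : (0 : ℝ) < Nat.card ↥H := by exact_mod_cast Nat.card_pos
  rw [inv_mul_le_iff₀ hHpos, mul_add, mul_div_cancel₀ _ hHpos.ne', mul_one]
  have htot : ∑ x : G, ‖(χ : G → ℂ) x‖ ^ 2 = (Nat.card G : ℝ) := by
    have h := irr_inner_self χ.2
    rw [classInner_def, inv_mul_eq_one₀ (natCard_ne_zero G)] at h
    simp only [Complex.mul_conj'] at h
    exact_mod_cast h.symm
  set O := Finset.univ.filter (fun x : G => x ∉ H) with hO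
  set Z := O.filter (fun x => (χ : G → ℂ) x = 0) with hZ
  set S := O.filter (fun x => (χ : G → ℂ) x ≠ 0) with hS
  have hncard : Set.ncard ({x : G | (χ : G → ℂ) x = 0} \ (H : Set G)) = Z.card := by
    rw [← Set.ncard_coe_finset]
    congr 1
    ext x
    simp [hZ, hO, and_comm]
  have hsplit : ∑ h : ↥H, ‖(χ : G → ℂ) h‖ ^ 2 + ∑ x ∈ S, ‖(χ : G → ℂ) x‖ ^ 2 =
      (Nat.card G : ℝ) := by
    have h2 : ∑ x ∈ S, ‖(χ : G → ℂ) x‖ ^ 2 = ∑ x ∈ O, ‖(χ : G → ℂ) x‖ ^ 2 := by
      refine Finset.sum_filter_of_ne fun x _ hx h0 => hx ?_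
      simp [h0]
    rw [← htot, h2, hO, ← Finset.sum_filter_add_sum_filter_not Finset.univ (fun x : G => x ∈ H)]
    congr 1
    exact (Finset.sum_subtype (Finset.univ.filter fun x : G => x ∈ H) (fun x => by simp) (fun x => ‖(χ : G → ℂ) x‖ ^ 2)).symm
  have hclosed : ∀ m : ℕ, m.Coprime (Nat.card G) → ∀ x ∈ S, x ^ m ∈ S := by
    intro m hm x hx
    simp only [hS, hO, Finset.mem_filter, Finset.mem_univ, true_and] at hx ⊢
    constructor
    · intro hxH
      exact hx.1 (by
        obtain ⟨k, hk⟩ := exists_pow_eq_self_of_coprime (n := m) (x := x)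
          (hm.coprime_dvd_right (orderOf_dvd_natCard x))
        rw [← hk]; exact pow_mem hxH k)
    · intro h0
      obtain ⟨φ, hφ⟩ := exists_algHom_pow G hm
      rw [← hφ _ (isCharacter_of_isIrr χ.2) x, map_eq_zero] at h0
      exact hx.2 (congrArg Subtype.val h0)
  have hle := card_le_sum_normSq (isCharacter_of_isIrr χ.2) S hclosed
    (fun x hx => (Finset.mem_filter.mp hx).2)
  have hcard : Nat.card G = Nat.card ↥H + (Z.card + S.card) := by
    rw [hZ, hS, Finset.card_filter_add_card_filter_not, hO, Nat.card_eq_fintype_card,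
      Nat.card_eq_fintype_card, Fintype.card_subtype, Finset.card_filter_add_card_filter_not,
      Finset.card_univ]
  rw [hncard]
  rw [hcard] at hsplit
  push_cast at hsplit
  linarith

end Cfsg.Agent.S4989
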