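import Cfsg.Statements.S4996
import Cfsg.Agent.Char.NormalSum
import Cfsg.Agent.Char.NonVanishing
import Cfsg.Agent.Char.Classes

set_option autoImplicit false
open Cfsg

namespace Cfsg.Agent.S4996

open CfsgLib.Char

/-- Let N be a normal subgroup of the finite group G and χ an irreducible complex character of G. Then the restriction of χ to N is not irreducible if and only if χ vanishes on some whole coset Nx of N in G. -/
theorem result {G : Type*} [Group G] [Finite G] (N : Subgroup G) [N.Normal] (χ : Cfsg.IrrCharacter G) : ¬ Cfsg.IsIrrCharacter ↥N (fun n : ↥N => (χ : G → ℂ) n) ↔ ∃ x : G, ∀ n : ↥N, (χ : G → ℂ) ((n : G) * x) = 0 := by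
  classical
  haveI : Fintype G := Fintype.ofFinite G
  have hc := isCharacter_of_isIrr χ.2
  have hres : IsCharacter N (fun n : N => (χ : G → ℂ) n) := isCharacter_restrict N hc
  set ψ : G → ℂ := fun g => (χ : G → ℂ) g * starRingEnd ℂ ((χ : G → ℂ) g) with hψdef
  have hψ : IsCharacter G ψ := isCharacter_mul hc (isCharacter_conj hc)
  choose m hm using fun η : IrrCharacter G => inner_char_irr hψ η.2
  set ψ' : G → ℂ := ∑ η ∈ Finset.univ.filter (fun η : IrrCharacter G =>
    ∀ n ∈ N, (η : G → ℂ) n = (η : G → ℂ) 1), (m η : ℂ) • (η : G → ℂ) with hψ'def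
  have hψ' : IsCharacter G ψ' :=
    isCharacter_sum _ _ fun η _ => isCharacter_natMul _ (isCharacter_of_isIrr η.2)
  have hdec : ∀ g, ψ g = ∑ η : IrrCharacter G, (m η : ℂ) * (η : G → ℂ) g := fun g => by
    have := congrFun (classFun_eq_sum (classFun_of_char hψ)) g
    simpa [hm] using this
  set r : G → ℝ := fun x => (∑ n : N, ‖(χ : G → ℂ) ((n : G) * x)‖ ^ 2) / (Nat.card N : ℝ)
    with hrdef
  have hN0 : (Nat.card N : ℂ) ≠ 0 := natCard_ne_zero N
  have hNpos : (0 : ℝ) < Nat.card N := by exact_mod_cast Nat.card_pos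
  have hsum : ∀ x, ∑ n : N, ψ ((n : G) * x) = (Nat.card N : ℂ) * ψ' x := by
    intro x
    simp only [hdec]
    rw [Finset.sum_comm, hψ'def, Finset.sum_apply, Finset.mul_sum, Finset.sum_filter]
    refine Finset.sum_congr rfl fun η _ => ?_
    rw [← Finset.mul_sum, irr_coset_sum_eq η.2 x]
    split_ifs <;> simp [mul_left_comm]
  have hr : ∀ x, ψ' x = (r x : ℂ) := by
    intro x
    refine mul_left_cancel₀ hN0 ?_
    rw [← hsum x, hrdef]
    push_cast
    rw [mul_div_cancel₀ _ hN0]
    simp [hψdef, Complex.mul_conj']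
  have hr1 : IsIrrCharacter N (fun n : N => (χ : G → ℂ) n) ↔ r 1 = 1 := by
    rw [isIrr_iff_norm hres, classInner_def, inv_mul_eq_one₀ hN0]
    simp only [Complex.mul_conj', hrdef, mul_one, div_eq_one_iff_eq hNpos.ne']
    constructor
    · intro h; exact_mod_cast h.symm
    · intro h; exact_mod_cast h.symm
  have hzero : ∀ x, r x = 0 ↔ ∀ n : N, (χ : G → ℂ) ((n : G) * x) = 0 := by
    intro x
    rw [hrdef]
    simp [div_eq_zero_iff, hNpos.ne', Finset.sum_eq_zero_iff_of_nonneg]
  rw [hr1]
  constructor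
  · intro hne
    by_contra! hall
    have hpos : ∀ x ∈ (Finset.univ : Finset G), 0 < r x := fun x _ => by
      have h0 : 0 ≤ r x := by rw [hrdef]; positivity
      refine lt_of_le_of_ne h0 fun h => ?_
      obtain ⟨n, hn⟩ := hall x
      exact hn ((hzero x).mp h.symm n)
    have hlt := card_lt_sum_of_pos hψ' Finset.univ (fun _ _ _ _ => Finset.mem_univ _) r
      (fun x _ => hr x) hpos (Finset.mem_univ 1) hne
    have htot : ∑ x : G, r x = (Nat.card G : ℝ) := by
      have h1 : ∑ x : G, ‖(χ : G → ℂ) x‖ ^ 2 = (Nat.card G : ℝ) := by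
        have h := irr_inner_self χ.2
        rw [classInner_def, inv_mul_eq_one₀ (natCard_ne_zero G)] at h
        simp only [Complex.mul_conj'] at h
        exact_mod_cast h.symm
      simp only [hrdef, ← Finset.sum_div]
      have hn : ∀ n : N, ∑ x : G, ‖(χ : G → ℂ) ((n : G) * x)‖ ^ 2 = (Nat.card G : ℝ) := fun n =>
        (Equiv.sum_comp (Equiv.mulLeft (n : G)) (fun x => ‖(χ : G → ℂ) x‖ ^ 2)).trans h1
      rw [Finset.sum_comm, Finset.sum_congr rfl fun n _ => hn n, Finset.sum_const,
        nsmul_eq_mul, Finset.card_univ, ← Nat.card_eq_fintype_card,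
        mul_div_cancel_left₀ _ hNpos.ne']
    rw [htot, Finset.card_univ, ← Nat.card_eq_fintype_card] at hlt
    exact lt_irrefl _ hlt
  · rintro ⟨x, hx⟩ h1
    obtain ⟨μ, hμ⟩ := exists_hom_of_degree_one hψ' (by rw [hr 1, h1]; simp)
    have h2 := hr x
    rw [(hzero x).mpr hx, hμ] at h2
    simp at h2

end Cfsg.Agent.S4996
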