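import Cfsg.Statements.S5001
import Cfsg.Agent.Blk.Bounds

set_option autoImplicit false
open Cfsg

namespace Cfsg.Agent.S5001

open CfsgLib.Char

/-- Let p be a prime, G a finite group and B a p-block of G (relative to a maximal ideal M of the algebraic integers containing p) with defect group D. Let Z be a central p-subgroup of G contained in D and λ a linear character of Z (a homomorphism to the nonzero complex numbers). Say an irreducible character χ of G lies over λ when χ(z) = χ(1)λ(z) for all z ∈ Z. If some irreducible character in B lying over λ has height zero, then λ extends to a linear character of D. -/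
theorem result {G : Type*} [Group G] [Finite G] (p : ℕ) [Fact p.Prime] (M : Ideal Cfsg.AlgInt) (hM : Cfsg.IsPModular p M) (B : Set (Cfsg.IrrCharacter G)) (hB : Cfsg.IsPBlock M B) (D : Subgroup G) (hD : Cfsg.IsDefectGroup p M B D) (Z : Subgroup G) (hZc : Z ≤ Subgroup.center G) (hZp : IsPGroup p ↥Z) (hZD : Z ≤ D) (lam : ↥Z →* ℂˣ) (χ : Cfsg.IrrCharacter G) (hχ : χ ∈ B) (hover : (∀ z : ↥Z, (χ : G → ℂ) z = (χ : G → ℂ) 1 * (lam z : ℂ))) (h0 : Cfsg.blockHeight p B (χ : G → ℂ) = 0) : (∃ μ : ↥D →* ℂˣ, ∀ z : ↥Z, μ ⟨(z : G), hZD z.2⟩ = lam z) := by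
  haveI := CfsgLib.Blk.IsPModular.isPrime hM
  classical
  haveI := Fintype.ofFinite G
  have hp : p.Prime := Fact.out
  obtain ⟨g, hg, hs⟩ := CfsgLib.Blk.isDefectGroup_iff.1 hD
  -- a linear constituent of the restriction to `D` gives the extension
  suffices h : ∃ (μ : ↥D →* ℂˣ), classInner (fun x : D => (χ : G → ℂ) x) (fun x : D => (μ x : ℂ)) ≠ 0 by
    obtain ⟨μ, hμ⟩ := h
    refine ⟨μ, fun z => ?_⟩
    have hz : ∀ d : G, (χ : G → ℂ) ((z : G) * d) = (lam z : ℂ) * (χ : G → ℂ) d := by
      intro d
      have ha : CfsgLib.Blk.IsClassCoeff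
          (MonoidAlgebra.single (z : G) (1 : CfsgLib.Blk.locRing M)) := by
        intro a c
        have hzc := Subgroup.mem_center_iff.1 (hZc z.2) c
        simp only [MonoidAlgebra.coeff_single, Finsupp.single_apply]
        refine if_congr ⟨fun h => ?_, fun h => ?_⟩ rfl rfl
        · rw [← mul_inv_eq_iff_eq_mul.2 hzc] at h
          exact (MulAut.conj c).injective h
        · rw [← h, hzc, mul_inv_cancel_right]
      have h1 := CfsgLib.Blk.omega_mul χ.2 ha
        (MonoidAlgebra.single d (1 : CfsgLib.Blk.locRing M))
      simp only [MonoidAlgebra.single_mul_single, mul_one, CfsgLib.Blk.omega_single,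
        OneMemClass.coe_one, one_mul] at h1
      rw [hover z] at h1
      have h1' := CfsgLib.Char.irr_one_ne_zero χ.2
      field_simp at h1
      linear_combination h1
    set z' : D := ⟨(z : G), hZD z.2⟩ with hz'
    have h2 : classInner (fun x : D => (χ : G → ℂ) x) (fun x : D => (μ x : ℂ)) =
        ((lam z : ℂ) * starRingEnd ℂ (μ z' : ℂ)) *
          classInner (fun x : D => (χ : G → ℂ) x) (fun x : D => (μ x : ℂ)) := by
      simp only [CfsgLib.Char.classInner_def]
      conv_lhs => rw [← Equiv.sum_comp (Equiv.mulLeft z')]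
      simp only [Equiv.coe_mulLeft, Subgroup.coe_mul, hz', map_mul, Units.val_mul, hz,
        Finset.mul_sum]
      exact Finset.sum_congr rfl fun x _ => by ring
    have h3 : (lam z : ℂ) * starRingEnd ℂ (μ z' : ℂ) = 1 :=
      mul_right_cancel₀ hμ (by rw [one_mul]; exact h2.symm)
    rw [CfsgLib.Char.conj_root (orderOf_pos z').ne' (CfsgLib.Char.linear_root μ z'),
      ← div_eq_mul_inv, div_eq_one_iff_eq (μ z').ne_zero] at h3
    exact Units.ext h3.symm
  -- such a constituent exists because the value at the defect class is a unit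
  set E := Subgroup.zpowers g ⊔ D with hEdef
  have hgE : g ∈ E := Subgroup.mem_sup_left (Subgroup.mem_zpowers g)
  have hEg : E ≤ Subgroup.centralizer ({g} : Set G) :=
    sup_le (Subgroup.zpowers_le.2 (Subgroup.mem_centralizer_singleton_iff.2 rfl)) hs.le
  have hres := isCharacter_restrict E (isCharacter_of_isIrr χ.2)
  obtain ⟨l, hl⟩ := exists_list_irr hres
  by_contra! hno
  refine CfsgLib.Blk.defectClass_char_unit hM hB hg hχ h0 ?_
  have hval : (χ : G → ℂ) g = (l.map fun η : IrrCharacter E => (η : E → ℂ) ⟨g, hgE⟩).sum := by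
    rw [show (χ : G → ℂ) g = (fun x : E => (χ : G → ℂ) x) ⟨g, hgE⟩ from rfl, hl,
      Pi.list_sum_apply, List.map_map]
    rfl
  rw [hval]
  have hterm : ∀ η ∈ l, CfsgLib.Blk.red M ((η : E → ℂ) ⟨g, hgE⟩) = 0 := by
    intro η hη
    obtain ⟨n, hn⟩ := charDegree_aux (isCharacter_of_isIrr η.2)
    have hc : (η : E → ℂ) ⟨g, hgE⟩ = (n : ℂ) * centralChar (η : E → ℂ) ⟨g, hgE⟩ := by
      have htop : Subgroup.centralizer ({(⟨g, hgE⟩ : E)} : Set E) = ⊤ :=
        eq_top_iff.2 fun x _ => Subgroup.mem_centralizer_singleton_iff.2
          (Subtype.ext (Subgroup.mem_centralizer_singleton_iff.1 (hEg x.2)))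
      rw [centralChar, htop, Subgroup.index_top, ← hn]
      have := irr_one_ne_zero η.2
      push_cast
      field_simp
    -- no linear constituent on `D`
    have hpn : p ∣ n := by
      have hDE : D ≤ E := le_sup_right
      let e : D →* E := Subgroup.inclusion hDE
      have hηD := isCharacter_comp e (isCharacter_of_isIrr η.2)
      obtain ⟨l', hl'⟩ := exists_list_irr hηD
      have hdeg : ∀ θ ∈ l', p ∣ charDegree (θ : D → ℂ) := by
        intro θ hθ
        obtain ⟨i, hi⟩ := IsPGroup.iff_card.1 (CfsgLib.Blk.IsDefectGroup.isPGroup hD)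
        obtain ⟨j, -, hj⟩ := (Nat.dvd_prime_pow hp).1 (hi ▸ degree_dvd_card θ.2)
        rcases Nat.eq_zero_or_pos j with rfl | hj0
        · exfalso
          obtain ⟨μ, hμ⟩ := exists_hom_of_degree_one (isCharacter_of_isIrr θ.2)
            (by rw [irr_one_eq θ.2, hj]; simp)
          have h := hno μ
          rw [← hμ] at h
          have e1 : (fun x : D => (χ : G → ℂ) x) =
              (l.map fun ξ : IrrCharacter E => fun x : D => (ξ : E → ℂ) (e x)).sum := by
            funext x
            rw [show (χ : G → ℂ) x = (fun y : E => (χ : G → ℂ) y) (e x) from rfl, hl,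
              Pi.list_sum_apply, Pi.list_sum_apply, List.map_map, List.map_map]
            rfl
          have hpos : ∀ (L : List (D → ℂ)), (∀ f ∈ L, IsCharacter D f) →
              (∀ f ∈ L, ∃ a : ℕ, classInner f (θ : D → ℂ) = (a : ℂ)) →
              classInner L.sum (θ : D → ℂ) = 0 → ∀ f ∈ L, classInner f (θ : D → ℂ) = 0 := by
            intro L hL hint hsum
            induction L with
            | nil => simp
            | cons f L ih =>
              obtain ⟨a, ha⟩ := hint f (by simp)
              obtain ⟨b, hb⟩ : ∃ b : ℕ, classInner L.sum (θ : D → ℂ) = (b : ℂ) := by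
                clear hsum ih
                induction L with
                | nil => exact ⟨0, by simp [classInner_zero_left]⟩
                | cons f' L ih' =>
                  obtain ⟨a', ha'⟩ := hint f' (by simp)
                  obtain ⟨b', hb'⟩ := ih' (fun x hx => hL x (by
                      rcases List.mem_cons.1 hx with rfl | hx <;> simp [*]))
                    (fun x hx => hint x (by
                      rcases List.mem_cons.1 hx with rfl | hx <;> simp [*]))
                  exact ⟨a' + b', by rw [List.sum_cons, classInner_add_left, ha', hb']; push_cast; rfl⟩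
              rw [List.sum_cons, classInner_add_left, ha, hb, ← Nat.cast_add, Nat.cast_eq_zero,
                Nat.add_eq_zero_iff] at hsum
              intro x hx
              rcases List.mem_cons.1 hx with rfl | hx
              · rw [ha, hsum.1, Nat.cast_zero]
              · exact ih (fun x hx => hL x (by simp [hx])) (fun x hx => hint x (by simp [hx]))
                  (by rw [hb, hsum.2, Nat.cast_zero]) x hx
          rw [e1] at h
          have h4 := hpos _ (fun f hf => by
              obtain ⟨ξ, -, rfl⟩ := List.mem_map.1 hf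
              exact isCharacter_comp e (isCharacter_of_isIrr ξ.2))
            (fun f hf => by
              obtain ⟨ξ, -, rfl⟩ := List.mem_map.1 hf
              exact inner_char_irr (isCharacter_comp e (isCharacter_of_isIrr ξ.2)) θ.2)
            h _ (List.mem_map.2 ⟨η, hη, rfl⟩)
          have h5 := hpos (l'.map Subtype.val) (fun f hf => by
              obtain ⟨ξ, -, rfl⟩ := List.mem_map.1 hf
              exact isCharacter_of_isIrr ξ.2)
            (fun f hf => by
              obtain ⟨ξ, -, rfl⟩ := List.mem_map.1 hf
              exact inner_char_irr (isCharacter_of_isIrr ξ.2) θ.2)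
            (by rw [← hl']; exact h4) _ (List.mem_map.2 ⟨θ, hθ, rfl⟩)
          rw [irr_inner_self θ.2] at h5
          exact one_ne_zero h5
        · rw [hj]
          exact dvd_pow_self p hj0.ne'
      have h6 : (n : ℂ) = ((l'.map fun θ : IrrCharacter D => charDegree (θ : D → ℂ)).sum : ℕ) := by
        rw [← hn, show (η : E → ℂ) 1 = (fun x : D => (η : E → ℂ) (e x)) 1 by simp]
        change ((η : E → ℂ) ∘ e) 1 = _
        rw [show (η : E → ℂ) ∘ e = (l'.map Subtype.val).sum from hl']
        rw [Pi.list_sum_apply, List.map_map, Nat.cast_list_sum, List.map_map]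
        exact congrArg List.sum (List.map_congr_left fun θ _ => irr_one_eq θ.2)
      rw [Nat.cast_injective h6]
      refine List.dvd_sum fun a ha => ?_
      obtain ⟨θ, hθ, rfl⟩ := List.mem_map.1 ha
      exact hdeg θ hθ
    rw [hc, CfsgLib.Blk.red_mul (natCast_mem _ n) (CfsgLib.Blk.centralChar_mem η.2 _),
      (CfsgLib.Blk.red_eq_zero_iff (natCast_mem _ n)).2
        ((CfsgLib.Blk.natCast_memLocalIdeal_iff hM n).2 hpn), zero_mul]
  clear hl hval
  induction l with
  | nil => exact CfsgLib.Blk.memLocalIdeal_zero
  | cons η l ih =>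
    rw [List.map_cons, List.sum_cons]
    exact CfsgLib.Blk.memLocalIdeal_add
      ((CfsgLib.Blk.red_eq_zero_iff (CfsgLib.Blk.char_mem (isCharacter_of_isIrr η.2) _)).1
        (hterm η (by simp)))
      (ih fun x hx => hterm x (by simp [hx]))

end Cfsg.Agent.S5001
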