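import Cfsg.Statements.S5011
import Cfsg.Agent.Char.Orth

set_option autoImplicit false
open Cfsg

namespace Cfsg.Agent.S5011

/-- Let G be a finite non-abelian simple group and ρ an irreducible complex representation of G on a space of dimension greater than one (irreducible in the sense that the only subspaces invariant under every ρ(x) are 0 and the whole space). Then for every non-identity element g of G, the centralizer of g does not act irreducibly: there is a non-zero proper subspace invariant under ρ(c) for every c commuting with g. -/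
theorem result {G : Type*} [Group G] [Finite G] [IsSimpleGroup G]
    (hG : ¬ IsMulCommutative G) {V : Type*} [AddCommGroup V] [Module ℂ V] [FiniteDimensional ℂ V]
    (ρ : Representation ℂ G V)
    (hirr : ∀ W : Submodule ℂ V, (∀ x : G, ∀ v ∈ W, ρ x v ∈ W) → W = ⊥ ∨ W = ⊤)
    (hdim : 1 < Module.finrank ℂ V) (g : G) (hg : g ≠ 1) :
    ∃ W : Submodule ℂ V, W ≠ ⊥ ∧ W ≠ ⊤ ∧ ∀ c ∈ Subgroup.centralizer ({g} : Set G), ∀ v ∈ W, ρ c v ∈ W := by
  classical
  by_contra! hall
  haveI : Nontrivial V := Module.finrank_pos_iff.mp (by omega : 0 < Module.finrank ℂ V)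
  set C := Subgroup.centralizer ({g} : Set G) with hC
  let σ : Representation ℂ ↥C V := ρ.comp C.subtype
  haveI : σ.IsIrreducible := by
    refine IsSimpleOrder.mk (α := Subrepresentation σ) (toNontrivial := ⟨⊥, ⊤, ?_⟩) fun W => ?_
    · intro e
      exact bot_ne_top (congrArg Subrepresentation.toSubmodule e)
    · by_cases h0 : W.toSubmodule = ⊥
      · exact Or.inl (Subrepresentation.toSubmodule_injective h0)
      by_cases h1 : W.toSubmodule = ⊤
      · exact Or.inr (Subrepresentation.toSubmodule_injective h1)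
      obtain ⟨c, hc, v, hv, hnot⟩ := hall W.toSubmodule h0 h1
      exact absurd (W.apply_mem_toSubmodule ⟨c, hc⟩ hv) hnot
  obtain ⟨a, ha⟩ := CfsgLib.Char.schur_scalar σ (ρ g) fun c v => by
    have hcg : (c : G) * g = g * (c : G) :=
      Subgroup.mem_centralizer_singleton_iff.mp c.2
    show ρ g (ρ (c : G) v) = ρ (c : G) (ρ g v)
    rw [← Module.End.mul_apply, ← map_mul, ← hcg, map_mul, Module.End.mul_apply]
  have hcomm : ∀ x : G, ρ (g * x * g⁻¹ * x⁻¹) = 1 := by
    intro x
    have h1 : ρ g * ρ x = ρ x * ρ g := by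
      rw [ha, ← Module.End.one_eq_id, smul_mul_assoc, mul_smul_comm, one_mul, mul_one]
    rw [map_mul, map_mul, map_mul, h1, mul_assoc (ρ x), ← map_mul ρ g, mul_inv_cancel, map_one,
      mul_one, ← map_mul, mul_inv_cancel, map_one]
  have hker : (ρ.toHomUnits).ker = ⊥ := by
    refine (IsSimpleGroup.eq_bot_or_eq_top_of_normal _ inferInstance).resolve_right fun htop => ?_
    obtain ⟨v, hv⟩ := exists_ne (0 : V)
    have h1 : ∀ x, ρ x = 1 := fun x => by
      have : x ∈ (ρ.toHomUnits).ker := by rw [htop]; trivial
      exact congrArg Units.val (MonoidHom.mem_ker.mp this)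
    rcases hirr (ℂ ∙ v) (fun x w hw => by rw [h1 x]; exact hw) with h | h
    · exact hv (Submodule.span_singleton_eq_bot.mp h)
    · have := finrank_span_singleton (K := ℂ) hv
      rw [h, finrank_top] at this
      omega
  have hcen : g ∈ Subgroup.center G := by
    refine Subgroup.mem_center_iff.mpr fun x => ?_
    have : g * x * g⁻¹ * x⁻¹ ∈ (ρ.toHomUnits).ker := MonoidHom.mem_ker.mpr (Units.ext (hcomm x))
    rw [hker, Subgroup.mem_bot, mul_inv_eq_one, mul_inv_eq_iff_eq_mul] at this
    exact this.symm
  rcases IsSimpleGroup.eq_bot_or_eq_top_of_normal (Subgroup.center G) inferInstance with h | h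
  · rw [h] at hcen; exact hg (Subgroup.mem_bot.mp hcen)
  · refine hG ⟨⟨fun a b => ?_⟩⟩
    exact Subgroup.mem_center_iff.mp (h.symm ▸ Subgroup.mem_top b) a

end Cfsg.Agent.S5011
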