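import Cfsg.Statements.S5013
import Cfsg.Agent.Inv.RankOne

set_option autoImplicit false
open Cfsg

namespace Cfsg.Agent.S5013

/-- In a rank one group with unipotent subgroups A and B (conjugation written g H g⁻¹), for every non-identity a in A the non-identity b in B with b⁻¹ A b = a⁻¹ B a is unique, every non-identity b in B arises in this way from exactly one such a (so a ↦ b(a) is a bijection between the non-identity elements of A and of B), and no non-identity element of A normalizes B (and vice versa). -/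
theorem result {G : Type*} [Group G] {A B : Subgroup G} (h : Cfsg.IsRankOnePair A B) :
    (∀ a ∈ A, a ≠ 1 → ∃! b : G, b ∈ B ∧ b ≠ 1 ∧ Cfsg.conjBy A b⁻¹ = Cfsg.conjBy B a⁻¹) ∧
    (∀ b ∈ B, b ≠ 1 → ∃! a : G, a ∈ A ∧ a ≠ 1 ∧ Cfsg.conjBy A b⁻¹ = Cfsg.conjBy B a⁻¹) ∧
    A ⊓ Subgroup.normalizer (B : Set G) = ⊥ ∧ B ⊓ Subgroup.normalizer (A : Set G) = ⊥ := by
  open CfsgLib.Inv.RankOne in
  exact (by
    have key : ∀ {X Y : Subgroup G}, Cfsg.IsRankOnePair X Y → ∀ a ∈ X, a ≠ 1 →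
        ∃! b : G, b ∈ Y ∧ b ≠ 1 ∧ Cfsg.conjBy X b⁻¹ = Cfsg.conjBy Y a⁻¹ := fun {X Y} h a ha h1 => by
      obtain ⟨b, hb, hb1, e⟩ := h.cond_left a ha h1
      refine ⟨b, ⟨hb, hb1, e⟩, ?_⟩
      rintro b' ⟨hb', -, e'⟩
      exact inv_injective (reg_inj (RankOnePair_symm h) (inv_mem hb') (inv_mem hb) (e'.trans e.symm))
    refine ⟨key h, fun b hb h1 => ?_, ?_, ?_⟩
    · obtain ⟨a, ⟨ha, ha1, e⟩, huniq⟩ := key (RankOnePair_symm h) b hb h1
      exact ⟨a, ⟨ha, ha1, e.symm⟩, fun a' ⟨ha', ha1', e'⟩ => huniq a' ⟨ha', ha1', e'.symm⟩⟩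
    · exact (Subgroup.eq_bot_iff_forall _).2 fun a ha => inf_norm h ha.1 (mem_norm.1 ha.2)
    · exact (Subgroup.eq_bot_iff_forall _).2 fun b hb => inf_norm (RankOnePair_symm h) hb.1 (mem_norm.1 hb.2))

end Cfsg.Agent.S5013
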