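import Cfsg.Statements.S5014
import Cfsg.Agent.Inv.RankOne

set_option autoImplicit false
open Cfsg

namespace Cfsg.Agent.S5014

/-- Let X = ⟨A, B⟩ be a rank one group with unipotent subgroups A and B and let Ω be the set of conjugates of A under X. Then Ω has at least three members, X acts doubly transitively on Ω by conjugation (any two ordered pairs of distinct members are carried to one another by a single element of X), and A acts regularly on Ω with A removed: for C, D in Ω different from A there is exactly one element of A conjugating C to D. -/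
theorem result {G : Type*} [Group G] {A B : Subgroup G} (h : Cfsg.IsRankOnePair A B) :
    (∃ C₁ ∈ Cfsg.unipotentSubgroups A B, ∃ C₂ ∈ Cfsg.unipotentSubgroups A B, ∃ C₃ ∈ Cfsg.unipotentSubgroups A B,
      C₁ ≠ C₂ ∧ C₁ ≠ C₃ ∧ C₂ ≠ C₃) ∧
    (∀ C₁ ∈ Cfsg.unipotentSubgroups A B, ∀ C₂ ∈ Cfsg.unipotentSubgroups A B, ∀ D₁ ∈ Cfsg.unipotentSubgroups A B,
      ∀ D₂ ∈ Cfsg.unipotentSubgroups A B, C₁ ≠ C₂ → D₁ ≠ D₂ →
        ∃ x ∈ A ⊔ B, Cfsg.conjBy C₁ x = D₁ ∧ Cfsg.conjBy C₂ x = D₂) ∧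
    (∀ C ∈ Cfsg.unipotentSubgroups A B, ∀ D ∈ Cfsg.unipotentSubgroups A B, C ≠ A → D ≠ A →
      ∃! a : G, a ∈ A ∧ Cfsg.conjBy C a = D) := by
  open CfsgLib.Inv.RankOne in
  exact (by
    refine ⟨?_, fun C₁ h1 C₂ h2 D₁ g1 D₂ g2 hne hne' => ?_, fun C hC D hD hCA hDA => regular h hC hD hCA hDA⟩
    · obtain ⟨a, ha, ha1⟩ := (Subgroup.bot_or_exists_ne_one A).resolve_left (ne_bot_left h)
      refine ⟨A, self_mem h, B, other_mem h, Cfsg.conjBy B a, cj_unip (other_mem h) (Subgroup.mem_sup_left ha), h.ne,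
        (cj_B_ne h ha).symm, fun e => ha1 (inf_norm h ha e.symm)⟩
    · obtain ⟨x, hx, ex1, ex2⟩ := two_trans h h1 h2 hne
      obtain ⟨y, hy, ey1, ey2⟩ := two_trans h g1 g2 hne'
      exact ⟨y * x⁻¹, mul_mem hy (inv_mem hx), by rw [← ex1, cj_cj, inv_mul_cancel_right, ey1],
        by rw [← ex2, cj_cj, inv_mul_cancel_right, ey2]⟩)

end Cfsg.Agent.S5014
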