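import Cfsg.Statements.S5015
import Cfsg.Agent.Inv.RankOne

set_option autoImplicit false
open Cfsg

namespace Cfsg.Agent.S5015

/-- Let a group Y act doubly transitively on a set Ω with at least three points, and suppose that the stabilizer of a point α contains a nilpotent subgroup A, normalized by that stabilizer, which acts regularly on the points other than α. Then for any y in Y moving α, the subgroups A and y A y⁻¹ are the unipotent subgroups of a rank one group, and the normal closure of A in Y (the subgroup generated by all conjugates of A) is generated by A and y A y⁻¹ alone. -/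
theorem result {Y Ω : Type*} [Group Y] [MulAction Y Ω]
    (h2 : MulAction.IsMultiplyPretransitive Y Ω 2) (hΩ : 3 ≤ ENat.card Ω) (α : Ω) (A : Subgroup Y)
    (hA : A ≤ MulAction.stabilizer Y α) (hAn : ∀ y ∈ MulAction.stabilizer Y α, Cfsg.conjBy A y = A)
    (hnil : Group.IsNilpotent A) (hreg : ∀ β γ : Ω, β ≠ α → γ ≠ α → ∃! a : Y, a ∈ A ∧ a • β = γ)
    (y : Y) (hy : y ∉ MulAction.stabilizer Y α) :
    Cfsg.IsRankOnePair A (Cfsg.conjBy A y) ∧ Subgroup.normalClosure (A : Set Y) = A ⊔ Cfsg.conjBy A y := by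
  open CfsgLib.Inv.RankOne in
  exact (by
    have hm : ∀ g, g ∈ MulAction.stabilizer Y α ↔ g • α = α := fun g => Iff.rfl
    set β := y • α with hβ
    have hβα : β ≠ α := hy
    have hfixA : ∀ a ∈ A, a • α = α := fun a ha => hA ha
    have hsame : ∀ g g' : Y, g • α = g' • α → Cfsg.conjBy A g = Cfsg.conjBy A g' := fun g g' e => by
      have h1 := hAn (g'⁻¹ * g) ((hm _).2 (by rw [mul_smul, e, inv_smul_smul]))
      conv_lhs => rw [show g = g' * (g'⁻¹ * g) by group, ← cj_cj, h1]
    have hregA : ∀ a ∈ A, a • β = β → a = 1 := fun a ha e =>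
      (hreg β β hβα hβα).unique ⟨ha, e⟩ ⟨one_mem _, one_smul _ _⟩
    have hfixB : ∀ b ∈ Cfsg.conjBy A y, b • β = β := fun b hb => by
      rw [mem_cj] at hb
      have := congrArg (fun ω => y • ω) (hfixA _ hb)
      simpa [hβ, mul_smul] using this
    have hregB : ∀ b ∈ Cfsg.conjBy A y, b • α = α → b = 1 := fun b hb e => by
      rw [mem_cj] at hb
      have hne : y⁻¹ • α ≠ α := fun e' => hβα (by rw [hβ]; conv_lhs => rw [← e', smul_inv_smul])
      have h1 : y⁻¹ * b * y = 1 := (hreg _ _ hne hne).unique ⟨hb, by rw [mul_smul, smul_inv_smul, mul_smul, e]⟩ ⟨one_mem _, one_smul _ _⟩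
      simpa [mul_assoc, mul_eq_one_iff_eq_inv, inv_mul_eq_one] using h1
    have hmoveB : ∀ ω : Ω, ω ≠ β → ∃ b ∈ Cfsg.conjBy A y, b • α = ω := fun ω hω => by
      have hne : y⁻¹ • α ≠ α := fun e' => hβα (by rw [hβ]; conv_lhs => rw [← e', smul_inv_smul])
      have hne2 : y⁻¹ • ω ≠ α := fun e' => hω (by rw [hβ, ← e', smul_inv_smul])
      obtain ⟨a, ⟨ha, e⟩, -⟩ := hreg _ _ hne hne2
      exact ⟨y * a * y⁻¹, cj_mem ha y, by rw [mul_smul, mul_smul, e, smul_inv_smul]⟩
    have hneAB : A ≠ Cfsg.conjBy A y := by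
      intro e
      obtain ⟨γ, hγ⟩ : ∃ γ : Ω, γ ≠ α ∧ γ ≠ β := by
        by_contra hcon
        have h2' : ENat.card Ω ≤ 2 := by
          have hsub : (Set.univ : Set Ω) ⊆ {α, β} := fun γ _ => by
            by_contra hh
            exact hcon ⟨γ, fun e => hh (by simp [e]), fun e => hh (by simp [e])⟩
          rw [← Set.encard_univ]
          refine (Set.encard_le_encard hsub).trans ((Set.encard_insert_le _ _).trans ?_)
          rw [Set.encard_singleton]; norm_num
        exact absurd (hΩ.trans h2') (by norm_num)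
      obtain ⟨a, ⟨ha, ea⟩, -⟩ := hreg β γ hβα hγ.1
      exact hγ.2 (ea.symm.trans (hfixB a (e ▸ ha)))
    refine ⟨⟨hneAB, hnil, ?_, ?_, ?_⟩, le_antisymm ?_ ?_⟩
    · exact @Group.nilpotent_of_mulEquiv _ _ _ _ hnil (A.equivMapOfInjective (MulAut.conj y).toMonoidHom (MulAut.conj y).injective)
    · intro a ha ha1
      have h1 : a⁻¹ • β ≠ β := fun e => ha1 (inv_eq_one.1 (hregA _ (inv_mem ha) e))
      obtain ⟨b, hb, eb⟩ := hmoveB _ h1
      have hb1 : b ≠ 1 := by
        rintro rfl
        rw [one_smul] at eb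
        exact hβα (((hfixA a ha).symm.trans ((congrArg (a • ·) eb).trans (smul_inv_smul a β))).symm)
      refine ⟨b⁻¹, inv_mem hb, inv_ne_one.2 hb1, ?_⟩
      rw [inv_inv, cj_cj]
      exact hsame _ _ (by rw [eb, mul_smul, ← hβ])
    · intro b hb hb1
      have h1 : b⁻¹ • α ≠ α := fun e => hb1 (inv_eq_one.1 (hregB _ (inv_mem hb) e))
      obtain ⟨a, ⟨ha, ea⟩, -⟩ := hreg β (b⁻¹ • α) hβα h1
      refine ⟨a⁻¹, inv_mem ha, inv_ne_one.2 ?_, ?_⟩
      · rintro rfl
        rw [one_smul] at ea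
        exact hβα (by rw [← smul_inv_smul b α, ← ea]; exact (hfixB b hb).symm)
      · rw [inv_inv, cj_cj]
        exact hsame _ _ (by rw [mul_smul, ← hβ, ea])
    · refine (Subgroup.closure_le _).2 fun x hx => ?_
      obtain ⟨a, ha, hc⟩ := Group.mem_conjugatesOfSet_iff.1 hx
      obtain ⟨g, rfl⟩ := isConj_iff.1 hc
      have hga : g * a * g⁻¹ ∈ Cfsg.conjBy A g := cj_mem ha g
      rcases eq_or_ne (g • α) α with e | e
      · rw [hsame g 1 (by rw [e, one_smul]), cj_one] at hga
        exact Subgroup.mem_sup_left hga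
      · obtain ⟨c, ⟨hc, ec⟩, -⟩ := hreg β (g • α) hβα e
        rw [hsame g (c * y) (by rw [← ec, mul_smul]), ← cj_cj] at hga
        obtain ⟨w, hw, ew⟩ := hga
        change c * w * c⁻¹ = _ at ew
        exact ew ▸ mul_mem (mul_mem (Subgroup.mem_sup_left hc) (Subgroup.mem_sup_right hw)) (inv_mem (Subgroup.mem_sup_left hc))
    · refine sup_le (Subgroup.le_normalClosure) ?_
      rintro _ ⟨a, ha, rfl⟩
      exact (Subgroup.normalClosure_normal).conj_mem _ (Subgroup.subset_normalClosure ha) y)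

end Cfsg.Agent.S5015
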