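import Cfsg.Statements.S5016
import Cfsg.Agent.Inv.RankOne

set_option autoImplicit false
open Cfsg

namespace Cfsg.Agent.S5016

theorem aux_U (k : Type*) [Field k] : ∃ f : k → Matrix.SpecialLinearGroup (Fin 2) k,
    (∀ x, ((f x : Matrix (Fin 2) (Fin 2) k)) = !![1, x; 0, 1]) ∧ (∀ x y, f (x + y) = f x * f y) ∧
    ∀ g, g ∈ Cfsg.upperUnipotentSL2 k ↔ ∃ x, g = f x := by
  let f : k → Matrix.SpecialLinearGroup (Fin 2) k := fun x => ⟨!![1, x; 0, 1], by simp [Matrix.det_fin_two]⟩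
  have hf : ∀ x, (f x : Matrix (Fin 2) (Fin 2) k) = !![1, x; 0, 1] := fun _ => rfl
  have hadd : ∀ x y, f (x + y) = f x * f y := fun x y => by
    apply Subtype.ext
    rw [Matrix.SpecialLinearGroup.coe_mul, hf, hf, hf]
    ext i j; fin_cases i <;> fin_cases j <;> simp [Matrix.mul_apply, Fin.sum_univ_two, add_comm]
  refine ⟨f, hf, hadd, fun g => ⟨fun hg => ?_, ?_⟩⟩
  · induction hg using Subgroup.closure_induction with
    | mem g hg =>
      refine ⟨g.1 0 1, Subtype.ext ?_⟩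
      ext i j; fin_cases i <;> fin_cases j <;> simp [hf, hg.1, hg.2.1, hg.2.2]
    | one => exact ⟨0, Subtype.ext (by rw [hf]; simp [Matrix.one_fin_two])⟩
    | mul a b _ _ ha hb => obtain ⟨x, rfl⟩ := ha; obtain ⟨y, rfl⟩ := hb; exact ⟨x + y, (hadd x y).symm⟩
    | inv a _ ha =>
      obtain ⟨x, rfl⟩ := ha
      refine ⟨-x, inv_eq_of_mul_eq_one_right ?_⟩
      rw [← hadd, add_neg_cancel]
      exact Subtype.ext (by rw [hf]; simp [Matrix.one_fin_two])
  · rintro ⟨x, rfl⟩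
    exact Subgroup.subset_closure (by simp [hf])

theorem aux_L (k : Type*) [Field k] : ∃ f : k → Matrix.SpecialLinearGroup (Fin 2) k,
    (∀ x, ((f x : Matrix (Fin 2) (Fin 2) k)) = !![1, 0; x, 1]) ∧ (∀ x y, f (x + y) = f x * f y) ∧
    ∀ g, g ∈ Cfsg.lowerUnipotentSL2 k ↔ ∃ x, g = f x := by
  let f : k → Matrix.SpecialLinearGroup (Fin 2) k := fun x => ⟨!![1, 0; x, 1], by simp [Matrix.det_fin_two]⟩
  have hf : ∀ x, (f x : Matrix (Fin 2) (Fin 2) k) = !![1, 0; x, 1] := fun _ => rfl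
  have hadd : ∀ x y, f (x + y) = f x * f y := fun x y => by
    apply Subtype.ext
    rw [Matrix.SpecialLinearGroup.coe_mul, hf, hf, hf]
    ext i j; fin_cases i <;> fin_cases j <;> simp [Matrix.mul_apply, Fin.sum_univ_two]
  refine ⟨f, hf, hadd, fun g => ⟨fun hg => ?_, ?_⟩⟩
  · induction hg using Subgroup.closure_induction with
    | mem g hg =>
      refine ⟨g.1 1 0, Subtype.ext ?_⟩
      ext i j; fin_cases i <;> fin_cases j <;> simp [hf, hg.1, hg.2.1, hg.2.2]
    | one => exact ⟨0, Subtype.ext (by rw [hf]; simp [Matrix.one_fin_two])⟩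
    | mul a b _ _ ha hb => obtain ⟨x, rfl⟩ := ha; obtain ⟨y, rfl⟩ := hb; exact ⟨x + y, (hadd x y).symm⟩
    | inv a _ ha =>
      obtain ⟨x, rfl⟩ := ha
      refine ⟨-x, inv_eq_of_mul_eq_one_right ?_⟩
      rw [← hadd, add_neg_cancel]
      exact Subtype.ext (by rw [hf]; simp [Matrix.one_fin_two])
  · rintro ⟨x, rfl⟩
    exact Subgroup.subset_closure (by simp [hf])

/-- For any field k, the special linear group SL₂(k) is a special rank one group with abelian unipotent subgroups, the unipotent subgroups being the group of lower unitriangular matrices and the group of upper unitriangular matrices. -/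
theorem result (k : Type*) [Field k] :
    Cfsg.IsRankOneGroup (Matrix.SpecialLinearGroup (Fin 2) k) (Cfsg.lowerUnipotentSL2 k) (Cfsg.upperUnipotentSL2 k) ∧
    Cfsg.IsSpecialRankOnePair (Cfsg.lowerUnipotentSL2 k) (Cfsg.upperUnipotentSL2 k) ∧
    Cfsg.HasAbelianUnipotents (Cfsg.lowerUnipotentSL2 k) (Cfsg.upperUnipotentSL2 k) := by
  open CfsgLib.Inv.RankOne in
  exact (by
    obtain ⟨u, hu, hu2, hU⟩ := aux_U k
    obtain ⟨l, hl, hl2, hL⟩ := aux_L k
    have hu0 : u 0 = 1 := Subtype.ext (by rw [hu]; simp [Matrix.one_fin_two])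
    have hl0 : l 0 = 1 := Subtype.ext (by rw [hl]; simp [Matrix.one_fin_two])
    have huinv : ∀ x, (u x)⁻¹ = u (-x) := fun x => inv_eq_of_mul_eq_one_right (by rw [← hu2, add_neg_cancel, hu0])
    have hlinv : ∀ x, (l x)⁻¹ = l (-x) := fun x => inv_eq_of_mul_eq_one_right (by rw [← hl2, add_neg_cancel, hl0])
    have hlu : ∀ x y t : k, x * y = 1 → l x * u (-y) * l t = u (-(t * y ^ 2)) * (l x * u (-y)) := fun x y t hxy => by
      apply Subtype.ext
      simp only [Matrix.SpecialLinearGroup.coe_mul, hu, hl]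
      ext i j; fin_cases i <;> fin_cases j <;> simp [Matrix.mul_apply, Fin.sum_univ_two] <;> grind
    have hul : ∀ x y t : k, x * y = 1 → u y * l (-x) * u t = l (-(t * x ^ 2)) * (u y * l (-x)) := fun x y t hxy => by
      apply Subtype.ext
      simp only [Matrix.SpecialLinearGroup.coe_mul, hu, hl]
      ext i j; fin_cases i <;> fin_cases j <;> simp [Matrix.mul_apply, Fin.sum_univ_two] <;> grind
    have hbraid : ∀ x y : k, x * y = 1 → l x * u (-y) * l x = u (-y) * l x * u (-y) := fun x y hxy => by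
      apply Subtype.ext
      simp only [Matrix.SpecialLinearGroup.coe_mul, hu, hl]
      ext i j; fin_cases i <;> fin_cases j <;> simp [Matrix.mul_apply, Fin.sum_univ_two] <;> grind
    have hne : Cfsg.lowerUnipotentSL2 k ≠ Cfsg.upperUnipotentSL2 k := by
      intro e
      obtain ⟨x, hx⟩ := (hU (l 1)).1 (e ▸ (hL _).2 ⟨1, rfl⟩)
      have h := congrArg (fun g : Matrix.SpecialLinearGroup (Fin 2) k => (g : Matrix (Fin 2) (Fin 2) k) 1 0) hx
      simp [hu, hl] at h
    have hLc : IsMulCommutative (Cfsg.lowerUnipotentSL2 k) := ⟨⟨by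
      rintro ⟨a, ha⟩ ⟨b, hb⟩
      obtain ⟨x, rfl⟩ := (hL a).1 ha
      obtain ⟨y, rfl⟩ := (hL b).1 hb
      exact Subtype.ext (by show l x * l y = l y * l x; rw [← hl2, ← hl2, add_comm])⟩⟩
    have hUc : IsMulCommutative (Cfsg.upperUnipotentSL2 k) := ⟨⟨by
      rintro ⟨a, ha⟩ ⟨b, hb⟩
      obtain ⟨x, rfl⟩ := (hU a).1 ha
      obtain ⟨y, rfl⟩ := (hU b).1 hb
      exact Subtype.ext (by show u x * u y = u y * u x; rw [← hu2, ← hu2, add_comm])⟩⟩
    have hrel : ∀ x y : k, x * y = 1 →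
        Cfsg.conjBy (Cfsg.lowerUnipotentSL2 k) (u y)⁻¹ = Cfsg.conjBy (Cfsg.upperUnipotentSL2 k) (l x)⁻¹ := fun x y hxy => by
      refine cj_inj (g := l x) ?_
      rw [cj_cj_inv, cj_cj, huinv]
      ext g
      rw [mem_cj, hL, hU]
      have hy : y ≠ 0 := fun h => by simp [h] at hxy
      constructor
      · rintro ⟨t, ht⟩
        refine ⟨-(t * y ^ 2), ?_⟩
        calc g = l x * u (-y) * ((l x * u (-y))⁻¹ * g * (l x * u (-y))) * (l x * u (-y))⁻¹ := by group
          _ = l x * u (-y) * l t * (l x * u (-y))⁻¹ := by rw [ht]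
          _ = u (-(t * y ^ 2)) := by rw [hlu x y t hxy, mul_inv_cancel_right]
      · rintro ⟨s, rfl⟩
        refine ⟨-(s * x ^ 2), ?_⟩
        rw [mul_assoc, inv_mul_eq_iff_eq_mul, hlu x y _ hxy]
        congr 2
        linear_combination (-(s * (1 + x * y))) * hxy
    have hrk : Cfsg.IsRankOnePair (Cfsg.lowerUnipotentSL2 k) (Cfsg.upperUnipotentSL2 k) := by
      refine ⟨hne, ?_, ?_, fun a ha ha1 => ?_, fun b hb hb1 => ?_⟩
      · exact @CommGroup.isNilpotent _ { (inferInstance : Group (Cfsg.lowerUnipotentSL2 k)) with mul_comm := hLc.is_comm.comm }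
      · exact @CommGroup.isNilpotent _ { (inferInstance : Group (Cfsg.upperUnipotentSL2 k)) with mul_comm := hUc.is_comm.comm }
      · obtain ⟨x, rfl⟩ := (hL a).1 ha
        have hx : x ≠ 0 := fun h => ha1 (h ▸ hl0)
        refine ⟨u x⁻¹, (hU _).2 ⟨_, rfl⟩, fun e => ?_, hrel x x⁻¹ (mul_inv_cancel₀ hx)⟩
        have h := congrArg (fun g : Matrix.SpecialLinearGroup (Fin 2) k => (g : Matrix (Fin 2) (Fin 2) k) 0 1) e
        simp [hu, hx] at h
      · obtain ⟨y, rfl⟩ := (hU b).1 hb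
        have hy : y ≠ 0 := fun h => hb1 (h ▸ hu0)
        refine ⟨l y⁻¹, (hL _).2 ⟨_, rfl⟩, fun e => ?_, (hrel y⁻¹ y (inv_mul_cancel₀ hy)).symm⟩
        have h := congrArg (fun g : Matrix.SpecialLinearGroup (Fin 2) k => (g : Matrix (Fin 2) (Fin 2) k) 1 0) e
        simp [hl, hy] at h
    refine ⟨⟨?_, hrk⟩, ⟨hrk, fun a ha ha1 b hb hb1 e => ?_⟩, hLc, hUc⟩
    · set T := Cfsg.lowerUnipotentSL2 k ⊔ Cfsg.upperUnipotentSL2 k
      have hl' : ∀ x, l x ∈ T := fun x => Subgroup.mem_sup_left ((hL _).2 ⟨x, rfl⟩)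
      have hu' : ∀ x, u x ∈ T := fun x => Subgroup.mem_sup_right ((hU _).2 ⟨x, rfl⟩)
      have main : ∀ g : Matrix.SpecialLinearGroup (Fin 2) k, (g : Matrix (Fin 2) (Fin 2) k) 1 0 ≠ 0 → g ∈ T := by
        intro g hc
        have hd := g.2
        rw [Matrix.det_fin_two] at hd
        have e : g = u (((g : Matrix (Fin 2) (Fin 2) k) 0 0 - 1) / (g : Matrix (Fin 2) (Fin 2) k) 1 0) *
            l ((g : Matrix (Fin 2) (Fin 2) k) 1 0) *
            u (((g : Matrix (Fin 2) (Fin 2) k) 1 1 - 1) / (g : Matrix (Fin 2) (Fin 2) k) 1 0) := by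
          apply Subtype.ext
          simp only [Matrix.SpecialLinearGroup.coe_mul, hu, hl]
          ext i j; fin_cases i <;> fin_cases j <;> simp [Matrix.mul_apply, Fin.sum_univ_two] <;> field_simp <;> first | ring1 | linear_combination hd | linear_combination -hd
        rw [e]
        exact mul_mem (mul_mem (hu' _) (hl' _)) (hu' _)
      refine eq_top_iff.2 fun g _ => ?_
      by_cases hc : (g : Matrix (Fin 2) (Fin 2) k) 1 0 = 0
      · have hd := g.2
        rw [Matrix.det_fin_two, hc, mul_zero, sub_zero] at hd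
        have h1 : l 1 * g ∈ T := main _ (by
          simp [Matrix.mul_apply, Fin.sum_univ_two, hl, hc, left_ne_zero_of_mul (hd.trans_ne one_ne_zero)])
        simpa using mul_mem (inv_mem (hl' 1)) h1
      · exact main g hc
    · obtain ⟨x, rfl⟩ := (hL a).1 ha
      obtain ⟨y, rfl⟩ := (hU b).1 hb
      have hx : x ≠ 0 := fun h => ha1 (h ▸ hl0)
      have h2 := hrel x x⁻¹ (mul_inv_cancel₀ hx)
      have hy : u y = u x⁻¹ := inv_injective (reg_inj (Cfsg.RankOnePair_symm hrk)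
        (inv_mem ((hU _).2 ⟨_, rfl⟩)) (inv_mem ((hU _).2 ⟨_, rfl⟩)) (e.trans h2.symm))
      rw [hy, huinv, hlinv]
      have := hbraid x x⁻¹ (mul_inv_cancel₀ hx)
      have e2 : u x⁻¹ = (u (-x⁻¹))⁻¹ := by rw [huinv, neg_neg]
      calc u (-x⁻¹) * l x * u x⁻¹ = (l (-x) * l x) * (u (-x⁻¹) * l x * u x⁻¹) := by rw [← hl2, neg_add_cancel, hl0, one_mul]
        _ = l (-x) * (l x * u (-x⁻¹) * l x) * u x⁻¹ := by group
        _ = l (-x) * (u (-x⁻¹) * l x * u (-x⁻¹)) * (u (-x⁻¹))⁻¹ := by rw [this, e2]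
        _ = l (-x) * u (-x⁻¹) * l x := by group)

end Cfsg.Agent.S5016
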