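import Cfsg.Statements.S5018
import Cfsg.Agent.Inv.RankOne

set_option autoImplicit false
open Cfsg

namespace Cfsg.Agent.S5018

/-- A rank one group is not nilpotent, and its second centre equals its centre. -/
theorem result {X : Type*} [Group X] {A B : Subgroup X} (h : Cfsg.IsRankOneGroup X A B) :
    Subgroup.upperCentralSeries X 2 = Subgroup.center X ∧ ¬ Group.IsNilpotent X := by
  open CfsgLib.Inv.RankOne in
  open scoped commutatorElement in
  exact (by
    obtain ⟨htop, h⟩ := h
    have hX : ∀ x : X, x ∈ A ⊔ B := fun x => htop.ge (Subgroup.mem_top x)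
    have h2 : Subgroup.upperCentralSeries X 2 = Subgroup.center X := by
      refine le_antisymm (fun z hz => ?_) ?_
      · have hzc : ∀ g, ⁅z, g⁆ ∈ Subgroup.center X := fun g => by
          simpa [Subgroup.upperCentralSeries_one] using (Subgroup.mem_upperCentralSeries_succ_iff (n := 1)).1 hz g
        have hall : ∀ g : X, Cfsg.conjBy A (g * z * g⁻¹) = Cfsg.conjBy A z := fun g => by
          have e : g * z * g⁻¹ = z * ⁅z⁻¹, g⁆ := by rw [commutatorElement_def]; group
          have hzi : ⁅z⁻¹, g⁆ ∈ Subgroup.center X := by
            have := inv_mem ((inferInstance : (Subgroup.center X).Normal).conj_mem _ (hzc g) z⁻¹)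
            simpa [commutatorElement_def, mul_assoc] using this
          rw [e, ← cj_cj]
          congr 1
          exact cj_of_comm fun a _ => (Subgroup.mem_center_iff.1 hzi a).symm
        have hfix : Cfsg.conjBy A z = A := by
          by_contra hne
          obtain ⟨a, ha, ha1⟩ := (Subgroup.bot_or_exists_ne_one A).resolve_left (ne_bot_left h)
          refine hne (fix_left h ha ha1 (cj_unip (self_mem h) (hX z)) ?_)
          calc Cfsg.conjBy (Cfsg.conjBy A z) a = Cfsg.conjBy (Cfsg.conjBy A z) (a * 1) := by rw [mul_one]
            _ = Cfsg.conjBy A (a * z * a⁻¹) := by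
              rw [mul_one, cj_cj]; conv_rhs => rw [← cj_cj, cj_of_mem (inv_mem ha)]
            _ = Cfsg.conjBy A z := hall a
        refine Subgroup.mem_center_iff.2 fun x => (kernel_central h (fun C hC => ?_) x (hX x)).symm
        obtain ⟨g, -, rfl⟩ := hC
        rw [cj_cj, show z * g = g * (g⁻¹ * z * g) by group, ← cj_cj]
        congr 1
        rw [show g⁻¹ * z * g = g⁻¹ * z * g⁻¹⁻¹ by rw [inv_inv], hall, hfix]
      · rw [← Subgroup.upperCentralSeries_one]
        exact Subgroup.upperCentralSeries_mono X (by norm_num)
    refine ⟨h2, fun hnil => ?_⟩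
    have hconst : ∀ k, Subgroup.upperCentralSeries X (k + 1) = Subgroup.center X := by
      intro k
      induction k with
      | zero => exact Subgroup.upperCentralSeries_one X
      | succ k ih =>
        rw [← h2]
        ext x
        rw [Subgroup.mem_upperCentralSeries_succ_iff, Subgroup.mem_upperCentralSeries_succ_iff, ih,
          Subgroup.upperCentralSeries_one]
    obtain ⟨k, hk⟩ := hnil.nilpotent'
    have hle := Subgroup.upperCentralSeries_mono X (Nat.le_succ k)
    rw [hk, hconst, top_le_iff] at hle
    obtain ⟨x, -, e⟩ := other_mem h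
    exact h.ne (by rw [e]; exact (cj_of_comm fun a _ => (Subgroup.mem_center_iff.1 (hle.ge (Subgroup.mem_top x)) a).symm).symm))

end Cfsg.Agent.S5018
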