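import Cfsg.Statements.S5022
import Cfsg.Agent.Inv.RankOneSpecial
import Cfsg.Agent.Inv.SL2Rel

set_option autoImplicit false
set_option linter.style.haveILetI false
open Cfsg
open CfsgLib.Inv
open CfsgLib.Inv.SL2Fpf (u v val_u val_v ext2)

namespace Cfsg.Agent.S5022

/-- Two paired root elements generate `SL₂(p)` or `PSL₂(p)`. -/
theorem result {X : Type*} [Group X] {A B : Subgroup X} (h : Cfsg.IsRankOneGroup X A B)
    (hs : Cfsg.IsSpecialRankOnePair A B) (hab : Cfsg.HasAbelianUnipotents A B)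
    {p : ℕ} [Fact p.Prime] (hA : Cfsg.IsElementaryAbelian p A)
    {a b : X} (ha : a ∈ A) (ha1 : a ≠ 1) (hb : b ∈ B) (hb1 : b ≠ 1) (hab' : Cfsg.conjBy A b⁻¹ = Cfsg.conjBy B a⁻¹) :
    Nonempty (↥(Subgroup.closure ({a, b} : Set X)) ≃* Matrix.SpecialLinearGroup (Fin 2) (ZMod p)) ∨
    Nonempty (↥(Subgroup.closure ({a, b} : Set X)) ≃* Matrix.ProjectiveSpecialLinearGroup (Fin 2) (ZMod p)) := by
  have hrel : RankOne.Rel A B a b := ⟨ha, ha1, hb, hb1, hab'⟩
  have hap : a ^ p = 1 := hA.2 a ha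
  have hbp : b ^ p = 1 := (RankOne.pow_eq_one_iff_rel hs hrel p).1 hap
  have hoa : orderOf a = p := orderOf_eq_prime hap ha1
  have hob : orderOf b = p := orderOf_eq_prime hbp hb1
  have hadd : ∀ g : X, g ^ p = 1 → ∀ c d : ZMod p, g ^ (c + d).val = g ^ c.val * g ^ d.val := fun g hg c d => by
    rw [← pow_add, ZMod.val_add]
    conv_rhs => rw [← Nat.div_add_mod (c.val + d.val) p, pow_add, pow_mul, hg, one_pow, one_mul]
  have hne : ∀ g : X, orderOf g = p → ∀ c : ZMod p, g ^ c.val = 1 → c = 0 := fun g hg c hc => by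
    have hd := orderOf_dvd_of_pow_eq_one hc
    rw [hg] at hd
    exact (ZMod.val_eq_zero c).1 (Nat.eq_zero_of_dvd_of_lt hd (ZMod.val_lt c))
  have hbraid : ∀ t : ZMod p, t ≠ 0 →
      a ^ t.val * b ^ (-t⁻¹).val * a ^ t.val = b ^ (-t⁻¹).val * a ^ t.val * b ^ (-t⁻¹).val := by
    intro t ht
    set m := (t⁻¹).val with hm
    have hbm : b ^ m ≠ 1 := fun e => inv_ne_zero ht (hne b hob _ e)
    obtain ⟨e, he⟩ := RankOne.rel_exists (RankOnePair_symm hs.1) (pow_mem hb m) hbm
    have hem := RankOne.root_pow m hs hab.1 hab.2 hrel he.symm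
    have hep : e ^ p = 1 := hA.2 e he.symm.1
    have hk : a ^ t.val = e := by
      rw [← hem, ← pow_mul]
      have h1 : ((m * t.val : ℕ) : ZMod p) = ((1 : ℕ) : ZMod p) := by
        rw [Nat.cast_mul, Nat.cast_one, hm, ZMod.natCast_zmod_val, ZMod.natCast_zmod_val, inv_mul_cancel₀ ht]
      rw [ZMod.natCast_eq_natCast_iff'] at h1
      rw [← Nat.div_add_mod (m * t.val) p, pow_add, pow_mul, hep, one_pow, one_mul, h1,
        Nat.mod_eq_of_lt (Fact.out : p.Prime).one_lt, pow_one]
    have hr : RankOne.Rel A B (a ^ t.val) (b ^ m) := hk ▸ he.symm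
    have hneg : b ^ (-t⁻¹).val = (b ^ m)⁻¹ := eq_inv_of_mul_eq_one_left (by
      rw [hm, ← hadd b hbp, neg_add_cancel, ZMod.val_zero, pow_zero])
    rw [hneg]
    exact RankOne.braid hs hr
  let P : SL2Rel.Pair p X :=
    { x := fun c => a ^ c.val
      y := fun c => b ^ c.val
      x_add := hadd a hap
      y_add := hadd b hbp
      braid := hbraid }
  obtain ⟨φ, hφr, hφ⟩ := P.exists_hom
  have hcl : φ.range = Subgroup.closure ({a, b} : Set X) := by
    rw [hφr]
    refine le_antisymm ((Subgroup.closure_le _).2 ?_) ((Subgroup.closure_le _).2 ?_)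
    · rintro _ (⟨c, rfl⟩ | ⟨c, rfl⟩)
      · exact Subgroup.pow_mem _ (Subgroup.subset_closure (k := ({a, b} : Set X)) (Or.inl rfl)) _
      · exact Subgroup.pow_mem _ (Subgroup.subset_closure (k := ({a, b} : Set X)) (Or.inr rfl)) _
    · rintro _ (rfl | rfl)
      · exact Subgroup.subset_closure (Or.inl ⟨1, by show _ ^ (1 : ZMod p).val = _; rw [ZMod.val_one, pow_one]⟩)
      · exact Subgroup.subset_closure (Or.inr ⟨1, by show _ ^ (1 : ZMod p).val = _; rw [ZMod.val_one, pow_one]⟩)
  have hxinj : ∀ c d : ZMod p, φ (u c) = φ (u d) → c = d := fun c d e => by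
    rw [(hφ c).1, (hφ d).1] at e
    have h1 : P.x (c - d) = 1 := by
      have h2 := P.x_add (c - d) d
      rw [sub_add_cancel, e] at h2
      exact right_eq_mul.1 h2
    exact sub_eq_zero.1 (hne a hoa _ h1)
  have hker : ∀ k : Matrix.SpecialLinearGroup (Fin 2) (ZMod p), φ k = 1 →
      (k 0 0 = k 1 1 ∧ k 0 1 = 0 ∧ k 1 0 = 0 ∧ (k 0 0 = 1 ∨ k 0 0 = -1)) := by
    intro k hk
    have hdet : k 0 0 * k 1 1 - k 0 1 * k 1 0 = 1 := by rw [← Matrix.det_fin_two]; exact k.2
    by_cases hc : k 1 0 = 0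
    · rw [hc, mul_zero, sub_zero] at hdet
      have hcomm : k * u 1 = u (k 0 0 * k 0 0) * k := by
        apply ext2 <;> simp [val_u, Matrix.mul_apply, Fin.sum_univ_two, hc] <;> linear_combination -(k 0 0) * hdet
      have h1 : k 0 0 * k 0 0 = 1 := by
        refine (hxinj _ _ ?_).symm
        have := congrArg φ hcomm
        rwa [map_mul, map_mul, hk, one_mul, mul_one] at this
      have h11 : k 1 1 = k 0 0 := by linear_combination (k 0 0) * hdet - (k 1 1) * h1
      have h01 : k 0 1 = 0 := by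
        rcases mul_self_eq_one_iff.1 h1 with h0 | h0
        · have e : k = u (k 0 1) := by apply ext2 <;> simp [val_u, hc, h0, h11]
          have h2 : φ (u (k 0 1)) = φ (u 0) := by rw [← e, hk, SL2Fpf.u_zero, map_one]
          exact hxinj _ _ h2
        · by_cases h2' : (2 : ZMod p) = 0
          · have h0' : k 0 0 = 1 := by rw [h0]; linear_combination -h2'
            have e : k = u (k 0 1) := by apply ext2 <;> simp [val_u, hc, h0', h11]
            have h2 : φ (u (k 0 1)) = φ (u 0) := by rw [← e, hk, SL2Fpf.u_zero, map_one]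
            exact hxinj _ _ h2
          · have e : k * k = u (-(2 * k 0 1)) := by
              apply ext2 <;> simp [val_u, Matrix.mul_apply, Fin.sum_univ_two, hc, h0, h11] <;> ring
            have h2 : φ (u (-(2 * k 0 1))) = φ (u 0) := by rw [← e, map_mul, hk, mul_one, SL2Fpf.u_zero, map_one]
            have h3 := hxinj _ _ h2
            rw [neg_eq_zero] at h3
            exact (mul_eq_zero.1 h3).resolve_left h2'
      exact ⟨h11.symm, h01, hc, mul_self_eq_one_iff.1 h1⟩
    · exfalso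
      set k' := u (-(k 0 0 / k 1 0)) * k * u (k 0 0 / k 1 0) with hk'
      have hk'1 : φ k' = 1 := by
        rw [hk', map_mul, map_mul, hk, mul_one, ← map_mul, ← SL2Fpf.u_add, neg_add_cancel, SL2Fpf.u_zero, map_one]
      have h00 : k' 0 0 = 0 := by
        simp [hk', val_u, Matrix.mul_apply, Matrix.vecMul, dotProduct, Fin.sum_univ_two]; field_simp; ring
      clear_value k'
      have hdet' : k' 0 0 * k' 1 1 - k' 0 1 * k' 1 0 = 1 := by rw [← Matrix.det_fin_two]; exact k'.2
      rw [h00, zero_mul, zero_sub] at hdet'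
      have e : k' * u 1 = v (-(k' 1 0 * k' 1 0)) * k' := by
        apply ext2 <;> simp [val_u, val_v, Matrix.mul_apply, Fin.sum_univ_two, h00] <;> linear_combination -(k' 1 0) * hdet'
      have h2 := congrArg φ e
      rw [map_mul, map_mul, hk'1, one_mul, mul_one, (hφ 1).1, (hφ _).2] at h2
      have hx1 : P.x 1 = a := by show a ^ (1 : ZMod p).val = a; rw [ZMod.val_one, pow_one]
      rw [hx1] at h2
      have haB : a ∈ B := h2 ▸ pow_mem hb _
      exact ha1 (RankOne.inf_norm hs.1 ha (RankOne.cj_of_mem haB))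
  by_cases hinj : φ.ker = ⊥
  · exact Or.inl ⟨(MulEquiv.subgroupCongr hcl.symm).trans (MonoidHom.ofInjective ((MonoidHom.ker_eq_bot_iff φ).1 hinj)).symm⟩
  right
  have hk : φ.ker = Subgroup.center (Matrix.SpecialLinearGroup (Fin 2) (ZMod p)) := by
    have hle : φ.ker ≤ Subgroup.center (Matrix.SpecialLinearGroup (Fin 2) (ZMod p)) := fun k hk => by
      obtain ⟨h11, h01, h10, -⟩ := hker k hk
      rw [Subgroup.mem_center_iff]
      intro g
      apply ext2 <;> simp [Matrix.mul_apply, Fin.sum_univ_two, h01, h10, ← h11, mul_comm]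
    refine le_antisymm hle fun c hc => ?_
    obtain ⟨k, hk, hk1⟩ := φ.ker.bot_or_exists_ne_one.resolve_left hinj
    obtain ⟨h11, h01, h10, h00⟩ := hker k hk
    have hkm : k 0 0 = -1 := h00.resolve_left fun e => hk1 (by apply ext2 <;> simp [e, ← h11, h01, h10])
    obtain ⟨r, hr, hrc⟩ := Matrix.SpecialLinearGroup.mem_center_iff.1 hc
    rw [Fintype.card_fin, pow_two] at hr
    have hc00 : c 0 0 = r ∧ c 1 1 = r ∧ c 0 1 = 0 ∧ c 1 0 = 0 := by simp [← hrc]
    rcases mul_self_eq_one_iff.1 hr with e | e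
    · rw [show c = 1 by apply ext2 <;> simp [hc00, e]]; exact one_mem _
    · rw [show c = k by apply ext2 <;> simp [hc00, e, hkm, ← h11, h01, h10]]; exact hk
  exact ⟨(MulEquiv.subgroupCongr hcl.symm).trans
    ((QuotientGroup.quotientKerEquivRange φ).symm.trans (QuotientGroup.quotientMulEquivOfEq hk))⟩

end Cfsg.Agent.S5022
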