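import Cfsg.Statements.S5026
import Cfsg.Agent.Inv.RootSet

set_option autoImplicit false
open Cfsg

namespace Cfsg.Agent.S5026

/-- Let S be a degenerate set of abstract root subgroups of G (a set of abstract transvection groups) and let a, b be commuting non-identity elements of members of S with a b ≠ 1. Then the members of S centralizing a b are exactly those centralizing both a and b. -/
theorem result {G : Type*} [Group G] {S : Set (Subgroup G)} (hS : Cfsg.IsRootSubgroupSet S) (hdeg : Cfsg.IsDegenerateRootSet S)
    {a b : G} (ha : a ∈ Cfsg.rootElements S) (hb : b ∈ Cfsg.rootElements S) (hab : a * b = b * a) (hab1 : a * b ≠ 1) :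
    Cfsg.centralizingMembers S (Subgroup.zpowers (a * b)) =
      Cfsg.centralizingMembers S (Subgroup.zpowers a) ∩ Cfsg.centralizingMembers S (Subgroup.zpowers b) := by
  open CfsgLib.Inv.RootSet in
  exact (by
    ext C
    have hz : ∀ (x : G), C ≤ Subgroup.centralizer (Subgroup.zpowers x : Set G) ↔ ∀ c ∈ C, c * x = x * c := fun x =>
      ⟨fun h c hc => (h hc x (Subgroup.mem_zpowers x)).symm, fun h c hc y hy => by
        obtain ⟨k, rfl⟩ := hy
        exact ((Commute.zpow_right (h c hc : Commute c x) k).eq).symm⟩
    simp only [Cfsg.centralizingMembers, Set.mem_inter_iff, Set.mem_setOf_eq, hz]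
    constructor
    · rintro ⟨hC, h⟩
      refine ⟨⟨hC, centralizes_of_product hS hdeg ha hb hab hab1 hC h⟩, hC, ?_⟩
      exact centralizes_of_product hS hdeg hb ha hab.symm (hab ▸ hab1) hC (hab ▸ h)
    · rintro ⟨⟨hC, h1⟩, -, h2⟩
      exact ⟨hC, fun c hc => by rw [← mul_assoc, h1 c hc, mul_assoc, h2 c hc, mul_assoc]⟩)

end Cfsg.Agent.S5026
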