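import Cfsg.Statements.S5043
import Cfsg.Agent.Inv.TransvectionSL

set_option autoImplicit false
open Matrix
open Cfsg

namespace Cfsg.Agent.S5043

open Matrix CfsgLib.Inv.TSL

/-- Let k be a field and n a natural number. In SL_{n+3}(k) (so in every dimension at least 3) the conjugates of the root subgroup of elementary transvections 1 + c E₁₂ (c ∈ k) — that is, the groups of transvections attached to an incident point–hyperplane pair — form a non-degenerate class of abstract k-root subgroups of SL_{n+3}(k) whose graph of rank one pairs is connected. -/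
theorem result (k : Type*) [Field k] (n : ℕ) :
    Cfsg.IsRootSubgroupClass {A : Subgroup (Matrix.SpecialLinearGroup (Fin (n + 3)) k) |
        ∃ g : Matrix.SpecialLinearGroup (Fin (n + 3)) k,
          A = Cfsg.conjBy (Subgroup.closure {t : Matrix.SpecialLinearGroup (Fin (n + 3)) k |
            ∃ c : k, (t : Matrix (Fin (n + 3)) (Fin (n + 3)) k) = Matrix.transvection 0 1 c}) g} ∧
    Cfsg.IsNondegenerateRootSet {A : Subgroup (Matrix.SpecialLinearGroup (Fin (n + 3)) k) |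
        ∃ g : Matrix.SpecialLinearGroup (Fin (n + 3)) k,
          A = Cfsg.conjBy (Subgroup.closure {t : Matrix.SpecialLinearGroup (Fin (n + 3)) k |
            ∃ c : k, (t : Matrix (Fin (n + 3)) (Fin (n + 3)) k) = Matrix.transvection 0 1 c}) g} ∧
    Cfsg.IsKRootSubgroupSet k {A : Subgroup (Matrix.SpecialLinearGroup (Fin (n + 3)) k) |
        ∃ g : Matrix.SpecialLinearGroup (Fin (n + 3)) k,
          A = Cfsg.conjBy (Subgroup.closure {t : Matrix.SpecialLinearGroup (Fin (n + 3)) k |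
            ∃ c : k, (t : Matrix (Fin (n + 3)) (Fin (n + 3)) k) = Matrix.transvection 0 1 c}) g} ∧
    Cfsg.IsConnectedFamily (Cfsg.FAdj {A : Subgroup (Matrix.SpecialLinearGroup (Fin (n + 3)) k) |
        ∃ g : Matrix.SpecialLinearGroup (Fin (n + 3)) k,
          A = Cfsg.conjBy (Subgroup.closure {t : Matrix.SpecialLinearGroup (Fin (n + 3)) k |
            ∃ c : k, (t : Matrix (Fin (n + 3)) (Fin (n + 3)) k) = Matrix.transvection 0 1 c}) g})
      {A : Subgroup (Matrix.SpecialLinearGroup (Fin (n + 3)) k) |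
        ∃ g : Matrix.SpecialLinearGroup (Fin (n + 3)) k,
          A = Cfsg.conjBy (Subgroup.closure {t : Matrix.SpecialLinearGroup (Fin (n + 3)) k |
            ∃ c : k, (t : Matrix (Fin (n + 3)) (Fin (n + 3)) k) = Matrix.transvection 0 1 c}) g} := by
  set b : Fin (n + 3) → (Fin (n + 3) → k) := fun i => Pi.single i 1 with hb
  have hne : ∀ i, b i ≠ 0 := fun i => by simp [hb]
  have hdot : ∀ i j, i ≠ j → b i ⬝ᵥ b j = 0 := fun i j hij => by simp [hb, single_dotProduct, hij]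
  have h1 : ∀ i, b i ⬝ᵥ b i = 1 := fun i => by simp [hb, single_dotProduct]
  have h01 : (0 : Fin (n + 3)) ≠ 1 := by simp [Fin.ext_iff]
  have h02 : (0 : Fin (n + 3)) ≠ 2 := by simp [Fin.ext_iff, Nat.mod_eq_of_lt (show 2 < n + 3 by omega)]
  have h12 : (1 : Fin (n + 3)) ≠ 2 := by simp [Fin.ext_iff, Nat.mod_eq_of_lt (show 2 < n + 3 by omega)]
  generalize hSdef : {A : Subgroup (Matrix.SpecialLinearGroup (Fin (n + 3)) k) |
      ∃ g : Matrix.SpecialLinearGroup (Fin (n + 3)) k,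
        A = Cfsg.conjBy (Subgroup.closure {t : Matrix.SpecialLinearGroup (Fin (n + 3)) k |
          ∃ c : k, (t : Matrix (Fin (n + 3)) (Fin (n + 3)) k) = Matrix.transvection 0 1 c}) g} = S
  have hS : ∀ A, A ∈ S ↔ ∃ v φ : Fin (n + 3) → k, v ≠ 0 ∧ φ ≠ 0 ∧ φ ⬝ᵥ v = 0 ∧ A = T v φ := by
    intro A
    rw [← hSdef, Set.mem_setOf_eq, ← T_elementary 0 1 h01]
    constructor
    · rintro ⟨g, rfl⟩
      refine ⟨_, _, fun e => ?_, fun e => ?_, incid_act (hdot 1 0 h01.symm) g, T_conj (hdot 1 0 h01.symm) g⟩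
      · have := congrArg (fun x => ((g⁻¹ : Matrix.SpecialLinearGroup (Fin (n + 3)) k) : Matrix (Fin (n + 3)) (Fin (n + 3)) k) *ᵥ x) e
        simp only [Matrix.mulVec_mulVec, ← Matrix.SpecialLinearGroup.coe_mul, inv_mul_cancel,
          Matrix.SpecialLinearGroup.coe_one, Matrix.one_mulVec, Matrix.mulVec_zero] at this
        exact hne 0 this
      · have := congrArg (fun x => x ᵥ* (g : Matrix (Fin (n + 3)) (Fin (n + 3)) k)) e
        simp only [Matrix.vecMul_vecMul, ← Matrix.SpecialLinearGroup.coe_mul, inv_mul_cancel,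
          Matrix.SpecialLinearGroup.coe_one, Matrix.vecMul_one, Matrix.zero_vecMul] at this
        exact hne 1 this
    · rintro ⟨v, φ, hv, hφ, h, rfl⟩
      obtain ⟨g, hg1, hg2⟩ := exists_move hv hφ h h01 h02 h12
      change φ ᵥ* _ = b 1 at hg2
      refine ⟨g, ?_⟩
      rw [T_conj (hdot 1 0 h01.symm) g, hg1, ← hg2, Matrix.vecMul_vecMul, ← Matrix.SpecialLinearGroup.coe_mul,
        mul_inv_cancel, Matrix.SpecialLinearGroup.coe_one, Matrix.vecMul_one]
  have hmem : ∀ v φ : Fin (n + 3) → k, v ≠ 0 → φ ≠ 0 → φ ⬝ᵥ v = 0 → T v φ ∈ S :=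
    fun v φ hv hφ h => (hS _).2 ⟨v, φ, hv, hφ, h, rfl⟩
  have hroot : Cfsg.IsRootSubgroupSet S := by
    refine ⟨fun A hA => ?_, fun A hA => ?_, ?_, fun A hA g => ?_, fun A hA B hB => ?_⟩
    · obtain ⟨v, φ, hv, hφ, h, rfl⟩ := (hS A).1 hA; exact T_comm h
    · obtain ⟨v, φ, hv, hφ, h, rfl⟩ := (hS A).1 hA; exact T_ne_bot h hv hφ
    · refine CfsgLib.Lie.SLn.eq_top_of_transvection_mem _ fun i j hij c => ?_
      refine le_iSup₂ (f := fun A (_ : A ∈ S) => A) (T (b i) (b j)) (hmem _ _ (hne i) (hne j) (hdot j i hij.symm)) ?_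
      rw [T_elementary i j hij]
      exact Subgroup.subset_closure ⟨c, rfl⟩
    · rw [← hSdef] at hA ⊢
      obtain ⟨g', rfl⟩ := hA
      refine ⟨g * g', ?_⟩
      rw [Cfsg.conjBy, Cfsg.conjBy, Cfsg.conjBy, Subgroup.map_map]
      congr 1
      ext x
      simp [mul_assoc]
    · obtain ⟨v, φ, hv, hφ, h, rfl⟩ := (hS A).1 hA
      obtain ⟨w, ψ, hw, hψ, h', rfl⟩ := (hS B).1 hB
      exact trichotomy S h h' hmem hv hφ hw hψ
  refine ⟨⟨hroot, ⟨T (b 0) (b 1), hmem _ _ (hne 0) (hne 1) (hdot 1 0 h01.symm)⟩, fun A hA B hB => ?_⟩,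
    ⟨?_, ?_, ?_⟩, ⟨hroot, fun A hA B hB hr => ?_⟩, fun A hA B hB => ?_⟩
  · rw [← hSdef] at hA hB
    obtain ⟨g, rfl⟩ := hA
    obtain ⟨g', rfl⟩ := hB
    refine ⟨g' * g⁻¹, ?_⟩
    rw [Cfsg.conjBy, Cfsg.conjBy, Cfsg.conjBy, Subgroup.map_map]
    congr 1
    ext x
    simp [mul_assoc]
  · refine ⟨_, hmem _ _ (hne 0) (hne 2) (hdot 2 0 h02.symm), _, hmem _ _ (hne 1) (hne 2) (hdot 2 1 h12.symm),
      fun e => ?_, T_commute (hdot 2 0 h02.symm) (hdot 2 1 h12.symm) (hdot 2 1 h12.symm) (hdot 2 0 h02.symm)⟩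
    obtain ⟨c, hc⟩ := point_of_eq (hdot 2 0 h02.symm) (hdot 2 1 h12.symm) (hne 2) e
    have := congrFun hc 1
    simp [hb, h01] at this
  · exact ⟨_, hmem _ _ (hne 0) (hne 1) (hdot 1 0 h01.symm), _, hmem _ _ (hne 1) (hne 0) (hdot 0 1 h01),
      rankOne (hdot 1 0 h01.symm) (hdot 0 1 h01) (h1 1) (h1 0)⟩
  · exact ⟨_, hmem _ _ (hne 0) (hne 1) (hdot 1 0 h01.symm), _, hmem _ _ (hne 1) (hne 2) (hdot 2 1 h12.symm),
      case_left S (hdot 1 0 h01.symm) (hdot 2 1 h12.symm) (hdot 2 0 h02.symm) (by rw [h1]; exact one_ne_zero)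
        (hmem _ _ (hne 0) (hne 2) (hdot 2 0 h02.symm))⟩
  · obtain ⟨v, φ, hv, hφ, h, rfl⟩ := (hS A).1 hA
    obtain ⟨w, ψ, hw, hψ, h', rfl⟩ := (hS B).1 hB
    obtain ⟨ha, hb'⟩ := ne_of_rankOne h h' hv hφ hw hψ hr
    exact (rank_pair_of_ne h h' ha hb').2
  · obtain ⟨v, φ, hv, hφ, h, rfl⟩ := (hS A).1 hA
    obtain ⟨w, ψ, hw, hψ, h', rfl⟩ := (hS B).1 hB
    obtain ⟨u, χ, hu, hχ, hχu, r1, r2⟩ := exists_middle h h' hv hφ hw hψ
    exact (Relation.ReflTransGen.single ⟨hA, hmem _ _ hu hχ hχu, r1⟩).tail ⟨hmem _ _ hu hχ hχu, hB, r2⟩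

end Cfsg.Agent.S5043
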