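import Cfsg.Statements.S5045
import Cfsg.Agent.Inv.BaerSuzuki
import Cfsg.Agent.Inv.Dihedral

set_option autoImplicit false
open Cfsg

namespace Cfsg.Agent.S5045

theorem oddAdj_symm {G : Type*} [Group G] {D : Set G} (hD : Cfsg.IsRootInvolutionSet D) :
    ∀ a b : G, Cfsg.OddAdj D a b → Cfsg.OddAdj D b a := by
  rintro a b ⟨ha, hb, hne, ho⟩
  refine ⟨hb, ha, hne.symm, ?_⟩
  have h : orderOf ((a * b)⁻¹) = orderOf (a * b) := orderOf_inv _
  rw [mul_inv_rev, CfsgLib.Inv.invol_inv (hD.orderOf_eq a ha), CfsgLib.Inv.invol_inv (hD.orderOf_eq b hb)] at h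
  rwa [h]

/-- If `a b = c ∈ D` with `a, b` commuting, an odd partner of `a` is an odd partner of `b` or of `c`. -/
theorem triangle {G : Type*} [Group G] {D : Set G} (hD : Cfsg.IsRootInvolutionSet D) {a b x : G} (ha : a ∈ D) (hb : b ∈ D)
    (hab : a * b = b * a) (hc : a * b ∈ D) (hx : Cfsg.OddAdj D a x) :
    Cfsg.OddAdj D b x ∨ Cfsg.OddAdj D (a * b) x := by
  by_contra hcon
  push Not at hcon
  obtain ⟨-, hxD, hax, hodd⟩ := hx
  have key : ∀ u ∈ D, ¬ Cfsg.OddAdj D u x → Commute x (u * x * u⁻¹) := by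
    intro u hu hn
    have hu2 := CfsgLib.Inv.invol_mul_self (hD.orderOf_eq u hu)
    have hx2 := CfsgLib.Inv.invol_mul_self (hD.orderOf_eq x hxD)
    rw [CfsgLib.Inv.invol_inv (hD.orderOf_eq u hu)]
    have hsq : u * x = x * u → Commute x (u * x * u) := fun h => by
      rw [h, mul_assoc, hu2, mul_one]
    rcases hD.pair u hu x hxD with h | h | ⟨h, -⟩
    · exact hsq h
    · rcases eq_or_ne u x with rfl | hne
      · exact hsq rfl
      · exact absurd ⟨hu, hxD, hne, h⟩ hn
    · have h4 : (u * x) ^ 4 = 1 := h ▸ pow_orderOf_eq_one _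
      have h5 : (u * x * u * x) * (u * x * u * x) = 1 := by rw [← h4]; simp only [pow_succ, pow_zero, one_mul, mul_assoc]
      have h6 : (u * x * u * x)⁻¹ = x * (u * x * u) := by
        rw [mul_inv_rev, mul_inv_rev, mul_inv_rev, CfsgLib.Inv.invol_inv (hD.orderOf_eq u hu),
          CfsgLib.Inv.invol_inv (hD.orderOf_eq x hxD)]
        group
      show x * (u * x * u) = u * x * u * x
      rw [← h6]
      exact inv_eq_of_mul_eq_one_right h5
  have h1 := key b hb hcon.1
  have h2 := key (a * b) hc hcon.2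
  have ha2 := CfsgLib.Inv.invol_mul_self (hD.orderOf_eq a ha)
  have hai := CfsgLib.Inv.invol_inv (hD.orderOf_eq a ha)
  set y := b * x * b⁻¹ with hy
  have h2' : Commute (a * x * a⁻¹) y := by
    have h := (SemiconjBy.conj_mk a x).eq
    have e : a * b * x * (a * b)⁻¹ = a * y * a⁻¹ := by rw [hy]; group
    rw [e] at h2
    have h3 := h2.map (MulAut.conj a).toMonoidHom
    simp only [MulEquiv.coe_toMonoidHom, MulAut.conj_apply] at h3
    have e2 : a * (a * y * a⁻¹) * a⁻¹ = y := by
      rw [hai, show a * (a * y * a) * a = (a * a) * y * (a * a) by group, ha2, one_mul, mul_one]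
    rwa [e2] at h3
  have h3 : Commute (a * x) y := by
    have h4 : Commute ((a * x) ^ 2) y := by
      have e : (a * x) ^ 2 = (a * x * a⁻¹) * x := by rw [pow_two, hai]; group
      rw [e]; exact h2'.mul_left h1
    obtain ⟨n, hn⟩ := hodd
    have e : a * x = ((a * x) ^ 2) ^ (n + 1) := by
      rw [← pow_mul, show 2 * (n + 1) = orderOf (a * x) + 1 by omega, pow_succ, pow_orderOf_eq_one, one_mul]
    rw [e]; exact h4.pow_left _
  have h4 : Commute a y := by
    have h5 : Commute ((a * x) * x⁻¹) y := h3.mul_left (h1.inv_left)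
    rwa [mul_inv_cancel_right] at h5
  have ho : Odd (orderOf (a * y)) := by
    have e : a * y = b * (a * x) * b⁻¹ := by rw [hy]; simp only [← mul_assoc, hab]
    rw [e]
    have := MulEquiv.orderOf_eq (MulAut.conj b) (a * x)
    rw [MulAut.conj_apply] at this
    rwa [this]
  have hy2 : y * y = 1 := CfsgLib.Inv.invol_mul_self (CfsgLib.Inv.invol_conj (hD.orderOf_eq x hxD) b)
  have hsq : (a * y) ^ 2 = 1 := by rw [h4.mul_pow, pow_two, pow_two, ha2, hy2, one_mul]
  have h1' : orderOf (a * y) = 1 := Nat.eq_one_of_dvd_coprimes ho.coprime_two_right dvd_rfl (orderOf_dvd_of_pow_eq_one hsq)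
  rw [orderOf_eq_one_iff] at h1'
  have e : b * (a * x) * b⁻¹ = 1 := by
    rw [← h1', hy]; simp only [← mul_assoc, hab]
  rw [conj_eq_one_iff] at e
  exact hax (by rw [← hai]; exact inv_eq_of_mul_eq_one_right e)

theorem pair_two_group {G : Type*} [Group G] {x y : G} (hx : orderOf x = 2) (hy : orderOf y = 2) (h : (x * y) ^ 4 = 1) :
    IsPGroup 2 ↥(Subgroup.closure ({x, y} : Set G)) := by
  intro g
  refine ⟨2, Subtype.ext ?_⟩
  rcases (CfsgLib.Inv.mem_pair_iff hx hy).1 g.2 with ⟨k, hk⟩ | ⟨k, hk⟩
  · show (g : G) ^ 4 = 1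
    rw [hk, ← zpow_natCast, ← zpow_mul, mul_comm, zpow_mul, zpow_natCast, h, one_zpow]
  · show (g : G) ^ 4 = 1
    have e : (g : G) * g = 1 := by rw [hk, CfsgLib.Inv.refl_mul_refl hx hy, sub_self, zpow_zero]
    rw [show (4 : ℕ) = 2 * 2 from rfl, pow_mul, pow_two, pow_two, e, one_mul]

theorem partners_in_component {G : Type*} [Group G] {D : Set G} (hD : Cfsg.IsRootInvolutionSet D) {a b : G}
    (hne : ∃ a', Cfsg.OddAdj D a a') (hb : b ∈ Cfsg.productPartners D a) :
    b ∈ Cfsg.elemComponentOf (Cfsg.OddAdj D) D a ∪ {w | Cfsg.IsIsolatedElem (Cfsg.OddAdj D) D w} := by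
  obtain ⟨⟨hbD, hba, -⟩, hprod⟩ := hb
  by_cases hiso : Cfsg.IsIsolatedElem (Cfsg.OddAdj D) D b
  · exact Or.inr hiso
  left
  refine ⟨hbD, ?_⟩
  obtain ⟨x, hx⟩ := hne
  have hy : ∃ y, Cfsg.OddAdj D b y := by
    by_contra hn
    push Not at hn
    exact hiso ⟨hbD, fun y => ⟨hn y, fun h => hn y (oddAdj_symm hD _ _ h)⟩⟩
  obtain ⟨y, hy⟩ := hy
  rcases triangle hD hx.1 hbD hba.symm (hba ▸ hprod) hx with h | h
  · exact (Relation.ReflTransGen.single hx).tail (oddAdj_symm hD _ _ h)
  · rcases triangle hD hbD hx.1 hba hprod hy with h' | h'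
    · exact (Relation.ReflTransGen.single h').tail (oddAdj_symm hD _ _ hy)
    · rw [← hba] at h
      exact ((((Relation.ReflTransGen.single hx).tail (oddAdj_symm hD _ _ h)).tail h').tail (oddAdj_symm hD _ _ hy))

/-- Let G be a finite group generated by a set D of root involutions, and W the set of members of D whose product with every other member of D has even order or is trivial (the isolated vertices of the odd-order-product graph on D). Then W is conjugation-invariant and generates a normal 2-subgroup of G meeting D in exactly W; the commutator of two members of D lying in different connected components of that graph, each with more than one member, lies in the subgroup generated by W; and for a in such a component, every member of D commuting with a, different from a and with product with a in D, lies in that component or in W. -/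
theorem result {G : Type*} [Group G] [Finite G] {D : Set G} (hD : Cfsg.IsRootInvolutionSet D) :
    (∀ w ∈ {w | Cfsg.IsIsolatedElem (Cfsg.OddAdj D) D w}, ∀ g : G, g * w * g⁻¹ ∈ {w | Cfsg.IsIsolatedElem (Cfsg.OddAdj D) D w}) ∧
    (Subgroup.closure {w | Cfsg.IsIsolatedElem (Cfsg.OddAdj D) D w}).Normal ∧
    IsPGroup 2 ↥(Subgroup.closure {w | Cfsg.IsIsolatedElem (Cfsg.OddAdj D) D w}) ∧
    (Subgroup.closure {w | Cfsg.IsIsolatedElem (Cfsg.OddAdj D) D w} : Set G) ∩ D = {w | Cfsg.IsIsolatedElem (Cfsg.OddAdj D) D w} ∧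
    (∀ a ∈ D, ∀ b ∈ D, (∃ a' ∈ Cfsg.elemComponentOf (Cfsg.OddAdj D) D a, a' ≠ a) →
      (∃ b' ∈ Cfsg.elemComponentOf (Cfsg.OddAdj D) D b, b' ≠ b) →
      Cfsg.elemComponentOf (Cfsg.OddAdj D) D a ≠ Cfsg.elemComponentOf (Cfsg.OddAdj D) D b →
        a * b * a⁻¹ * b⁻¹ ∈ Subgroup.closure {w | Cfsg.IsIsolatedElem (Cfsg.OddAdj D) D w}) ∧
    (∀ a ∈ D, (∃ a' ∈ Cfsg.elemComponentOf (Cfsg.OddAdj D) D a, a' ≠ a) →
      Cfsg.productPartners D a ⊆ Cfsg.elemComponentOf (Cfsg.OddAdj D) D a ∪ {w | Cfsg.IsIsolatedElem (Cfsg.OddAdj D) D w}) := by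
    set W := {w | Cfsg.IsIsolatedElem (Cfsg.OddAdj D) D w} with hW
    have hadj : ∀ g u v : G, Cfsg.OddAdj D u v → Cfsg.OddAdj D (g * u * g⁻¹) (g * v * g⁻¹) := by
      rintro g u v ⟨hu, hv, hne, ho⟩
      refine ⟨hD.conj_mem u hu g, hD.conj_mem v hv g, fun e => hne ((MulAut.conj g).injective (by simpa using e)), ?_⟩
      rw [show g * u * g⁻¹ * (g * v * g⁻¹) = g * (u * v) * g⁻¹ by group]
      have := MulEquiv.orderOf_eq (MulAut.conj g) (u * v)
      rw [MulAut.conj_apply] at this
      rwa [this]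
    have h1 : ∀ w ∈ W, ∀ g : G, g * w * g⁻¹ ∈ W := by
      intro w hw g
      refine ⟨hD.conj_mem w hw.1 g, fun b => ?_⟩
      have key : b = g * (g⁻¹ * b * g) * g⁻¹ := by group
      have e : w = g⁻¹ * (g * w * g⁻¹) * g⁻¹⁻¹ := by group
      constructor
      · intro h
        have h' := hadj g⁻¹ _ _ h
        rw [← e] at h'
        exact (hw.2 _).1 h'
      · intro h
        have h' := hadj g⁻¹ _ _ h
        rw [← e] at h'
        exact (hw.2 _).2 h'
    have hN : (Subgroup.closure W).Normal := by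
      refine ⟨fun x hx g => ?_⟩
      have h : (Subgroup.closure W).map (MulAut.conj g).toMonoidHom ≤ Subgroup.closure W := by
        rw [MonoidHom.map_closure, Subgroup.closure_le]
        rintro _ ⟨w, hw, rfl⟩
        exact Subgroup.subset_closure (h1 w hw g)
      exact h ⟨x, hx, rfl⟩
    have hP : IsPGroup 2 ↥(Subgroup.closure W) := by
      haveI : Fact (Nat.Prime 2) := ⟨Nat.prime_two⟩
      have h := CfsgLib.Inv.baer_suzuki (p := 2) ((fun w => Subgroup.zpowers w) '' W) ?_ ?_
      · refine h.to_le ?_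
        rw [Subgroup.closure_le]
        intro w hw
        exact (le_sSup (Set.mem_image_of_mem _ hw) : Subgroup.zpowers w ≤ _) (Subgroup.mem_zpowers w)
      · rintro _ ⟨w, hw, rfl⟩ g
        exact ⟨g * w * g⁻¹, h1 w hw g, by rw [MonoidHom.map_zpowers]; simp⟩
      · rintro _ ⟨v, hv, rfl⟩ _ ⟨w, hw, rfl⟩
        refine (pair_two_group (hD.orderOf_eq v hv.1) (hD.orderOf_eq w hw.1) ?_).to_le ?_
        · rcases hD.pair v hv.1 w hw.1 with h' | h' | ⟨h', -⟩
          · rw [(show Commute v w from h').mul_pow, show (4 : ℕ) = 2 * 2 from rfl, pow_mul, pow_mul, pow_two v, pow_two w,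
              CfsgLib.Inv.invol_mul_self (hD.orderOf_eq v hv.1), CfsgLib.Inv.invol_mul_self (hD.orderOf_eq w hw.1)]
            simp
          · rcases eq_or_ne v w with rfl | hne
            · rw [CfsgLib.Inv.invol_mul_self (hD.orderOf_eq v hv.1), one_pow]
            · exact absurd ⟨hv.1, hw.1, hne, h'⟩ (hv.2 w).1
          · exact h' ▸ pow_orderOf_eq_one _
        · exact sup_le (Subgroup.zpowers_le.2 (Subgroup.subset_closure (Or.inl rfl)))
            (Subgroup.zpowers_le.2 (Subgroup.subset_closure (Or.inr rfl)))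
    have h4 : (Subgroup.closure W : Set G) ∩ D = W := by
      apply Set.Subset.antisymm
      · rintro d ⟨hd, hdD⟩
        have key : ∀ e, ¬ Cfsg.OddAdj D d e := by
          rintro e ⟨-, he, hne, ho⟩
          have hmem : (d * e) ^ 2 ∈ Subgroup.closure W := by
            rw [show (d * e) ^ 2 = d * (e * d * e⁻¹) by
              rw [pow_two, CfsgLib.Inv.invol_inv (hD.orderOf_eq e he)]; group]
            exact mul_mem hd (hN.conj_mem d hd e)
          obtain ⟨k, hk⟩ := hP ⟨_, hmem⟩
          have hk' : (d * e) ^ (2 ^ (k + 1)) = 1 := by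
            rw [pow_succ', pow_mul]; exact congrArg Subtype.val hk
          have h1' : orderOf (d * e) = 1 :=
            Nat.eq_one_of_dvd_coprimes (ho.coprime_two_right.pow_right _) dvd_rfl (orderOf_dvd_of_pow_eq_one hk')
          rw [orderOf_eq_one_iff] at h1'
          exact hne ((CfsgLib.Inv.invol_inv (hD.orderOf_eq d hdD)).symm.trans (inv_eq_of_mul_eq_one_right h1'))
        exact ⟨hdD, fun b => ⟨key b, fun h => key b (oddAdj_symm hD _ _ h)⟩⟩
      · exact fun w hw => ⟨Subgroup.subset_closure hw, hw.1⟩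
    have hex : ∀ a, (∃ a' ∈ Cfsg.elemComponentOf (Cfsg.OddAdj D) D a, a' ≠ a) → ∃ a', Cfsg.OddAdj D a a' := by
      rintro a ⟨a', ⟨-, ha'⟩, hne⟩
      rcases ha'.cases_head with h | ⟨c, hc, -⟩
      · exact absurd h.symm hne
      · exact ⟨c, hc⟩
    refine ⟨h1, hN, hP, h4, ?_, fun a _ hne b hb => partners_in_component hD (hex a hne) hb⟩
    intro a ha b hb hna hnb hdiff
    have hai := CfsgLib.Inv.invol_inv (hD.orderOf_eq a ha)
    have hbi := CfsgLib.Inv.invol_inv (hD.orderOf_eq b hb)
    have ha2 := CfsgLib.Inv.invol_mul_self (hD.orderOf_eq a ha)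
    have hb2 := CfsgLib.Inv.invol_mul_self (hD.orderOf_eq b hb)
    rw [hai, hbi]
    have hcomp : ∀ u v, Relation.ReflTransGen (Cfsg.OddAdj D) u v → Relation.ReflTransGen (Cfsg.OddAdj D) v u := by
      intro u v h
      induction h with
      | refl => exact .refl
      | tail _ hst ih => exact (Relation.ReflTransGen.single (oddAdj_symm hD _ _ hst)).trans ih
    rcases hD.pair a ha b hb with h | h | ⟨h, hc⟩
    · rw [h, mul_assoc b a a, ha2, mul_one, hb2]; exact one_mem _
    · exfalso
      rcases eq_or_ne a b with rfl | hne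
      · exact hdiff rfl
      refine hdiff (Set.ext fun z => and_congr_right fun _ => ?_)
      have hab : Relation.ReflTransGen (Cfsg.OddAdj D) a b := .single ⟨ha, hb, hne, h⟩
      exact ⟨fun hz => (hcomp _ _ hab).trans hz, fun hz => hab.trans hz⟩
    · have e : (a * b) ^ 2 = a * b * a * b := by rw [pow_two]; group
      rw [e] at hc
      have h4' : (a * b * a * b) * (a * b * a * b) = 1 := by
        have : (a * b) ^ 4 = 1 := h ▸ pow_orderOf_eq_one _
        rw [← this]; simp only [pow_succ, pow_zero, one_mul, mul_assoc]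
      have hne1 : a * b * a * b ≠ 1 := fun e1 => by
        have := Nat.le_of_dvd (by norm_num) (orderOf_dvd_of_pow_eq_one (e.trans e1))
        omega
      have hci : (a * b * a * b)⁻¹ = a * b * a * b := inv_eq_of_mul_eq_one_right h4'
      rw [mul_inv_rev, mul_inv_rev, mul_inv_rev, hai, hbi] at hci
      have mk : ∀ u v : G, u ∈ D → u * u = 1 → (a * b * a * b) = u * v → u * v = v * u → v ∈ D → u * v ∈ D →
          (a * b * a * b) ∈ Cfsg.productPartners D u := by
        intro u v hu hu2 hc' huv hv huvD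
        refine ⟨⟨hc, ?_, fun e' => ?_⟩, ?_⟩
        · rw [hc', mul_assoc, ← huv]
        · rw [hc'] at e'
          have hv1 : v = 1 := mul_eq_left.1 e'
          exact CfsgLib.Inv.invol_ne_one (hD.orderOf_eq v hv) hv1
        · rw [hc', huv, mul_assoc, hu2, mul_one]; exact hv
      have hA : a * b * a * b ∈ Cfsg.productPartners D a := by
        refine mk a (b * a * b) ha ha2 (by group) ?_ ?_ (by simpa [mul_assoc] using hc)
        · simpa [mul_assoc] using hci.symm
        · have := hD.conj_mem a ha b; rwa [hbi] at this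
      have hB : a * b * a * b ∈ Cfsg.productPartners D b := by
        refine mk b (a * b * a) hb hb2 (by rw [← hci]; group) ?_ ?_ ?_
        · simpa [mul_assoc] using hci
        · have := hD.conj_mem b hb a; rwa [hai] at this
        · have e' : b * (a * b * a) = a * b * a * b := by simpa [mul_assoc] using hci
          rw [e']; exact hc
      rcases partners_in_component hD (hex a hna) hA with h5 | h5
      · rcases partners_in_component hD (hex b hnb) hB with h6 | h6
        · exfalso
          refine hdiff (Set.ext fun z => and_congr_right fun _ => ?_)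
          have hab : Relation.ReflTransGen (Cfsg.OddAdj D) a b := h5.2.trans (hcomp _ _ h6.2)
          exact ⟨fun hz => (hcomp _ _ hab).trans hz, fun hz => hab.trans hz⟩
        · exact Subgroup.subset_closure h6
      · exact Subgroup.subset_closure h5

end Cfsg.Agent.S5045
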