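import Cfsg.Statements.S5057
import Mathlib.GroupTheory.SpecificGroups.Alternating

set_option autoImplicit false
open Cfsg

namespace Cfsg.Agent.S5057

set_option maxRecDepth 100000 in
theorem aux_pow : ∀ g : Equiv.Perm (Fin 6), Equiv.Perm.sign g = 1 → g * g * g = 1 ∨ g * g * (g * g) = 1 ∨ g * g * (g * g) * g = 1 := by
  decide +kernel

set_option maxRecDepth 100000 in
theorem aux_conj : ∀ g : Equiv.Perm (Fin 6), Equiv.Perm.sign g = 1 → g * g = 1 → g ≠ 1 →
    ∃ c : Equiv.Perm (Fin 6), c * (Equiv.swap 0 1 * Equiv.swap 2 3) * c⁻¹ = g := by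
  decide +kernel

/-- The involutions of the alternating group of degree 6 form a class of root involutions (a single conjugacy class of involutions generating the group, any two of which commute, have product of odd order, or have product of order 4 whose square is again an involution of the class), and the product of any two of them has order at most 5. -/
theorem result :
    Cfsg.IsRootInvolutionClass {g : ↥(alternatingGroup (Fin 6)) | orderOf g = 2} ∧
    ∀ d ∈ {g : ↥(alternatingGroup (Fin 6)) | orderOf g = 2}, ∀ e ∈ {g : ↥(alternatingGroup (Fin 6)) | orderOf g = 2},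
      orderOf (d * e) ≤ 5 := by
  haveI : Fact (Nat.Prime 2) := ⟨Nat.prime_two⟩
  have hord : ∀ g : ↥(alternatingGroup (Fin 6)), orderOf g ∣ 3 ∨ orderOf g ∣ 4 ∨ orderOf g ∣ 5 := by
    intro g
    have h : ∀ n : ℕ, ((g : Equiv.Perm (Fin 6))) ^ n = 1 → orderOf g ∣ n := fun n hn =>
      orderOf_dvd_of_pow_eq_one (Subtype.ext (by rw [SubmonoidClass.coe_pow]; exact hn))
    rcases aux_pow g g.2 with e | e | e
    · exact Or.inl (h 3 (by rw [pow_succ, pow_succ, pow_one]; exact e))
    · exact Or.inr (Or.inl (h 4 (by rw [show (4 : ℕ) = 2 + 2 by rfl, pow_add, pow_two]; exact e)))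
    · exact Or.inr (Or.inr (h 5 (by rw [show (5 : ℕ) = 2 + 2 + 1 by rfl, pow_add, pow_add, pow_two, pow_one]; exact e)))
  have hle : ∀ g : ↥(alternatingGroup (Fin 6)), orderOf g ≤ 5 := fun g => by
    rcases hord g with h | h | h <;> have := Nat.le_of_dvd (by norm_num) h <;> omega
  set D := {g : ↥(alternatingGroup (Fin 6)) | orderOf g = 2}
  let t : ↥(alternatingGroup (Fin 6)) := ⟨Equiv.swap 0 1 * Equiv.swap 2 3, Equiv.Perm.mem_alternatingGroup.2 (by decide)⟩
  have ht : t ∈ D := orderOf_eq_prime (Subtype.ext (by decide)) (fun h => by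
    have := congrArg Subtype.val h; revert this; decide)
  let cm : Equiv.Perm (Fin 6) := Equiv.swap 0 1
  have hconj : ∀ g ∈ D, ∃ c : ↥(alternatingGroup (Fin 6)), g = c * t * c⁻¹ := by
    intro g hg
    have h2 : (g : Equiv.Perm (Fin 6)) * g = 1 := by
      have := pow_orderOf_eq_one g
      rw [show orderOf g = 2 from hg, pow_two] at this
      exact congrArg Subtype.val this
    have h1 : (g : Equiv.Perm (Fin 6)) ≠ 1 := fun e => by
      have : g = 1 := Subtype.ext e
      rw [this] at hg
      simp [D] at hg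
    obtain ⟨c, hc⟩ := aux_conj g g.2 h2 h1
    rcases Int.units_eq_one_or (Equiv.Perm.sign c) with e | e
    · exact ⟨⟨c, e⟩, Subtype.ext hc.symm⟩
    · refine ⟨⟨c * cm, Equiv.Perm.mem_alternatingGroup.2 ?_⟩, Subtype.ext ?_⟩
      · rw [map_mul, e, Equiv.Perm.sign_swap (by decide)]; rfl
      · show (g : Equiv.Perm (Fin 6)) = c * cm * (t : Equiv.Perm (Fin 6)) * (c * cm)⁻¹
        have hcm : cm * (t : Equiv.Perm (Fin 6)) * cm⁻¹ = t := by decide
        calc (g : Equiv.Perm (Fin 6)) = c * (t : Equiv.Perm (Fin 6)) * c⁻¹ := hc.symm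
          _ = c * (cm * t * cm⁻¹) * c⁻¹ := by rw [hcm]
          _ = _ := by group
  have hcj : ∀ d ∈ D, ∀ g, g * d * g⁻¹ ∈ D := fun d hd g => by
    show orderOf (g * d * g⁻¹) = 2
    rw [show g * d * g⁻¹ = MulAut.conj g d from rfl, MulEquiv.orderOf_eq]
    exact hd
  refine ⟨⟨⟨fun d hd => hd, ?_, hcj, fun a ha b hb => ?_⟩, ⟨t, ht⟩, fun a ha b hb => ?_⟩, fun d _ e _ => hle _⟩
  · haveI : (Subgroup.closure D).Normal := by
      refine ⟨fun x hx g => ?_⟩
      induction hx using Subgroup.closure_induction with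
      | mem x hx => exact Subgroup.subset_closure (hcj x hx g)
      | one => simp
      | mul x y _ _ hx hy => simpa [mul_assoc] using mul_mem hx hy
      | inv x _ hx => simpa [mul_assoc] using inv_mem hx
    haveI : IsSimpleGroup (alternatingGroup (Fin 6)) := alternatingGroup.isSimpleGroup (by simp)
    rcases (inferInstance : (Subgroup.closure D).Normal).eq_bot_or_eq_top with h | h
    · have := Subgroup.subset_closure (k := D) ht
      rw [h] at this
      rw [Subgroup.mem_bot.1 this] at ht
      simp [D] at ht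
    · exact h
  · have haa : a * a = 1 := by rw [← pow_two, ← (ha : orderOf a = 2), pow_orderOf_eq_one]
    have hbb : b * b = 1 := by rw [← pow_two, ← (hb : orderOf b = 2), pow_orderOf_eq_one]
    have h2 : orderOf (a * b) ∣ 2 → a * b = b * a := fun h => by
      have e := orderOf_dvd_iff_pow_eq_one.1 h
      rw [pow_two, mul_eq_one_iff_eq_inv, mul_inv_rev, ← eq_inv_of_mul_eq_one_left hbb, ← eq_inv_of_mul_eq_one_left haa] at e
      exact e
    rcases hord (a * b) with h | h | h
    · exact Or.inr (Or.inl ((by decide : Odd 3).of_dvd_nat h))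
    · by_cases h' : orderOf (a * b) ∣ 2
      · exact Or.inl (h2 h')
      · have h4 : orderOf (a * b) = 4 := by
          have := Nat.le_of_dvd (by norm_num) h
          have h0 : 0 < orderOf (a * b) := Nat.pos_of_dvd_of_pos h (by norm_num)
          interval_cases hn : orderOf (a * b) <;> simp_all
        refine Or.inr (Or.inr ⟨h4, ?_⟩)
        show orderOf ((a * b) ^ 2) = 2
        rw [orderOf_pow' _ (by norm_num), h4]; rfl
    · exact Or.inr (Or.inl ((by decide : Odd 5).of_dvd_nat h))
  · obtain ⟨c, rfl⟩ := hconj a ha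
    obtain ⟨c', rfl⟩ := hconj b hb
    exact ⟨c' * c⁻¹, by group⟩

end Cfsg.Agent.S5057
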