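import Cfsg.Statements.S5058
import Cfsg.Agent.Inv.TransvectionSL

set_option autoImplicit false
open Matrix
open Cfsg

namespace Cfsg.Agent.S5058

open Matrix CfsgLib.Inv.TSL
open scoped commutatorElement

section
variable {F : Type*} [Field F] [Fintype F] [CharP F 2] {ι : Type*} [Fintype ι] [DecidableEq ι]

/-- the product of an upper and a lower elementary matrix -/
def gmat (τ : F) : Matrix.SpecialLinearGroup (Fin 2) F :=
  ⟨!![1 + τ, 1; τ, 1], by simp [Matrix.det_fin_two]⟩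

theorem gmat_sq (τ : F) :
    (gmat τ : Matrix (Fin 2) (Fin 2) F) * (gmat τ : Matrix (Fin 2) (Fin 2) F) =
      τ • (gmat τ : Matrix (Fin 2) (Fin 2) F) + 1 := by
  have h2 : (2 : F) = 0 := CharTwo.two_eq_zero
  ext i j
  fin_cases i <;> fin_cases j <;> simp [gmat, Matrix.mul_apply, Fin.sum_univ_two]
  · linear_combination τ * h2
  · linear_combination h2
  · linear_combination τ * h2

theorem gmat_odd {τ : F} (hτ : τ ≠ 0) : Odd (orderOf (gmat τ)) := by
  set g := gmat τ with hg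
  by_contra hodd
  rw [Nat.not_odd_iff_even] at hodd
  obtain ⟨N, hN⟩ := hodd
  have hpos : 0 < orderOf g := orderOf_pos g
  have hspan : ∀ m : ℕ, ∃ α β : F, ((g : Matrix (Fin 2) (Fin 2) F)) ^ m = α • (1 : Matrix (Fin 2) (Fin 2) F) + β • (g : Matrix (Fin 2) (Fin 2) F) := by
    intro m
    induction m with
    | zero => exact ⟨1, 0, by simp⟩
    | succ m ih =>
      obtain ⟨α, β, e⟩ := ih
      refine ⟨β, α + β * τ, ?_⟩
      rw [pow_succ, e, add_mul, Matrix.smul_mul, Matrix.smul_mul, one_mul, gmat_sq, smul_add, smul_smul,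
        add_smul]
      abel
  obtain ⟨α, β, e⟩ := hspan N
  have h1 : ((g : Matrix (Fin 2) (Fin 2) F) ^ N) * (g : Matrix (Fin 2) (Fin 2) F) ^ N = 1 := by
    rw [← pow_add, ← hN, ← Matrix.SpecialLinearGroup.coe_pow, pow_orderOf_eq_one, Matrix.SpecialLinearGroup.coe_one]
  have h2 : (2 : F) = 0 := CharTwo.two_eq_zero
  rw [e] at h1
  have e01 := congrFun (congrFun h1 0) 1
  have e11 := congrFun (congrFun h1 1) 1
  simp [hg, gmat, Matrix.mul_apply, Fin.sum_univ_two] at e01 e11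
  have hβ : β = 0 := by
    have : β * β * τ = 0 := by linear_combination e01 - (α * β + β * β) * h2
    simpa [hτ] using this
  subst hβ
  have hα : α = 1 := by
    have : (α - 1) * (α - 1) = 0 := by linear_combination e11 + (1 - α) * h2
    exact sub_eq_zero.1 (mul_self_eq_zero.1 this)
  subst hα
  have : g ^ N = 1 := Subtype.ext (by
    rw [Matrix.SpecialLinearGroup.coe_pow, e, Matrix.SpecialLinearGroup.coe_one]; simp)
  have := orderOf_le_of_pow_eq_one (by omega) this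
  omega

theorem gmat_three : (gmat (1 : F)) ^ 3 = 1 := by
  refine Subtype.ext ?_
  have h2 : (2 : F) = 0 := CharTwo.two_eq_zero
  rw [Matrix.SpecialLinearGroup.coe_pow, pow_succ, pow_two, gmat_sq, one_smul, add_mul, one_mul, gmat_sq, one_smul,
    Matrix.SpecialLinearGroup.coe_one, add_right_comm, ← two_smul F (gmat (1 : F) : Matrix (Fin 2) (Fin 2) F), h2,
    zero_smul, zero_add]

theorem tv_sq {v φ : ι → F} (h : φ ⬝ᵥ v = 0) : tv v φ * tv v φ = 1 := by
  have := tv_add h (1 : F) 1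
  rwa [one_smul, CharTwo.add_self_eq_zero, zero_smul, tv_zero] at this

theorem tv_inv' {v φ : ι → F} (h : φ ⬝ᵥ v = 0) : (tv v φ)⁻¹ = tv v φ :=
  inv_eq_of_mul_eq_one_right (tv_sq h)

theorem pair_data {v φ w ψ : ι → F} (h : φ ⬝ᵥ v = 0) (h' : ψ ⬝ᵥ w = 0) (hv : v ≠ 0) (hφ : φ ≠ 0) (hw : w ≠ 0) (hψ : ψ ≠ 0) :
    tv v φ * tv w ψ = tv w ψ * tv v φ ∨
    (orderOf (tv v φ * tv w ψ) = 4 ∧ ∃ x χ : ι → F, x ≠ 0 ∧ χ ≠ 0 ∧ χ ⬝ᵥ x = 0 ∧ (tv v φ * tv w ψ) ^ 2 = tv x χ) ∨
    (Odd (orderOf (tv v φ * tv w ψ)) ∧ (Fintype.card F = 2 → (tv v φ * tv w ψ) ^ 3 = 1)) := by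
  have four : ∀ x χ : ι → F, x ≠ 0 → χ ≠ 0 → χ ⬝ᵥ x = 0 → ⁅tv v φ, tv w ψ⁆ = tv x χ →
      orderOf (tv v φ * tv w ψ) = 4 ∧ ∃ x χ : ι → F, x ≠ 0 ∧ χ ≠ 0 ∧ χ ⬝ᵥ x = 0 ∧ (tv v φ * tv w ψ) ^ 2 = tv x χ := by
    intro x χ hx hχ hxχ e
    have e2 : (tv v φ * tv w ψ) ^ 2 = tv x χ := by
      rw [← e, commutatorElement_def, tv_inv' h, tv_inv' h', pow_two, mul_assoc (tv v φ * tv w ψ)]
    refine ⟨?_, x, χ, hx, hχ, hxχ, e2⟩
    rw [show (4 : ℕ) = 2 ^ (1 + 1) by norm_num]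
    refine orderOf_eq_prime_pow (p := 2) ?_ ?_
    · rw [pow_one, e2]; exact tv_ne_one hxχ hx hχ
    · rw [show (2 : ℕ) ^ (1 + 1) = 2 * 2 by norm_num, pow_mul, e2, pow_two, tv_sq hxχ]
  by_cases ha : φ ⬝ᵥ w = 0
  · by_cases hb : ψ ⬝ᵥ v = 0
    · exact Or.inl (tv_mul_self_comm h h' ha hb)
    · refine Or.inr (Or.inl (four ((-(1 * 1 * (ψ ⬝ᵥ v))) • w) φ (smul_ne_zero (by simp [hb]) hw) hφ
        (incid_smul ha _) ?_))
      simpa only [one_smul] using comm_right h h' ha 1 1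
  · by_cases hb : ψ ⬝ᵥ v = 0
    · refine Or.inr (Or.inl (four ((1 * 1 * (φ ⬝ᵥ w)) • v) ψ (smul_ne_zero (by simp [ha]) hv) hψ
        (incid_smul hb _) ?_))
      simpa only [one_smul] using comm_left h h' hb 1 1
    · refine Or.inr (Or.inr ?_)
      set a := φ ⬝ᵥ w with ha'
      set b := ψ ⬝ᵥ v with hb'
      have h'' : (b⁻¹ • ψ) ⬝ᵥ (a⁻¹ • w) = 0 := by rw [smul_dotProduct, incid_smul h', smul_zero]
      have hha : φ ⬝ᵥ (a⁻¹ • w) = 1 := by rw [dotProduct_smul, smul_eq_mul, ← ha', inv_mul_cancel₀ ha]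
      have hhb : (b⁻¹ • ψ) ⬝ᵥ v = 1 := by rw [smul_dotProduct, smul_eq_mul, ← hb', inv_mul_cancel₀ hb]
      have e : tv v φ * tv w ψ = sl2Hom h h'' hha hhb (gmat (a * b)) := by
        refine ext_mulVec fun x => ?_
        rw [act_sl2Hom, Matrix.SpecialLinearGroup.coe_mul, ← Matrix.mulVec_mulVec, coe_tv h, coe_tv h',
          mat_mulVec, mat_mulVec]
        simp only [gmat, dotProduct_add, dotProduct_smul, smul_dotProduct, smul_eq_mul, ← ha']
        ext i
        simp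
        field_simp
        ring
      rw [e]
      have hab : a * b ≠ 0 := mul_ne_zero ha hb
      refine ⟨(gmat_odd hab).of_dvd_nat (orderOf_map_dvd _ _), fun h2 => ?_⟩
      have : a * b = 1 := by
        have := FiniteField.pow_card_sub_one_eq_one (a * b) hab
        rwa [h2, pow_one] at this
      rw [this, ← map_pow, gmat_three, map_one]

end

/-- Let F be a finite field of characteristic 2 and n a natural number. Then the transvections of SL_{n+3}(F) (so in every dimension at least 3) (the conjugates of the elementary matrices 1 + c E₁₂, c ≠ 0) form a class of root involutions of SL_{n+3}(F); when F has two elements they form a class of {3,4}⁺-transpositions (every product of odd order has order 1 or 3). -/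
theorem result (F : Type*) [Field F] [Fintype F] [CharP F 2] (n : ℕ) :
    Cfsg.IsRootInvolutionClass {t : Matrix.SpecialLinearGroup (Fin (n + 3)) F | ∃ c : F, c ≠ 0 ∧
        ∃ g : Matrix.SpecialLinearGroup (Fin (n + 3)) F, ((g⁻¹ * t * g : Matrix.SpecialLinearGroup (Fin (n + 3)) F) :
          Matrix (Fin (n + 3)) (Fin (n + 3)) F) = Matrix.transvection 0 1 c} ∧
    (Fintype.card F = 2 → Cfsg.IsThreeFourPlusTranspositionSet {t : Matrix.SpecialLinearGroup (Fin (n + 3)) F | ∃ c : F, c ≠ 0 ∧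
        ∃ g : Matrix.SpecialLinearGroup (Fin (n + 3)) F, ((g⁻¹ * t * g : Matrix.SpecialLinearGroup (Fin (n + 3)) F) :
          Matrix (Fin (n + 3)) (Fin (n + 3)) F) = Matrix.transvection 0 1 c}) := by
  set b : Fin (n + 3) → (Fin (n + 3) → F) := fun i => Pi.single i 1 with hb
  have hne : ∀ i, b i ≠ 0 := fun i => by simp [hb]
  have hdot : ∀ i j, i ≠ j → b i ⬝ᵥ b j = 0 := fun i j hij => by simp [hb, single_dotProduct, hij]
  have h01 : (0 : Fin (n + 3)) ≠ 1 := by simp [Fin.ext_iff]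
  have h02 : (0 : Fin (n + 3)) ≠ 2 := by simp [Fin.ext_iff, Nat.mod_eq_of_lt (show 2 < n + 3 by omega)]
  have h12 : (1 : Fin (n + 3)) ≠ 2 := by simp [Fin.ext_iff, Nat.mod_eq_of_lt (show 2 < n + 3 by omega)]
  generalize hDdef : {t : Matrix.SpecialLinearGroup (Fin (n + 3)) F | ∃ c : F, c ≠ 0 ∧
      ∃ g : Matrix.SpecialLinearGroup (Fin (n + 3)) F, ((g⁻¹ * t * g : Matrix.SpecialLinearGroup (Fin (n + 3)) F) :
        Matrix (Fin (n + 3)) (Fin (n + 3)) F) = Matrix.transvection 0 1 c} = D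
  have hel : ∀ (i j : Fin (n + 3)) (hij : i ≠ j) (c : F),
      (tv (c • b i) (b j) : Matrix (Fin (n + 3)) (Fin (n + 3)) F) = Matrix.transvection i j c := by
    intro i j hij c
    rw [coe_tv (incid_smul (hdot j i hij.symm) c)]
    refine Matrix.ext_of_mulVec_single fun l => ?_
    rw [mat_mulVec, CfsgLib.Lie.SLn.transv_mulVec]
    simp only [hb, single_dotProduct, one_mul, smul_smul, mul_comm]
  have hinc := hdot 1 0 h01.symm
  have hconjD : ∀ t, t ∈ D ↔ ∃ g : Matrix.SpecialLinearGroup (Fin (n + 3)) F, ∃ c : F, c ≠ 0 ∧ t = g * tv (c • b 0) (b 1) * g⁻¹ := by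
    intro t
    rw [← hDdef, Set.mem_setOf_eq]
    constructor
    · rintro ⟨c, hc, g, hg⟩
      refine ⟨g, c, hc, ?_⟩
      have : g⁻¹ * t * g = tv (c • b 0) (b 1) := Subtype.ext (hg.trans (hel 0 1 h01 c).symm)
      rw [← this]; group
    · rintro ⟨g, c, hc, rfl⟩
      exact ⟨c, hc, g, by rw [show g⁻¹ * (g * tv (c • b 0) (b 1) * g⁻¹) * g = tv (c • b 0) (b 1) by simp only [mul_assoc, inv_mul_cancel_left, inv_mul_cancel, mul_one]]; exact hel 0 1 h01 c⟩
  have hD : ∀ t, t ∈ D ↔ ∃ v φ : Fin (n + 3) → F, v ≠ 0 ∧ φ ≠ 0 ∧ φ ⬝ᵥ v = 0 ∧ t = tv v φ := by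
    intro t
    rw [hconjD]
    constructor
    · rintro ⟨g, c, hc, rfl⟩
      refine ⟨_, _, fun e => ?_, fun e => ?_, incid_act (incid_smul hinc c) g, conj_tv (incid_smul hinc c) g⟩
      · have := congrArg (fun x => ((g⁻¹ : Matrix.SpecialLinearGroup (Fin (n + 3)) F) : Matrix (Fin (n + 3)) (Fin (n + 3)) F) *ᵥ x) e
        simp only [Matrix.mulVec_mulVec, ← Matrix.SpecialLinearGroup.coe_mul, inv_mul_cancel,
          Matrix.SpecialLinearGroup.coe_one, Matrix.one_mulVec, Matrix.mulVec_zero] at this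
        exact (smul_ne_zero hc (hne 0)) this
      · have := congrArg (fun x => x ᵥ* (g : Matrix (Fin (n + 3)) (Fin (n + 3)) F)) e
        simp only [Matrix.vecMul_vecMul, ← Matrix.SpecialLinearGroup.coe_mul, inv_mul_cancel,
          Matrix.SpecialLinearGroup.coe_one, Matrix.vecMul_one, Matrix.zero_vecMul] at this
        exact hne 1 this
    · rintro ⟨v, φ, hv, hφ, h, rfl⟩
      obtain ⟨g, hg1, hg2⟩ := exists_move hv hφ h h01 h02 h12
      change φ ᵥ* _ = b 1 at hg2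
      change _ *ᵥ b 0 = v at hg1
      refine ⟨g, 1, one_ne_zero, ?_⟩
      rw [one_smul, conj_tv hinc g, hg1, ← hg2, Matrix.vecMul_vecMul, ← Matrix.SpecialLinearGroup.coe_mul,
        mul_inv_cancel, Matrix.SpecialLinearGroup.coe_one, Matrix.vecMul_one]
  have hroot : Cfsg.IsRootInvolutionSet D := by
    refine ⟨fun d hd => ?_, ?_, fun d hd g => ?_, fun x hx y hy => ?_⟩
    · obtain ⟨v, φ, hv, hφ, h, rfl⟩ := (hD d).1 hd
      exact orderOf_eq_prime ((pow_two _).trans (tv_sq h)) (tv_ne_one h hv hφ)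
    · refine CfsgLib.Lie.SLn.eq_top_of_transvection_mem _ fun i j hij c => ?_
      by_cases hc : c = 0
      · subst hc
        rw [show Matrix.SpecialLinearGroup.transvection hij (0 : F) = 1 from Subtype.ext (by
          rw [CfsgLib.Lie.SLn.tv_coe hij]; simp [Matrix.transvection])]
        exact one_mem _
      · refine Subgroup.subset_closure ((hD _).2 ⟨c • b i, b j, smul_ne_zero hc (hne i), hne j,
          incid_smul (hdot j i hij.symm) c, Subtype.ext ?_⟩)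
        rw [CfsgLib.Lie.SLn.tv_coe hij, hel i j hij c]
    · obtain ⟨g', c, hc, rfl⟩ := (hconjD d).1 hd
      exact (hconjD _).2 ⟨g * g', c, hc, by group⟩
    · obtain ⟨v, φ, hv, hφ, h, rfl⟩ := (hD x).1 hx
      obtain ⟨w, ψ, hw, hψ, h', rfl⟩ := (hD y).1 hy
      rcases pair_data h h' hv hφ hw hψ with h1 | ⟨h1, z, χ, hz, hχ, hzχ, h2⟩ | ⟨h1, -⟩
      · exact Or.inl h1
      · exact Or.inr (Or.inr ⟨h1, (hD _).2 ⟨z, χ, hz, hχ, hzχ, h2⟩⟩)
      · exact Or.inr (Or.inl h1)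
  refine ⟨⟨hroot, ⟨_, (hD _).2 ⟨b 0, b 1, hne 0, hne 1, hinc, rfl⟩⟩, fun x hx y hy => ?_⟩, fun h2 => ⟨hroot, fun x hx y hy hodd => ?_⟩⟩
  · obtain ⟨v, φ, hv, hφ, h, rfl⟩ := (hD x).1 hx
    obtain ⟨w, ψ, hw, hψ, h', rfl⟩ := (hD y).1 hy
    obtain ⟨g, hg1, hg2⟩ := exists_move hv hφ h h01 h02 h12
    obtain ⟨g', hg1', hg2'⟩ := exists_move hw hψ h' h01 h02 h12
    refine ⟨g' * g⁻¹, ?_⟩
    have key : ∀ (x η : Fin (n + 3) → F) (g : Matrix.SpecialLinearGroup (Fin (n + 3)) F),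
        (g : Matrix (Fin (n + 3)) (Fin (n + 3)) F) *ᵥ b 0 = x → η ᵥ* (g : Matrix (Fin (n + 3)) (Fin (n + 3)) F) = b 1 →
        tv x η = g * tv (b 0) (b 1) * g⁻¹ := by
      intro x η g e1 e2
      rw [conj_tv hinc g, e1, ← e2, Matrix.vecMul_vecMul, ← Matrix.SpecialLinearGroup.coe_mul,
        mul_inv_cancel, Matrix.SpecialLinearGroup.coe_one, Matrix.vecMul_one]
    rw [key v φ g hg1 hg2, key w ψ g' hg1' hg2']; group
  · obtain ⟨v, φ, hv, hφ, h, rfl⟩ := (hD x).1 hx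
    obtain ⟨w, ψ, hw, hψ, h', rfl⟩ := (hD y).1 hy
    rcases pair_data h h' hv hφ hw hψ with h1 | ⟨h1, -⟩ | ⟨-, h1⟩
    · left
      have hsq : (tv v φ * tv w ψ) ^ 2 = 1 := by
        rw [(show Commute (tv v φ) (tv w ψ) from h1).mul_pow, pow_two, pow_two, tv_sq h, tv_sq h', one_mul]
      rcases (Nat.dvd_prime Nat.prime_two).1 (orderOf_dvd_of_pow_eq_one hsq) with e | e
      · exact e
      · rw [e] at hodd; exact absurd hodd (by decide)
    · rw [h1] at hodd; exact absurd hodd (by decide)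
    · exact (Nat.dvd_prime Nat.prime_three).1 (orderOf_dvd_of_pow_eq_one (h1 h2))

end Cfsg.Agent.S5058
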