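import Cfsg.Statements.S5060
import Cfsg.Agent.Inv.SL2Adjoin

set_option autoImplicit false
open Cfsg

namespace Cfsg.Agent.S5060

/-- Let k ⊆ K be fields with the characteristic of k not 2 and k not of order 3, and let α ∈ K be a non-zero element algebraic over k. Then the subgroup of SL₂(K) generated by the upper unitriangular matrices with entry c and the lower unitriangular matrices with entry cα, c ranging over k, is exactly the group of matrices of SL₂(K) with all entries in k(α). -/
theorem result {k K : Type*} [Field k] [Field K] [Algebra k K] (hk2 : ringChar k ≠ 2) (hk3 : Nat.card k ≠ 3)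
    (α : K) (hα : IsAlgebraic k α) (hα0 : α ≠ 0) :
    (Subgroup.closure ({g : Matrix.SpecialLinearGroup (Fin 2) K | ∃ c : k, (g : Matrix (Fin 2) (Fin 2) K) = !![1, algebraMap k K c; 0, 1]} ∪
        {g : Matrix.SpecialLinearGroup (Fin 2) K | ∃ c : k, (g : Matrix (Fin 2) (Fin 2) K) = !![1, 0; algebraMap k K c * α, 1]}) :
      Set (Matrix.SpecialLinearGroup (Fin 2) K)) =
    {g : Matrix.SpecialLinearGroup (Fin 2) K | ∀ i j : Fin 2, (g : Matrix (Fin 2) (Fin 2) K) i j ∈ IntermediateField.adjoin k ({α} : Set K)} := by
  classical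
  open CfsgLib.Inv.SL2Adjoin Polynomial in
  exact (by
    set F := IntermediateField.adjoin k ({α} : Set K) with hF
    let α' : F := ⟨α, IntermediateField.subset_adjoin k _ rfl⟩
    have hα' : α' ≠ 0 := fun e => hα0 (congrArg Subtype.val e)
    have hgen : ∀ x : F, ∃ A : k[X], (∀ j, (minpoly k α).natDegree ≤ j → A.coeff j = 0) ∧ aeval α' A = x := by
      intro x
      have hx : (x : K) ∈ Algebra.adjoin k ({α} : Set K) := by
        rw [← IntermediateField.adjoin_simple_toSubalgebra_of_isAlgebraic hα]; exact x.2
      rw [Algebra.adjoin_singleton_eq_range_aeval] at hx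
      obtain ⟨A, hA⟩ := hx
      have hmon := minpoly.monic hα.isIntegral
      refine ⟨A %ₘ minpoly k α, fun j hj => coeff_eq_zero_of_natDegree_lt (lt_of_lt_of_le
        (natDegree_modByMonic_lt A hmon (minpoly.ne_one k α)) hj), Subtype.ext ?_⟩
      show F.val (aeval α' _) = _
      rw [← aeval_algHom_apply]
      show aeval α (A %ₘ minpoly k α) = _
      rw [aeval_modByMonic_eq_self_of_root (minpoly.aeval k α)]
      exact hA
    have h2k : (2 : k) ≠ 0 := Ring.two_ne_zero hk2
    have htop : gp k α' = ⊤ := by
      rcases finite_or_infinite k with hk | hk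
      · haveI := Fintype.ofFinite k
        haveI : FiniteDimensional k F := IntermediateField.adjoin.finiteDimensional hα.isIntegral
        haveI : Finite F := Module.finite_of_finite k
        haveI := Fintype.ofFinite F
        exact eq_top_of_finite h2k (by rwa [← Nat.card_eq_fintype_card]) hα' fun x => (hgen x).imp fun A h => h.2
      · exact eq_top_of_U hα' (by simpa using L_mem (k := k) α' 1) (U_mem_of_infinite h2k hα' _ hgen)
    let φ : Matrix.SpecialLinearGroup (Fin 2) F →* Matrix.SpecialLinearGroup (Fin 2) K :=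
      Matrix.SpecialLinearGroup.map F.val.toRingHom
    have hclo : (gp k α').map φ = Subgroup.closure ({g : Matrix.SpecialLinearGroup (Fin 2) K | ∃ c : k, (g : Matrix (Fin 2) (Fin 2) K) = !![1, algebraMap k K c; 0, 1]} ∪
        {g : Matrix.SpecialLinearGroup (Fin 2) K | ∃ c : k, (g : Matrix (Fin 2) (Fin 2) K) = !![1, 0; algebraMap k K c * α, 1]}) := by
      rw [gp, MonoidHom.map_closure, Set.image_union, ← Set.range_comp, ← Set.range_comp]
      congr 1
      congr 1 <;> ext g <;> constructor
      · rintro ⟨c, rfl⟩
        refine ⟨c, Matrix.ext fun i j => ?_⟩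
        show F.val ((U (algebraMap k F c)).1 i j) = _
        fin_cases i <;> fin_cases j <;> simp [U, CfsgLib.Dickson.mk]
      · rintro ⟨c, hc⟩
        refine ⟨c, Subtype.ext (hc ▸ Matrix.ext fun i j => ?_)⟩
        show F.val ((U (algebraMap k F c)).1 i j) = _
        fin_cases i <;> fin_cases j <;> simp [U, CfsgLib.Dickson.mk]
      · rintro ⟨c, rfl⟩
        refine ⟨c, Matrix.ext fun i j => ?_⟩
        show F.val ((L (algebraMap k F c * α')).1 i j) = _
        fin_cases i <;> fin_cases j <;> simp [L, CfsgLib.Dickson.mk, α']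
      · rintro ⟨c, hc⟩
        refine ⟨c, Subtype.ext (hc ▸ Matrix.ext fun i j => ?_)⟩
        show F.val ((L (algebraMap k F c * α')).1 i j) = _
        fin_cases i <;> fin_cases j <;> simp [L, CfsgLib.Dickson.mk, α']
    rw [← hclo, htop]
    ext g
    constructor
    · rintro ⟨g', -, rfl⟩ i j
      exact (g'.1 i j).2
    · intro hg
      refine ⟨⟨Matrix.of fun i j => (⟨(g : Matrix (Fin 2) (Fin 2) K) i j, hg i j⟩ : F), ?_⟩, trivial,
        Subtype.ext (Matrix.ext fun i j => rfl)⟩
      apply Subtype.ext
      have hd := g.2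
      rw [Matrix.det_fin_two] at hd
      simpa [Matrix.det_fin_two] using hd)

end Cfsg.Agent.S5060
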