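import Cfsg.Statements.S5067


set_option autoImplicit false
open Cfsg

namespace Cfsg.Agent.S5067

open scoped commutatorElement

theorem aux_class {P : Type*} [Group P] [Group.IsNilpotent P] (hna : ¬ IsMulCommutative P) {E F : Subgroup P}
    (hE : IsMulCommutative ↥E) :
    Group.nilpotencyClass ↥(Subgroup.normalClosure (E : Set P)) < Group.nilpotencyClass P := by
  set L := fun n => (⊤ : Subgroup P).lowerCentralSeries n with hL
  set N := Subgroup.normalClosure (E : Set P)
  have hL1 : L 1 = commutator P := Subgroup.top_lowerCentralSeries_one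
  haveI : (E ⊔ commutator P).Normal := Subgroup.Normal.of_commutator_le P le_sup_right
  have hN : N ≤ E ⊔ commutator P := Subgroup.normalClosure_le_normal (SetLike.coe_subset_coe.2 le_sup_left)
  haveI : (L 2).Normal := inferInstance
  have h2 : ⁅N, N⁆ ≤ L 2 := by
    set π := QuotientGroup.mk' (L 2)
    have hcomm : IsMulCommutative (Subgroup.closure (π '' ((E : Set P) ∪ (L 1 : Set P)))) := by
      refine Subgroup.isMulCommutative_closure ?_
      have hcen : ∀ u ∈ L 1, ∀ w : P, π u * π w = π w * π u := fun u hu w => by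
        refine commutatorElement_eq_one_iff_mul_comm.1 ?_
        rw [← map_commutatorElement]
        exact (QuotientGroup.eq_one_iff _).2 (Subgroup.commutator_mem_commutator hu (Subgroup.mem_top w))
      rintro _ ⟨u, hu, rfl⟩ _ ⟨w, hw, rfl⟩
      rcases hu with hu | hu
      · rcases hw with hw | hw
        · rw [← map_mul, ← map_mul]
          exact congrArg π (congrArg Subtype.val (hE.is_comm.comm (⟨u, hu⟩ : E) ⟨w, hw⟩))
        · exact (hcen w hw u).symm
      · exact hcen u hu w
    have hle : N.map π ≤ Subgroup.closure (π '' ((E : Set P) ∪ (L 1 : Set P))) := by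
      rw [← MonoidHom.map_closure, Subgroup.closure_union, Subgroup.closure_eq, Subgroup.closure_eq, hL1]
      exact Subgroup.map_mono hN
    refine Subgroup.commutator_le.2 fun u hu w hw => (QuotientGroup.eq_one_iff _).1 ?_
    show π ⁅u, w⁆ = 1
    rw [map_commutatorElement, commutatorElement_eq_one_iff_mul_comm]
    exact congrArg Subtype.val (hcomm.is_comm.comm
      (⟨_, hle ⟨u, hu, rfl⟩⟩ : Subgroup.closure (π '' ((E : Set P) ∪ (L 1 : Set P)))) ⟨_, hle ⟨w, hw, rfl⟩⟩)
  have hk : ∀ k, N.lowerCentralSeries (k + 1) ≤ L (k + 2) := by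
    intro k
    induction k with
    | zero => exact h2
    | succ k ih =>
      show ⁅N.lowerCentralSeries (k + 1), N⁆ ≤ ⁅L (k + 2), ⊤⁆
      exact Subgroup.commutator_mono ih le_top
  set c := Group.nilpotencyClass P with hcdef
  have hc2 : 2 ≤ c := by
    by_contra h
    have h1 : L 1 = ⊥ := Subgroup.lowerCentralSeries_eq_bot_iff_nilpotencyClass_le.2 (by omega)
    exact hna ⟨⟨fun u w => commutatorElement_eq_one_iff_mul_comm.1 (Subgroup.mem_bot.1
      (h1 ▸ (hL1 ▸ Subgroup.commutator_mem_commutator (Subgroup.mem_top u) (Subgroup.mem_top w) : ⁅u, w⁆ ∈ L 1)))⟩⟩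
  have hbot : (⊤ : Subgroup ↥N).lowerCentralSeries (c - 1) = ⊥ := by
    rw [← Subgroup.map_subtype_inj, Subgroup.map_bot, Subgroup.top_subtype_lowerCentralSeries, eq_bot_iff,
      show c - 1 = (c - 2) + 1 by omega]
    refine (hk (c - 2)).trans (le_of_eq ?_)
    rw [show c - 2 + 2 = c by omega]
    exact Subgroup.lowerCentralSeries_nilpotencyClass
  have := Subgroup.lowerCentralSeries_eq_bot_iff_nilpotencyClass_le.1 hbot
  omega

/-- Let P be a non-abelian nilpotent p-group (every element of p-power order; P possibly infinite) generated by two abelian subgroups E and F. Then the normal closure of E in P, and likewise that of F, has nilpotency class strictly smaller than that of P. -/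
theorem result {P : Type*} [Group P] {p : ℕ} [Fact p.Prime] (hP : IsPGroup p P) [Group.IsNilpotent P]
    (hna : ¬ IsMulCommutative P) {E F : Subgroup P} (hE : IsMulCommutative ↥E) (hF : IsMulCommutative ↥F) (hgen : E ⊔ F = ⊤) :
    Group.nilpotencyClass ↥(Subgroup.normalClosure (E : Set P)) < Group.nilpotencyClass P ∧
    Group.nilpotencyClass ↥(Subgroup.normalClosure (F : Set P)) < Group.nilpotencyClass P := by
  exact ⟨aux_class (F := F) hna hE, aux_class (F := E) hna hF⟩

end Cfsg.Agent.S5067
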