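import Cfsg.Statements.S5070
import Cfsg.Agent.Lie.Sp
import Cfsg.Agent.Lie.SLn
import Cfsg.Agent.Solv.Basic

set_option autoImplicit false
open Matrix
open Cfsg

namespace Cfsg.Agent.S5070

open CfsgLib.Lie.Sp Matrix

section
variable {F : Type*} [Field F] {m : ℕ}

/-- `c ↦ tv p c`. -/
def tvHom (p : V m F) : Multiplicative F →* G m F where
  toFun c := tv p c.toAdd
  map_one' := tv_zero p
  map_mul' c d := (tv_add p _ _).symm

/-- The transvection group of `p`. -/
def T (p : V m F) : Subgroup (G m F) := (tvHom p).range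

theorem mem_T {p : V m F} {g : G m F} : g ∈ T p ↔ ∃ c, g = tv p c := by
  constructor
  · rintro ⟨c, rfl⟩; exact ⟨c.toAdd, rfl⟩
  · rintro ⟨c, rfl⟩; exact ⟨Multiplicative.ofAdd c, rfl⟩

theorem T_comm (p : V m F) : IsMulCommutative (T p) := by
  refine ⟨⟨?_⟩⟩
  rintro ⟨a, ha⟩ ⟨b, hb⟩
  obtain ⟨c, rfl⟩ := mem_T.1 ha
  obtain ⟨d, rfl⟩ := mem_T.1 hb
  exact Subtype.ext (show tv p c * tv p d = tv p d * tv p c by rw [tv_add, tv_add, add_comm])

theorem T_smul (p : V m F) {a : F} (ha : a ≠ 0) : T (a • p) = T p := by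
  ext g
  rw [mem_T, mem_T]
  constructor
  · rintro ⟨c, rfl⟩; exact ⟨a * a * c, tv_smul p a c⟩
  · rintro ⟨c, rfl⟩
    exact ⟨(a * a)⁻¹ * c, by rw [tv_smul]; congr 1; field_simp⟩

theorem T_conj (g : G m F) (p : V m F) : Cfsg.conjBy (T p) g = T (act g p) := by
  ext x
  rw [Cfsg.conjBy, Subgroup.mem_map, mem_T]
  constructor
  · rintro ⟨_, hy, rfl⟩
    obtain ⟨c, rfl⟩ := mem_T.1 hy
    exact ⟨c, by simp [conj_tv]⟩
  · rintro ⟨c, rfl⟩
    exact ⟨tv p c, mem_T.2 ⟨c, rfl⟩, by simp [conj_tv]⟩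

theorem act_ne {g : G m F} {p : V m F} (hp : p ≠ 0) : act g p ≠ 0 := fun e => hp (by
  have := act_inv_act g p
  rw [e] at this
  exact this.symm.trans (Matrix.mulVec_zero _))

theorem tv_ne_one {p : V m F} (hp : p ≠ 0) {c : F} (hc : c ≠ 0) : tv p c ≠ 1 := by
  intro e
  obtain ⟨v, hv⟩ := exists_bf_eq_one hp
  have h := congrArg (fun g => act g v) e
  simp only [act_tv, act_one, add_eq_left, smul_eq_zero, mul_eq_zero, bf_swap p v, hv, neg_eq_zero,
    one_ne_zero, or_false] at h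
  exact h.elim hc hp

theorem T_ne_bot {p : V m F} (hp : p ≠ 0) : T p ≠ ⊥ := fun e =>
  tv_ne_one hp one_ne_zero ((Subgroup.eq_bot_iff_forall _).1 e _ (mem_T.2 ⟨1, rfl⟩))

theorem T_commute {p q : V m F} (h : bf m F q p = 0) : ⁅T p, T q⁆ = ⊥ := by
  rw [Subgroup.commutator_eq_bot_iff_le_centralizer]
  intro a ha
  obtain ⟨c, rfl⟩ := mem_T.1 ha
  refine Subgroup.mem_centralizer_iff.2 fun b hb => ?_
  obtain ⟨d, rfl⟩ := mem_T.1 hb
  have h1 : act (tv p c) q = q := by rw [act_tv, h, mul_zero, zero_smul, add_zero]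
  have h2 := conj_tv (tv p c) q d
  rw [h1] at h2
  exact (eq_mul_of_mul_inv_eq h2).symm

theorem bf_of_commute {p q : V m F} (hp : p ≠ 0) (hq : q ≠ 0)
    (h : tv p 1 * tv q 1 = tv q 1 * tv p 1) : bf m F q p = 0 := by
  by_contra hb
  have h' := congrArg (fun g => act g q) h
  simp only [act_mul, act_tv, map_add, map_smul, LinearMap.add_apply, LinearMap.smul_apply,
    smul_eq_mul, bf_self, bf_swap q p, one_mul, zero_smul, add_zero, mul_zero, zero_add] at h'
  have h'' : (bf m F q p * -bf m F q p) • q = 0 := by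
    have := h'
    rw [left_eq_add] at this
    exact this
  rw [smul_eq_zero] at h''
  rcases h'' with e | e
  · simp [hb] at e
  · exact hq e

variable {p u : V m F}

theorem cond (hb : bf m F p u = 1) : Cfsg.RankOneCondition (T p) (T u) := by
  intro a ha ha1
  obtain ⟨c, rfl⟩ := mem_T.1 ha
  have hc : c ≠ 0 := fun e => ha1 (e ▸ tv_zero p)
  have hu : u ≠ 0 := fun e => by simp [e] at hb
  refine ⟨tv u (-c⁻¹), mem_T.2 ⟨_, rfl⟩, tv_ne_one hu (neg_ne_zero.2 (inv_ne_zero hc)), ?_⟩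
  rw [T_conj, T_conj, tv_inv, tv_inv, act_tv, act_tv, bf_swap p u, hb]
  rw [← T_smul (p + (-(-c⁻¹) * 1) • u) hc]
  congr 1
  ext i
  simp
  field_simp
  ring

open scoped IsMulCommutative in
theorem rankOne (hb : bf m F p u = 1) : Cfsg.IsRankOnePair (T p) (T u) := by
  have hb' : bf m F u ((-1 : F) • p) = 1 := by
    rw [map_smul, bf_swap, hb, smul_eq_mul]; ring
  have hp : p ≠ 0 := fun e => by simp [e] at hb
  haveI := T_comm p
  haveI := T_comm u
  refine ⟨fun e => ?_, inferInstance, inferInstance, cond hb, ?_⟩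
  · have h : tv p 1 * tv u 1 = tv u 1 * tv p 1 := by
      have h1 : tv p 1 ∈ T u := e ▸ mem_T.2 ⟨1, rfl⟩
      obtain ⟨c, hc⟩ := mem_T.1 h1
      rw [hc, tv_add, tv_add, add_comm]
    have h2 := bf_of_commute hp (fun e => by simp [e] at hb) h
    rw [bf_swap p u, hb] at h2
    simp at h2
  · have := cond hb'
    rwa [T_smul p (neg_ne_zero.2 (one_ne_zero (α := F)))] at this

/-- The action of a `2 × 2` matrix on the hyperbolic pair. -/
noncomputable def sl2Fun (p u : V m F) (g : Matrix (Fin 2) (Fin 2) F) : V m F →ₗ[F] V m F where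
  toFun v := v + (g 0 0 * bf m F v u + g 0 1 * bf m F p v - bf m F v u) • p +
    (g 1 0 * bf m F v u + g 1 1 * bf m F p v - bf m F p v) • u
  map_add' v w := by
    ext i
    simp only [map_add, LinearMap.add_apply, Pi.add_apply, Pi.smul_apply, smul_eq_mul]
    ring
  map_smul' c v := by
    ext i
    simp only [map_smul, LinearMap.smul_apply, Pi.add_apply, Pi.smul_apply, smul_eq_mul, RingHom.id_apply]
    ring

theorem sl2Fun_mem (hb : bf m F p u = 1) (g : Matrix.SpecialLinearGroup (Fin 2) F) :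
    LinearMap.toMatrix' (sl2Fun p u (g : Matrix (Fin 2) (Fin 2) F)) ∈ Matrix.symplecticGroup (Fin m) F := by
  rw [mem_iff_bf]
  intro v w
  rw [LinearMap.toMatrix'_mulVec, LinearMap.toMatrix'_mulVec]
  have hd := g.2
  rw [Matrix.det_fin_two] at hd
  simp only [sl2Fun, LinearMap.coe_mk, AddHom.coe_mk, map_add, map_smul, LinearMap.add_apply,
    LinearMap.smul_apply, smul_eq_mul, bf_self, bf_swap p u, bf_swap p v, bf_swap p w, bf_swap u v, bf_swap u w, hb]
  linear_combination (bf m F u w * bf m F p v - bf m F u v * bf m F p w) * hd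

/-- The image of `SL₂`. -/
noncomputable def sl2Hom (hb : bf m F p u = 1) : Matrix.SpecialLinearGroup (Fin 2) F →* G m F where
  toFun g := ⟨LinearMap.toMatrix' (sl2Fun p u g.1), sl2Fun_mem hb g⟩
  map_one' := by
    refine act_ext fun v => ?_
    show LinearMap.toMatrix' (sl2Fun p u (1 : Matrix (Fin 2) (Fin 2) F)) *ᵥ v = act 1 v
    rw [LinearMap.toMatrix'_mulVec, act_one]
    simp [sl2Fun]
  map_mul' g h := by
    refine act_ext fun v => ?_
    rw [act_mul]
    show LinearMap.toMatrix' (sl2Fun p u ((g : Matrix (Fin 2) (Fin 2) F) * h)) *ᵥ v =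
      LinearMap.toMatrix' (sl2Fun p u g.1) *ᵥ (LinearMap.toMatrix' (sl2Fun p u h.1) *ᵥ v)
    rw [LinearMap.toMatrix'_mulVec, LinearMap.toMatrix'_mulVec, LinearMap.toMatrix'_mulVec]
    ext i
    simp only [sl2Fun, LinearMap.coe_mk, AddHom.coe_mk, map_add, map_smul, LinearMap.add_apply,
      LinearMap.smul_apply, smul_eq_mul, bf_self, bf_swap p u, hb, Matrix.mul_apply, Fin.sum_univ_two,
      Pi.add_apply, Pi.smul_apply]
    ring

theorem act_sl2Hom (hb : bf m F p u = 1) (g : Matrix.SpecialLinearGroup (Fin 2) F) (v : V m F) :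
    act (sl2Hom hb g) v = v + (g.1 0 0 * bf m F v u + g.1 0 1 * bf m F p v - bf m F v u) • p +
      (g.1 1 0 * bf m F v u + g.1 1 1 * bf m F p v - bf m F p v) • u :=
  LinearMap.toMatrix'_mulVec _ v

theorem map_upper (hb : bf m F p u = 1) : (Cfsg.upperUnipotentSL2 F).map (sl2Hom hb) = T p := by
  refine le_antisymm ?_ ?_
  · rw [Cfsg.upperUnipotentSL2, MonoidHom.map_closure, Subgroup.closure_le]
    rintro _ ⟨g, ⟨h1, h2, h3⟩, rfl⟩
    refine mem_T.2 ⟨-(g.1 0 1), act_ext fun v => ?_⟩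
    rw [act_sl2Hom, act_tv, h1, h2, h3, bf_swap v p]
    ext i; simp
  · intro x hx
    obtain ⟨c, rfl⟩ := mem_T.1 hx
    refine ⟨⟨!![1, -c; 0, 1], by simp [Matrix.det_fin_two]⟩, Subgroup.subset_closure ⟨rfl, rfl, rfl⟩, ?_⟩
    refine act_ext fun v => ?_
    refine (act_sl2Hom hb _ v).trans ?_
    rw [act_tv, bf_swap v p]
    ext i; simp

theorem map_lower (hb : bf m F p u = 1) : (Cfsg.lowerUnipotentSL2 F).map (sl2Hom hb) = T u := by
  refine le_antisymm ?_ ?_
  · rw [Cfsg.lowerUnipotentSL2, MonoidHom.map_closure, Subgroup.closure_le]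
    rintro _ ⟨g, ⟨h1, h2, h3⟩, rfl⟩
    refine mem_T.2 ⟨g.1 1 0, act_ext fun v => ?_⟩
    rw [act_sl2Hom, act_tv, h1, h2, h3]
    ext i; simp
  · intro x hx
    obtain ⟨c, rfl⟩ := mem_T.1 hx
    refine ⟨⟨!![1, 0; c, 1], by simp [Matrix.det_fin_two]⟩, Subgroup.subset_closure ⟨rfl, rfl, rfl⟩, ?_⟩
    refine act_ext fun v => ?_
    refine (act_sl2Hom hb _ v).trans ?_
    rw [act_tv]
    ext i; simp

theorem pair_over (hb : bf m F p u = 1) : Cfsg.IsPSL2PairOver F (T p) (T u) := by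
  refine ⟨sl2Hom hb, ?_, ?_, map_upper hb, map_lower hb⟩
  · rw [← map_upper hb, ← map_lower hb, ← Subgroup.map_sup, MonoidHom.range_eq_map]
    congr 1
    symm
    refine CfsgLib.Lie.SLn.eq_top_of_transvection_mem _ fun i j hij c => ?_
    revert i j
    rw [Fin.forall_fin_two]
    refine ⟨?_, ?_⟩ <;> rw [Fin.forall_fin_two] <;> refine ⟨fun hij => ?_, fun hij => ?_⟩
    · exact absurd rfl hij
    · refine Subgroup.mem_sup_left (Subgroup.subset_closure ⟨?_, ?_, ?_⟩) <;>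
        simp [Matrix.SpecialLinearGroup.transvection, Matrix.transvection, Matrix.single]
    · refine Subgroup.mem_sup_right (Subgroup.subset_closure ⟨?_, ?_, ?_⟩) <;>
        simp [Matrix.SpecialLinearGroup.transvection, Matrix.transvection, Matrix.single]
    · exact absurd rfl hij
  · intro g hg
    have h1 : act (sl2Hom hb g) p = p := by rw [MonoidHom.mem_ker.1 hg, act_one]
    have h2 : act (sl2Hom hb g) u = u := by rw [MonoidHom.mem_ker.1 hg, act_one]
    rw [act_sl2Hom, bf_self, hb] at h1 h2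
    have e1 := congrArg (fun x => bf m F x u) h1
    have e2 := congrArg (fun x => bf m F p x) h1
    have e3 := congrArg (fun x => bf m F x u) h2
    have e4 := congrArg (fun x => bf m F p x) h2
    simp only [map_add, map_smul, LinearMap.add_apply, LinearMap.smul_apply, smul_eq_mul, bf_self, hb] at e1 e2 e3 e4
    have : g = 1 := by
      refine Subtype.ext (Matrix.ext fun i j => ?_)
      revert i j
      rw [Fin.forall_fin_two]
      refine ⟨?_, ?_⟩ <;> rw [Fin.forall_fin_two] <;> refine ⟨?_, ?_⟩ <;> simp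
      · linear_combination e1
      · linear_combination e3
      · linear_combination e2
      · linear_combination e4
    rw [this]
    exact one_mem _

theorem no_comm_case {p q : V m F} (hp : p ≠ 0) (hq : q ≠ 0) {S : Set (Subgroup (G m F))}
    (hS : ∀ A ∈ S, ∃ r, r ≠ 0 ∧ A = T r) : ¬ Cfsg.RootCommutatorCase S (T p) (T q) := by
  rintro ⟨hmem, hc, -, -⟩
  obtain ⟨r, hr, e⟩ := hS _ hmem
  have hrT : ∀ c, tv r c ∈ ⁅T p, T q⁆ := fun c => e ▸ mem_T.2 ⟨c, rfl⟩
  have h1 : bf m F p r = 0 := bf_of_commute hr hp (hc _ (hrT 1) _ (Subgroup.mem_sup_left (mem_T.2 ⟨1, rfl⟩)))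
  have h2 : bf m F q r = 0 := bf_of_commute hr hq (hc _ (hrT 1) _ (Subgroup.mem_sup_right (mem_T.2 ⟨1, rfl⟩)))
  -- the commutator subgroup fixes every vector orthogonal to `p` and `q`
  have hfix : ∀ x, bf m F x p = 0 → bf m F x q = 0 → bf m F x r = 0 := by
    intro x hxp hxq
    let Fx : Subgroup (G m F) :=
      { carrier := {g | act g x = x}
        one_mem' := act_one x
        mul_mem' := fun {a b} ha hb => by
          show act (a * b) x = x
          rw [act_mul, hb, ha]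
        inv_mem' := fun {a} ha => by
          show act a⁻¹ x = x
          conv_lhs => rw [← ha]
          exact act_inv_act a x }
    have hle : ∀ w, bf m F x w = 0 → T w ≤ Fx := fun w hw g hg => by
      obtain ⟨c, rfl⟩ := mem_T.1 hg
      show act (tv w c) x = x
      rw [act_tv, hw, mul_zero, zero_smul, add_zero]
    have h3 : act (tv r 1) x = x :=
      (Subgroup.commutator_le_self Fx).trans le_rfl (Subgroup.commutator_mono (hle p hxp) (hle q hxq) (hrT 1))
    rw [act_tv, one_mul, add_eq_left, smul_eq_zero] at h3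
    exact h3.resolve_right hr
  -- hence `r` lies in the span of `p` and `q`
  obtain ⟨s, hs⟩ := exists_bf_eq_one hr
  by_cases hpq : bf m F p q = 0
  · exact T_ne_bot hr (e ▸ T_commute (p := p) (q := q) (by rw [bf_swap, hpq, neg_zero]))
  · set x := s - (bf m F s q / bf m F p q) • p + (bf m F s p / bf m F p q) • q with hx
    have hxp : bf m F x p = 0 := by
      simp only [hx, map_add, map_sub, map_smul, LinearMap.add_apply, LinearMap.sub_apply,
        LinearMap.smul_apply, smul_eq_mul, bf_self, bf_swap p q]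
      field_simp
      ring
    have hxq : bf m F x q = 0 := by
      simp only [hx, map_add, map_sub, map_smul, LinearMap.add_apply, LinearMap.sub_apply,
        LinearMap.smul_apply, smul_eq_mul, bf_self]
      field_simp
      ring
    have h4 := hfix x hxp hxq
    simp only [hx, map_add, map_sub, map_smul, LinearMap.add_apply, LinearMap.sub_apply,
      LinearMap.smul_apply, smul_eq_mul, h1, h2, bf_swap r s, hs] at h4
    simp at h4

theorem exists_common {p q : V m F} (hp : p ≠ 0) (hq : q ≠ 0) :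
    ∃ r, bf m F p r ≠ 0 ∧ bf m F q r ≠ 0 := by
  obtain ⟨a, ha⟩ := exists_bf_eq_one hp
  obtain ⟨b, hb⟩ := exists_bf_eq_one hq
  by_cases h1 : bf m F q a = 0
  · by_cases h2 : bf m F p b = 0
    · exact ⟨a + b, by simp [ha, h2], by simp [hb, h1]⟩
    · exact ⟨b, h2, by simp [hb]⟩
  · exact ⟨a, by simp [ha], h1⟩

theorem rank_pair_of_ne {p q : V m F} (hpq : bf m F p q ≠ 0) :
    Cfsg.IsRankOnePair (T p) (T q) ∧ Cfsg.IsPSL2PairOver F (T p) (T q) := by
  have hb : bf m F p ((bf m F p q)⁻¹ • q) = 1 := by rw [map_smul, smul_eq_mul, inv_mul_cancel₀ hpq]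
  rw [← T_smul q (inv_ne_zero hpq)]
  exact ⟨rankOne hb, pair_over hb⟩

theorem root_class (m : ℕ) (S : Set (Subgroup (G (m + 1) F)))
    (hS : ∀ A, A ∈ S ↔ ∃ r : V (m + 1) F, r ≠ 0 ∧ A = T r) :
    Cfsg.IsRootSubgroupClass S ∧ Cfsg.IsDegenerateRootSet S ∧ Cfsg.IsKRootSubgroupSet F S ∧
      Cfsg.IsConnectedFamily (Cfsg.FAdj S) S := by
  have hroot : Cfsg.IsRootSubgroupSet S := by
    refine ⟨fun A hA => ?_, fun A hA => ?_, ?_, fun A hA g => ?_, fun A hA B hB => ?_⟩
    · obtain ⟨r, -, rfl⟩ := (hS A).1 hA; exact T_comm r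
    · obtain ⟨r, hr, rfl⟩ := (hS A).1 hA; exact T_ne_bot hr
    · refine eq_top_of_tv_mem _ fun w c => ?_
      by_cases hw : w = 0
      · subst hw
        rw [show tv (0 : V (m + 1) F) c = 1 from act_ext fun v => by simp [act_tv, act_one]]
        exact one_mem _
      · exact le_iSup₂ (f := fun A (_ : A ∈ S) => A) (T w) ((hS _).2 ⟨w, hw, rfl⟩) (mem_T.2 ⟨c, rfl⟩)
    · obtain ⟨r, hr, rfl⟩ := (hS A).1 hA
      exact (hS _).2 ⟨act g r, act_ne hr, T_conj g r⟩
    · obtain ⟨r, hr, rfl⟩ := (hS A).1 hA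
      obtain ⟨s, hs, rfl⟩ := (hS B).1 hB
      by_cases h : bf (m + 1) F r s = 0
      · exact Or.inl (T_commute (by rw [bf_swap, h, neg_zero]))
      · exact Or.inr (Or.inl (rank_pair_of_ne h).1)
  refine ⟨⟨hroot, ?_, fun A hA B hB => ?_⟩, fun A hA B hB => ?_, ⟨hroot, fun A hA B hB h => ?_⟩, fun A hA B hB => ?_⟩
  · exact ⟨T (e 0), (hS _).2 ⟨e 0, fun h => by
      have := congrFun h (.inl 0); simp [CfsgLib.Lie.Sp.e] at this, rfl⟩⟩
  · obtain ⟨r, hr, rfl⟩ := (hS A).1 hA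
    obtain ⟨s, hs, rfl⟩ := (hS B).1 hB
    obtain ⟨g, hg⟩ := transitive hr hs
    exact ⟨g, by rw [T_conj, hg]⟩
  · obtain ⟨r, hr, rfl⟩ := (hS A).1 hA
    obtain ⟨s, hs, rfl⟩ := (hS B).1 hB
    exact no_comm_case hr hs fun C hC => (hS C).1 hC
  · obtain ⟨r, hr, rfl⟩ := (hS A).1 hA
    obtain ⟨s, hs, rfl⟩ := (hS B).1 hB
    refine (rank_pair_of_ne (p := r) (q := s) fun hrs => ?_).2
    obtain ⟨b, hb, hb1, hconj⟩ := h.cond_left (tv r 1) (mem_T.2 ⟨1, rfl⟩) (tv_ne_one hr one_ne_zero)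
    obtain ⟨c, rfl⟩ := mem_T.1 hb
    rw [T_conj, T_conj, tv_inv, tv_inv, act_tv, act_tv, hrs, bf_swap r s, hrs] at hconj
    simp at hconj
    exact h.ne hconj
  · obtain ⟨r, hr, rfl⟩ := (hS A).1 hA
    obtain ⟨s, hs, rfl⟩ := (hS B).1 hB
    obtain ⟨t, h1, h2⟩ := exists_common hr hs
    have ht : t ≠ 0 := fun e => h1 (by simp [e])
    exact (Relation.ReflTransGen.single ⟨hA, (hS _).2 ⟨t, ht, rfl⟩, (rank_pair_of_ne h1).1⟩).tail
      ⟨(hS _).2 ⟨t, ht, rfl⟩, hB, Cfsg.RankOnePair_symm (rank_pair_of_ne h2).1⟩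

theorem closure_eq (m : ℕ) (p : V (m + 1) F) :
    Subgroup.closure {g : G (m + 1) F | ∃ c : F, ∀ v : V (m + 1) F,
      (g : Matrix (Fin (m + 1) ⊕ Fin (m + 1)) (Fin (m + 1) ⊕ Fin (m + 1)) F) *ᵥ v =
        v + (c * (v ⬝ᵥ (Matrix.J (Fin (m + 1)) F *ᵥ p))) • p} = T p := by
  have e : ∀ v, v ⬝ᵥ (Matrix.J (Fin (m + 1)) F *ᵥ p) = bf (m + 1) F v p := fun v => by
    rw [bf, Matrix.toLinearMap₂'_apply']
  simp only [e]
  refine le_antisymm ((Subgroup.closure_le _).2 ?_) fun g hg => ?_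
  · rintro g ⟨c, hc⟩
    exact mem_T.2 ⟨c, act_ext fun v => (hc v).trans (act_tv p c v).symm⟩
  · obtain ⟨c, rfl⟩ := mem_T.1 hg
    exact Subgroup.subset_closure ⟨c, fun v => act_tv p c v⟩

end

/-- Let F be a field, m a natural number and V = F^{2(m+1)} with the standard non-degenerate alternating form f(u, v) = uᵀ J v. For a non-zero vector p let T(p) be the group of symplectic transvections v ↦ v + c f(v, p) p, c ∈ F. Then the subgroups T(p), p ≠ 0, generate the symplectic group Sp_{2(m+1)}(F) and form a degenerate class of abstract F-root subgroups of it (any two of them either commute elementwise or are the unipotent subgroups of a rank one group that is an image of SL₂(F) with central kernel, never the commutator case), and their graph of rank one pairs is connected. -/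
theorem result (F : Type*) [Field F] (m : ℕ) :
    Cfsg.IsRootSubgroupClass {A : Subgroup ↥(Matrix.symplecticGroup (Fin (m + 1)) F) | ∃ p : Fin (m + 1) ⊕ Fin (m + 1) → F, p ≠ 0 ∧
        A = Subgroup.closure {g : ↥(Matrix.symplecticGroup (Fin (m + 1)) F) | ∃ c : F, ∀ v : Fin (m + 1) ⊕ Fin (m + 1) → F,
          (g : Matrix (Fin (m + 1) ⊕ Fin (m + 1)) (Fin (m + 1) ⊕ Fin (m + 1)) F) *ᵥ v =
            v + (c * (v ⬝ᵥ (Matrix.J (Fin (m + 1)) F *ᵥ p))) • p}} ∧
    Cfsg.IsDegenerateRootSet {A : Subgroup ↥(Matrix.symplecticGroup (Fin (m + 1)) F) | ∃ p : Fin (m + 1) ⊕ Fin (m + 1) → F, p ≠ 0 ∧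
        A = Subgroup.closure {g : ↥(Matrix.symplecticGroup (Fin (m + 1)) F) | ∃ c : F, ∀ v : Fin (m + 1) ⊕ Fin (m + 1) → F,
          (g : Matrix (Fin (m + 1) ⊕ Fin (m + 1)) (Fin (m + 1) ⊕ Fin (m + 1)) F) *ᵥ v =
            v + (c * (v ⬝ᵥ (Matrix.J (Fin (m + 1)) F *ᵥ p))) • p}} ∧
    Cfsg.IsKRootSubgroupSet F {A : Subgroup ↥(Matrix.symplecticGroup (Fin (m + 1)) F) | ∃ p : Fin (m + 1) ⊕ Fin (m + 1) → F, p ≠ 0 ∧
        A = Subgroup.closure {g : ↥(Matrix.symplecticGroup (Fin (m + 1)) F) | ∃ c : F, ∀ v : Fin (m + 1) ⊕ Fin (m + 1) → F,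
          (g : Matrix (Fin (m + 1) ⊕ Fin (m + 1)) (Fin (m + 1) ⊕ Fin (m + 1)) F) *ᵥ v =
            v + (c * (v ⬝ᵥ (Matrix.J (Fin (m + 1)) F *ᵥ p))) • p}} ∧
    Cfsg.IsConnectedFamily (Cfsg.FAdj {A : Subgroup ↥(Matrix.symplecticGroup (Fin (m + 1)) F) | ∃ p : Fin (m + 1) ⊕ Fin (m + 1) → F, p ≠ 0 ∧
        A = Subgroup.closure {g : ↥(Matrix.symplecticGroup (Fin (m + 1)) F) | ∃ c : F, ∀ v : Fin (m + 1) ⊕ Fin (m + 1) → F,
          (g : Matrix (Fin (m + 1) ⊕ Fin (m + 1)) (Fin (m + 1) ⊕ Fin (m + 1)) F) *ᵥ v =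
            v + (c * (v ⬝ᵥ (Matrix.J (Fin (m + 1)) F *ᵥ p))) • p}})
      {A : Subgroup ↥(Matrix.symplecticGroup (Fin (m + 1)) F) | ∃ p : Fin (m + 1) ⊕ Fin (m + 1) → F, p ≠ 0 ∧
        A = Subgroup.closure {g : ↥(Matrix.symplecticGroup (Fin (m + 1)) F) | ∃ c : F, ∀ v : Fin (m + 1) ⊕ Fin (m + 1) → F,
          (g : Matrix (Fin (m + 1) ⊕ Fin (m + 1)) (Fin (m + 1) ⊕ Fin (m + 1)) F) *ᵥ v =
            v + (c * (v ⬝ᵥ (Matrix.J (Fin (m + 1)) F *ᵥ p))) • p}} := by
  refine root_class (F := F) m _ fun A => ?_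
  simp only [Set.mem_setOf_eq, closure_eq]

end Cfsg.Agent.S5070
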