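import Cfsg.Statements.S5071
import Cfsg.Agent.Inv.TransvectionSU

set_option autoImplicit false
open Matrix
open Cfsg

namespace Cfsg.Agent.S5071

open Matrix CfsgLib.Inv CfsgLib.Inv.TSU CfsgLib.Lie.Herm

section
variable {F : Type*} [Field F] [Fintype F] {q : ℕ}

theorem main (n : ℕ) (hF : Fintype.card F = q ^ 2) (Sg : Set (Subgroup ↥(Cfsg.SU (n + 2) F q)))
    (hSg : ∀ A, A ∈ Sg ↔ ∃ p : Fin (n + 2) → F, p ≠ 0 ∧ Cfsg.hermForm (n + 2) F q p p = 0 ∧
      A = (P q p).subgroupOf (Cfsg.SU (n + 2) F q))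
    (G₀ : Subgroup ↥(Cfsg.SU (n + 2) F q)) (hG : G₀ = ⨆ B ∈ Sg, B) :
    Cfsg.IsRootSubgroupClass ((fun A => A.subgroupOf G₀) '' Sg) ∧
    Cfsg.IsDegenerateRootSet ((fun A => A.subgroupOf G₀) '' Sg) ∧
    (∃ (L : Type) (_ : Field L) (_ : Fintype L), Fintype.card L = q ∧
      Cfsg.IsKRootSubgroupSet L ((fun A => A.subgroupOf G₀) '' Sg)) ∧
    Cfsg.IsConnectedFamily (Cfsg.FAdj ((fun A => A.subgroupOf G₀) '' Sg)) ((fun A => A.subgroupOf G₀) '' Sg) := by
  generalize hS : (fun A => A.subgroupOf G₀) '' Sg = S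
  let W : (Fin (n + 2) → F) → Subgroup ↥G₀ := fun p => ((P q p).subgroupOf (Cfsg.SU (n + 2) F q)).subgroupOf G₀
  let f : ↥G₀ →* Matrix.SpecialLinearGroup (Fin (n + 2)) F := (Cfsg.SU (n + 2) F q).subtype.comp G₀.subtype
  have hfinj : Function.Injective f := (Subgroup.subtype_injective _).comp (Subgroup.subtype_injective _)
  let Ok : (Fin (n + 2) → F) → Prop := fun p => p ≠ 0 ∧ Cfsg.hermForm (n + 2) F q p p = 0
  have hmemS : ∀ A, A ∈ S ↔ ∃ p, Ok p ∧ A = W p := by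
    intro A
    rw [← hS, Set.mem_image]
    constructor
    · rintro ⟨B, hB, rfl⟩
      obtain ⟨p, h0, h1, rfl⟩ := (hSg B).1 hB
      exact ⟨p, ⟨h0, h1⟩, rfl⟩
    · rintro ⟨p, ⟨h0, h1⟩, rfl⟩
      exact ⟨_, (hSg _).2 ⟨p, h0, h1, rfl⟩, rfl⟩
  have hle : ∀ p, Ok p → (P q p).subgroupOf (Cfsg.SU (n + 2) F q) ≤ G₀ := fun p hp => by
    rw [hG]
    exact le_iSup₂ (f := fun B (_ : B ∈ Sg) => B) _ ((hSg _).2 ⟨p, hp.1, hp.2, rfl⟩)
  have hSU : ∀ p, Ok p → P q p ≤ Cfsg.SU (n + 2) F q := fun p hp => P_le_SU hF p hp.2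
  have hWmap : ∀ p, Ok p → (W p).map f = P q p := by
    intro p hp
    rw [← Subgroup.map_map]
    simp only [W]
    rw [Subgroup.map_subgroupOf_eq_of_le (hle p hp), Subgroup.map_subgroupOf_eq_of_le (hSU p hp)]
  have hpair : ∀ p r, Ok p → Ok r → Cfsg.hermForm (n + 2) F q p r ≠ 0 → Cfsg.IsRankOnePair (W p) (W r) :=
    fun p r hp hr h => rankOne_subgroupOf (hle p hp) (hle r hr)
      (rankOne_subgroupOf (hSU p hp) (hSU r hr) (rankOne hF hp.2 hr.2 hp.1 hr.1 h))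
  have hcomm : ∀ p r, Ok p → Ok r → Cfsg.hermForm (n + 2) F q p r = 0 → ⁅W p, W r⁆ = ⊥ := by
    intro p r hp hr h
    apply (Subgroup.map_eq_bot_iff_of_injective _ hfinj).1
    rw [Subgroup.map_commutator, hWmap p hp, hWmap r hr, P_commute hF hp.2 hr.2 h]
  have hWc : ∀ p, Ok p → IsMulCommutative (W p) := fun p hp => by
    refine ⟨⟨fun a b => Subtype.ext (hfinj ?_)⟩⟩
    haveI := P_comm hF hp.2
    have ha : f (a : ↥G₀) ∈ P q p := hWmap p hp ▸ Subgroup.mem_map_of_mem f a.2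
    have hb : f (b : ↥G₀) ∈ P q p := hWmap p hp ▸ Subgroup.mem_map_of_mem f b.2
    simp only [Subgroup.coe_mul, map_mul]
    exact congrArg Subtype.val (mul_comm' (⟨_, ha⟩ : P q p) ⟨_, hb⟩)
  have hWne : ∀ p, Ok p → W p ≠ ⊥ := fun p hp e =>
    P_ne_bot hF hp.2 hp.1 (by rw [← hWmap p hp, e, Subgroup.map_bot])
  have hnot : ∀ p r, Ok p → Ok r → Cfsg.IsRankOnePair (W p) (W r) → Cfsg.hermForm (n + 2) F q p r ≠ 0 := by
    intro p r hp hr hrk h
    have hc := hcomm p r hp hr h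
    obtain ⟨a, ha, ha1⟩ : ∃ a ∈ W p, a ≠ 1 := by
      by_contra hall
      push Not at hall
      exact hWne p hp ((Subgroup.eq_bot_iff_forall _).2 hall)
    obtain ⟨b, hb, -, e⟩ := hrk.cond_left a ha ha1
    refine hrk.ne ?_
    have h1 : Cfsg.conjBy (W p) b⁻¹ = W p := by
      refine Subgroup.mem_normalizer_iff_map_conj_eq.1 (inv_mem (Subgroup.centralizer_le_normalizer _ ?_))
      exact Subgroup.commutator_eq_bot_iff_le_centralizer.1 (by rw [Subgroup.commutator_comm, hc]) hb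
    have h2 : Cfsg.conjBy (W r) a⁻¹ = W r := by
      refine Subgroup.mem_normalizer_iff_map_conj_eq.1 (inv_mem (Subgroup.centralizer_le_normalizer _ ?_))
      exact Subgroup.commutator_eq_bot_iff_le_centralizer.1 hc ha
    rwa [h1, h2] at e
  have hroot : Cfsg.IsRootSubgroupSet S := by
    refine ⟨fun A hA => ?_, fun A hA => ?_, ?_, fun A hA g => ?_, fun A hA B hB => ?_⟩
    · obtain ⟨p, hp, rfl⟩ := (hmemS A).1 hA; exact hWc p hp
    · obtain ⟨p, hp, rfl⟩ := (hmemS A).1 hA; exact hWne p hp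
    · apply Subgroup.map_injective G₀.subtype_injective
      rw [← MonoidHom.range_eq_map, Subgroup.range_subtype, Subgroup.map_iSup]
      refine le_antisymm (iSup_le fun A => ?_) ?_
      · rw [Subgroup.map_iSup]
        exact iSup_le fun _ => Subgroup.map_subtype_le A
      · refine hG.le.trans (iSup₂_le fun B hB => ?_)
        obtain ⟨p, h0, h1, rfl⟩ := (hSg B).1 hB
        refine le_iSup_of_le (W p) ?_
        rw [Subgroup.map_iSup]
        refine le_iSup_of_le ((hmemS _).2 ⟨p, ⟨h0, h1⟩, rfl⟩) ?_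
        exact (Subgroup.map_subgroupOf_eq_of_le (hle p ⟨h0, h1⟩)).ge
    · obtain ⟨p, hp, rfl⟩ := (hmemS A).1 hA
      refine (hmemS _).2 ⟨_, ⟨act_ne _ hp.1, isotropic_act (g : ↥(Cfsg.SU (n + 2) F q)).2 hp.2⟩, ?_⟩
      simp only [W]
      rw [cj_subgroupOf (hle p hp), cj_subgroupOf (hSU p hp),
        P_conj hF (g : ↥(Cfsg.SU (n + 2) F q)).2 hp.2]
    · obtain ⟨p, hp, rfl⟩ := (hmemS A).1 hA
      obtain ⟨r, hr, rfl⟩ := (hmemS B).1 hB
      by_cases h : Cfsg.hermForm (n + 2) F q p r = 0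
      · exact Or.inl (hcomm p r hp hr h)
      · exact Or.inr (Or.inl (hpair p r hp hr h))
  have hconn : Cfsg.IsConnectedFamily (Cfsg.FAdj S) S := by
    intro A hA B hB
    obtain ⟨p, hp, rfl⟩ := (hmemS A).1 hA
    obtain ⟨r, hr, rfl⟩ := (hmemS B).1 hB
    by_cases h : Cfsg.hermForm (n + 2) F q p r = 0
    · obtain ⟨t, ht0, ht, h1, h2⟩ := exists_middle hF hp.2 hr.2 hp.1 hr.1 h
      have hT := (hmemS _).2 ⟨t, ⟨ht0, ht⟩, rfl⟩
      exact (Relation.ReflTransGen.single ⟨hA, hT, hpair p t hp ⟨ht0, ht⟩ h1⟩).tail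
        ⟨hT, hB, hpair t r ⟨ht0, ht⟩ hr h2⟩
    · exact Relation.ReflTransGen.single ⟨hA, hB, hpair p r hp hr h⟩
  refine ⟨⟨hroot, ?_, fun A hA B hB => ?_⟩, fun A hA B hB hc => ?_, ?_, hconn⟩
  · obtain ⟨a, ha0, ha⟩ := CfsgLib.Lie.Herm.exists_norm hF (-1 : F) (neg_ne_zero.2 one_ne_zero)
      (by rw [← conj_apply hF, map_neg, map_one])
    set p : Fin (n + 2) → F := Pi.single 0 1 + a • Pi.single 1 1 with hp
    have h01 : (0 : Fin (n + 2)) ≠ 1 := by simp [Fin.ext_iff]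
    refine ⟨W p, (hmemS _).2 ⟨p, ⟨fun e => ?_, ?_⟩, rfl⟩⟩
    · have := congrFun e 0
      simp [hp, h01] at this
    · simp only [hp, form_add_left, form_add_right hF, form_smul_left, form_smul_right, form_single hF,
        Pi.add_apply, Pi.smul_apply, smul_eq_mul, Pi.single_eq_same, Pi.single_eq_of_ne h01, Pi.single_eq_of_ne h01.symm, mul_zero, add_zero, zero_add, mul_one]
      linear_combination ha
  · have key : ∀ X, Relation.ReflTransGen (Cfsg.FAdj S) A X → ∃ g, X = Cfsg.conjBy A g := by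
      intro X h
      induction h with
      | refl => exact ⟨1, by ext x; simp [Cfsg.conjBy]⟩
      | tail _ hadj ih =>
        obtain ⟨g, rfl⟩ := ih
        obtain ⟨g', e⟩ := rankOne_conj hadj.2.2 (hroot.ne_bot _ hadj.1)
        refine ⟨g' * g, ?_⟩
        rw [e, Cfsg.conjBy, Cfsg.conjBy, Cfsg.conjBy, Subgroup.map_map]
        congr 1
        ext x
        simp [mul_assoc]
    exact key B (hconn A hA B hB)
  · obtain ⟨p, hp, rfl⟩ := (hmemS A).1 hA
    obtain ⟨r, hr, rfl⟩ := (hmemS B).1 hB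
    obtain ⟨hm, hcen, -, -⟩ := hc
    obtain ⟨t, ht, e⟩ := (hmemS _).1 hm
    refine not_comm_case hF hp.2 hr.2 hp.1 hr.1 ht.2 ht.1 ?_ ?_
    · rw [← hWmap p hp, ← hWmap r hr, ← hWmap t ht, ← Subgroup.map_commutator, e]
    · rw [← hWmap p hp, ← hWmap r hr, ← Subgroup.map_commutator, ← Subgroup.map_sup]
      rintro _ ⟨z, hz, rfl⟩ _ ⟨x, hx, rfl⟩
      rw [← map_mul, ← map_mul, hcen z hz x hx]
  · haveI : Fintype (Lf hF) := Fintype.ofFinite _
    let e : Fin q ≃ Lf hF := (finCongr (card_Lf hF).symm).trans (Finite.equivFin (Lf hF)).symm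
    letI : Field (Fin q) := e.field
    refine ⟨Fin q, inferInstance, inferInstance, Fintype.card_fin q, hroot, fun A hA B hB hrk => ?_⟩
    obtain ⟨p, hp, rfl⟩ := (hmemS A).1 hA
    obtain ⟨r, hr, rfl⟩ := (hmemS B).1 hB
    exact pair_over_subgroupOf (hle p hp) (hle r hr) (pair_over_subgroupOf (hSU p hp) (hSU r hr)
      (pair_over hF e.ringEquiv hp.2 hr.2 (hnot p r hp hr hrk)))

end

/-- Let F be a finite field with q² elements, n a natural number, and h the Hermitian form Σ uᵢ vᵢ^q on F^{n+2}. For a non-zero isotropic vector p let T(p) be the group of unitary transvections with centre ⟨p⟩: the elements of SU_{n+2}(q) moving every vector by a multiple of p and fixing every vector perpendicular to p. Let Σ be the set of these T(p) and G₀ the subgroup they generate. Then, viewed inside G₀, the members of Σ form a degenerate class of abstract k-root subgroups of G₀ for some field k with q elements (any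 two commute or are the unipotent subgroups of a rank one group that is an image of SL₂(k) with central kernel, never the commutator case), and their graph of rank one pairs is connected. -/
theorem result (F : Type*) [Field F] [Fintype F] (q n : ℕ) (hF : Fintype.card F = q ^ 2) :
    Cfsg.IsRootSubgroupClass ((fun A : Subgroup ↥(Cfsg.SU (n + 2) F q) => A.subgroupOf (⨆ B ∈ {A : Subgroup ↥(Cfsg.SU (n + 2) F q) | ∃ p : Fin (n + 2) → F, p ≠ 0 ∧ Cfsg.hermForm (n + 2) F q p p = 0 ∧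
          A = Subgroup.closure {g : ↥(Cfsg.SU (n + 2) F q) |
            (∀ v : Fin (n + 2) → F, ∃ c : F, ((g : Matrix.SpecialLinearGroup (Fin (n + 2)) F) : Matrix (Fin (n + 2)) (Fin (n + 2)) F) *ᵥ v = v + c • p) ∧
            ∀ v : Fin (n + 2) → F, Cfsg.hermForm (n + 2) F q v p = 0 →
              ((g : Matrix.SpecialLinearGroup (Fin (n + 2)) F) : Matrix (Fin (n + 2)) (Fin (n + 2)) F) *ᵥ v = v}}, B)) ''
      {A : Subgroup ↥(Cfsg.SU (n + 2) F q) | ∃ p : Fin (n + 2) → F, p ≠ 0 ∧ Cfsg.hermForm (n + 2) F q p p = 0 ∧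
          A = Subgroup.closure {g : ↥(Cfsg.SU (n + 2) F q) |
            (∀ v : Fin (n + 2) → F, ∃ c : F, ((g : Matrix.SpecialLinearGroup (Fin (n + 2)) F) : Matrix (Fin (n + 2)) (Fin (n + 2)) F) *ᵥ v = v + c • p) ∧
            ∀ v : Fin (n + 2) → F, Cfsg.hermForm (n + 2) F q v p = 0 →
              ((g : Matrix.SpecialLinearGroup (Fin (n + 2)) F) : Matrix (Fin (n + 2)) (Fin (n + 2)) F) *ᵥ v = v}}) ∧
    Cfsg.IsDegenerateRootSet ((fun A : Subgroup ↥(Cfsg.SU (n + 2) F q) => A.subgroupOf (⨆ B ∈ {A : Subgroup ↥(Cfsg.SU (n + 2) F q) | ∃ p : Fin (n + 2) → F, p ≠ 0 ∧ Cfsg.hermForm (n + 2) F q p p = 0 ∧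
          A = Subgroup.closure {g : ↥(Cfsg.SU (n + 2) F q) |
            (∀ v : Fin (n + 2) → F, ∃ c : F, ((g : Matrix.SpecialLinearGroup (Fin (n + 2)) F) : Matrix (Fin (n + 2)) (Fin (n + 2)) F) *ᵥ v = v + c • p) ∧
            ∀ v : Fin (n + 2) → F, Cfsg.hermForm (n + 2) F q v p = 0 →
              ((g : Matrix.SpecialLinearGroup (Fin (n + 2)) F) : Matrix (Fin (n + 2)) (Fin (n + 2)) F) *ᵥ v = v}}, B)) ''
      {A : Subgroup ↥(Cfsg.SU (n + 2) F q) | ∃ p : Fin (n + 2) → F, p ≠ 0 ∧ Cfsg.hermForm (n + 2) F q p p = 0 ∧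
          A = Subgroup.closure {g : ↥(Cfsg.SU (n + 2) F q) |
            (∀ v : Fin (n + 2) → F, ∃ c : F, ((g : Matrix.SpecialLinearGroup (Fin (n + 2)) F) : Matrix (Fin (n + 2)) (Fin (n + 2)) F) *ᵥ v = v + c • p) ∧
            ∀ v : Fin (n + 2) → F, Cfsg.hermForm (n + 2) F q v p = 0 →
              ((g : Matrix.SpecialLinearGroup (Fin (n + 2)) F) : Matrix (Fin (n + 2)) (Fin (n + 2)) F) *ᵥ v = v}}) ∧
    (∃ (L : Type) (_ : Field L) (_ : Fintype L), Fintype.card L = q ∧ Cfsg.IsKRootSubgroupSet L ((fun A : Subgroup ↥(Cfsg.SU (n + 2) F q) => A.subgroupOf (⨆ B ∈ {A : Subgroup ↥(Cfsg.SU (n + 2) F q) | ∃ p : Fin (n + 2) → F, p ≠ 0 ∧ Cfsg.hermForm (n + 2) F q p p = 0 ∧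
          A = Subgroup.closure {g : ↥(Cfsg.SU (n + 2) F q) |
            (∀ v : Fin (n + 2) → F, ∃ c : F, ((g : Matrix.SpecialLinearGroup (Fin (n + 2)) F) : Matrix (Fin (n + 2)) (Fin (n + 2)) F) *ᵥ v = v + c • p) ∧
            ∀ v : Fin (n + 2) → F, Cfsg.hermForm (n + 2) F q v p = 0 →
              ((g : Matrix.SpecialLinearGroup (Fin (n + 2)) F) : Matrix (Fin (n + 2)) (Fin (n + 2)) F) *ᵥ v = v}}, B)) ''
      {A : Subgroup ↥(Cfsg.SU (n + 2) F q) | ∃ p : Fin (n + 2) → F, p ≠ 0 ∧ Cfsg.hermForm (n + 2) F q p p = 0 ∧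
          A = Subgroup.closure {g : ↥(Cfsg.SU (n + 2) F q) |
            (∀ v : Fin (n + 2) → F, ∃ c : F, ((g : Matrix.SpecialLinearGroup (Fin (n + 2)) F) : Matrix (Fin (n + 2)) (Fin (n + 2)) F) *ᵥ v = v + c • p) ∧
            ∀ v : Fin (n + 2) → F, Cfsg.hermForm (n + 2) F q v p = 0 →
              ((g : Matrix.SpecialLinearGroup (Fin (n + 2)) F) : Matrix (Fin (n + 2)) (Fin (n + 2)) F) *ᵥ v = v}})) ∧
    Cfsg.IsConnectedFamily (Cfsg.FAdj ((fun A : Subgroup ↥(Cfsg.SU (n + 2) F q) => A.subgroupOf (⨆ B ∈ {A : Subgroup ↥(Cfsg.SU (n + 2) F q) | ∃ p : Fin (n + 2) → F, p ≠ 0 ∧ Cfsg.hermForm (n + 2) F q p p = 0 ∧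
          A = Subgroup.closure {g : ↥(Cfsg.SU (n + 2) F q) |
            (∀ v : Fin (n + 2) → F, ∃ c : F, ((g : Matrix.SpecialLinearGroup (Fin (n + 2)) F) : Matrix (Fin (n + 2)) (Fin (n + 2)) F) *ᵥ v = v + c • p) ∧
            ∀ v : Fin (n + 2) → F, Cfsg.hermForm (n + 2) F q v p = 0 →
              ((g : Matrix.SpecialLinearGroup (Fin (n + 2)) F) : Matrix (Fin (n + 2)) (Fin (n + 2)) F) *ᵥ v = v}}, B)) ''
      {A : Subgroup ↥(Cfsg.SU (n + 2) F q) | ∃ p : Fin (n + 2) → F, p ≠ 0 ∧ Cfsg.hermForm (n + 2) F q p p = 0 ∧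
          A = Subgroup.closure {g : ↥(Cfsg.SU (n + 2) F q) |
            (∀ v : Fin (n + 2) → F, ∃ c : F, ((g : Matrix.SpecialLinearGroup (Fin (n + 2)) F) : Matrix (Fin (n + 2)) (Fin (n + 2)) F) *ᵥ v = v + c • p) ∧
            ∀ v : Fin (n + 2) → F, Cfsg.hermForm (n + 2) F q v p = 0 →
              ((g : Matrix.SpecialLinearGroup (Fin (n + 2)) F) : Matrix (Fin (n + 2)) (Fin (n + 2)) F) *ᵥ v = v}})) ((fun A : Subgroup ↥(Cfsg.SU (n + 2) F q) => A.subgroupOf (⨆ B ∈ {A : Subgroup ↥(Cfsg.SU (n + 2) F q) | ∃ p : Fin (n + 2) → F, p ≠ 0 ∧ Cfsg.hermForm (n + 2) F q p p = 0 ∧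
          A = Subgroup.closure {g : ↥(Cfsg.SU (n + 2) F q) |
            (∀ v : Fin (n + 2) → F, ∃ c : F, ((g : Matrix.SpecialLinearGroup (Fin (n + 2)) F) : Matrix (Fin (n + 2)) (Fin (n + 2)) F) *ᵥ v = v + c • p) ∧
            ∀ v : Fin (n + 2) → F, Cfsg.hermForm (n + 2) F q v p = 0 →
              ((g : Matrix.SpecialLinearGroup (Fin (n + 2)) F) : Matrix (Fin (n + 2)) (Fin (n + 2)) F) *ᵥ v = v}}, B)) ''
      {A : Subgroup ↥(Cfsg.SU (n + 2) F q) | ∃ p : Fin (n + 2) → F, p ≠ 0 ∧ Cfsg.hermForm (n + 2) F q p p = 0 ∧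
          A = Subgroup.closure {g : ↥(Cfsg.SU (n + 2) F q) |
            (∀ v : Fin (n + 2) → F, ∃ c : F, ((g : Matrix.SpecialLinearGroup (Fin (n + 2)) F) : Matrix (Fin (n + 2)) (Fin (n + 2)) F) *ᵥ v = v + c • p) ∧
            ∀ v : Fin (n + 2) → F, Cfsg.hermForm (n + 2) F q v p = 0 →
              ((g : Matrix.SpecialLinearGroup (Fin (n + 2)) F) : Matrix (Fin (n + 2)) (Fin (n + 2)) F) *ᵥ v = v}}) := by
  refine main (F := F) (q := q) n hF _ (fun A => ?_) _ rfl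
  simp only [Set.mem_setOf_eq]
  constructor
  · rintro ⟨p, h0, h1, rfl⟩
    exact ⟨p, h0, h1, set_eq hF h1 h0⟩
  · rintro ⟨p, h0, h1, rfl⟩
    exact ⟨p, h0, h1, (set_eq hF h1 h0).symm⟩

end Cfsg.Agent.S5071
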