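import Cfsg.Statements.S5072
import Cfsg.Agent.Inv.SiegelRoot
import Cfsg.Agent.Inv.TransvectionSU

set_option autoImplicit false
open Matrix
open Cfsg

namespace Cfsg.Agent.S5072

open Matrix CfsgLib.Inv CfsgLib.Inv.Siegel
open scoped commutatorElement

section
variable {G : Type*} [Group G]

theorem case_subgroupOf {H A B : Subgroup G} {Sg : Set (Subgroup G)} (hA : A ≤ H) (hB : B ≤ H)
    (h : Cfsg.RootCommutatorCase Sg A B) :
    Cfsg.RootCommutatorCase ((fun X => X.subgroupOf H) '' Sg) (A.subgroupOf H) (B.subgroupOf H) := by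
  obtain ⟨h1, h2, h3, h4⟩ := h
  have hC : ⁅A, B⁆ ≤ H := Subgroup.commutator_le.2 fun a ha b hb => by
    rw [commutatorElement_def]
    exact H.mul_mem (H.mul_mem (H.mul_mem (hA ha) (hB hb)) (H.inv_mem (hA ha))) (H.inv_mem (hB hb))
  have e : ⁅A.subgroupOf H, B.subgroupOf H⁆ = ⁅A, B⁆.subgroupOf H :=
    Subgroup.map_injective H.subtype_injective (by
      rw [Subgroup.map_commutator, Subgroup.map_subgroupOf_eq_of_le hA, Subgroup.map_subgroupOf_eq_of_le hB,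
        Subgroup.map_subgroupOf_eq_of_le hC])
  refine ⟨e ▸ ⟨_, h1, rfl⟩, fun c hc x hx => Subtype.ext (h2 c ?_ x ?_), fun a ha ha1 => ?_,
    fun b hb hb1 => ?_⟩
  · rw [e] at hc; exact hc
  · rw [← Subgroup.subgroupOf_sup hA hB] at hx; exact hx
  · refine Subgroup.map_injective H.subtype_injective ?_
    rw [MonoidHom.map_closure, Set.image_image, e, Subgroup.map_subgroupOf_eq_of_le hC,
      ← h3 a ha (fun e' => ha1 (Subtype.ext e'))]
    congr 1
    ext z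
    exact ⟨fun ⟨x, hx, e'⟩ => ⟨x, hx, e'⟩, fun ⟨x, hx, e'⟩ => ⟨⟨x, hB hx⟩, hx, e'⟩⟩
  · refine Subgroup.map_injective H.subtype_injective ?_
    rw [MonoidHom.map_closure, Set.image_image, e, Subgroup.map_subgroupOf_eq_of_le hC,
      ← h4 b hb (fun e' => hb1 (Subtype.ext e'))]
    congr 1
    ext z
    exact ⟨fun ⟨x, hx, e'⟩ => ⟨x, hx, e'⟩, fun ⟨x, hx, e'⟩ => ⟨⟨x, hA hx⟩, hx, e'⟩⟩

theorem rankOne_of_subgroupOf {H A B : Subgroup G} (hA : A ≤ H) (hB : B ≤ H)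
    (h : Cfsg.IsRankOnePair (A.subgroupOf H) (B.subgroupOf H)) : Cfsg.IsRankOnePair A B := by
  have key : ∀ C D : Subgroup G, C ≤ H → D ≤ H → Cfsg.RankOneCondition (C.subgroupOf H) (D.subgroupOf H) →
      Cfsg.RankOneCondition C D := by
    intro C D hC hD h a ha ha1
    obtain ⟨b, hb, hb1, e⟩ := h ⟨a, hC ha⟩ ha (fun e' => ha1 (congrArg Subtype.val e'))
    refine ⟨b, hb, fun e' => hb1 (Subtype.ext e'), ?_⟩
    rw [TSU.cj_subgroupOf hC, TSU.cj_subgroupOf hD] at e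
    refine TSU.subgroupOf_inj ?_ ?_ e
    · rintro _ ⟨x, hx, rfl⟩
      exact H.mul_mem (H.mul_mem (H.inv_mem b.2) (hC hx)) (H.inv_mem (H.inv_mem b.2))
    · rintro _ ⟨x, hx, rfl⟩
      exact H.mul_mem (H.mul_mem (H.inv_mem (hC ha)) (hD hx)) (H.inv_mem (H.inv_mem (hC ha)))
  haveI := h.nilpotent_left
  haveI := h.nilpotent_right
  exact ⟨fun e => h.ne (by rw [e]),
    Group.nilpotent_of_surjective (Subgroup.subgroupOfEquivOfLe hA).toMonoidHom
      (Subgroup.subgroupOfEquivOfLe hA).surjective,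
    Group.nilpotent_of_surjective (Subgroup.subgroupOfEquivOfLe hB).toMonoidHom
      (Subgroup.subgroupOfEquivOfLe hB).surjective,
    key A B hA hB h.cond_left, key B A hB hA h.cond_right⟩

end

section
variable {F : Type*} [Field F] {M : ℕ}

theorem main (hM : 3 ≤ M) (Sg : Set (Subgroup (O M F)))
    (hSg : ∀ A, A ∈ Sg ↔ ∃ p r : V M F, Line p r ∧ A = T p r)
    (G₀ : Subgroup (O M F)) (hG : G₀ = ⨆ B ∈ Sg, B) :
    Cfsg.IsKRootSubgroupSet F ((fun A => A.subgroupOf G₀) '' Sg) ∧ Cfsg.IsConnectedFamily (Cfsg.FAdj Sg) Sg := by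
  have hmem : ∀ p r, Line p r → T p r ∈ Sg := fun p r h => (hSg _).2 ⟨p, r, h, rfl⟩
  have hle : ∀ A ∈ Sg, A ≤ G₀ := fun A hA => by
    rw [hG]
    exact le_iSup₂ (f := fun B (_ : B ∈ Sg) => B) A hA
  refine ⟨⟨⟨?_, ?_, ?_, ?_, ?_⟩, ?_⟩, ?_⟩
  · rintro _ ⟨A, hA, rfl⟩
    obtain ⟨p, r, h, rfl⟩ := (hSg A).1 hA
    haveI := T_comm h
    refine ⟨⟨fun a b => Subtype.ext (Subtype.ext ?_)⟩⟩
    have := congrArg Subtype.val (mul_comm' (⟨_, a.2⟩ : T p r) ⟨_, b.2⟩)
    exact this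
  · rintro _ ⟨A, hA, rfl⟩ e
    obtain ⟨p, r, h, rfl⟩ := (hSg A).1 hA
    refine T_ne_bot h ?_
    replace e : (T p r).subgroupOf G₀ = ⊥ := e
    rw [← Subgroup.map_subgroupOf_eq_of_le (hle _ hA), e, Subgroup.map_bot]
  · apply Subgroup.map_injective G₀.subtype_injective
    rw [← MonoidHom.range_eq_map, Subgroup.range_subtype, Subgroup.map_iSup]
    refine le_antisymm (iSup_le fun A => ?_) ?_
    · rw [Subgroup.map_iSup]
      exact iSup_le fun _ => Subgroup.map_subtype_le A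
    · refine hG.le.trans (iSup₂_le fun B hB => ?_)
      refine le_iSup_of_le (B.subgroupOf G₀) ?_
      rw [Subgroup.map_iSup]
      refine le_iSup_of_le ⟨B, hB, rfl⟩ ?_
      exact (Subgroup.map_subgroupOf_eq_of_le (hle B hB)).ge
  · rintro _ ⟨A, hA, rfl⟩ g
    obtain ⟨p, r, h, rfl⟩ := (hSg A).1 hA
    refine ⟨_, hmem _ _ (line_act (g : O M F) h), ?_⟩
    show (T (act (g : O M F) p) (act (g : O M F) r)).subgroupOf G₀ = _
    rw [TSU.cj_subgroupOf (hle _ hA), T_conj]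
  · rintro _ ⟨A, hA, rfl⟩ _ ⟨B, hB, rfl⟩
    obtain ⟨p, r, h, rfl⟩ := (hSg A).1 hA
    obtain ⟨u, w, h', rfl⟩ := (hSg B).1 hB
    rcases trichotomy Sg hmem h h' with e | e | e
    · refine Or.inl (Subgroup.map_injective G₀.subtype_injective ?_)
      rw [Subgroup.map_commutator, Subgroup.map_subgroupOf_eq_of_le (hle _ hA),
        Subgroup.map_subgroupOf_eq_of_le (hle _ hB), e, Subgroup.map_bot]
    · exact Or.inr (Or.inl (TSU.rankOne_subgroupOf (hle _ hA) (hle _ hB) e))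
    · exact Or.inr (Or.inr (case_subgroupOf (hle _ hA) (hle _ hB) e))
  · rintro _ ⟨A, hA, rfl⟩ _ ⟨B, hB, rfl⟩ hrk
    obtain ⟨p, r, h, rfl⟩ := (hSg A).1 hA
    obtain ⟨u, w, h', rfl⟩ := (hSg B).1 hB
    exact TSU.pair_over_subgroupOf (hle _ hA) (hle _ hB)
      (rank_pair_of_det h h' (det_of_rankOne h h' (rankOne_of_subgroupOf (hle _ hA) (hle _ hB) hrk))).2
  · intro A hA B hB
    obtain ⟨p, r, h, rfl⟩ := (hSg A).1 hA
    obtain ⟨u, w, h', rfl⟩ := (hSg B).1 hB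
    obtain ⟨u', w', -, eT, path⟩ := connected hM h h'
    rw [← eT]
    have key : ∀ b, Relation.ReflTransGen Step (p, r) b →
        Relation.ReflTransGen (Cfsg.FAdj Sg) (T p r) (T b.1 b.2) := by
      intro b hb
      induction hb with
      | refl => exact .refl
      | tail _ hs ih =>
        rcases hs with ⟨l1, l2, hd⟩ | ⟨-, e⟩
        · exact ih.tail ⟨hmem _ _ l1, hmem _ _ l2, (rank_pair_of_det l1 l2 hd).1⟩
        · rwa [e] at ih
    exact key _ path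

theorem closure_eq (p r : V M F) :
    Subgroup.closure {σ : O M F | ∀ v : V M F,
      Cfsg.quadFormPlus M F (v + p) - Cfsg.quadFormPlus M F v - Cfsg.quadFormPlus M F p = 0 →
      Cfsg.quadFormPlus M F (v + r) - Cfsg.quadFormPlus M F v - Cfsg.quadFormPlus M F r = 0 →
        ((σ : Matrix.GeneralLinearGroup (Fin M ⊕ Fin M) F) : Matrix (Fin M ⊕ Fin M) (Fin M ⊕ Fin M) F) *ᵥ v = v} =
      T p r := by
  have e : ∀ v q : V M F,
      Cfsg.quadFormPlus M F (v + q) - Cfsg.quadFormPlus M F v - Cfsg.quadFormPlus M F q = B v q := fun v q => by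
    have := Q_add v q
    linear_combination this
  rw [← Subgroup.closure_eq (T p r)]
  congr 1
  ext σ
  simp only [Set.mem_setOf_eq, e]
  rfl

end

/-- Let F be a field, m a natural number and V = F^{2(m+3)} with the hyperbolic quadratic form q(x, y) = Σ xᵢ yᵢ (non-degenerate, Witt index m + 3 ≥ 3). For a singular line ℓ (a 2-dimensional subspace on which q vanishes) let T(ℓ) be the group of isometries of q fixing every vector of ℓ^⊥ (the Siegel transvection group of ℓ), let Σ be the set of these groups and G₀ the subgroup they generate. Then, viewed inside G₀, the members of Σ form a set of abstract F-root subgroups of G₀ (any two commute, or are the unipotent subgroups of a rank one group that is an image of SL₂(F) with central kernel, or satisfy the commutator case), and their graph of rank one pairs is connected. -/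
theorem result (F : Type*) [Field F] (m : ℕ) :
    Cfsg.IsKRootSubgroupSet F ((fun A : Subgroup ↥(Cfsg.isometryGroup F (Cfsg.quadFormPlus (m + 3) F)) => A.subgroupOf (⨆ B ∈ {A : Subgroup ↥(Cfsg.isometryGroup F (Cfsg.quadFormPlus (m + 3) F)) | ∃ p r : Fin (m + 3) ⊕ Fin (m + 3) → F, LinearIndependent F ![p, r] ∧
          Cfsg.quadFormPlus (m + 3) F p = 0 ∧ Cfsg.quadFormPlus (m + 3) F r = 0 ∧
          Cfsg.quadFormPlus (m + 3) F (p + r) = 0 ∧
          A = Subgroup.closure {σ : ↥(Cfsg.isometryGroup F (Cfsg.quadFormPlus (m + 3) F)) | ∀ v : Fin (m + 3) ⊕ Fin (m + 3) → F,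
            Cfsg.quadFormPlus (m + 3) F (v + p) - Cfsg.quadFormPlus (m + 3) F v - Cfsg.quadFormPlus (m + 3) F p = 0 →
            Cfsg.quadFormPlus (m + 3) F (v + r) - Cfsg.quadFormPlus (m + 3) F v - Cfsg.quadFormPlus (m + 3) F r = 0 →
              ((σ : Matrix.GeneralLinearGroup (Fin (m + 3) ⊕ Fin (m + 3)) F) : Matrix (Fin (m + 3) ⊕ Fin (m + 3)) (Fin (m + 3) ⊕ Fin (m + 3)) F) *ᵥ v = v}}, B)) ''
      {A : Subgroup ↥(Cfsg.isometryGroup F (Cfsg.quadFormPlus (m + 3) F)) | ∃ p r : Fin (m + 3) ⊕ Fin (m + 3) → F, LinearIndependent F ![p, r] ∧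
          Cfsg.quadFormPlus (m + 3) F p = 0 ∧ Cfsg.quadFormPlus (m + 3) F r = 0 ∧
          Cfsg.quadFormPlus (m + 3) F (p + r) = 0 ∧
          A = Subgroup.closure {σ : ↥(Cfsg.isometryGroup F (Cfsg.quadFormPlus (m + 3) F)) | ∀ v : Fin (m + 3) ⊕ Fin (m + 3) → F,
            Cfsg.quadFormPlus (m + 3) F (v + p) - Cfsg.quadFormPlus (m + 3) F v - Cfsg.quadFormPlus (m + 3) F p = 0 →
            Cfsg.quadFormPlus (m + 3) F (v + r) - Cfsg.quadFormPlus (m + 3) F v - Cfsg.quadFormPlus (m + 3) F r = 0 →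
              ((σ : Matrix.GeneralLinearGroup (Fin (m + 3) ⊕ Fin (m + 3)) F) : Matrix (Fin (m + 3) ⊕ Fin (m + 3)) (Fin (m + 3) ⊕ Fin (m + 3)) F) *ᵥ v = v}}) ∧
    Cfsg.IsConnectedFamily (Cfsg.FAdj {A : Subgroup ↥(Cfsg.isometryGroup F (Cfsg.quadFormPlus (m + 3) F)) | ∃ p r : Fin (m + 3) ⊕ Fin (m + 3) → F, LinearIndependent F ![p, r] ∧
          Cfsg.quadFormPlus (m + 3) F p = 0 ∧ Cfsg.quadFormPlus (m + 3) F r = 0 ∧
          Cfsg.quadFormPlus (m + 3) F (p + r) = 0 ∧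
          A = Subgroup.closure {σ : ↥(Cfsg.isometryGroup F (Cfsg.quadFormPlus (m + 3) F)) | ∀ v : Fin (m + 3) ⊕ Fin (m + 3) → F,
            Cfsg.quadFormPlus (m + 3) F (v + p) - Cfsg.quadFormPlus (m + 3) F v - Cfsg.quadFormPlus (m + 3) F p = 0 →
            Cfsg.quadFormPlus (m + 3) F (v + r) - Cfsg.quadFormPlus (m + 3) F v - Cfsg.quadFormPlus (m + 3) F r = 0 →
              ((σ : Matrix.GeneralLinearGroup (Fin (m + 3) ⊕ Fin (m + 3)) F) : Matrix (Fin (m + 3) ⊕ Fin (m + 3)) (Fin (m + 3) ⊕ Fin (m + 3)) F) *ᵥ v = v}})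
      {A : Subgroup ↥(Cfsg.isometryGroup F (Cfsg.quadFormPlus (m + 3) F)) | ∃ p r : Fin (m + 3) ⊕ Fin (m + 3) → F, LinearIndependent F ![p, r] ∧
          Cfsg.quadFormPlus (m + 3) F p = 0 ∧ Cfsg.quadFormPlus (m + 3) F r = 0 ∧
          Cfsg.quadFormPlus (m + 3) F (p + r) = 0 ∧
          A = Subgroup.closure {σ : ↥(Cfsg.isometryGroup F (Cfsg.quadFormPlus (m + 3) F)) | ∀ v : Fin (m + 3) ⊕ Fin (m + 3) → F,
            Cfsg.quadFormPlus (m + 3) F (v + p) - Cfsg.quadFormPlus (m + 3) F v - Cfsg.quadFormPlus (m + 3) F p = 0 →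
            Cfsg.quadFormPlus (m + 3) F (v + r) - Cfsg.quadFormPlus (m + 3) F v - Cfsg.quadFormPlus (m + 3) F r = 0 →
              ((σ : Matrix.GeneralLinearGroup (Fin (m + 3) ⊕ Fin (m + 3)) F) : Matrix (Fin (m + 3) ⊕ Fin (m + 3)) (Fin (m + 3) ⊕ Fin (m + 3)) F) *ᵥ v = v}} := by
  refine main (F := F) (M := m + 3) (by omega) _ (fun A => ?_) _ rfl
  simp only [Set.mem_setOf_eq]
  constructor
  · rintro ⟨p, r, h1, h2, h3, h4, rfl⟩
    exact ⟨p, r, ⟨h1, h2, h3, h4⟩, closure_eq p r⟩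
  · rintro ⟨p, r, ⟨h1, h2, h3, h4⟩, rfl⟩
    exact ⟨p, r, h1, h2, h3, h4, (closure_eq p r).symm⟩

end Cfsg.Agent.S5072
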