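import Cfsg.Statements.S5085
import Cfsg.Agent.Fus.Automizer

set_option autoImplicit false
open Cfsg

namespace Cfsg.Agent.S5085

/-- In any fusion system, a characteristic subgroup of a subgroup that is normal in the system is itself normal in the system. -/
theorem result {Ω : Type*} [Group Ω] {S : Subgroup Ω} (F : Cfsg.FusionSystem S) (Q U : Subgroup Ω) (hQ : F.IsNormal Q) (hUQ : U ≤ Q) (hU : (U.subgroupOf Q).Characteristic) : F.IsNormal U := by
  rw [CfsgLib.Fus.isNormal_iff] at hQ ⊢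
  refine ⟨hUQ.trans hQ.1, fun P f hf => ?_⟩
  obtain ⟨g, hg, hge, hgQ⟩ := hQ.2 P f hf
  refine ⟨g, hg.mono (sup_le_sup_left hUQ P), hge, ?_⟩
  obtain ⟨α, -, hα⟩ := CfsgLib.Fus.exists_aut (hg.mono le_sup_right) hgQ
  have hfix : (U.subgroupOf Q).map (α : Q ≃* Q).toMonoidHom = U.subgroupOf Q :=
    Subgroup.characteristic_iff_map_eq.1 hU _
  refine le_antisymm (CfsgLib.Fus.img_le_iff.2 fun x hx => ?_) fun x hx => ?_
  · rw [← hα x (hUQ hx), CfsgLib.Fus.autFun_of_mem α (hUQ hx)]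
    exact Subgroup.mem_subgroupOf.1 (hfix.le ⟨⟨x, hUQ hx⟩, hx, rfl⟩)
  · obtain ⟨y, hy, hyx⟩ := hfix.ge (show (⟨x, hUQ hx⟩ : Q) ∈ U.subgroupOf Q from hx)
    have hyx' : g y = x := by
      rw [← hα y y.2, CfsgLib.Fus.autFun_apply α y]
      exact congrArg Subtype.val hyx
    exact hyx' ▸ CfsgLib.Fus.mem_img_of_mem hy

end Cfsg.Agent.S5085
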