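import Cfsg.Statements.S5087
import Cfsg.Agent.Fus.Normal

set_option autoImplicit false
open Cfsg

namespace Cfsg.Agent.S5087

/-- In a saturated fusion system over a finite p-group S, a subgroup Q is normal in the system if and only if every subgroup P that equals S or is essential contains Q and every element of Aut_F(P) maps Q onto itself. -/
theorem result {Ω : Type*} [Group Ω] {S : Subgroup Ω} [Finite S] (p : ℕ) [Fact p.Prime] (hS : IsPGroup p S) (F : Cfsg.FusionSystem S) (hF : F.IsSaturated p) (Q : Subgroup Ω) : F.IsNormal Q ↔ ∀ P : Subgroup Ω, (P = S ∨ F.IsEssential p P) → (Q ≤ P ∧ ∀ α ∈ F.autGroup P, (Q.subgroupOf P).map α.toMonoidHom = Q.subgroupOf P) := by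
  constructor
  · intro h P hP
    obtain ⟨hc, hr⟩ := CfsgLib.Fus.crit_cases hS hF hP
    have hQP := CfsgLib.Fus.normal_le_centric_radical hS h hc hr
    refine ⟨hQP, fun α hα => ?_⟩
    haveI := CfsgLib.Fus.finite_of_le hc.1
    refine Subgroup.eq_of_le_of_card_ge ?_ ?_
    · rintro _ ⟨x, hx, rfl⟩
      refine Subgroup.mem_subgroupOf.2 ?_
      have := CfsgLib.Fus.autFun_mem_of_stronglyClosed (CfsgLib.Fus.isNormal_stronglyClosed h) hc.1 hα x.2 hx
      rwa [CfsgLib.Fus.autFun_apply] at this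
    · exact (Nat.card_congr ((Q.subgroupOf P).equivMapOfInjective _ α.injective).toEquiv).le
  · intro h
    refine CfsgLib.Fus.normal_criterion hS hF fun P hP => ⟨(h P hP).1, fun α hα x hx => ?_⟩
    rw [CfsgLib.Fus.autFun_of_mem α ((h P hP).1 hx)]
    exact Subgroup.mem_subgroupOf.1 (((h P hP).2 α hα).le ⟨⟨x, (h P hP).1 hx⟩, hx, rfl⟩)

end Cfsg.Agent.S5087
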