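import Cfsg.Statements.S5088
import Cfsg.Agent.Fus.Normal

set_option autoImplicit false
open Cfsg

namespace Cfsg.Agent.S5088

/-- In a saturated fusion system over a finite p-group, a subgroup Q is normal in the system if and only if there is a chain of subgroups 1 = Q₀ ≤ Q₁ ≤ ⋯ ≤ Qₙ = Q such that each Qᵢ with i ≥ 1 is strongly closed in the system and [Q, Qᵢ] ≤ Qᵢ₋₁. -/
theorem result {Ω : Type*} [Group Ω] {S : Subgroup Ω} [Finite S] (p : ℕ) [Fact p.Prime] (hS : IsPGroup p S) (F : Cfsg.FusionSystem S) (hF : F.IsSaturated p) (Q : Subgroup Ω) : F.IsNormal Q ↔ ∃ (n : ℕ) (Qs : Fin (n + 1) → Subgroup Ω), Qs 0 = ⊥ ∧ Qs (Fin.last n) = Q ∧ Monotone Qs ∧ ∀ i : Fin n, F.StronglyClosed (Qs i.succ) ∧ ⁅Q, Qs i.succ⁆ ≤ Qs (Fin.castSucc i) := by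
  constructor
  · intro h
    obtain ⟨n, C, h0, hn, hmono, hnorm, hcomm⟩ := CfsgLib.Fus.exists_normal_series hS h
    refine ⟨n, fun i => C i, h0, hn, fun i j hij => hmono i j hij, fun i => ?_⟩
    refine ⟨CfsgLib.Fus.isNormal_stronglyClosed (hnorm _), ?_⟩
    rw [Subgroup.commutator_comm]
    exact hcomm i i.2
  · rintro ⟨n, Qs, h0, hn, hmono, hstep⟩
    have hQsc : F.StronglyClosed Q := by
      rcases n with _ | m
      · have : Q = ⊥ := by rw [← hn]; exact h0
        subst this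
        exact CfsgLib.Fus.isNormal_stronglyClosed CfsgLib.Fus.isNormal_bot
      · rw [← hn, show Fin.last (m + 1) = (Fin.last m).succ from rfl]
        exact (hstep _).1
    refine CfsgLib.Fus.normal_of_series hS hF hQsc n (fun i => Qs ⟨min i n, by omega⟩) ?_ ?_ ?_ ?_ ?_
    · simpa using h0
    · rw [← hn]; congr 1; exact Fin.ext (min_self n)
    · intro i hi; rw [← hn]; exact hmono (Fin.le_last _)
    · intro i hi
      have h2 := (hstep ⟨i, hi⟩).2
      rw [Subgroup.commutator_comm] at h2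
      show ⁅Qs ⟨min (i + 1) n, by omega⟩, Q⁆ ≤ Qs ⟨min i n, by omega⟩
      rw [show (⟨min (i + 1) n, by omega⟩ : Fin (n + 1)) = (⟨i, hi⟩ : Fin n).succ from Fin.ext (by simp; omega),
        show (⟨min i n, by omega⟩ : Fin (n + 1)) = (⟨i, hi⟩ : Fin n).castSucc from Fin.ext (by simp; omega)]
      exact h2
    · intro i hi
      rcases i with _ | j
      · have : Qs ⟨min 0 n, by omega⟩ = ⊥ := by simpa using h0
        show F.WeaklyClosed (Qs ⟨min 0 n, by omega⟩)
        rw [this]
        exact CfsgLib.Fus.stronglyClosed_weaklyClosed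
          (CfsgLib.Fus.isNormal_stronglyClosed CfsgLib.Fus.isNormal_bot)
      · have h2 := (hstep ⟨j, by omega⟩).1
        show F.WeaklyClosed (Qs ⟨min (j + 1) n, by omega⟩)
        rw [show (⟨min (j + 1) n, by omega⟩ : Fin (n + 1)) = (⟨j, by omega⟩ : Fin n).succ from Fin.ext (by simp; omega)]
        exact CfsgLib.Fus.stronglyClosed_weaklyClosed h2

end Cfsg.Agent.S5088
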