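import Cfsg.Statements.S5089
import Cfsg.Agent.Fus.Normal

set_option autoImplicit false
open Cfsg

namespace Cfsg.Agent.S5089

/-- A saturated fusion system over a finite p-group has a nontrivial subgroup that is normal in the system (O_p(F) ≠ 1) if and only if some nontrivial abelian subgroup is strongly closed in the system. -/
theorem result {Ω : Type*} [Group Ω] {S : Subgroup Ω} [Finite S] (p : ℕ) [Fact p.Prime] (hS : IsPGroup p S) (F : Cfsg.FusionSystem S) (hF : F.IsSaturated p) : F.core ≠ ⊥ ↔ ∃ Q : Subgroup Ω, Q ≠ ⊥ ∧ IsMulCommutative Q ∧ F.StronglyClosed Q := by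
  constructor
  · intro h
    have hn : F.IsNormal F.core := CfsgLib.Fus.isNormal_core
    haveI := CfsgLib.Fus.finite_of_le hn.1
    haveI : Nontrivial F.core := (Subgroup.nontrivial_iff_ne_bot _).2 h
    have hp : IsPGroup p ↥F.core := hS.to_le hn.1
    haveI := hp.center_nontrivial
    have hchar : (((Subgroup.center ↥F.core).map F.core.subtype).subgroupOf F.core).Characteristic := by
      rw [Subgroup.subgroupOf, Subgroup.comap_map_eq_self_of_injective F.core.subtype_injective]
      infer_instance
    refine ⟨(Subgroup.center ↥F.core).map F.core.subtype, ?_, inferInstance, ?_⟩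
    · rw [ne_eq, Subgroup.map_eq_bot_iff_of_injective _ F.core.subtype_injective]
      exact (Subgroup.nontrivial_iff_ne_bot _).1 inferInstance
    · exact CfsgLib.Fus.isNormal_stronglyClosed
        (CfsgLib.Fus.isNormal_of_char hn (Subgroup.map_subtype_le _) hchar)
  · rintro ⟨Q, hne, hab, hsc⟩ hbot
    apply hne
    have hcomm : ⁅Q, Q⁆ = ⊥ := by
      rw [eq_bot_iff, Subgroup.commutator_le]
      intro a ha b hb
      have h1 : a * b = b * a := congrArg Subtype.val (hab.is_comm.comm ⟨a, ha⟩ ⟨b, hb⟩)
      rw [Subgroup.mem_bot, commutatorElement_def, h1]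
      group
    have hn := CfsgLib.Fus.normal_of_series hS hF hsc 1 (fun i => if i = 0 then ⊥ else Q) (if_pos rfl)
      (if_neg one_ne_zero) (fun i _ => by split_ifs; exacts [bot_le, le_rfl])
      (fun i hi => by
        obtain rfl : i = 0 := by omega
        simp [hcomm])
      (fun i hi => by
        obtain rfl : i = 0 := by omega
        simp only [if_pos]
        exact CfsgLib.Fus.stronglyClosed_weaklyClosed
          (CfsgLib.Fus.isNormal_stronglyClosed CfsgLib.Fus.isNormal_bot))
    exact le_bot_iff.1 (hbot ▸ CfsgLib.Fus.le_core hn)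

end Cfsg.Agent.S5089
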