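import Cfsg.Statements.S5102
import Cfsg.Agent.Fus.Group

set_option autoImplicit false
open Cfsg

namespace Cfsg.Agent.S5102

/-- A normal p-subgroup of a finite group G is normal in the fusion system of G on a Sylow p-subgroup. -/
theorem result {G : Type*} [Group G] [Finite G] (p : ℕ) [Fact p.Prime] (S : Sylow p G) (R : Subgroup G) [R.Normal] (hR : IsPGroup p R) : (Cfsg.groupFusionSystem (S : Subgroup G)).IsNormal R := by
  have hRS : R ≤ (S : Subgroup G) := hR.le_sylow_of_normal S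
  refine CfsgLib.Fus.isNormal_iff.2 ⟨hRS, fun P f hf => ?_⟩
  obtain ⟨hP, g, hg⟩ := CfsgLib.Fus.isMap_group_iff.1 hf
  have hN : R.Normal := inferInstance
  refine ⟨CfsgLib.Fus.conjF g, CfsgLib.Fus.isMap_group_iff.2 ⟨sup_le hP hRS, g,
    fun x hx => ⟨rfl, ?_⟩⟩, fun x hx => ((hg x hx).1).symm, le_antisymm ?_ ?_⟩
  · have hle : P ⊔ R ≤ (S : Subgroup G).comap (MulAut.conj g).toMonoidHom :=
      sup_le (fun y hy => (hg y hy).2) (fun y hy => hRS (hN.conj_mem y hy g))
    exact hle hx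
  · exact CfsgLib.Fus.img_le_iff.2 fun x hx => hN.conj_mem x hx g
  · intro x hx
    have : CfsgLib.Fus.conjF g (g⁻¹ * x * g) = x := by simp [mul_assoc]
    exact this ▸ CfsgLib.Fus.mem_img_of_mem (by simpa using hN.conj_mem x hx g⁻¹)

end Cfsg.Agent.S5102
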