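import Cfsg.Statements.S5104
import Cfsg.Agent.Fus.Saturation

set_option autoImplicit false
open Cfsg

namespace Cfsg.Agent.S5104

/-- In a saturated fusion system over a finite p-group S, a fully centralized subgroup U with C_S(U) ≤ U is centric. -/
theorem result {Ω : Type*} [Group Ω] {S : Subgroup Ω} [Finite S] (p : ℕ) [Fact p.Prime] (hS : IsPGroup p S) (F : Cfsg.FusionSystem S) (hF : F.IsSaturated p) (U : Subgroup Ω) (hU : F.IsFullyCentralized U) (hC : Cfsg.FusionSystem.centralizerIn S U ≤ U) : F.IsCentric U := by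
  open CfsgLib.Fus in
  refine ⟨hU.1, fun Q hQ => ?_⟩
  open CfsgLib.Fus in
  obtain ⟨f, hf, rfl⟩ := isConj_iff.1 hQ
  open CfsgLib.Fus in
  haveI := finite_of_le hf.img_le
  have hsub : CfsgLib.Fus.img f (Cfsg.FusionSystem.centralizerIn S U) ≤
      Cfsg.FusionSystem.centralizerIn S (CfsgLib.Fus.img f U) :=
    hf.img_centralizerIn_le le_rfl hC
  haveI := CfsgLib.Fus.finite_of_le (CfsgLib.Fus.centralizerIn_le (S := S) (CfsgLib.Fus.img f U))
  have heq := Subgroup.eq_of_le_of_card_ge hsub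
    ((hf.mono hC).card_img.symm ▸ hU.2 _ hQ)
  rw [← heq]
  exact CfsgLib.Fus.img_mono hC

end Cfsg.Agent.S5104
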