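import Cfsg.Statements.S5106
import Cfsg.Agent.Fus.Control

set_option autoImplicit false
open Cfsg

namespace Cfsg.Agent.S5106

/-- In a saturated fusion system over a finite p-group S, a subgroup R ≤ S is normal in the system if and only if every map of the system whose source is a subgroup of R is the restriction of an element of Aut_F(R). -/
theorem result {Ω : Type*} [Group Ω] {S : Subgroup Ω} [Finite S] (p : ℕ) [Fact p.Prime] (hS : IsPGroup p S) (F : Cfsg.FusionSystem S) (hF : F.IsSaturated p) (R : Subgroup Ω) (hRS : R ≤ S) : F.IsNormal R ↔ ∀ (P : Subgroup Ω) (hPR : P ≤ R) (φ : P →* Ω), φ ∈ F.Hom P → ∃ α ∈ F.autGroup R, ∀ x : P, ((α (Subgroup.inclusion hPR x) : R) : Ω) = φ x := by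
  constructor
  · intro h P hPR φ hφ
    obtain ⟨hR, hext⟩ := CfsgLib.Fus.isNormal_iff.1 h
    obtain ⟨g, hg, hge, hgR⟩ := hext P _ (CfsgLib.Fus.IsMap.of_hom hφ)
    obtain ⟨α, hα, hαe⟩ := CfsgLib.Fus.exists_aut (hg.mono le_sup_right) hgR
    refine ⟨α, hα, fun x => ?_⟩
    rw [← CfsgLib.Fus.ev_apply φ x, ← hge x x.2, ← hαe x (hPR x.2), CfsgLib.Fus.autFun_of_mem α (hPR x.2)]
    rfl
  · intro h
    refine CfsgLib.Fus.normal_of_extend hS hF hRS fun P f hPR hf => ?_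
    obtain ⟨φ, hφ, hφf⟩ := hf
    obtain ⟨α, hα, hαe⟩ := h P hPR φ hφ
    refine ⟨α, hα, fun x hx => ?_⟩
    rw [← hφf ⟨x, hx⟩, ← hαe ⟨x, hx⟩, CfsgLib.Fus.autFun_of_mem α (hPR hx)]
    rfl

end Cfsg.Agent.S5106
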