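import Cfsg.Statements.S5107
import Cfsg.Agent.Fus.Normal
import Cfsg.Agent.Fus.Group
import Cfsg.Agent.Fus.NormalizerSystem
import Cfsg.Agent.Fus.Centric

set_option autoImplicit false
open Cfsg
open scoped commutatorElement

namespace Cfsg.Agent.S5107

/-- If a Sylow p-subgroup S of a finite group G has nilpotency class at most two and its centre is strongly closed in S with respect to G, then every map of the fusion system of G on S is conjugation by an element of N_G(S), and S is the largest subgroup normal in that fusion system. -/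
theorem result {G : Type*} [Group G] [Finite G] (p : ℕ) [Fact p.Prime] (S : Sylow p G) (hcl : ⁅(S : Subgroup G), (S : Subgroup G)⁆ ≤ (S : Subgroup G) ⊓ Subgroup.centralizer ((S : Subgroup G) : Set G)) (hZ : Cfsg.IsStronglyClosed ((S : Subgroup G) ⊓ Subgroup.centralizer ((S : Subgroup G) : Set G)) (S : Subgroup G)) : (∀ (P : Subgroup G) (φ : P →* G), φ ∈ (Cfsg.groupFusionSystem (S : Subgroup G)).Hom P → ∃ g ∈ Subgroup.normalizer ((S : Subgroup G) : Set G), ∀ x : P, φ x = g * (x : G) * g⁻¹) ∧ (Cfsg.groupFusionSystem (S : Subgroup G)).core = S := by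
  classical
  set T := (S : Subgroup G) with hT
  set Z := T ⊓ Subgroup.centralizer (T : Set G) with hZdef
  have hTp : IsPGroup p T := S.isPGroup'
  have hF := CfsgLib.Fus.group_saturated (p := p) S
  have hSn : (Cfsg.groupFusionSystem T).IsNormal T := by
    refine CfsgLib.Fus.normal_of_closed hTp hF ⟨le_rfl, fun R hR φ hφ x => hφ.2.1 x⟩ fun P hc hr => ?_
    refine CfsgLib.Fus.le_of_normalizer_le hTp hc.1 le_rfl Subgroup.le_normalizer fun x hx hxn => ?_
    have hZP : Z ≤ P := fun z hz => CfsgLib.Fus.centric_center hc (Subgroup.mem_inf.1 hz).1 fun y hy =>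
      Subgroup.mem_centralizer_iff.1 (Subgroup.mem_inf.1 hz).2 y (hc.1 hy)
    refine CfsgLib.Fus.mem_of_stabilized hTp hc hr 2 (fun j => if j = 0 then ⊥ else if j = 1 then Z else P) rfl
      (fun j _ => by split_ifs <;> simp [hZP]) ?_ (fun α _ => ⟨0, fun y hy => ?_⟩) hx hxn ?_
    · intro α hα j _ y hy

      split_ifs with h0 h1
      · rw [if_pos h0, Subgroup.mem_bot] at hy
        subst hy
        rw [Subgroup.mem_bot, CfsgLib.Fus.autFun_of_mem α P.one_mem]
        exact congrArg Subtype.val (map_one α)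
      · rw [if_neg h0, if_pos h1] at hy
        rw [CfsgLib.Fus.autGroup_group hc.1] at hα
        obtain ⟨g, -, hg⟩ := CfsgLib.Fus.mem_autInducedBy.1 hα
        rw [hg y (hZP hy)]
        refine hZ.2 y hy g ?_
        rw [← hg y (hZP hy)]
        exact hc.1 (CfsgLib.Fus.autFun_mem α (hZP hy))
      · rw [if_neg h0, if_neg h1] at hy
        exact CfsgLib.Fus.autFun_mem α hy
    · simp only [if_pos rfl, Subgroup.mem_bot] at hy
      subst hy
      rw [pow_zero, pow_one, CfsgLib.Fus.autFun_of_mem α P.one_mem]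
      exact congrArg Subtype.val (map_one α)
    · intro j hj y hy

      interval_cases j
      · rw [if_neg (by omega), if_pos rfl] at hy
        rw [if_pos rfl, Subgroup.mem_bot, inv_mul_eq_one]
        rw [← Subgroup.mem_centralizer_iff.1 (Subgroup.mem_inf.1 hy).2 x hx |>.symm, mul_inv_cancel_right]
      · rw [if_neg (by omega), if_neg (by omega)] at hy
        rw [if_neg (by omega), if_pos rfl]
        refine hcl ?_
        have h := Subgroup.commutator_mem_commutator (T.inv_mem (hc.1 hy)) hx
        simpa [commutatorElement_def, mul_assoc] using h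
  refine ⟨fun P φ hφ => ?_, le_antisymm (CfsgLib.Fus.isNormal_core (F := Cfsg.groupFusionSystem T)).1 (CfsgLib.Fus.le_core hSn)⟩
  obtain ⟨ψ, hψ, hψe, hψT⟩ := hSn.2 P φ hφ
  obtain ⟨_hP, _hψS, g, hg⟩ := hψ
  refine ⟨g, Subgroup.mem_normalizer_fintype fun y hy => ?_, fun x => ?_⟩
  · rw [← hg ⟨y, Subgroup.mem_sup_right hy⟩]
    exact _hψS _
  · rw [← hψe x, hg]
    rfl

end Cfsg.Agent.S5107
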