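import Cfsg.Statements.S5119
import Cfsg.Agent.Fus.StrongInvariance

set_option autoImplicit false
open Cfsg

namespace Cfsg.Agent.S5119

/-- Let F be a saturated fusion system over a finite p-group S and E a subsystem of F over a subgroup T that is strongly closed in F. Then E is invariant in F (invariance under Aut_F(T) plus the Frattini condition) if and only if the strong invariance condition holds: for P ≤ Q ≤ T, every map φ of E from P into Q and every map ψ of F with source Q, the transported map ψ φ ψ⁻¹ on ψ(P) is a map of E. -/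
theorem result {Ω : Type*} [Group Ω] {S : Subgroup Ω} [Finite S] (p : ℕ) [Fact p.Prime] (hS : IsPGroup p S) (F : Cfsg.FusionSystem S) (hF : F.IsSaturated p) {T : Subgroup Ω} (E : Cfsg.FusionSystem T) (hE : E.IsSubsystemOf F) (hT : F.StronglyClosed T) : E.IsInvariantIn F ↔ ∀ (P Q : Subgroup Ω) (hPQ : P ≤ Q) (_ : Q ≤ T) (φ : P →* Ω) (_ : φ ∈ E.Hom P) (hφQ : ∀ x : P, φ x ∈ Q) (ψ : Q →* Ω) (_ : ψ ∈ F.Hom Q), ∃ χ ∈ E.Hom ((P.subgroupOf Q).map ψ), ∀ (x : P) (hx : ψ (Subgroup.inclusion hPQ x) ∈ (P.subgroupOf Q).map ψ), χ ⟨ψ (Subgroup.inclusion hPQ x), hx⟩ = ψ ⟨φ x, hφQ x⟩ := by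
  rw [CfsgLib.Fus.StrongInv.invariant_iff hT hS hF hE]
  open CfsgLib.Fus in
  constructor
  · intro h P Q hPQ hQ φ hφ hφQ ψ hψ
    obtain ⟨c, ⟨χ, hχ, hχc⟩, hce⟩ := h P Q hPQ hQ _ (IsMap.of_hom hφ)
      (fun x hx => (ev_of_mem φ hx).symm ▸ hφQ ⟨x, hx⟩) _ (IsMap.of_hom hψ)
    rw [map_subgroupOf_eq_img ψ hPQ]
    refine ⟨χ, hχ, fun x hx => ?_⟩
    rw [hχc]
    have h1 := hce x x.2
    rw [ev_of_mem ψ (hPQ x.2), ev_apply φ x, ev_of_mem ψ (hφQ x)] at h1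
    exact h1
  · intro h P Q hPQ hQ f hf hfQ g hg
    obtain ⟨φ, hφ, hφf⟩ := hf
    obtain ⟨ψ, hψ, hψg⟩ := hg
    obtain ⟨χ, hχ, he⟩ := h P Q hPQ hQ φ hφ (fun x => (hφf x).symm ▸ hfQ x x.2) ψ hψ
    have hi : (P.subgroupOf Q).map ψ = img g P := by
      rw [map_subgroupOf_eq_img ψ hPQ]
      exact img_congr fun x hx => (ev_of_mem ψ (hPQ hx)).trans (hψg ⟨x, hPQ hx⟩)
    refine ⟨ev χ, hi ▸ IsMap.of_hom hχ, fun x hx => ?_⟩
    have hg' : ψ (Subgroup.inclusion hPQ ⟨x, hx⟩) = g x := hψg ⟨x, hPQ hx⟩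
    have hm : ψ (Subgroup.inclusion hPQ ⟨x, hx⟩) ∈ (P.subgroupOf Q).map ψ :=
      ⟨_, hx, rfl⟩
    rw [← hg', ev_of_mem χ hm, he ⟨x, hx⟩ hm, hψg ⟨_, _⟩]
    exact congrArg g (hφf ⟨x, hx⟩)

end Cfsg.Agent.S5119
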