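import Cfsg.Statements.S5125
import Cfsg.Agent.Fus.Normal

set_option autoImplicit false
open Cfsg

namespace Cfsg.Agent.S5125

/-- Let F be a saturated fusion system over a finite p-group S and Q a subgroup strongly closed in F. If Q has a subgroup Q₁ that is normal in F, with Q/Q₁ abelian and Aut_F(Q₁) a p-group, then Q is normal in F. -/
theorem result {Ω : Type*} [Group Ω] {S : Subgroup Ω} [Finite S] (p : ℕ) [Fact p.Prime] (hS : IsPGroup p S) (F : Cfsg.FusionSystem S) (hF : F.IsSaturated p) (Q Q₁ : Subgroup Ω) (hQ : F.StronglyClosed Q) (hQ₁Q : Q₁ ≤ Q) (hQ₁ : F.IsNormal Q₁) (hab : ⁅Q, Q⁆ ≤ Q₁) (hAut : IsPGroup p ↥(F.autGroup Q₁)) : F.IsNormal Q := by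
  have hQS : Q ≤ S := hQ.1
  have hQn := CfsgLib.Fus.stronglyClosed_normal hQ
  refine CfsgLib.Fus.normal_of_closed hS hF hQ fun P hc hr => ?_
  have hQ₁P := CfsgLib.Fus.normal_le_centric_radical hS hQ₁ hc hr
  have hQ₁c := CfsgLib.Fus.isNormal_stronglyClosed hQ₁
  refine CfsgLib.Fus.le_of_normalizer_le hS hc.1 hQS hQn fun x hx hxn => ?_
  let D : ℕ → Subgroup Ω := fun j => if j = 0 then Q₁ else if j = 1 then P ⊓ Q else P
  have hD0 : D 0 = Q₁ := rfl
  have hD1 : D 1 = P ⊓ Q := rfl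
  have hD2 : D 2 = P := rfl
  have cases3 : ∀ j ≤ 2, j = 0 ∨ j = 1 ∨ j = 2 := fun j hj => by omega
  refine CfsgLib.Fus.mem_of_stabilized hS hc hr 2 D hD2 (fun j hj => ?_) (fun α hα j hj y hy => ?_)
    (fun α hα => ?_) (hQS hx) hxn fun j hj y hy => ?_
  · rcases cases3 j hj with rfl | rfl | rfl
    exacts [hQ₁P, inf_le_left, le_rfl]
  · rcases cases3 j hj with rfl | rfl | rfl
    · exact CfsgLib.Fus.autFun_mem_of_stronglyClosed hQ₁c hc.1 hα (hQ₁P hy) hy
    · exact ⟨CfsgLib.Fus.autFun_mem α hy.1,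
        CfsgLib.Fus.autFun_mem_of_stronglyClosed hQ hc.1 hα hy.1 hy.2⟩
    · exact CfsgLib.Fus.autFun_mem α hy
  · have hm := ((CfsgLib.Fus.mem_autGroup hc.1).1 hα).mono hQ₁P
    haveI := CfsgLib.Fus.finite_of_le hQ₁.1
    have hi : CfsgLib.Fus.img (CfsgLib.Fus.autFun α) Q₁ = Q₁ :=
      Subgroup.eq_of_le_of_card_ge (CfsgLib.Fus.img_le_iff.2 fun y hy =>
        CfsgLib.Fus.autFun_mem_of_stronglyClosed hQ₁c hc.1 hα (hQ₁P hy) hy) hm.card_img.ge
    obtain ⟨β, hβ, hβe⟩ := CfsgLib.Fus.exists_aut hm hi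
    obtain ⟨k, hk⟩ := hAut ⟨β, hβ⟩
    have hk' : β ^ p ^ k = 1 := by simpa using congrArg Subtype.val hk
    refine ⟨k, fun y hy => ?_⟩
    have hpow : ∀ n : ℕ, ∀ z ∈ Q₁, CfsgLib.Fus.autFun (α ^ n) z = CfsgLib.Fus.autFun (β ^ n) z := by
      intro n
      induction n with
      | zero => intro z hz; rw [pow_zero, pow_zero, CfsgLib.Fus.autFun_one hz, CfsgLib.Fus.autFun_one (hQ₁P hz)]
      | succ n ih =>
        intro z hz
        rw [pow_succ, pow_succ, CfsgLib.Fus.autFun_mul _ _ hz, CfsgLib.Fus.autFun_mul _ _ (hQ₁P hz),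
          hβe z hz, ih _ (hβe z hz ▸ CfsgLib.Fus.autFun_mem β hz)]
    rw [hpow _ y hy, hk', CfsgLib.Fus.autFun_one hy]
  · rcases cases3 (j + 1) hj with h | h | h
    · omega
    · obtain rfl : j = 0 := by omega
      rw [hD1] at hy
      rw [hD0]
      refine hab ?_
      have h2 := Subgroup.commutator_mem_commutator (Subgroup.inv_mem _ hy.2) hx
      simpa [commutatorElement_def, mul_assoc] using h2
    · obtain rfl : j = 1 := by omega
      rw [hD2] at hy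
      rw [hD1]
      refine ⟨P.mul_mem (P.inv_mem hy) (CfsgLib.Fus.conj_mem_of_normalizer hxn hy), ?_⟩
      have h1 := Q.mul_mem (CfsgLib.Fus.conj_mem_of_normalizer' (hQn (hc.1 hy)) hx) (Q.inv_mem hx)
      simpa [mul_assoc] using h1

end Cfsg.Agent.S5125
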