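import Cfsg.Statements.S5131
import Cfsg.Agent.Fus.System

set_option autoImplicit false
open Cfsg

namespace Cfsg.Agent.S5131

/-- Let F be a fusion system over a finite p-group S and F' a fusion system over S'. If α : S → S' is a morphism of fusion systems from F to F' (every map of F induces along α a map of F'), then the kernel of α is strongly closed in S with respect to F. -/
theorem result {Ω : Type*} [Group Ω] {S : Subgroup Ω} [Finite S] (p : ℕ) [Fact p.Prime] (hS : IsPGroup p S) (F : Cfsg.FusionSystem S) {Ω' : Type*} [Group Ω'] {S' : Subgroup Ω'} (F' : Cfsg.FusionSystem S') (α : S →* Ω') (hα : F.IsMorphism F' α) : F.StronglyClosed ((α.ker).map S.subtype) := by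
  refine CfsgLib.Fus.stronglyClosed_iff.2 ⟨Subgroup.map_subtype_le _, fun P f hf x hxP hx => ?_⟩
  obtain ⟨φ, hφ, hφf⟩ := hf
  obtain ⟨φ', hφ', hP, hφS, hP', he⟩ := hα.2 P φ hφ
  obtain ⟨s, hs, rfl⟩ := hx
  have hs1 : α s = 1 := hs
  have h1 := he ⟨(s : Ω), hxP⟩
  rw [show (⟨α ⟨(s : Ω), hP hxP⟩, hP' ⟨(s : Ω), hxP⟩⟩ : ↥(Cfsg.FusionSystem.imageAlong α P)) = 1 from
    Subtype.ext hs1, map_one] at h1
  exact ⟨⟨φ ⟨(s : Ω), hxP⟩, hφS _⟩, h1.symm, hφf ⟨(s : Ω), hxP⟩⟩

end Cfsg.Agent.S5131
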