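import Cfsg.Statements.S5148
import Cfsg.Agent.Fus.InnerNormal
import Cfsg.Agent.Fus.SolvableChain
import Cfsg.Agent.Fus.HyperfocalFactor
import Cfsg.Agent.Fus.WeakClosureCenter

set_option autoImplicit false
open Cfsg

namespace Cfsg.Agent.S5148

/-- A quasisimple fusion system over a finite p-group S (saturated, equal to its p-residual subsystem, with simple — in particular nontrivial — factor system modulo its centre) has S nonabelian. -/
theorem result {Ω : Type*} [Group Ω] {S : Subgroup Ω} [Finite S] (p : ℕ) [Fact p.Prime] (hS : IsPGroup p S) (F : Cfsg.FusionSystem S) (hq : F.Quasisimple p) : ¬ IsMulCommutative S := by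
  intro hab
  obtain ⟨hF, hhyp, hfac⟩ := hq
  have hcs : F.StronglyClosed F.center := CfsgLib.Fus.stronglyClosed_iff.2
    ⟨(CfsgLib.Fus.isCentral_center (F := F)).1, fun P f hf x hxP hx => by
      obtain ⟨g, -, hge, hgC⟩ := (CfsgLib.Fus.isCentral_iff.1 (CfsgLib.Fus.isCentral_center (F := F))).2 P f hf
      rw [← hge x hxP, hgC x hx]; exact hx⟩
  haveI : (F.center.subgroupOf S).Normal :=
    ⟨fun a ha b => CfsgLib.Fus.conj_mem_of_normalizer (P := F.center) (CfsgLib.Fus.stronglyClosed_normal hcs b.2) ha⟩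
  obtain ⟨E, hE⟩ := CfsgLib.Fus.exists_factorSystem F hcs
  obtain ⟨hEs, hne, hsimp⟩ := hfac E hE
  haveI := CfsgLib.Fus.Factor.finite_range hE
  have hS' := CfsgLib.Fus.Factor.isPGroup_range hS hE
  let K : Subgroup (↥S ⧸ F.center.subgroupOf S) := ⊤
  have hKc : E.StronglyClosed K := CfsgLib.Fus.stronglyClosed_iff.2 ⟨le_rfl, fun _ _ _ _ _ _ => Subgroup.mem_top _⟩
  have hKK : ⁅K, K⁆ = ⊥ := by
    refine Subgroup.commutator_eq_bot_iff_le_centralizer.2 fun a _ => Subgroup.mem_centralizer_iff.2 fun b _ => ?_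
    obtain ⟨a, rfl⟩ := QuotientGroup.mk'_surjective (F.center.subgroupOf S) a
    obtain ⟨b, rfl⟩ := QuotientGroup.mk'_surjective (F.center.subgroupOf S) b
    rw [← map_mul, ← map_mul, hab.1.1 b a]
  have hKn := CfsgLib.Fus.isNormal_of_two_step hS' hEs hKc hKc le_rfl (hKK.le.trans bot_le) hKK
  rcases hsimp K (Cfsg.innerFusionSystem K) (CfsgLib.Fus.innerSystem_normal_of_normal hS' hEs hKn) with h | ⟨-, h⟩
  · exact hne h
  refine hne ?_
  have hb : E.hyperfocalSubgroup p = ⊥ := eq_bot_iff.2 (CfsgLib.Fus.hyperfocal_le_iff.2 fun P hP α hα _ x hx => by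
    obtain ⟨φ, hφ, hφe⟩ := (CfsgLib.Fus.mem_autGroup hP).1 hα
    rw [← h P] at hφ
    obtain ⟨-, g, -, hg⟩ := hφ
    have hcm : g * x = x * g := (Subgroup.mem_centralizer_iff.1
      ((Subgroup.commutator_eq_bot_iff_le_centralizer.1 hKK) (Subgroup.mem_top x)) g (Subgroup.mem_top g))
    rw [Subgroup.mem_bot, ← hφe ⟨x, hx⟩, hg, hcm, mul_inv_cancel_right, inv_mul_cancel])
  rw [CfsgLib.Fus.hyperfocal_factor hS hF hcs _ E hE, hhyp, Subgroup.subgroupOf_self] at hb
  rw [← hE.2.2.1, MonoidHom.range_eq_map]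
  exact hb

end Cfsg.Agent.S5148
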