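import Cfsg.Statements.S5157
import Cfsg.Agent.Fus.SolvableChain

set_option autoImplicit false
open Cfsg

namespace Cfsg.Agent.S5157

/-- A saturated fusion system F over a finite p-group S is solvable (for every subgroup R other than S that is strongly closed in F, the factor system of F modulo R has a nontrivial subgroup normal in it) if and only if there is a chain 1 = S₀ ≤ S₁ ≤ ⋯ ≤ Sₘ = S of subgroups strongly closed in F with every quotient Sᵢ₊₁/Sᵢ abelian. -/
theorem result {Ω : Type*} [Group Ω] {S : Subgroup Ω} [Finite S] (p : ℕ) [Fact p.Prime] (hS : IsPGroup p S) (F : Cfsg.FusionSystem S) (hF : F.IsSaturated p) : F.IsSolvableSystem ↔ ∃ (n : ℕ) (T : Fin (n + 1) → Subgroup Ω), T 0 = ⊥ ∧ T (Fin.last n) = S ∧ Monotone T ∧ (∀ i, F.StronglyClosed (T i)) ∧ ∀ i : Fin n, ⁅T i.succ, T i.succ⁆ ≤ T (Fin.castSucc i) := by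
  constructor
  · intro h
    have hbot : F.StronglyClosed ⊥ := CfsgLib.Fus.stronglyClosed_iff.2 ⟨bot_le, fun P f hf x hxP hx => by
      rw [Subgroup.mem_bot] at hx ⊢
      subst hx; exact hf.map_one⟩
    obtain ⟨n, C, h0, hn, hmono, hcl, hab⟩ := CfsgLib.Fus.chain_of_solvable hS hF h _ ⊥ rfl hbot
    exact ⟨n, fun i => C i, h0, hn, fun i j hij => monotone_nat_of_le_succ hmono hij, fun i => hcl i,
      fun i => hab i i.isLt⟩
  · rintro ⟨n, T, h0, hn, -, hcl, hab⟩
    let C : ℕ → Subgroup Ω := fun i => if h : i < n + 1 then T ⟨i, h⟩ else S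
    refine CfsgLib.Fus.solvable_of_chain hS hF C (n := n) ?_ ?_ (fun i hi => ?_) fun i hi => ?_
    · show dite _ _ _ = _; rw [dif_pos (Nat.succ_pos n)]; exact h0
    · show dite _ _ _ = _; rw [dif_pos (Nat.lt_succ_self n)]; exact hn
    · show F.StronglyClosed (dite _ _ _); rw [dif_pos (Nat.lt_succ_of_le hi)]; exact hcl _
    · show ⁅dite _ _ _, dite _ _ _⁆ ≤ dite _ _ _
      rw [dif_pos (by omega : i + 1 < n + 1), dif_pos (by omega : i < n + 1)]
      exact hab ⟨i, hi⟩

end Cfsg.Agent.S5157
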