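import Cfsg.Statements.S5160
import Cfsg.Agent.Fus.Group
import Cfsg.Agent.Fus.WeaklyNormal

set_option autoImplicit false
open Cfsg

namespace Cfsg.Agent.S5160

/-- Let G be a finite group with nontrivial Sylow p-subgroup S and F its fusion system on S. Suppose (a) no nontrivial proper subgroup of S is strongly closed in F, and (b) the automorphisms of S induced by G are generated by those induced, for R running over the fully normalized radical centric subgroups of F, by the subgroup of N_G(R) generated by its elements of p-power order. Then F is simple. -/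
theorem result {G : Type*} [Group G] [Finite G] (p : ℕ) [Fact p.Prime] (S : Sylow p G) (hS1 : (S : Subgroup G) ≠ ⊥) (ha : ∀ T : Subgroup G, (Cfsg.groupFusionSystem (S : Subgroup G)).StronglyClosed T → T = ⊥ ∨ T = (S : Subgroup G)) (hb : Cfsg.autInducedBy ⊤ (S : Subgroup G) = ⨆ (R : Subgroup G) (_ : (Cfsg.groupFusionSystem (S : Subgroup G)).IsFullyNormalized R ∧ (Cfsg.groupFusionSystem (S : Subgroup G)).IsRadical p R ∧ (Cfsg.groupFusionSystem (S : Subgroup G)).IsCentric R), Cfsg.autInducedBy (Subgroup.closure {g : G | g ∈ Subgroup.normalizer (R : Set G) ∧ ∃ k : ℕ, orderOf g = p ^ k}) (S : Subgroup G)) : (Cfsg.groupFusionSystem (S : Subgroup G)).IsSimple p := by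
  refine ⟨CfsgLib.Fus.group_saturated S, hS1, fun T E hE => ?_⟩
  rcases ha T hE.1.2.2.2.1 with rfl | rfl
  · exact Or.inl rfl
  refine Or.inr ⟨rfl, fun P => ?_⟩
  have hinv := hE.1.2.2
  have hS := S.isPGroup'
  have hF := CfsgLib.Fus.group_saturated S
  suffices hA : (groupFusionSystem (S : Subgroup G)).autGroup (S : Subgroup G) ≤
      E.autGroup (S : Subgroup G) by
    rw [CfsgLib.Fus.invariant_eq_of_aut hinv hA]
  rw [CfsgLib.Fus.autGroup_group le_rfl, hb]
  refine iSup₂_le fun R hR α hα => ?_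
  obtain ⟨hRn, -, hRc⟩ := hR
  obtain ⟨g, hg, hge⟩ := CfsgLib.Fus.mem_autInducedBy.1 hα
  let K : Subgroup G :=
    ((E.autGroup R).comap R.normalizerMonoidHom).map (Subgroup.normalizer (R : Set G)).subtype
  have hK : g ∈ K := by
    refine (Subgroup.closure_le _).2 ?_ hg
    rintro a ⟨han, k, hak⟩
    refine ⟨⟨a, han⟩, ?_, rfl⟩
    refine CfsgLib.Fus.invariant_pElement hS hF hinv hRn ?_ (k := k) ?_
    · rw [CfsgLib.Fus.autGroup_group hRn.1]
      exact CfsgLib.Fus.mem_autInducedBy.2
        ⟨a, Subgroup.mem_top a, fun x hx => CfsgLib.Fus.normalizerMonoidHom_autFun _ hx⟩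
    · have h1 : (⟨a, han⟩ : Subgroup.normalizer (R : Set G)) ^ p ^ k = 1 :=
        Subtype.ext (hak ▸ pow_orderOf_eq_one a)
      rw [← map_pow, h1, map_one]
  obtain ⟨g', hg', rfl⟩ := hK
  have hgR : CfsgLib.Fus.IsMap E R (CfsgLib.Fus.conjF (g' : G)) :=
    ((CfsgLib.Fus.mem_autGroup hRn.1).1 hg').congr fun x hx =>
      CfsgLib.Fus.normalizerMonoidHom_autFun g' hx
  have hgS : CfsgLib.Fus.IsMap (groupFusionSystem (S : Subgroup G)) (S : Subgroup G)
      (CfsgLib.Fus.conjF (g' : G)) :=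
    CfsgLib.Fus.isMap_group_iff.2 ⟨le_rfl, g', fun x hx =>
      ⟨rfl, hge x hx ▸ CfsgLib.Fus.autFun_mem α hx⟩⟩
  exact (CfsgLib.Fus.mem_autGroup le_rfl).2
    ((CfsgLib.Fus.restrict_centric hS hF hE.1.1 hinv.1 hRn.1 hRc hgS hgR).congr
      fun x hx => (hge x hx).symm)

end Cfsg.Agent.S5160
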