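import Cfsg.Statements.S5197
import Cfsg.Agent.Fus.TransferFusion

set_option autoImplicit false
set_option linter.style.haveILetI false
universe u
open Cfsg Cfsg.FusionSystem CfsgLib.Fus

namespace Cfsg.Agent.S5197

/-- Let p be a prime and W a positive characteristic p-functor: W assigns to every finite p-group Q (in a fixed universe) a subgroup W(Q), nontrivial when Q is, carried to W(R) by every isomorphism Q ≅ R. Suppose W satisfies the local condition: for every finite group G with Sylow p-subgroup P such that C_G(O_p(G)) ≤ O_p(G), one has O_p(G) ∩ [G, G] = O_p(G) ∩ [N, N] for N = N_G(W(P)). Then W controls transfer in every saturated fusion system F over a finite p-group S: the focal subgroup of F equals the focal subgroup of the normalizer fusion system of W(S) in F. -/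
theorem result {p : ℕ} [Fact p.Prime] (W : ∀ (Q : Type u) [Group Q], Subgroup Q) (hW1 : ∀ (Q : Type u) [Group Q] [Finite Q], IsPGroup p Q → Nontrivial Q → W Q ≠ ⊥) (hW2 : ∀ (Q R : Type u) [Group Q] [Group R] [Finite Q], IsPGroup p Q → ∀ φ : Q ≃* R, (W Q).map φ.toMonoidHom = W R) (hT : ∀ (G : Type u) [Group G] [Finite G] (P : Sylow p G), Subgroup.centralizer ((Cfsg.pCore p G : Subgroup G) : Set G) ≤ Cfsg.pCore p G → Cfsg.pCore p G ⊓ commutator G = Cfsg.pCore p G ⊓ (commutator ↥(Subgroup.normalizer (((W ↥(P : Subgroup G)).map (P : Subgroup G).subtype : Subgroup G) : Set G))).map (Subgroup.normalizer (((W ↥(P : Subgroup G)).map (P : Subgroup G).subtype : Subgroup G) : Set G)).subtype) {Ω : Type u} [Group Ω] {S : Subgroup Ω} [Finite S] (hS : IsPGroup p S) (F : Cfsg.FusionSystem S) (hF : F.IsSaturated p) (N : Cfsg.FusionSystem (Cfsg.FusionSystem.normalizerIn S ((W ↥S).map S.subtype))) (hN : F.IsNormalizerSystem ((W ↥S).map S.subtype) N) : N.focalSubgroup = F.focalSubgroup := by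
  have hW : IsCharPFunctor.{u} p W := ⟨hW1, hW2⟩
  have hgrp : ∀ (L : Type u) [Group L] [Finite L] (T : Subgroup L), CfsgLib.Glau.Syl p T ⊤ →
      CfsgLib.Glau.Tra (inducedFunctor W) T ⊤ := fun L _ _ T hTs =>
    CfsgLib.Glau.transfer_of_core W hW (fun Γ _ _ _ hc P _ _ => by
      rw [hT Γ P hc, map_commutator_subtype, top_inf_eq]
      exact inf_le_right) L (CfsgLib.Glau.isSec_self L) ⊤ T hTs
  let WS : Subgroup Ω := (W ↥S).map S.subtype
  have hR : normalizerIn S WS = S := le_antisymm inf_le_left ((le_normalizerIn le_rfl).trans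
    (normalizerIn_le_functor F hW hS le_rfl))
  refine le_antisymm ?_ ?_
  · refine (Subgroup.closure_le _).2 ?_
    rintro _ ⟨P, φ, x, hφ, rfl⟩
    have h := mem_focal_of_map (isMap_of_normalizerSystem hN (IsMap.of_hom hφ)).1 x.2
    rwa [ev_apply] at h
  have hXS : N.focalSubgroup ≤ S := (Subgroup.closure_le _).2 fun y hy => by
    obtain ⟨P, φ, x, hφ, rfl⟩ := hy
    exact S.mul_mem (S.inv_mem (normalizerIn_le WS ((N.le_of_mem hφ).1 x.2)))
      (normalizerIn_le WS ((N.le_of_mem hφ).2 x))
  have hX : ⁅S, S⁆ ≤ N.focalSubgroup :=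
    (Subgroup.commutator_mono hR.ge hR.ge).trans commutator_le_focal
  have hgood := controlsFocal hW hgrp Ω S F hS hF _ hXS hX fun P f hf hWP hfW x hx =>
    mem_focal_of_map (isMap_normalizerSystem hN hf hWP hfW (hf.le.trans hR.ge)) hx
  refine (Subgroup.closure_le _).2 ?_
  rintro _ ⟨P, φ, x, hφ, rfl⟩
  have h := hgood P _ (IsMap.of_hom hφ) x x.2
  rwa [ev_apply] at h

end Cfsg.Agent.S5197
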