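import Cfsg.Statements.S5212
import Cfsg.Agent.Fus.MetacyclicTwo
import Cfsg.Agent.Fus.MetacyclicTwoAut

set_option autoImplicit false
set_option linter.style.haveILetI false
open Cfsg Cfsg.FusionSystem CfsgLib.Fus

namespace Cfsg.Agent.S5212

/-- Let S be a finite metacyclic 2-group that is not homocyclic abelian (a direct product of cyclic groups of one common order), not dihedral, not semidihedral and not generalized quaternion. Then every saturated fusion system over S is the inner fusion system of S. -/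
theorem result {Ω : Type*} [Group Ω] {S : Subgroup Ω} [Finite S] (hS : IsPGroup 2 S) (F : Cfsg.FusionSystem S) (hF : F.IsSaturated 2) (hm : Cfsg.IsMetacyclic ↥S) (hh : ¬ ∃ n k : ℕ, Nonempty (↥S ≃* Multiplicative (Fin k → ZMod (2 ^ n)))) (hd : ¬ ∃ m : ℕ, Nonempty (↥S ≃* DihedralGroup m)) (hq : ¬ ∃ m : ℕ, Nonempty (↥S ≃* QuaternionGroup m)) (hsd : ¬ Cfsg.IsQuasiDihedral ↥S) : ∀ P : Subgroup Ω, F.Hom P = (Cfsg.innerFusionSystem S).Hom P := by
  classical
  haveI : Fact (Nat.Prime 2) := ⟨Nat.prime_two⟩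
  have hsc : F.StronglyClosed S := stronglyClosed_iff.2 ⟨le_rfl, fun R f hf x hx _ => hf.mem hx⟩
  have hN := MetaTwo.normal_of_metacyclic hS hF hsc hm hd hq hsd
  haveI := finite_mulAut (S := S) (P := S) le_rfl
  have hA : IsPGroup 2 ↥(F.autGroup S) := by
    refine IsPGroup.of_card (n := (Nat.card ↥(F.autGroup S)).primeFactorsList.length)
      (Nat.eq_prime_pow_of_unique_prime_dvd Nat.card_pos.ne' fun {d} hd' hdd => ?_)
    by_contra hd2
    haveI : Fact d.Prime := ⟨hd'⟩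
    obtain ⟨γ, hγ⟩ := exists_prime_orderOf_dvd_card' d hdd
    have hone := MetaTwo.aut_trivial hS hm hh hq (γ : MulAut ↥S) (by
      rw [Subgroup.orderOf_coe, hγ]; exact hd'.odd_of_ne_two hd2)
    rw [show γ = 1 from Subtype.ext hone, orderOf_one] at hγ
    exact hd'.ne_one hγ.symm
  obtain ⟨Rs, hRs⟩ := (fullyNormalized_spec hS hF (fullyNormalized_top (F := F))).1.2
  intro P
  refine Set.ext fun φ => ⟨fun hφ => ?_, fun hφ => ?_⟩
  · have hf := IsMap.of_hom hφ
    obtain ⟨g, hg, hge, hgS⟩ := (isNormal_iff.1 hN).2 P _ hf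
    obtain ⟨α, hα, hαe⟩ := exists_aut (hg.mono le_sup_right) hgS
    have htop : (⊤ : Subgroup ↥(F.autGroup S)) = (Rs : Subgroup ↥(F.autGroup S)) :=
      Rs.is_maximal' (hA.to_subgroup _) le_top
    have hmem : (⟨α, hα⟩ : ↥(F.autGroup S)) ∈ (Rs : Subgroup ↥(F.autGroup S)) := htop ▸ Subgroup.mem_top _
    rw [hRs] at hmem
    obtain ⟨s, hs, hse⟩ := mem_autInducedBy.1 (Subgroup.mem_subgroupOf.1 hmem)
    refine ⟨hf.le, s, hs, fun x => ?_⟩
    rw [← hse x (hf.le x.2), hαe x (hf.le x.2), hge x x.2, ev_apply]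
  · obtain ⟨hP, g, hg, hge⟩ := hφ
    exact (IsMap.conj F hP hg).hom_mem hge

end Cfsg.Agent.S5212
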