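import Cfsg.Statements.S5219
import Cfsg.Agent.Fus.PowerCenter
import Cfsg.Agent.Fus.CentreExponent

set_option autoImplicit false
open Cfsg

namespace Cfsg.Agent.S5219

/-- Let p be a prime, n a natural number, S a nontrivial finite p-group of nilpotence class at most n(p−1)+1, and F a saturated fusion system over S with no nontrivial normal subgroup (O_p(F) = 1). Then S has exponent dividing p^(n²(p−1)+n). -/
theorem result {Ω : Type*} [Group Ω] {S : Subgroup Ω} [Finite S] (p : ℕ) [Fact p.Prime] (hS : IsPGroup p S) (F : Cfsg.FusionSystem S) (hF : F.IsSaturated p) (n : ℕ) (hS1 : S ≠ ⊥) (hcl : Subgroup.lowerCentralSeries S (n * (p - 1) + 1) = ⊥) (hcore : F.core = ⊥) : Monoid.exponent ↥S ∣ p ^ (n ^ 2 * (p - 1) + n) := by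
  have hp : p.Prime := Fact.out
  set Q := powerClosure p n (S ⊓ Subgroup.centralizer (S : Set Ω)) with hQ
  have hQb : Q = ⊥ := le_bot_iff.1 (hcore ▸ le_sSup (CfsgLib.Fus.powerCenter_normal hS hF n hcl))
  have hz : ∀ z ∈ Subgroup.center ↥S, z ^ p ^ n = 1 := by
    intro z hz
    have hzc : (z : Ω) ∈ Subgroup.centralizer (S : Set Ω) := fun y hy =>
      congrArg Subtype.val (Subgroup.mem_center_iff.1 hz ⟨y, hy⟩)
    have hmem : (z : Ω) ^ p ^ n ∈ Q := Subgroup.subset_closure ⟨z, ⟨z.2, hzc⟩, rfl⟩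
    rw [hQb, Subgroup.mem_bot] at hmem
    exact Subtype.ext hmem
  have hm : Subgroup.upperCentralSeries ↥S (n * (p - 1) + 1) = ⊤ := by
    rw [← Subgroup.lowerCentralSeries_eq_bot_iff_upperCentralSeries_eq_top, ← Subgroup.map_subtype_inj,
      Subgroup.map_bot, Subgroup.top_subtype_lowerCentralSeries]
    exact hcl
  refine Monoid.exponent_dvd_of_forall_pow_eq_one fun x => ?_
  have h := CfsgLib.Fus.pow_eq_one_of_center_exponent hz hm x
  rw [← pow_mul, show n * (n * (p - 1) + 1) = n ^ 2 * (p - 1) + n by ring] at h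
  exact h

end Cfsg.Agent.S5219
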