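import Cfsg.Statements.S5220
import Cfsg.Agent.Fus.JInduction
import Cfsg.Agent.Fus.SystemMaps

set_option autoImplicit false
open Cfsg

namespace Cfsg.Agent.S5220

/-- Let F be a saturated fusion system over a nontrivial finite p-group S, let J(S) be the subgroup generated by the abelian subgroups of S of largest order, and let V be the subgroup generated by the p-th powers of the elements of Z(S). Then F is generated by the centralizer fusion system of V and the normalizer fusion system of J(S): every fusion system over S containing the maps of both contains every map of F. -/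
theorem result {Ω : Type*} [Group Ω] {S : Subgroup Ω} [Finite S] (p : ℕ) [Fact p.Prime] (hS : IsPGroup p S) (F : Cfsg.FusionSystem S) (hF : F.IsSaturated p) (hS1 : S ≠ ⊥) (C : Cfsg.FusionSystem (Cfsg.FusionSystem.centralizerIn S (Cfsg.powerClosure p 1 (S ⊓ Subgroup.centralizer (S : Set Ω))))) (hC : F.IsCentralizerSystem (Cfsg.powerClosure p 1 (S ⊓ Subgroup.centralizer (S : Set Ω))) C) (N : Cfsg.FusionSystem (Cfsg.FusionSystem.normalizerIn S (Cfsg.thompsonSubgroupAOf S))) (hN : F.IsNormalizerSystem (Cfsg.thompsonSubgroupAOf S) N) (E : Cfsg.FusionSystem S) (hCE : C.IsSubsystemOf E) (hNE : N.IsSubsystemOf E) : F.IsSubsystemOf E := by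
  open CfsgLib.Fus Cfsg.FusionSystem in
  exact (by
    have hVS : Cfsg.powerClosure p 1 (S ⊓ Subgroup.centralizer (S : Set Ω)) ≤
        S ⊓ Subgroup.centralizer (S : Set Ω) := powerClosure_le
    rw [isSubsystemOf_iff]
    refine CfsgLib.Fus.le_iff.1 (le_of_power_thompson hS hF E (fun P f hf hVP hfix => ?_) fun P f hf hJP hfJ => ?_)
    · exact isSubsystemOf_iff.1 hCE P f (isMap_centralizerSystem hC hf hVP hfix
        fun x hx => ⟨hf.le hx, fun v hv => ((hVS hv).2 x (hf.le hx)).symm⟩)
    · refine isSubsystemOf_iff.1 hNE P f (isMap_normalizerSystem hN hf hJP hfJ fun x hx => ⟨hf.le hx, ?_⟩)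
      have h1 : ∀ a ∈ S, ∀ y ∈ Cfsg.thompsonSubgroupAOf S, a * y * a⁻¹ ∈ Cfsg.thompsonSubgroupAOf S := by
        intro a ha y hy
        have hm : IsMap F S (conjF a) := IsMap.conj F le_rfl ha
        have hi : img (conjF a) S = S := Subgroup.eq_of_le_of_card_ge hm.img_le hm.card_img.ge
        exact (img_thompsonA_eq hm le_rfl hi).le (mem_img_of_mem hy)
      exact mem_normalizer_of_conj (h1 x (hf.le hx)) fun y hy => by
        simpa using h1 x⁻¹ (S.inv_mem (hf.le hx)) y hy)

end Cfsg.Agent.S5220
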