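import Cfsg.Statements.S5222
import Cfsg.Agent.Fus.SelfNorm
import Cfsg.Agent.Fus.NormalizerSystem

set_option autoImplicit false
open Cfsg

namespace Cfsg.Agent.S5222

/-- Let F be a saturated fusion system over a finite p-group S whose normalizer fusion system of S is the inner fusion system of S (Aut_F(S) is a p-group). Then for every subgroup Q of S with [S, S] ≤ Q ≤ Φ(S), the normalizer fusion system of Q in F is the inner fusion system of N_S(Q) = S. -/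
theorem result {Ω : Type*} [Group Ω] {S : Subgroup Ω} [Finite S] (p : ℕ) [Fact p.Prime] (hS : IsPGroup p S) (F : Cfsg.FusionSystem S) (hF : F.IsSaturated p) (hN : ∀ N : Cfsg.FusionSystem (Cfsg.FusionSystem.normalizerIn S S), F.IsNormalizerSystem S N → ∀ P : Subgroup Ω, N.Hom P = (Cfsg.innerFusionSystem (Cfsg.FusionSystem.normalizerIn S S)).Hom P) (Q : Subgroup Ω) (h1 : (commutator ↥S).map S.subtype ≤ Q) (h2 : Q ≤ (frattini ↥S).map S.subtype) : ∀ N : Cfsg.FusionSystem (Cfsg.FusionSystem.normalizerIn S Q), F.IsNormalizerSystem Q N → ∀ P : Subgroup Ω, N.Hom P = (Cfsg.innerFusionSystem (Cfsg.FusionSystem.normalizerIn S Q)).Hom P := by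
  have hQ : Q ≤ S := h2.trans (Subgroup.map_subtype_le _)
  have hc : ∀ a ∈ S, ∀ b ∈ S, a * b * a⁻¹ * b⁻¹ ∈ Q := fun a ha b hb =>
    h1 ⟨⟨a, ha⟩ * ⟨b, hb⟩ * ⟨a, ha⟩⁻¹ * ⟨b, hb⟩⁻¹,
      Subgroup.commutator_mem_commutator (Subgroup.mem_top (⟨a, ha⟩ : ↥S)) (Subgroup.mem_top _), rfl⟩
  have hSS : Cfsg.FusionSystem.normalizerIn S S = S := inf_eq_left.2 Subgroup.le_normalizer
  have hinn : ∀ α ∈ F.autGroup S, ∃ s ∈ S, ∀ x ∈ S, CfsgLib.Fus.autFun α x = s * x * s⁻¹ := by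
    intro α hα
    obtain ⟨N, hN'⟩ := CfsgLib.Fus.exists_normalizerSystem F (le_refl S)
    obtain ⟨φ, hφ, hφe⟩ := (CfsgLib.Fus.mem_autGroup le_rfl).1 hα
    have hm : φ ∈ N.Hom S := by
      rw [hN']
      refine ⟨hφ, hSS.ge, fun x => hSS.ge ((F.le_of_mem hφ).2 x), ?_⟩
      obtain ⟨ψ, hψ, hψe⟩ := ((CfsgLib.Fus.mem_autGroup le_rfl).1 hα).mono (sup_le le_rfl le_rfl)
      refine ⟨ψ, hψ, fun x => (hψe _).trans (hφe x).symm, ?_⟩
      rw [CfsgLib.Fus.map_subgroupOf_eq_img ψ le_sup_right]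
      exact (CfsgLib.Fus.img_congr fun x hx =>
        (CfsgLib.Fus.ev_of_mem ψ (le_sup_right (a := S) hx)).trans (hψe _)).trans (CfsgLib.Fus.img_autFun α)
    rw [hN N hN'] at hm
    obtain ⟨-, g, hg, hge⟩ := hm
    exact ⟨g, inf_le_left (b := Subgroup.normalizer (S : Set Ω)) hg,
      fun x hx => (hφe ⟨x, hx⟩).symm.trans (hge ⟨x, hx⟩)⟩
  have hNQ : Cfsg.FusionSystem.normalizerIn S Q = S := CfsgLib.Fus.normalizerIn_of_abelian hc le_rfl hQ
  intro N hN' P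
  ext φ
  refine ⟨fun hm => ?_, ?_⟩
  · have hm' := hm
    rw [hN'] at hm'
    obtain ⟨hφ, hP, -, ψ, hψ, hψP, hψQ⟩ := hm'
    rw [CfsgLib.Fus.map_subgroupOf_eq_img ψ le_sup_right] at hψQ
    obtain ⟨s, hs, hse⟩ := CfsgLib.Fus.inner_of_normalizes hS hF hinn hc h2 le_sup_right
      (CfsgLib.Fus.IsMap.of_hom hψ) hψQ
    refine ⟨hP, s, hNQ.ge hs, fun x => ?_⟩
    rw [← hψP x, ← CfsgLib.Fus.ev_apply ψ]
    exact hse _ (le_sup_left (b := Q) x.2)
  · rintro ⟨hP, g, hg, hge⟩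
    rw [show φ = Cfsg.conjHom P g from MonoidHom.ext hge]
    exact N.conj_mem hP hg

end Cfsg.Agent.S5222
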