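import Cfsg.Statements.S5223
import Cfsg.Agent.Fus.Control

set_option autoImplicit false
open Cfsg

namespace Cfsg.Agent.S5223

/-- Let F be a saturated fusion system over a finite p-group S. Suppose there are subgroups Q₀ = S, Q₁, …, Qₙ = 1 (not required to be nested) such that for each i < n the focal subgroup of Qᵢ (generated by the elements x⁻¹φ(x), x ∈ Qᵢ, φ a map of F defined on the cyclic group generated by x) lies in Qᵢ₊₁. Then F is the inner fusion system of S. -/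
theorem result {Ω : Type*} [Group Ω] {S : Subgroup Ω} [Finite S] (p : ℕ) [Fact p.Prime] (hS : IsPGroup p S) (F : Cfsg.FusionSystem S) (hF : F.IsSaturated p) (n : ℕ) (Q : Fin (n + 1) → Subgroup Ω) (hQ0 : Q 0 = S) (hQn : Q (Fin.last n) = ⊥) (hstep : ∀ i : Fin n, Subgroup.closure {y : Ω | ∃ x ∈ Q i.castSucc, ∃ φ ∈ F.Hom (Subgroup.zpowers x), y = x⁻¹ * φ ⟨x, Subgroup.mem_zpowers x⟩} ≤ Q i.succ) : ∀ P : Subgroup Ω, F.Hom P = (Cfsg.innerFusionSystem S).Hom P := by
  intro P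
  rw [CfsgLib.Fus.eq_inner hS hF fun R hR => CfsgLib.Fus.isPGroup_of_ppow _ fun γ hγ => ?_]
  haveI := CfsgLib.Fus.finite_of_le hR
  refine CfsgLib.Fus.ppow_eq_one_of_series (hS.to_le hR) γ n
    (fun j => {y : Ω | ∀ (i : ℕ) (hi : i ≤ n - j), y ∈ Q ⟨i, by omega⟩}) ?_ ⟨0, ?_⟩ ?_
  · intro y hy i hi
    obtain rfl : i = 0 := by omega
    show y ∈ Q 0
    rw [hQ0]; exact hR hy
  · intro y hy hy0
    have h1 : y ∈ Q (Fin.last n) := hy0 n (by omega)
    rw [hQn, Subgroup.mem_bot] at h1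
    subst h1
    rw [CfsgLib.Fus.autFun_of_mem _ R.one_mem]
    exact congrArg Subtype.val (_root_.map_one _)
  · intro j hj y hy hyD i hi
    have hm := ((CfsgLib.Fus.mem_autGroup hR).1 hγ).mono (Subgroup.zpowers_le.2 hy)
    rcases i with _ | k
    · show _ ∈ Q 0
      rw [hQ0]; exact hR (R.mul_mem (R.inv_mem hy) (CfsgLib.Fus.autFun_mem γ hy))
    · obtain ⟨φ, hφ, hφe⟩ := hm
      exact hstep ⟨k, by omega⟩ (Subgroup.subset_closure
        ⟨y, hyD k (by omega), φ, hφ, by rw [hφe]⟩)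

end Cfsg.Agent.S5223
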