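import Cfsg.Statements.S5226
import Cfsg.Agent.Fus.Normal

set_option autoImplicit false
open Cfsg

namespace Cfsg.Agent.S5226

/-- Let F be a saturated fusion system over a finite p-group S and Q a subgroup of S. Then Q is normal in F (F equals the normalizer system of Q) if and only if Q is strongly closed in F and admits a central series 1 = Q₀ ≤ Q₁ ≤ ⋯ ≤ Qₙ = Q ([Qᵢ₊₁, Q] ≤ Qᵢ) all of whose proper terms are weakly closed in F. -/
theorem result {Ω : Type*} [Group Ω] {S : Subgroup Ω} [Finite S] (p : ℕ) [Fact p.Prime] (hS : IsPGroup p S) (F : Cfsg.FusionSystem S) (hF : F.IsSaturated p) (Q : Subgroup Ω) : F.IsNormal Q ↔ F.StronglyClosed Q ∧ ∃ (n : ℕ) (C : Fin (n + 1) → Subgroup Ω), C 0 = ⊥ ∧ C (Fin.last n) = Q ∧ Monotone C ∧ (∀ i : Fin n, ⁅C i.succ, Q⁆ ≤ C i.castSucc) ∧ ∀ i : Fin n, F.WeaklyClosed (C i.castSucc) := by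
  constructor
  · intro h
    obtain ⟨n, C, h0, hn, hmono, hnorm, hcomm⟩ := CfsgLib.Fus.exists_normal_series hS h
    exact ⟨CfsgLib.Fus.isNormal_stronglyClosed h, n, fun i => C i, h0, hn, fun i j hij => hmono i j hij,
      fun i => hcomm i i.2, fun i => CfsgLib.Fus.stronglyClosed_weaklyClosed
        (CfsgLib.Fus.isNormal_stronglyClosed (hnorm _))⟩
  · rintro ⟨hQ, n, C, h0, hn, hmono, hstep, hw⟩
    refine CfsgLib.Fus.normal_of_series hS hF hQ n (fun i => C ⟨min i n, by omega⟩) ?_ ?_ ?_ ?_ ?_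
    · simpa using h0
    · rw [← hn]; congr 1; exact Fin.ext (min_self n)
    · intro i hi; rw [← hn]; exact hmono (Fin.le_last _)
    · intro i hi
      show ⁅C ⟨min (i + 1) n, by omega⟩, Q⁆ ≤ C ⟨min i n, by omega⟩
      rw [show (⟨min (i + 1) n, by omega⟩ : Fin (n + 1)) = (⟨i, hi⟩ : Fin n).succ from Fin.ext (by simp; omega),
        show (⟨min i n, by omega⟩ : Fin (n + 1)) = (⟨i, hi⟩ : Fin n).castSucc from Fin.ext (by simp; omega)]
      exact hstep ⟨i, hi⟩
    · intro i hi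
      convert hw ⟨i, hi⟩ using 2; exact Fin.ext (by simp; omega)

end Cfsg.Agent.S5226
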