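import Cfsg.Statements.S5236
import Cfsg.Agent.Fus.OmegaSeries

set_option autoImplicit false
open Cfsg

namespace Cfsg.Agent.S5236

/-- Let p be an odd prime, F a saturated fusion system over a finite p-group S and P a subgroup of S strongly closed in F. Then P is normal in F if and only if Ω₁(P) (the subgroup generated by the elements of order p of P) has a chain of subgroups 1 = Q₀ ≤ Q₁ ≤ ⋯ ≤ Qₙ = Ω₁(P), each strongly closed in F, with [Qᵢ₊₁, P] ≤ Qᵢ for all i. -/
theorem result {Ω : Type*} [Group Ω] {S : Subgroup Ω} [Finite S] (p : ℕ) [Fact p.Prime] (hS : IsPGroup p S) (F : Cfsg.FusionSystem S) (hF : F.IsSaturated p) (hp : p ≠ 2) (P : Subgroup Ω) (hP : F.StronglyClosed P) : F.IsNormal P ↔ ∃ (n : ℕ) (Q : Fin (n + 1) → Subgroup Ω), Q 0 = ⊥ ∧ Q (Fin.last n) = Cfsg.omegaOne p P ∧ Monotone Q ∧ (∀ i : Fin (n + 1), F.StronglyClosed (Q i)) ∧ ∀ i : Fin n, ⁅Q i.succ, P⁆ ≤ Q i.castSucc := by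
  constructor
  · intro hN
    obtain ⟨n, C, hn, h0, hm, hscl, hcomm⟩ := CfsgLib.Fus.OmegaSeries.series_of_normal hS hN
    exact ⟨n, fun i => C i, h0, hn, fun a b hab => hm hab, fun i => hscl _, fun i => by
      simpa using hcomm i i.2⟩
  · rintro ⟨n, Q, h0, hn, hm, hscl, hcomm⟩
    refine CfsgLib.Fus.OmegaSeries.normal_of_omega_series hS hF hp hP n
      (fun i => if h : i ≤ n then Q ⟨i, Nat.lt_succ_of_le h⟩ else ⊥) (by simpa using h0) (by
        rw [dif_pos le_rfl]; exact hn) (fun i hi => by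
        rw [dif_pos hi, ← hn]; exact hm (Fin.le_last _)) (fun i hi => by rw [dif_pos hi]; exact hscl _)
      fun i hi => ?_
    rw [dif_pos (Nat.succ_le_of_lt hi), dif_pos hi.le]
    exact hcomm ⟨i, hi⟩

end Cfsg.Agent.S5236
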