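import Cfsg.Statements.S5244
import Cfsg.Agent.Fus.AbelianIndexPMain

set_option autoImplicit false
open Cfsg

namespace Cfsg.Agent.S5244

/-- Let p be an odd prime, S a finite nonabelian p-group with a unique abelian subgroup A of index p, and F a saturated fusion system over S with no nontrivial normal subgroup (O_p(F) = 1) in which A is not F-essential. Then some subgroup Z(S)⟨x⟩ with x ∈ S outside A is F-essential, the centre Z(S) is contained in the commutator subgroup of S, and S has maximal nilpotency class (if S has order pⁿ with n ≥ 3, the term of index n − 2 of its lower central series, counting S itself as the term of index 0, is nontrivial). -/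
theorem result {Ω : Type*} [Group Ω] {S : Subgroup Ω} [Finite S] (p : ℕ) [Fact p.Prime] (hS : IsPGroup p S) (F : Cfsg.FusionSystem S) (hF : F.IsSaturated p) (hp : p ≠ 2) (hna : ¬ IsMulCommutative ↥S) (A : Subgroup Ω) (hA : A ≤ S ∧ IsMulCommutative ↥A ∧ (A.subgroupOf S).index = p) (huniq : ∀ B : Subgroup Ω, B ≤ S → IsMulCommutative ↥B → (B.subgroupOf S).index = p → B = A) (hcore : F.core = ⊥) (hAe : ¬ F.IsEssential p A) : (∃ x ∈ S, x ∉ A ∧ F.IsEssential p ((S ⊓ Subgroup.centralizer (S : Set Ω)) ⊔ Subgroup.zpowers x)) ∧ (S ⊓ Subgroup.centralizer (S : Set Ω)) ≤ (commutator ↥S).map S.subtype ∧ ∀ n : ℕ, Nat.card S = p ^ n → 3 ≤ n → Subgroup.lowerCentralSeries S (n - 2) ≠ ⊥ := by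
  obtain ⟨a, ha, b, hb, hne⟩ : ∃ a ∈ S, ∃ b ∈ S, a * b ≠ b * a := by
    by_contra hall
    push Not at hall
    exact hna ⟨⟨fun x y => Subtype.ext (hall x x.2 y y.2)⟩⟩
  have hd : CfsgLib.Fus.AbIdx p F A :=
    { pg := hS, sat := hF, odd := hp, le := hA.1
      comm := fun x hx y hy => congrArg Subtype.val (hA.2.1.is_comm.comm (⟨x, hx⟩ : ↥A) ⟨y, hy⟩)
      index := hA.2.2
      uniq := fun B hB hBc hBi => huniq B hB ⟨⟨fun x y => Subtype.ext (hBc x x.2 y y.2)⟩⟩ hBi
      nab := ⟨a, ha, b, hb, hne⟩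
      core := hcore, noess := hAe }
  obtain ⟨E, hE, hsm⟩ := hd.exists_small
  obtain ⟨x, hxE, hxA⟩ := hd.ess_out hE (hd.ne_of_ess hE)
  obtain ⟨hd1, hd2⟩ := hd.center_derived
  refine ⟨⟨x, hE.1.1 hxE, hxA, ?_⟩, ?_, fun n hn h3 => hd.maximal_class hd2 hn h3⟩
  · have h := hd.eq_sup hE hsm hxE hxA
    rw [CfsgLib.Fus.Zc] at h
    rwa [← h]
  · have h : CfsgLib.Fus.Zc S ≤ (commutator ↥S).map S.subtype := hd1.trans (Subgroup.map_subtype_commutator S).ge
    exact h

end Cfsg.Agent.S5244
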