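import Cfsg.Statements.S5251
import Cfsg.Agent.Fus.NormalCentricMeet

set_option autoImplicit false
open Cfsg

namespace Cfsg.Agent.S5251

/-- Let F be a saturated fusion system over a finite p-group S, E a normal subsystem of F over T, and P an F-centric subgroup of S such that P ∩ T is not E-centric. Then some F-conjugate P* of P satisfies Out_S(P*) ∩ O_p(Out_F(P*)) ≠ 1: there is an element of N_S(P*) outside P* whose conjugation action on P* lies in O_p(Aut_F(P*)). In particular P is not both centric and radical in F. -/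
theorem result {Ω : Type*} [Group Ω] {S : Subgroup Ω} [Finite S] (p : ℕ) [Fact p.Prime] (hS : IsPGroup p S) (F : Cfsg.FusionSystem S) (hF : F.IsSaturated p) {T : Subgroup Ω} (E : Cfsg.FusionSystem T) (hE : E.IsNormalIn F p) (P : Subgroup Ω) (hP : F.IsCentric P) (hPT : ¬ E.IsCentric (P ⊓ T)) : (∃ φ ∈ F.Hom P, ∃ x ∈ S ⊓ Subgroup.normalizer (φ.range : Set Ω), x ∉ φ.range ∧ ∃ α ∈ ((Cfsg.pCore p ↥(F.autGroup φ.range)).map (F.autGroup φ.range).subtype : Subgroup (MulAut ↥φ.range)), ∀ y : ↥φ.range, ((α y : ↥φ.range) : Ω) = x * (y : Ω) * x⁻¹) ∧ ¬ F.IsRadical p P := by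
  have hinv := hE.1.2.2
  obtain ⟨R, hR, hRT⟩ : ∃ R, E.IsConj (P ⊓ T) R ∧ ¬ FusionSystem.centralizerIn T R ≤ R := by
    by_contra h
    push Not at h
    exact hPT ⟨inf_le_right, h⟩
  have hRF : F.IsConj (P ⊓ T) R := by
    obtain ⟨g, hg, hgi⟩ := CfsgLib.Fus.isConj_iff.1 hR
    exact CfsgLib.Fus.isConj_iff.2 ⟨g, CfsgLib.Fus.isSubsystemOf_iff.1 hinv.1 _ g hg, hgi⟩
  obtain ⟨f, hf, K, hKA, hKp, hKn, x, hxS, hxN, hxP, κ, hκ, he⟩ :=
    CfsgLib.Fus.CentricMeet.exists_outer hS hF hinv.2.1 hP hRF hRT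
  refine ⟨?_, CfsgLib.Fus.CentricMeet.not_radical hP hf hKA hKp hKn hxS hxP hκ he⟩
  obtain ⟨φ, hφ, hφf⟩ := id hf
  have hr : φ.range = CfsgLib.Fus.img f P := by
    rw [← CfsgLib.Fus.img_ev φ]
    exact CfsgLib.Fus.img_congr fun y hy => (CfsgLib.Fus.ev_of_mem φ hy).trans (hφf ⟨y, hy⟩)
  refine ⟨φ, hφ, ?_⟩
  rw [hr]
  haveI : (K.subgroupOf (F.autGroup (CfsgLib.Fus.img f P))).Normal := ⟨fun a ha b => hKn b b.2 a ha⟩
  have hle : K.subgroupOf (F.autGroup (CfsgLib.Fus.img f P)) ≤ pCore p ↥(F.autGroup (CfsgLib.Fus.img f P)) :=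
    le_sSup ⟨inferInstance, hKp.comap_of_injective _ (Subgroup.subtype_injective _)⟩
  exact ⟨x, ⟨hxS, hxN⟩, hxP, κ, ⟨⟨κ, hKA hκ⟩, hle hκ, rfl⟩, fun y =>
    (CfsgLib.Fus.autFun_apply κ y).symm.trans (he y y.2)⟩

end Cfsg.Agent.S5251
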