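import Cfsg.Statements.S5254
import Cfsg.Agent.Fus.AbelianIndexPEssential

set_option autoImplicit false
open Cfsg

namespace Cfsg.Agent.S5254

/-- Let p be an odd prime, S a finite nonabelian p-group with a unique abelian subgroup A of index p, and F a saturated fusion system over S. Then every F-essential subgroup P is A, or Z(S)⟨x⟩ for some x ∈ S outside A, or (when the second centre Z₂(S) lies in A) Z₂(S)⟨x⟩ for some x ∈ S outside A; and P has index p in its normalizer in S. -/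
theorem result {Ω : Type*} [Group Ω] {S : Subgroup Ω} [Finite S] (p : ℕ) [Fact p.Prime] (hS : IsPGroup p S) (F : Cfsg.FusionSystem S) (hF : F.IsSaturated p) (hp : p ≠ 2) (hna : ¬ IsMulCommutative ↥S) (A : Subgroup Ω) (hA : A ≤ S ∧ IsMulCommutative ↥A ∧ (A.subgroupOf S).index = p) (huniq : ∀ B : Subgroup Ω, B ≤ S → IsMulCommutative ↥B → (B.subgroupOf S).index = p → B = A) (P : Subgroup Ω) (hP : F.IsEssential p P) : (P = A ∨ (∃ x ∈ S, x ∉ A ∧ P = (S ⊓ Subgroup.centralizer (S : Set Ω)) ⊔ Subgroup.zpowers x) ∨ (((upperCentralSeries ↥S 2).map S.subtype) ≤ A ∧ ∃ x ∈ S, x ∉ A ∧ P = ((upperCentralSeries ↥S 2).map S.subtype) ⊔ Subgroup.zpowers x)) ∧ (P.subgroupOf (S ⊓ Subgroup.normalizer (P : Set Ω))).index = p := by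
  obtain ⟨a, ha, b, hb, hne⟩ : ∃ a ∈ S, ∃ b ∈ S, a * b ≠ b * a := by
    by_contra hall
    push Not at hall
    exact hna ⟨⟨fun x y => Subtype.ext (hall x x.2 y y.2)⟩⟩
  have hd : CfsgLib.Fus.AbBase p F A :=
    { pg := hS, sat := hF, odd := hp, le := hA.1
      comm := fun x hx y hy => congrArg Subtype.val (hA.2.1.is_comm.comm (⟨x, hx⟩ : ↥A) ⟨y, hy⟩)
      index := hA.2.2
      uniq := fun B hB hBc hBi => huniq B hB ⟨⟨fun x y => Subtype.ext (hBc x x.2 y y.2)⟩⟩ hBi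
      nab := ⟨a, ha, b, hb, hne⟩ }
  by_cases hPA : P = A
  · subst hPA
    refine ⟨Or.inl rfl, ?_⟩
    have h1 : S ⊓ Subgroup.normalizer (P : Set Ω) = S := inf_eq_left.2 fun s hs =>
      CfsgLib.Fus.mem_normalizer_of_conj (fun c hc => hd.normal hs hc)
        fun c hc => by simpa using hd.normal (S.inv_mem hs) hc
    rw [h1]
    exact hd.index
  obtain ⟨hL, hidx⟩ := hd.card_central_derived hP hPA
  obtain ⟨x, hxP, hxA⟩ := hd.ess_out hP hPA
  have hx := hP.1.1 hxP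
  refine ⟨Or.inr ?_, hidx⟩
  by_cases hne : ∃ c ∈ P, c ∈ A ∧ c ∉ CfsgLib.Fus.Zc S
  · refine Or.inr ⟨hd.second_le hL, x, hx, hxA, ?_⟩
    obtain ⟨-, hsec, -⟩ := hd.large_data hP hPA hne
    rw [inf_eq_right.2 (hd.second_le hL)] at hsec
    refine le_antisymm (fun e he => ?_) (sup_le (hsec.ge.trans inf_le_left) (Subgroup.zpowers_le.2 hxP))
    obtain ⟨c, hc, q, hq, rfl⟩ := hd.decomp hP.1.1 hxP hxA he
    exact Subgroup.mul_mem_sup (hsec.le hc) hq
  · push Not at hne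
    exact Or.inl ⟨x, hx, hxA, hd.eq_sup hP hne hxP hxA⟩

end Cfsg.Agent.S5254
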