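import Cfsg.Statements.S5257
import Cfsg.Agent.Fus.AbelianIndexPEssential

set_option autoImplicit false
open Cfsg

namespace Cfsg.Agent.S5257

/-- Let p be an odd prime, S a finite nonabelian p-group with a unique abelian subgroup A of index p, and F a saturated fusion system over S having an F-essential subgroup other than A. Then the second centre Z₂(S) lies in A; Z(S) ∩ [S, S] has order p; Z(S)[S, S] has index p in A; Z(S) has index p in Z₂(S); and S/Z(S) has maximal nilpotency class (if S/Z(S) has order pᵐ with m ≥ 3 then the term of index m − 2 of the lower central series of S, counting S as index 0, is not contained in Z(S)). -/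
theorem result {Ω : Type*} [Group Ω] {S : Subgroup Ω} [Finite S] (p : ℕ) [Fact p.Prime] (hS : IsPGroup p S) (F : Cfsg.FusionSystem S) (hF : F.IsSaturated p) (hp : p ≠ 2) (hna : ¬ IsMulCommutative ↥S) (A : Subgroup Ω) (hA : A ≤ S ∧ IsMulCommutative ↥A ∧ (A.subgroupOf S).index = p) (huniq : ∀ B : Subgroup Ω, B ≤ S → IsMulCommutative ↥B → (B.subgroupOf S).index = p → B = A) (P : Subgroup Ω) (hP : F.IsEssential p P) (hPA : P ≠ A) : ((upperCentralSeries ↥S 2).map S.subtype) ≤ A ∧ Nat.card ↥((S ⊓ Subgroup.centralizer (S : Set Ω)) ⊓ ((commutator ↥S).map S.subtype)) = p ∧ (((S ⊓ Subgroup.centralizer (S : Set Ω)) ⊔ ((commutator ↥S).map S.subtype)).subgroupOf A).index = p ∧ (((S ⊓ Subgroup.centralizer (S : Set Ω))).subgroupOf ((upperCentralSeries ↥S 2).map S.subtype)).index = p ∧ ∀ m : ℕ, ((S ⊓ Subgroup.centralizer (S : Set Ω)).subgroupOf S).index = p ^ m → 3 ≤ m → ¬ Subgroup.lowerCentralSeries S (m - 2) ≤ (S ⊓ Subgroup.centralizer (S : Set Ω)) := by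
  obtain ⟨a, ha, b, hb, hne⟩ : ∃ a ∈ S, ∃ b ∈ S, a * b ≠ b * a := by
    by_contra hall
    push Not at hall
    exact hna ⟨⟨fun x y => Subtype.ext (hall x x.2 y y.2)⟩⟩
  have hd : CfsgLib.Fus.AbBase p F A :=
    { pg := hS, sat := hF, odd := hp, le := hA.1
      comm := fun x hx y hy => congrArg Subtype.val (hA.2.1.is_comm.comm (⟨x, hx⟩ : ↥A) ⟨y, hy⟩)
      index := hA.2.2
      uniq := fun B hB hBc hBi => huniq B hB ⟨⟨fun x y => Subtype.ext (hBc x x.2 y y.2)⟩⟩ hBi
      nab := ⟨a, ha, b, hb, hne⟩ }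
  obtain ⟨hL, -⟩ := hd.card_central_derived hP hPA
  obtain ⟨x, hxP, hxA⟩ := hd.ess_out hP hPA
  have hx := hP.1.1 hxP
  have hder : (commutator ↥S).map S.subtype = ⁅S, S⁆ := Subgroup.map_subtype_commutator S
  rw [hder]
  exact ⟨hd.second_le hL, hL, hd.derived_sup_index hL hx hxA, hd.second_index hL hx hxA,
    fun m hm h3 => hd.not_lower_le hL hm h3⟩

end Cfsg.Agent.S5257
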