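import Cfsg.Statements.S5276
import Cfsg.Agent.Fus.Tate

set_option autoImplicit false
open Cfsg

namespace Cfsg.Agent.S5276

/-- Let p be a prime and F a saturated fusion system over a finite p-group S. Then F is the inner fusion system of S if and only if the normalizer fusion system of S itself in F is the inner fusion system (equivalently, Aut_F(S) is induced by S) and the Frattini subgroup Φ(S) is strongly closed in F. -/
theorem result {Ω : Type*} [Group Ω] {S : Subgroup Ω} [Finite S] (p : ℕ) [Fact p.Prime] (hS : IsPGroup p ↥S) (F : Cfsg.FusionSystem S) (hF : F.IsSaturated p) : (∀ P : Subgroup Ω, F.Hom P = (Cfsg.innerFusionSystem S).Hom P) ↔ (∀ N : Cfsg.FusionSystem (Cfsg.FusionSystem.normalizerIn S S), F.IsNormalizerSystem S N → ∀ P : Subgroup Ω, N.Hom P = (Cfsg.innerFusionSystem (Cfsg.FusionSystem.normalizerIn S S)).Hom P) ∧ F.StronglyClosed ((frattini ↥S).map S.subtype) := by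
  have hSS : Cfsg.FusionSystem.normalizerIn S S = S := inf_eq_left.2 Subgroup.le_normalizer
  set Φ := (frattini ↥S).map S.subtype with hΦ
  have hΦS : Φ ≤ S := Subgroup.map_subtype_le _
  constructor
  · intro hin
    refine ⟨fun N hN P => ?_, hΦS, fun R hR φ hφ x => ?_⟩
    · ext φ
      refine ⟨fun hm => ?_, ?_⟩
      · have hm' := hm
        rw [hN] at hm'
        obtain ⟨hφ, hP, -, -⟩ := hm'
        rw [hin P] at hφ
        obtain ⟨-, g, hg, hge⟩ := hφ
        exact ⟨hP, g, hSS.ge hg, hge⟩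
      · rintro ⟨hP, g, hg, hge⟩
        rw [show φ = Cfsg.conjHom P g from MonoidHom.ext hge]
        exact N.conj_mem hP hg
    · rw [hin R] at hφ
      obtain ⟨-, g, hg, hge⟩ := hφ
      rw [hge x]
      exact CfsgLib.Fus.conj_mem_of_normalizer (CfsgLib.Fus.frattini_map_normal hg) (hR x.2)
  · rintro ⟨hN, hsc⟩
    have hinn : ∀ α ∈ F.autGroup S, ∃ s ∈ S, ∀ x ∈ S, CfsgLib.Fus.autFun α x = s * x * s⁻¹ := by
      intro α hα
      obtain ⟨N, hN'⟩ := CfsgLib.Fus.exists_normalizerSystem F (le_refl S)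
      obtain ⟨φ, hφ, hφe⟩ := (CfsgLib.Fus.mem_autGroup le_rfl).1 hα
      have hm : φ ∈ N.Hom S := by
        rw [hN']
        refine ⟨hφ, hSS.ge, fun x => hSS.ge ((F.le_of_mem hφ).2 x), ?_⟩
        obtain ⟨ψ, hψ, hψe⟩ := ((CfsgLib.Fus.mem_autGroup le_rfl).1 hα).mono (sup_le le_rfl le_rfl)
        refine ⟨ψ, hψ, fun x => (hψe _).trans (hφe x).symm, ?_⟩
        rw [CfsgLib.Fus.map_subgroupOf_eq_img ψ le_sup_right]
        exact (CfsgLib.Fus.img_congr fun x hx =>
          (CfsgLib.Fus.ev_of_mem ψ (le_sup_right (a := S) hx)).trans (hψe _)).trans (CfsgLib.Fus.img_autFun α)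
      rw [hN N hN'] at hm
      obtain ⟨-, g, hg, hge⟩ := hm
      exact ⟨g, hSS.le hg, fun x hx => (hφe ⟨x, hx⟩).symm.trans (hge ⟨x, hx⟩)⟩
    have hc : ∀ a ∈ S, ∀ b ∈ S, a * b * a⁻¹ * b⁻¹ ∈ Φ := fun a ha b hb =>
      CfsgLib.Fus.commutator_le_frattini_map hS (Subgroup.commutator_mem_commutator ha hb)
    have hpt : CfsgLib.Fus.PTriv F p Φ := by
      intro P hP α hα _ x hx
      obtain ⟨g, hg, hge⟩ := CfsgLib.Fus.exists_quot_map hS hF hsc ((CfsgLib.Fus.mem_autGroup hP).1 hα)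
      have hsc' := (CfsgLib.Fus.stronglyClosed_iff.1 hsc).2
      have hgΦ : ∀ y ∈ Φ, g y ∈ Φ := fun y hy =>
        hsc' (P ⊔ Φ) g hg y (le_sup_right (a := P) hy) hy
      have hi : CfsgLib.Fus.img g (P ⊔ Φ) ≤ P ⊔ Φ := by
        rw [hg.img_sup le_sup_left le_sup_right]
        refine sup_le (CfsgLib.Fus.img_le_iff.2 fun y hy => ?_) (CfsgLib.Fus.img_le_iff.2 fun y hy => le_sup_right (a := P) (hgΦ y hy))
        rw [← mul_inv_cancel_left (CfsgLib.Fus.autFun α y) (g y)]
        exact Subgroup.mul_mem_sup (CfsgLib.Fus.autFun_mem α hy) (hge y hy)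
      haveI := CfsgLib.Fus.finite_of_le (hg.le)
      obtain ⟨β, hβ, hβe⟩ := CfsgLib.Fus.exists_aut hg (Subgroup.eq_of_le_of_card_ge hi hg.card_img.ge)
      have h1 := CfsgLib.Fus.trivial_mod_of_stab hS hF hinn hc (le_sup_right : Φ ≤ P ⊔ Φ) hg.le hβ
        (fun y hy => by rw [hβe y (le_sup_right (a := P) hy)]; exact hgΦ y hy) x (le_sup_left (b := Φ) hx)
      rw [hβe x (le_sup_left (b := Φ) hx)] at h1
      simpa [mul_assoc] using Φ.mul_mem h1 (Φ.inv_mem (hge x hx))
    exact CfsgLib.Fus.inner_of_ptriv hS hF (CfsgLib.Fus.ptriv_descent hS hF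
      (W := ⊥) (CfsgLib.Fus.le_normalizer_of_forall fun a _ k hk => by
        rw [Subgroup.mem_bot] at hk ⊢; rw [hk, mul_one, mul_inv_cancel]) bot_le Φ hΦS bot_le
      CfsgLib.Fus.frattini_map_normal le_sup_left hpt)

end Cfsg.Agent.S5276
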