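import Cfsg.Statements.S5284
import Cfsg.Agent.Fus.SupersolubleAbelian

set_option autoImplicit false
open Cfsg

namespace Cfsg.Agent.S5284

/-- Let S be a finite abelian p-group. Every saturated fusion system over S is supersoluble (S has a chain of F-strongly closed subgroups from 1 to S with cyclic steps) if and only if the invariants of S are pairwise distinct, that is, S is not isomorphic to a direct product (Z/p^n × Z/p^n) × H with n ≥ 1. -/
theorem result {Ω : Type*} [Group Ω] {S : Subgroup Ω} [Finite S] (p : ℕ) [Fact p.Prime] (hS : IsPGroup p ↥S) (hab : IsMulCommutative ↥S) : (∀ F : Cfsg.FusionSystem S, F.IsSaturated p → (∃ (m : ℕ) (c : Fin (m + 1) → Subgroup Ω), c 0 = ⊥ ∧ c (Fin.last m) = S ∧ (∀ i : Fin (m + 1), F.StronglyClosed (c i)) ∧ ∀ i : Fin m, c i.castSucc ≤ c i.succ ∧ ∃ x ∈ S, c i.succ = c i.castSucc ⊔ Subgroup.zpowers x)) ↔ ¬ ∃ (n : ℕ) (H : Type) (_ : CommGroup H), 0 < n ∧ Nonempty (↥S ≃* (Multiplicative (ZMod (p ^ n)) × Multiplicative (ZMod (p ^ n))) × H) := by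
  classical
  constructor
  · rintro h ⟨n, H, _, hn, ⟨e⟩⟩
    exact CfsgLib.Fus.SS.not_cond hn e ((CfsgLib.Fus.SS.criterion hS).1 h).2
  · intro hno F hF
    letI : CommGroup ↥S := { (inferInstance : Group ↥S) with mul_comm := fun a b => hab.is_comm.comm a b }
    obtain ⟨ι, _, m, hm1, ⟨e⟩⟩ := CommGroup.equiv_prod_multiplicative_zmod_of_finite ↥S
    obtain ⟨M, hM⟩ := IsPGroup.iff_card.1 hS
    have hpow : ∀ i, ∃ a, m i = p ^ a := fun i => by
      have hdvd : m i ∣ p ^ M := by
        rw [← hM, Nat.card_congr e.toEquiv, Nat.card_pi]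
        have := Finset.dvd_prod_of_mem (fun j => Nat.card (Multiplicative (ZMod (m j)))) (Finset.mem_univ i)
        simpa [Nat.card_congr Multiplicative.toAdd] using this
      obtain ⟨a, -, ha⟩ := (Nat.dvd_prime_pow (Fact.out : p.Prime)).1 hdvd
      exact ⟨a, ha⟩
    choose a ha using hpow
    obtain rfl : m = fun i => p ^ a i := funext ha
    refine CfsgLib.Fus.SS.up_of_distinct hS hab hF a (fun i i' hii => ?_) e
    by_contra hne
    exact hno (CfsgLib.Fus.SS.exists_square_factor a
      (fun j => Nat.pos_of_ne_zero fun h0 => by simpa [h0] using hm1 j) e (Ne.symm hne) hii.symm)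

end Cfsg.Agent.S5284
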