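import Cfsg.Statements.S5287
import Cfsg.Agent.S5284
import Cfsg.Agent.Fus.SupersolubleMetacyclic
import Cfsg.Agent.Fus.SupersolubleSemidihedral

set_option autoImplicit false
open Cfsg Cfsg.FusionSystem CfsgLib.Fus

namespace Cfsg.Agent.S5287

/-- Let S be a finite metacyclic p-group (an extension of a cyclic group by a cyclic group). Every saturated fusion system over S is supersoluble (S has a chain of F-strongly closed subgroups from 1 to S with cyclic steps) if and only if S is not homocyclic of rank two (isomorphic to Z/p^n × Z/p^n with n ≥ 1) and, when p = 2, S is not dihedral of order at least 4, not quasi-dihedral (semidihedral) and not generalized quaternion of order at least 8. -/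
theorem result {Ω : Type*} [Group Ω] {S : Subgroup Ω} [Finite S] (p : ℕ) [Fact p.Prime] (hS : IsPGroup p ↥S) (hm : Cfsg.IsMetacyclic ↥S) : (∀ F : Cfsg.FusionSystem S, F.IsSaturated p → (∃ (m : ℕ) (c : Fin (m + 1) → Subgroup Ω), c 0 = ⊥ ∧ c (Fin.last m) = S ∧ (∀ i : Fin (m + 1), F.StronglyClosed (c i)) ∧ ∀ i : Fin m, c i.castSucc ≤ c i.succ ∧ ∃ x ∈ S, c i.succ = c i.castSucc ⊔ Subgroup.zpowers x)) ↔ ¬ ((∃ n : ℕ, 0 < n ∧ Nonempty (↥S ≃* Multiplicative (ZMod (p ^ n)) × Multiplicative (ZMod (p ^ n)))) ∨ (p = 2 ∧ ((∃ n : ℕ, 2 ≤ n ∧ Nonempty (↥S ≃* DihedralGroup n)) ∨ Cfsg.IsQuasiDihedral ↥S ∨ (∃ n : ℕ, 2 ≤ n ∧ Nonempty (↥S ≃* QuaternionGroup n))))) := by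
  classical
  have hsc : ∀ F : Cfsg.FusionSystem S, F.StronglyClosed S := fun F =>
    stronglyClosed_iff.2 ⟨le_rfl, fun _ _ hf _ hx _ => hf.mem hx⟩
  constructor
  · intro h hexc
    have hcond := ((CfsgLib.Fus.SS.criterion hS).1 h).2
    rcases hexc with ⟨n, hn, ⟨e⟩⟩ | ⟨rfl, hexc⟩
    · exact CfsgLib.Fus.SS.not_cond (K := PUnit.{1}) hn (e.trans MulEquiv.prodUnique.symm) hcond
    · have hno : ∀ (Fx : ∃ F : Cfsg.FusionSystem S, F.IsSaturated 2 ∧ ¬ CfsgLib.Fus.SS.Up F ⊥), False :=
        fun ⟨F, hF, hup⟩ => hup (h F hF)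
      rcases hexc with ⟨n, hn, ⟨e⟩⟩ | hq | ⟨n, hn, ⟨e⟩⟩
      · rcases hn.eq_or_lt with rfl | hn3
        · exact CfsgLib.Fus.SS.not_cond (K := PUnit.{1}) one_pos ((e.trans CfsgLib.Fus.SS.dihedralTwoEquiv).trans MulEquiv.prodUnique.symm) hcond
        · exact hno (CfsgLib.Fus.SS.dihedral hS hn3 e)
      · exact hno (CfsgLib.Fus.SS.semidihedral hq)
      · exact hno (CfsgLib.Fus.SS.quaternion hS hn e)
  · intro hno
    by_cases hab : ∀ a b : ↥S, a * b = b * a
    · refine (Cfsg.Agent.S5284.result p hS ⟨⟨hab⟩⟩).2 ?_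
      rintro ⟨n, H, _, hn, ⟨e⟩⟩
      letI : CommGroup ↥S := { (inferInstance : Group ↥S) with mul_comm := hab }
      exact hno (Or.inl ⟨n, hn, CfsgLib.Fus.SS.eq_square_of_factor hS hm hn e⟩)
    · refine (CfsgLib.Fus.SS.criterion hS).2 ?_
      by_cases hp2 : p = 2
      · subst hp2
        refine ⟨fun F hF => MetaTwo.normal_of_metacyclic hS hF (hsc F) hm ?_ ?_ ?_, fun H hH => ?_⟩
        · rintro ⟨m, ⟨e⟩⟩
          rcases m with _ | _ | m
          · haveI : Finite (DihedralGroup 0) := Finite.of_equiv _ e.toEquiv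
            haveI : Finite (ZMod 0) := Finite.of_injective (fun k => DihedralGroup.r k) fun _ _ h =>
              DihedralGroup.r.inj h
            haveI : Finite ℤ := ‹Finite (ZMod 0)›
            exact not_finite ℤ
          · exact hab fun a b => e.injective (by
              rw [map_mul, map_mul]; revert b a; exact fun a b => (by decide : ∀ x y : DihedralGroup 1, x * y = y * x) _ _)
          · exact hno (Or.inr ⟨rfl, Or.inl ⟨m + 2, by omega, ⟨e⟩⟩⟩)
        · rintro ⟨m, ⟨e⟩⟩
          rcases m with _ | _ | m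
          · haveI : Finite (QuaternionGroup 0) := Finite.of_equiv _ e.toEquiv
            haveI : Finite (ZMod (2 * 0)) := Finite.of_injective (fun k => QuaternionGroup.a k) fun _ _ h =>
              QuaternionGroup.a.inj h
            haveI : Finite ℤ := ‹Finite (ZMod (2 * 0))›
            exact not_finite ℤ
          · exact hab fun a b => e.injective (by
              rw [map_mul, map_mul]; exact (by decide : ∀ x y : QuaternionGroup 1, x * y = y * x) _ _)
          · exact hno (Or.inr ⟨rfl, Or.inr (Or.inr ⟨m + 2, by omega, ⟨e⟩⟩)⟩)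
        · exact fun hq => hno (Or.inr ⟨rfl, Or.inr (Or.inl hq)⟩)
        · have htriv : ∀ h ∈ H, h = 1 := fun h hh => by
            haveI := finite_mulAut (S := S) (P := S) le_rfl
            by_contra h1
            have hodd : Odd (orderOf h) := Nat.coprime_two_right.1
              (Nat.Coprime.coprime_dvd_left (Subgroup.orderOf_dvd_natCard _ hh) hH)
            rcases MetaTwo.shape_of_odd_aut hS hm h hodd h1 with ⟨e, ⟨f⟩⟩ | hq
            · exact hab fun a b => f.injective (by rw [map_mul, map_mul, mul_comm])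
            · exact hno (Or.inr ⟨rfl, Or.inr (Or.inr ⟨2, le_rfl, hq⟩)⟩)
          exact ⟨⟨⟨fun a b => Subtype.ext (by rw [Subgroup.coe_mul, Subgroup.coe_mul, htriv a a.2, htriv b b.2])⟩⟩,
            fun h hh => by rw [htriv h hh, one_pow]⟩
      · obtain ⟨x, y, K, hgen, hK, hΦ, hKt⟩ := CfsgLib.Fus.SS.exists_line hp2 hS hm hab
        exact ⟨fun F hF => MetaOdd.normal_of_metacyclic hS hF (hsc F) hp2 hm,
          fun H hH => CfsgLib.Fus.SS.cond_of_line hS hgen hK hΦ hKt H hH⟩

end Cfsg.Agent.S5287
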