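import Cfsg.Statements.S5298
import Cfsg.Agent.Fus.SmallElements

set_option autoImplicit false
universe u
open Cfsg

namespace Cfsg.Agent.S5298

/-- Let F be a saturated fusion system over a finite p-group S. If every map of F between cyclic subgroups of the hyperfocal subgroup of F of order p or 4 is conjugation by an element of S, then F is the inner fusion system of S. -/
theorem result {Ω : Type u} [Group Ω] {S : Subgroup Ω} [Finite S] (p : ℕ) [Fact p.Prime] (hS : IsPGroup p S)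
    (F : Cfsg.FusionSystem S) (hF : F.IsSaturated p)
    (h : ∀ A B : Subgroup Ω, A ≤ (F.hyperfocalSubgroup p) → B ≤ (F.hyperfocalSubgroup p) → IsCyclic ↥A → (Nat.card ↥A = p ∨ Nat.card ↥A = 4) → IsCyclic ↥B → (Nat.card ↥B = p ∨ Nat.card ↥B = 4) →
      F.homSet A B ⊆ (Cfsg.innerFusionSystem S).Hom A) :
    ∀ P : Subgroup Ω, F.Hom P = (Cfsg.innerFusionSystem S).Hom P := by
  refine CfsgLib.Fus.inner_of_small hS hF fun P hP α hα y hy hyH hys => ?_
  rcases eq_or_ne y 1 with rfl | hy1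
  · exact ⟨1, S.one_mem, by rw [CfsgLib.Fus.autFun_of_mem α hy, show (⟨1, hy⟩ : P) = 1 from rfl, map_one]; simp⟩
  have hp := (Fact.out : p.Prime)
  have hcard : orderOf y = p ∨ orderOf y = 4 := by
    rcases hys with e | ⟨h2, e⟩
    · left; exact ((Nat.dvd_prime hp).1 (orderOf_dvd_of_pow_eq_one e)).resolve_left (fun h => hy1 (orderOf_eq_one_iff.1 h))
    · have hd : orderOf y ∣ 2 ^ 2 := orderOf_dvd_of_pow_eq_one e
      obtain ⟨j, hj, hje⟩ := (Nat.dvd_prime_pow Nat.prime_two).1 hd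
      interval_cases j
      · exact absurd (orderOf_eq_one_iff.1 (by simpa using hje)) hy1
      · left; rw [hje, h2]; rfl
      · right; rw [hje]; rfl
  have hf := (CfsgLib.Fus.mem_autGroup hP).1 hα
  set z := CfsgLib.Fus.autFun α y with hz
  have hzcard : Nat.card ↥(Subgroup.zpowers z) = orderOf y := by
    rw [Nat.card_zpowers, hz, CfsgLib.Fus.autFun_of_mem α hy, Subgroup.orderOf_coe, MulEquiv.orderOf_eq,
      Subgroup.orderOf_mk]
  have hzH : z ∈ F.hyperfocalSubgroup p := by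
    obtain ⟨c, hc, hce⟩ := CfsgLib.Fus.conj_mod hS hF (CfsgLib.Fus.hyperfocal_normal hS)
      (CfsgLib.Fus.hyperfocal_le_iff.1 le_rfl) hf
    have h1 := Subgroup.mul_mem _ (CfsgLib.Fus.conj_mem_of_normalizer (CfsgLib.Fus.hyperfocal_normal hS hc) hyH) (hce y hy)
    rwa [mul_inv_cancel_left] at h1
  obtain ⟨φ, hφ, hφe⟩ := hf.mono (Subgroup.zpowers_le.2 hy)
  obtain ⟨-, s, hs, hse⟩ := h (Subgroup.zpowers y) (Subgroup.zpowers z) (Subgroup.zpowers_le.2 hyH) (Subgroup.zpowers_le.2 hzH)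
    inferInstance (by rw [Nat.card_zpowers]; exact hcard) inferInstance (by rw [hzcard]; exact hcard)
    ⟨hφ, fun x => by
      obtain ⟨i, hi⟩ := x.2
      have : x = (⟨y, Subgroup.mem_zpowers y⟩ : Subgroup.zpowers y) ^ i := Subtype.ext hi.symm
      rw [this, map_zpow, hφe]
      exact ⟨i, rfl⟩⟩
  refine ⟨s, hs, ?_⟩
  rw [hz, ← hφe ⟨y, Subgroup.mem_zpowers y⟩, hse]

end Cfsg.Agent.S5298
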