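import Cfsg.Statements.S5299
import Cfsg.Agent.Fus.SectionFreeSylow

set_option autoImplicit false
universe u
open Cfsg

namespace Cfsg.Agent.S5299

/-- Let F be a saturated fusion system over a finite p-group S, H a finite group and Q a p-subgroup of H. If Q is not involved in S (no section of S is isomorphic to Q), then F is H-free: H is involved in no model of the normalizer system of a fully normalized centric subgroup. -/
theorem result {Ω : Type u} [Group Ω] {S : Subgroup Ω} [Finite S] (p : ℕ) [Fact p.Prime] (hS : IsPGroup p S)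
    (F : Cfsg.FusionSystem S) (hF : F.IsSaturated p) (H : Type*) [Group H] [Finite H] (Q : Subgroup H) (hQ : IsPGroup p Q)
    (hfree : ¬ Cfsg.Involves (↥Q) (↥S)) : F.IsSectionFree p H := by
  intro R _ _ N _ L _ ι hm hinv
  obtain ⟨hfin, hr, ⟨T, hT⟩, -⟩ := hm
  haveI := hfin
  obtain ⟨K, R', hn, ⟨e⟩⟩ := CfsgLib.Fus.involves_sylow_image hinv hQ ι hr.1 T hT
  refine hfree ?_
  haveI := hn
  let j : ↥(Cfsg.FusionSystem.normalizerIn S R) →* ↥S := Subgroup.inclusion inf_le_left
  have hj : Function.Injective j := Subgroup.inclusion_injective _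
  let g : ↥(K.map j) →* ↥Q :=
    (e.toMonoidHom.comp (QuotientGroup.mk' _)).comp (K.equivMapOfInjective j hj).symm.toMonoidHom
  exact CfsgLib.Fus.involves_of_surj g ((e.surjective.comp (QuotientGroup.mk'_surjective _)).comp
    (K.equivMapOfInjective j hj).symm.surjective)

end Cfsg.Agent.S5299
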