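import Cfsg.Statements.S5306
import Cfsg.Agent.Solv.ThompsonSubgroup

set_option autoImplicit false
open Cfsg

namespace Cfsg.Agent.S5306

/-- Let P be a Sylow p-subgroup of the finite group X and J = J(P) its Thompson subgroup (generated by the elementary abelian subgroups of P of largest order). If x and y lie in the centre of J and y = g x g⁻¹ for some g in X, then y = n x n⁻¹ for some n in the normalizer N_X(J). -/
theorem result {X : Type*} [Group X] [Finite X] (p : ℕ) [Fact p.Prime] (P : Sylow p X) (J : Subgroup X) (hJ : J = Cfsg.thompsonSubgroupOf p (P : Subgroup X))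
    (x y : X) (hx : x ∈ J ∧ ∀ j ∈ J, Commute j x) (hy : y ∈ J ∧ ∀ j ∈ J, Commute j y) (g : X) (hg : g * x * g⁻¹ = y) :
    ∃ n ∈ Subgroup.normalizer (J : Set X), n * x * n⁻¹ = y := by
  classical
  subst hJ
  set J := Cfsg.thompsonSubgroupOf p (P : Subgroup X) with hJ
  set C := Subgroup.centralizer ({y} : Set X) with hC
  have hkey : ∀ k : X, J.map (MulAut.conj k).toMonoidHom ≤ (P : Subgroup X) → k ∈ Subgroup.normalizer (J : Set X) := by
    intro k hk
    have hle : J.map (MulAut.conj k).toMonoidHom ≤ J := by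
      rw [hJ, Subgroup.map_le_iff_le_comap, CfsgLib.Solv.thompsonSubgroupOf_eq]
      refine iSup₂_le fun A hA => ?_
      rw [← Subgroup.map_le_iff_le_comap]
      have hAJ : A ≤ J := hA.le_thompsonSubgroupOf
      refine le_iSup₂_of_le (A.map (MulAut.conj k).toMonoidHom)
        ⟨(Subgroup.map_mono hAJ).trans hk, CfsgLib.Solv.isElementaryAbelian_map hA.2.1, fun B hB hBe => ?_⟩ le_rfl
      exact (hA.2.2 B hB hBe).trans_eq (Subgroup.card_map_of_injective (MulAut.conj k).injective).symm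
    exact Subgroup.mem_normalizer_fintype fun j hj => hle ⟨j, hj, rfl⟩
  have hJP : IsPGroup p J := P.isPGroup'.to_le (CfsgLib.Solv.thompsonSubgroupOf_le _)
  have hJC : J ≤ C := fun j hj => Subgroup.mem_centralizer_singleton_iff.2 (hy.2 j hj).eq
  set J' := J.map (MulAut.conj g).toMonoidHom with hJ'
  have hJ'C : J' ≤ C := by
    rintro _ ⟨j, hj, rfl⟩
    refine Subgroup.mem_centralizer_singleton_iff.2 ?_
    show g * j * g⁻¹ * y = y * (g * j * g⁻¹)
    rw [← hg, show g * j * g⁻¹ * (g * x * g⁻¹) = g * (j * x) * g⁻¹ by group, (hx.2 j hj).eq]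
    group
  obtain ⟨Q, hQ⟩ := (hJP.comap_of_injective C.subtype C.subtype_injective).exists_le_sylow
  obtain ⟨Q', hQ'⟩ := ((hJP.map (MulAut.conj g).toMonoidHom).comap_of_injective C.subtype C.subtype_injective).exists_le_sylow
  obtain ⟨c, hc⟩ := MulAction.exists_smul_eq ↥C Q' Q
  obtain ⟨P2, hP2⟩ := (Q.isPGroup'.map C.subtype).exists_le_sylow
  obtain ⟨h, hh⟩ := MulAction.exists_smul_eq X P2 P
  have hmemP : ∀ q ∈ (Q : Subgroup ↥C), h * (q : X) * h⁻¹ ∈ (P : Subgroup X) := by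
    intro q hq
    rw [← hh]
    exact ⟨(q : X), hP2 ⟨q, hq, rfl⟩, rfl⟩
  have h1 : h ∈ Subgroup.normalizer (J : Set X) := hkey h (by
    rintro _ ⟨j, hj, rfl⟩
    exact hmemP ⟨j, hJC hj⟩ (hQ hj))
  have h2 : h * ((c : X) * g) ∈ Subgroup.normalizer (J : Set X) := hkey _ (by
    rintro _ ⟨j, hj, rfl⟩
    have hj' : (⟨g * j * g⁻¹, hJ'C ⟨j, hj, rfl⟩⟩ : C) ∈ (Q' : Subgroup ↥C) := hQ' ⟨j, hj, rfl⟩
    have hm : c * ⟨g * j * g⁻¹, hJ'C ⟨j, hj, rfl⟩⟩ * c⁻¹ ∈ (Q : Subgroup ↥C) := by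
      rw [← hc]; exact ⟨_, hj', rfl⟩
    have := hmemP _ hm
    simpa [mul_assoc] using this)
  refine ⟨(c : X) * g, ?_, ?_⟩
  · simpa using mul_mem (inv_mem h1) h2
  · rw [show (c : X) * g * x * ((c : X) * g)⁻¹ = (c : X) * (g * x * g⁻¹) * (c : X)⁻¹ by group, hg,
      Subgroup.mem_centralizer_singleton_iff.1 c.2, mul_inv_cancel_right]

end Cfsg.Agent.S5306
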