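import Cfsg.Statements.S5317
import Cfsg.Agent.Fus.PSL2Dihedral
import Cfsg.Agent.Fus.Group
import Cfsg.Agent.Fus.Automizer
import Cfsg.Agent.S5160

set_option autoImplicit false
open Cfsg

namespace Cfsg.Agent.S5317

/-- Let F be a finite field of odd order q with q² ≡ 1 mod 16 (so that a Sylow 2-subgroup of PSL(2,q), dihedral of order the 2-part of (q²−1)/2, has order at least 8). Then the 2-fusion system of PSL(2,F) on a Sylow 2-subgroup is simple: saturated, over a nontrivial 2-group, with no normal subsystem other than the trivial one and itself. -/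
theorem result {F : Type*} [Field F] [Fintype F] (hodd : Fintype.card F % 2 = 1) (h16 : 16 ∣ Fintype.card F ^ 2 - 1)
    (S : Sylow 2 (Matrix.ProjectiveSpecialLinearGroup (Fin 2) F)) :
    (Cfsg.groupFusionSystem (S : Subgroup (Matrix.ProjectiveSpecialLinearGroup (Fin 2) F))).IsSimple 2 := by
  haveI : Fact (Nat.Prime 2) := ⟨Nat.prime_two⟩
  classical
  obtain ⟨D, r, s, hD, hr, hs, hDc, hDn⟩ := CfsgLib.Fus.PSL2Two.exists_sylow_data hodd h16
  set T : Subgroup (Matrix.ProjectiveSpecialLinearGroup (Fin 2) F) := (S : Subgroup (Matrix.ProjectiveSpecialLinearGroup (Fin 2) F)) with hT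
  have hTs := CfsgLib.Glau.syl_top S
  obtain ⟨g, -, hg⟩ := hTs.exists_conj_le (le_top : D ≤ ⊤) hD.pg
  have hgD : CfsgLib.Glau.cj g D = T := Subgroup.eq_of_le_of_card_ge hg (by
    rw [CfsgLib.Glau.card_cj, hD.card, hTs.card])
  have hne : T ≠ ⊥ := fun h => by
    have h1 : g * r * g⁻¹ ∈ T := hg (CfsgLib.Glau.conj_mem_cj (hDc ▸ Subgroup.subset_closure (Or.inl rfl)))
    rw [h, Subgroup.mem_bot, mul_inv_eq_one, mul_eq_left] at h1
    rw [h1, orderOf_one] at hr
    norm_num at hr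
  refine Cfsg.Agent.S5160.result 2 S hne ?_ ?_
  · intro V hV
    by_cases hV0 : V = ⊥
    · exact Or.inl hV0
    refine Or.inr (le_antisymm hV.1 ?_)
    haveI := (Subgroup.nontrivial_iff_ne_bot V).2 hV0
    obtain ⟨k, hk⟩ := IsPGroup.iff_card.1 (S.isPGroup'.to_le hV.1)
    have h2 : 2 ∣ Nat.card V := by
      rw [hk]
      refine dvd_pow_self 2 fun h0 => ?_
      have := Finite.one_lt_card (α := V)
      rw [hk, h0, pow_zero] at this
      omega
    obtain ⟨t, ht⟩ := exists_prime_orderOf_dvd_card' 2 h2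
    rw [← Subgroup.orderOf_coe] at ht
    have key : ∀ u ∈ T, orderOf u = 2 → u ∈ V := by
      intro u hu huo
      obtain ⟨l, hl⟩ := CfsgLib.Fus.PSL2Two.one_class hodd ht huo
      have hle : Subgroup.zpowers (t : Matrix.ProjectiveSpecialLinearGroup (Fin 2) F) ≤ V :=
        Subgroup.zpowers_le.2 t.2
      have hmem : ∀ z ∈ Subgroup.zpowers (t : Matrix.ProjectiveSpecialLinearGroup (Fin 2) F), l * z * l⁻¹ ∈ T := by
        intro z hz
        obtain ⟨j, rfl⟩ := Subgroup.mem_zpowers_iff.1 hz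
        rw [← conj_zpow, hl]
        exact T.zpow_mem hu j
      have := hV.2 _ hle (Cfsg.conjHom (Subgroup.zpowers (t : Matrix.ProjectiveSpecialLinearGroup (Fin 2) F)) l)
        ⟨hle.trans hV.1, fun z => hmem z z.2, l, fun z => rfl⟩ ⟨t, Subgroup.mem_zpowers _⟩
      rw [← hl]
      exact this
    show T ≤ V
    rw [← hgD, hDc, CfsgLib.Glau.cj, MonoidHom.map_closure, Subgroup.closure_le]
    rintro _ ⟨z, hz, rfl⟩
    refine key _ (hg (CfsgLib.Glau.conj_mem_cj (hDc ▸ Subgroup.subset_closure hz))) ?_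
    rw [MulEquiv.coe_toMonoidHom, MulEquiv.orderOf_eq]
    rcases hz with rfl | rfl
    exacts [hr, hs]
  · -- the automizer of the Sylow subgroup is inner
    have hinn : Cfsg.autInducedBy ⊤ T ≤ Cfsg.autInducedBy T T := by
      intro α hα
      obtain ⟨h, -, hh⟩ := CfsgLib.Fus.mem_autInducedBy.1 hα
      have hN : h ∈ Subgroup.normalizer (T : Set (Matrix.ProjectiveSpecialLinearGroup (Fin 2) F)) := by
        rw [CfsgLib.Glau.mem_normalizer_iff_cj]
        refine Subgroup.eq_of_le_of_card_ge ?_ (CfsgLib.Glau.card_cj h T).ge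
        rintro _ ⟨z, hz, rfl⟩
        show h * z * h⁻¹ ∈ T
        rw [← hh z hz]
        exact CfsgLib.Fus.autFun_mem α hz
      obtain ⟨v, m, hm, hvm⟩ := Nat.exists_eq_two_pow_mul_odd (orderOf_pos h).ne'
      set h₁ := h ^ 2 ^ v with hh₁
      have hh₁o : orderOf h₁ = m := by
        rw [hh₁, orderOf_pow' _ (pow_ne_zero v two_ne_zero), hvm, Nat.gcd_eq_right (dvd_mul_right _ _),
          Nat.mul_div_cancel_left _ (Nat.two_pow_pos v)]
      -- `h₁` centralizes `T`
      have hc : ∀ z ∈ T, h₁ * z = z * h₁ := by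
        intro z hz
        have hz' : g⁻¹ * z * g ∈ D := by
          rw [← hgD] at hz
          exact CfsgLib.Glau.mem_cj.1 hz
        have hn1 : g⁻¹ * h₁ * g ∈ Subgroup.normalizer (D : Set (Matrix.ProjectiveSpecialLinearGroup (Fin 2) F)) := by
          rw [CfsgLib.Glau.mem_normalizer_iff_cj, CfsgLib.Glau.cj_mul, CfsgLib.Glau.cj_mul, hgD,
            CfsgLib.Glau.mem_normalizer_iff_cj.1 (Subgroup.pow_mem _ hN _), ← hgD, CfsgLib.Glau.cj_inv_cj]
        have ho : orderOf (g⁻¹ * h₁ * g) = m := by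
          rw [← hh₁o, show g⁻¹ * h₁ * g = MulAut.conj g⁻¹ h₁ by simp [MulAut.conj_apply], MulEquiv.orderOf_eq]
        have := hDn _ hn1 (ho ▸ hm) _ hz'
        calc h₁ * z = g * (g⁻¹ * h₁ * g * (g⁻¹ * z * g)) * g⁻¹ := by group
          _ = z * h₁ := by rw [this]; group
      have h2 : h ^ m ∈ T := by
        have hz2 : IsPGroup 2 ↥(Subgroup.zpowers (h ^ m)) := by
          refine IsPGroup.iff_card.2 ?_
          rw [Nat.card_zpowers, orderOf_pow' _ hm.pos.ne', hvm, Nat.gcd_eq_right (dvd_mul_left _ _),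
            Nat.mul_div_cancel _ hm.pos]
          exact ⟨v, rfl⟩
        have hp := IsPGroup.to_sup_of_normal_left' S.isPGroup' hz2 (Subgroup.zpowers_le.2 (Subgroup.pow_mem _ hN m))
        have he : T ⊔ Subgroup.zpowers (h ^ m) = T := hTs.eq_of_le le_sup_left le_top hp
        rw [← he]
        exact Subgroup.mem_sup_right (Subgroup.mem_zpowers _)
      have hbez := Nat.gcd_eq_gcd_ab m (2 ^ v)
      rw [(Nat.Coprime.pow_right v (Nat.coprime_two_right.2 hm)).gcd_eq_one] at hbez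
      set A := Nat.gcdA m (2 ^ v)
      set B := Nat.gcdB m (2 ^ v)
      have hsplit : h = (h ^ m) ^ A * h₁ ^ B := by
        rw [hh₁, ← zpow_natCast h m, ← zpow_natCast h (2 ^ v), ← zpow_mul, ← zpow_mul, ← zpow_add, ← hbez,
          Nat.cast_one, zpow_one]
      refine CfsgLib.Fus.mem_autInducedBy.2 ⟨(h ^ m) ^ A, T.zpow_mem h2 A, fun z hz => ?_⟩
      rw [hh z hz]
      conv_lhs => rw [hsplit]
      rw [show (h ^ m) ^ A * h₁ ^ B * z * ((h ^ m) ^ A * h₁ ^ B)⁻¹ =
        (h ^ m) ^ A * (h₁ ^ B * z * (h₁ ^ B)⁻¹) * ((h ^ m) ^ A)⁻¹ by group,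
        ((show Commute h₁ z from hc z hz).zpow_left B).eq, mul_inv_cancel_right]
    refine le_antisymm (hinn.trans ?_) (iSup₂_le fun R _ => CfsgLib.Fus.autInducedBy_mono le_top)
    have hA : (Cfsg.groupFusionSystem T).autGroup T = Cfsg.autInducedBy T T := by
      rw [CfsgLib.Fus.autGroup_group le_rfl]
      exact le_antisymm hinn (CfsgLib.Fus.autInducedBy_mono le_top)
    refine le_iSup₂_of_le T ⟨?_, ?_, ?_⟩ ?_
    · refine ⟨le_rfl, fun Q hQ => ?_⟩
      obtain ⟨-, hQS, l, rfl⟩ := CfsgLib.Fus.isConj_group_iff.1 hQ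
      rw [Subgroup.eq_of_le_of_card_ge hQS (CfsgLib.Glau.card_cj l T).ge]
    · refine ⟨le_rfl, ?_⟩
      rw [CfsgLib.Fus.inn_eq_autInducedBy, hA]
      haveI := CfsgLib.Solv.pCore_normal ↥(Cfsg.autInducedBy T T) 2
      have htop : Cfsg.pCore 2 ↥(Cfsg.autInducedBy T T) = ⊤ := eq_top_iff.2 (CfsgLib.Solv.le_pCore
        (hN := (inferInstance : (⊤ : Subgroup ↥(Cfsg.autInducedBy T T)).Normal))
        ((CfsgLib.Fus.isPGroup_autInducedBy S.isPGroup').of_equiv Subgroup.topEquiv.symm))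
      rw [htop, ← MonoidHom.range_eq_map, Subgroup.range_subtype]
    · refine ⟨le_rfl, fun Q hQ => ?_⟩
      obtain ⟨-, hQS, l, rfl⟩ := CfsgLib.Fus.isConj_group_iff.1 hQ
      rw [Subgroup.eq_of_le_of_card_ge hQS (CfsgLib.Glau.card_cj l T).ge]
      exact inf_le_left
    · refine CfsgLib.Fus.autInducedBy_mono fun z hz => Subgroup.subset_closure ⟨Subgroup.le_normalizer hz, ?_⟩
      obtain ⟨j, hj⟩ := S.isPGroup' ⟨z, hz⟩
      obtain ⟨i, -, hi⟩ := (Nat.dvd_prime_pow Nat.prime_two).1 (orderOf_dvd_of_pow_eq_one hj)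
      exact ⟨i, by rw [← hi, Subgroup.orderOf_mk]⟩

end Cfsg.Agent.S5317
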