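import Cfsg.Statements.S5330
import Cfsg.Agent.Fus.Tate

set_option autoImplicit false
open Cfsg

namespace Cfsg.Agent.S5330

/-- Let F be a saturated fusion system over a finite abelian p-group S. Then S is the internal direct product of the centre of the system and the focal subgroup: Z(F) ∩ foc(F) = 1 and Z(F)·foc(F) = S. -/
theorem result {Ω : Type*} [Group Ω] {S : Subgroup Ω} [Finite S] (p : ℕ) [Fact p.Prime] (hS : IsPGroup p S) (F : Cfsg.FusionSystem S) (hF : F.IsSaturated p) (hab : ∀ x ∈ S, ∀ y ∈ S, x * y = y * x) : F.center ⊓ F.focalSubgroup = ⊥ ∧ F.center ⊔ F.focalSubgroup = S := by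
  classical
  have hS' : ⁅(S : Subgroup Ω), (S : Subgroup Ω)⁆ = ⊥ := eq_bot_iff.2 (Subgroup.commutator_le.2 fun a ha b hb =>
    Subgroup.mem_bot.2 (commutatorElement_eq_one_iff_mul_comm.2 (hab a ha b hb)))
  refine ⟨eq_bot_iff.2 (by rw [inf_comm, ← hS']; exact CfsgLib.Fus.focal_inf_center hS hF), ?_⟩
  have hfocS : F.focalSubgroup ≤ S := by
    rw [CfsgLib.Fus.focal_eq hS hF, hS', sup_bot_eq]; exact CfsgLib.Fus.hyperfocal_le hS
  refine le_antisymm (sup_le (CfsgLib.Fus.isCentral_center (F := F)).1 hfocS) fun x hx => ?_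
  letI : CommGroup ↥S := { (inferInstance : Group ↥S) with
    mul_comm := fun a b => Subtype.ext (hab a a.2 b b.2) }
  haveI := CfsgLib.Fus.finite_mulAut (le_refl S)
  haveI : Fintype ↥(F.autGroup S) := Fintype.ofFinite _
  set A := F.autGroup S
  have hfn : F.IsFullyNormalized S := CfsgLib.Fus.fullyNormalized_top
  have hcard : ¬ p ∣ Fintype.card ↥A := by
    have h := ((CfsgLib.Fus.fa_iff hS).1 (CfsgLib.Fus.fullyNormalized_spec hS hF hfn).1).2
    have hb : Cfsg.autInducedBy S S = ⊥ := eq_bot_iff.2 fun α hα => by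
      obtain ⟨g, hg, he⟩ := CfsgLib.Fus.mem_autInducedBy.1 hα
      exact Subgroup.mem_bot.2 (CfsgLib.Fus.aut_ext fun y hy => by
        rw [he y hy, CfsgLib.Fus.autFun_one hy, hab g hg y hy, mul_inv_cancel_right])
    rw [hb, Subgroup.bot_subgroupOf, Subgroup.index_bot, Nat.card_eq_fintype_card] at h
    exact h
  let N : ↥S → ↥S := fun g => ∏ α : ↥A, (α : MulAut ↥S) g
  -- `N g` is central
  have hN : ∀ g, (N g : Ω) ∈ F.center := by
    intro g
    have hfix : ∀ β : ↥A, (β : MulAut ↥S) (N g) = N g := fun β => by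
      simp only [N, map_prod]
      exact Equiv.prod_comp (Equiv.mulLeft β) fun α : ↥A => (α : MulAut ↥S) g
    refine (le_sSup (?_ : F.IsCentral (Subgroup.zpowers (N g : Ω))) : Subgroup.zpowers (N g : Ω) ≤ F.center) (Subgroup.mem_zpowers _)
    refine ⟨?_, fun P φ hφ => ?_⟩
    · exact Subgroup.zpowers_le.2 (N g).2
    · have hf := CfsgLib.Fus.IsMap.of_hom hφ
      have hcen : ∀ R : Subgroup Ω, R ≤ S → Cfsg.FusionSystem.centralizerIn S R = S := fun R hR =>
        inf_eq_left.2 fun y hy z hz => hab z (hR hz) y hy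
      have hrec : F.IsReceptive (CfsgLib.Fus.img (CfsgLib.Fus.ev φ) P) :=
        CfsgLib.Fus.receptive_of_fullyCentralized hS hF ⟨hf.img_le, fun R hR => by
          rw [hcen R (CfsgLib.Fus.isConj_le hR).2, hcen _ hf.img_le]⟩
      obtain ⟨k, hk, hke⟩ := CfsgLib.Fus.extend hrec hf rfl (N := S) fun a ha =>
        ⟨ha, Subgroup.mem_normalizer_iff.2 fun y => ⟨fun hy => by rwa [hab a ha y (hf.le hy), mul_inv_cancel_right],
          fun hy => by
            have h1 := hab a ha _ (hf.le hy)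
            have h2 : a * y * a⁻¹ = y := by
              have h3 : a * y = a * (a * y * a⁻¹) := by rw [h1]; simp [mul_assoc]
              exact (mul_left_cancel h3).symm
            rwa [h2] at hy⟩,
          1, S.one_mem, fun y hy => by rw [hab a ha y (hf.le hy), mul_inv_cancel_right]; simp⟩
      rw [sup_eq_right.2 hf.le] at hk
      obtain ⟨β, hβ, hβe⟩ := CfsgLib.Fus.exists_aut hk (Subgroup.eq_of_le_of_card_ge hk.img_le hk.card_img.ge)
      obtain ⟨ψ, hψ, hψe⟩ := hk.mono (sup_le hf.le (Subgroup.zpowers_le.2 (N g).2))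
      refine ⟨ψ, hψ, fun y => (hψe _).trans ((hke y y.2).trans (CfsgLib.Fus.ev_apply φ y)), fun y => ?_⟩
      obtain ⟨j, hj⟩ := Subgroup.mem_zpowers_iff.1 y.2
      have hy : (y : Ω) = ((N g ^ j : ↥S) : Ω) := by rw [Subgroup.coe_zpow, hj]
      refine (hψe _).trans ?_
      show k (y : Ω) = y
      rw [hy, ← hβe _ (N g ^ j : ↥S).2, CfsgLib.Fus.autFun_apply, map_zpow, hfix ⟨β, hβ⟩]
  -- `N g` is congruent to a power of `g`
  have hmod : ∀ g : ↥S, (N g : Ω) * ((g : Ω) ^ Fintype.card ↥A)⁻¹ ∈ F.focalSubgroup := by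
    intro g
    have h1 : N g * (g ^ Fintype.card ↥A)⁻¹ = ∏ α : ↥A, g⁻¹ * (α : MulAut ↥S) g := by
      rw [Finset.prod_mul_distrib, Finset.prod_const, Finset.card_univ, inv_pow, mul_comm]
    have h2 : ((∏ α : ↥A, g⁻¹ * (α : MulAut ↥S) g : ↥S) : Ω) ∈ F.focalSubgroup := by
      refine Finset.prod_induction _ (fun y : ↥S => (y : Ω) ∈ F.focalSubgroup)
        (fun a b => F.focalSubgroup.mul_mem) F.focalSubgroup.one_mem fun α _ => ?_
      exact Subgroup.subset_closure ⟨S, S.subtype.comp (α : MulAut ↥S).toMonoidHom, g,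
        ((CfsgLib.Fus.mem_autGroup le_rfl).1 α.2).hom_mem (fun y => (CfsgLib.Fus.autFun_apply _ _).symm), rfl⟩
    rw [← h1] at h2
    simpa using h2
  obtain ⟨k, hk⟩ := IsPGroup.iff_card.1 hS
  have hco : (Nat.card ↥S).Coprime (Fintype.card ↥A) := by
    rw [hk]; exact ((Fact.out : p.Prime).coprime_iff_not_dvd.2 hcard).pow_left k
  obtain ⟨g, hg⟩ := (powCoprime hco).surjective ⟨x, hx⟩
  have h := Subgroup.mul_mem_sup (hN g) (F.focalSubgroup.inv_mem (hmod g))
  have e : (N g : Ω) * ((N g : Ω) * ((g : Ω) ^ Fintype.card ↥A)⁻¹)⁻¹ = x := by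
    have h3 : ((g ^ Fintype.card ↥A : ↥S) : Ω) = x := congrArg Subtype.val hg
    rw [Subgroup.coe_pow] at h3
    rw [h3, mul_inv_rev, inv_inv, ← mul_assoc, hab _ (N g).2 _ hx, mul_inv_cancel_right]
  rwa [e] at h

end Cfsg.Agent.S5330
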