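import Cfsg.Statements.S5331
import Cfsg.Agent.Fus.SupersolubleAbelian

set_option autoImplicit false
open Cfsg Cfsg.FusionSystem CfsgLib.Fus

namespace Cfsg.Agent.S5331

/-- Let S be a finite abelian 2-group that is a direct product of cyclic groups of pairwise distinct orders 2^{a_1} < 2^{a_2} < ⋯ < 2^{a_n} (all a_i ≥ 1). Then every saturated fusion system over S is the inner one: its maps are exactly the conjugations by elements of S. -/
theorem result {Ω : Type*} [Group Ω] {S : Subgroup Ω} [Finite S] (n : ℕ) (a : Fin n → ℕ) (ha : StrictMono a) (ha1 : ∀ i, 1 ≤ a i) (e : ↥S ≃* Multiplicative ((i : Fin n) → ZMod (2 ^ a i))) (F : Cfsg.FusionSystem S) (hF : F.IsSaturated 2) (P : Subgroup Ω) : F.Hom P = (Cfsg.innerFusionSystem S).Hom P := by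
  classical
  haveI : Fact (Nat.Prime 2) := ⟨Nat.prime_two⟩
  have hS : IsPGroup 2 ↥S := by
    refine IsPGroup.of_card (n := ∑ i, a i) ?_
    rw [Nat.card_congr e.toEquiv, Nat.card_congr Multiplicative.toAdd, Nat.card_pi]
    simp [Finset.prod_pow_eq_pow_sum]
  have hab : IsMulCommutative ↥S := ⟨⟨fun x y => e.injective (by rw [map_mul, map_mul, mul_comm])⟩⟩
  have hN := CfsgLib.Fus.SS.normal_of_abelian hS hab hF
  haveI := finite_mulAut (S := S) (P := S) le_rfl
  obtain ⟨-, hcond⟩ := (CfsgLib.Fus.SS.criterion hS).1 fun F' hF' =>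
    CfsgLib.Fus.SS.up_of_distinct hS hab hF' a ha.injective (e.trans (MulEquiv.piMultiplicative _))
  have hA : IsPGroup 2 ↥(F.autGroup S) := by
    refine IsPGroup.of_card (n := (Nat.card ↥(F.autGroup S)).primeFactorsList.length)
      (Nat.eq_prime_pow_of_unique_prime_dvd Nat.card_pos.ne' fun {d} hd' hdd => ?_)
    by_contra hd2
    haveI : Fact d.Prime := ⟨hd'⟩
    obtain ⟨γ, hγ⟩ := exists_prime_orderOf_dvd_card' d hdd
    obtain ⟨-, h2⟩ := hcond (Subgroup.zpowers (γ : MulAut ↥S)) (by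
      rw [Nat.card_zpowers, Subgroup.orderOf_coe, hγ]; exact (Nat.coprime_primes hd' Nat.prime_two).2 hd2)
    have hone : (γ : MulAut ↥S) = 1 := by simpa using h2 _ (Subgroup.mem_zpowers _)
    rw [show γ = 1 from Subtype.ext hone, orderOf_one] at hγ
    exact hd'.ne_one hγ.symm
  obtain ⟨Rs, hRs⟩ := (fullyNormalized_spec hS hF (fullyNormalized_top (F := F))).1.2
  refine Set.ext fun φ => ⟨fun hφ => ?_, fun hφ => ?_⟩
  · have hf := IsMap.of_hom hφ
    obtain ⟨g, hg, hge, hgS⟩ := (isNormal_iff.1 hN).2 P _ hf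
    obtain ⟨α, hα, hαe⟩ := exists_aut (hg.mono le_sup_right) hgS
    have htop : (⊤ : Subgroup ↥(F.autGroup S)) = (Rs : Subgroup ↥(F.autGroup S)) :=
      Rs.is_maximal' (hA.to_subgroup _) le_top
    have hmem : (⟨α, hα⟩ : ↥(F.autGroup S)) ∈ (Rs : Subgroup ↥(F.autGroup S)) := htop ▸ Subgroup.mem_top _
    rw [hRs] at hmem
    obtain ⟨s, hs, hse⟩ := mem_autInducedBy.1 (Subgroup.mem_subgroupOf.1 hmem)
    refine ⟨hf.le, s, hs, fun x => ?_⟩
    rw [← hse x (hf.le x.2), hαe x (hf.le x.2), hge x x.2, ev_apply]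
  · obtain ⟨hP, g, hg, hge⟩ := hφ
    exact (IsMap.conj F hP hg).hom_mem hge

end Cfsg.Agent.S5331
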