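import Cfsg.Statements.S5334
import Cfsg.Agent.Fus.Centric

set_option autoImplicit false
open Cfsg

namespace Cfsg.Agent.S5334

/-- Let F′ ≤ F be saturated fusion systems over the same finite p-group S, let Q and R be F-centric subgroups, φ a map of F with source Q and values in R, and ψ a map of F with source R. If two of φ, ψ and the composite ψ ∘ φ are maps of F′ then so is the third. -/
theorem result {Ω : Type*} [Group Ω] {S : Subgroup Ω} [Finite S] (p : ℕ) [Fact p.Prime] (hS : IsPGroup p S) (F : Cfsg.FusionSystem S) (hF : F.IsSaturated p) (F' : Cfsg.FusionSystem S) (hF' : F'.IsSaturated p) (hle : F' ≤ F) (Q R : Subgroup Ω) (hQ : F.IsCentric Q) (hR : F.IsCentric R) (φ : ↥Q →* Ω) (hφ : φ ∈ F.Hom Q) (hφR : ∀ x : Q, φ x ∈ R) (ψ : ↥R →* Ω) (hψ : ψ ∈ F.Hom R) : (φ ∈ F'.Hom Q → ψ ∈ F'.Hom R → ψ.comp (φ.codRestrict R hφR) ∈ F'.Hom Q) ∧ (ψ ∈ F'.Hom R → ψ.comp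 (φ.codRestrict R hφR) ∈ F'.Hom Q → φ ∈ F'.Hom Q) ∧ (φ ∈ F'.Hom Q → ψ.comp (φ.codRestrict R hφR) ∈ F'.Hom Q → ψ ∈ F'.Hom R) := by
  open CfsgLib.Fus in
  have hm := IsMap.of_hom hφ
  open CfsgLib.Fus in
  have hψm := IsMap.of_hom hψ
  have hval : ∀ x ∈ Q, CfsgLib.Fus.ev φ x ∈ R := fun x hx => by
    rw [CfsgLib.Fus.ev_of_mem φ hx]; exact hφR _
  have hcomp : ∀ x ∈ Q, CfsgLib.Fus.ev (ψ.comp (φ.codRestrict R hφR)) x =
      CfsgLib.Fus.ev ψ (CfsgLib.Fus.ev φ x) := fun x hx => by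
    rw [CfsgLib.Fus.ev_of_mem _ hx, CfsgLib.Fus.ev_of_mem φ hx, CfsgLib.Fus.ev_of_mem ψ (hφR _)]
    rfl
  refine ⟨fun h1 h2 => F'.comp_mem h1 h2 hφR, fun h2 h3 => ?_, fun h1 h3 => ?_⟩
  · rw [CfsgLib.Fus.mem_hom_iff] at h2 h3 ⊢
    obtain ⟨k, hk, hkl, -, -⟩ := h2.inv
    refine (h3.comp hk fun x hx => ?_).congr fun x hx => ?_
    · exact hcomp x hx ▸ CfsgLib.Fus.mem_img_of_mem (hval x hx)
    · rw [Function.comp_apply, hcomp x hx, hkl _ (hval x hx)]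
  · rw [CfsgLib.Fus.mem_hom_iff] at h1 h3 ⊢
    obtain ⟨k, hk, hkl, hkr, hki⟩ := h1.inv
    refine CfsgLib.Fus.restrict_centric hS hF hF' hle (CfsgLib.Fus.img_le_iff.2 hval)
      (CfsgLib.Fus.centric_of_isConj hQ (CfsgLib.Fus.isConj_iff.2 ⟨_, hm, rfl⟩)) hψm ?_
    have hkQ : ∀ y ∈ CfsgLib.Fus.img (CfsgLib.Fus.ev φ) Q, k y ∈ Q := fun y hy =>
      hki.le (CfsgLib.Fus.mem_img_of_mem hy)
    refine (hk.comp h3 hkQ).congr fun y hy => ?_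
    rw [Function.comp_apply, hcomp _ (hkQ y hy), hkr y hy]

end Cfsg.Agent.S5334
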