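import Cfsg.Statements.S5336
import Cfsg.Agent.Fus.NormalSubgroupSystem
import Cfsg.Agent.Fus.CoreBasic

set_option autoImplicit false
open Cfsg

namespace Cfsg.Agent.S5336

/-- Let G be a finite group with Sylow p-subgroup S whose fusion system F_S(G) is simple. If G has no nontrivial normal subgroup of order prime to p and no proper subgroup H containing S induces the same fusion system on S as G does, then G is a simple group. -/
theorem result {G : Type*} [Group G] [Finite G] (p : ℕ) [Fact p.Prime] (S : Sylow p G) (hsimple : (Cfsg.groupFusionSystem (S : Subgroup G)).IsSimple p) (hcore : Cfsg.pPrimeCore p G = ⊥) (hmin : ∀ (H : Subgroup G) (hSH : (S : Subgroup G) ≤ H), H ≠ ⊤ → ∃ P : Subgroup G, (Cfsg.fusionSystemOfSubgroup H (S : Subgroup G) hSH).Hom P ≠ (Cfsg.groupFusionSystem (S : Subgroup G)).Hom P) : IsSimpleGroup G := by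
  obtain ⟨-, hSne, hs⟩ := hsimple
  haveI : Nontrivial G := ⟨⟨_, 1, fun h => hSne ((Subgroup.eq_bot_iff_forall _).2 fun x hx => by
    by_contra hx1
    exact hx1 (((Subgroup.bot_or_exists_ne_one (S : Subgroup G)).resolve_left hSne).choose_spec.2 h).elim)⟩⟩
  refine ⟨fun N hN => ?_⟩
  haveI := hN
  rcases hs _ _ (CfsgLib.Fus.normalSubgroup_system S N) with hT | ⟨hT, hE⟩
  · left
    rw [eq_bot_iff, ← hcore]
    refine CfsgLib.Fus.le_pPrimeCore hN ?_
    obtain ⟨R, hR⟩ := CfsgLib.Fus.sylow_inf_normal_system S N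
    have hc : Nat.card (R : Subgroup ↥N) = 1 := by
      rw [hR, Nat.card_congr (Subgroup.subgroupOfEquivOfLe inf_le_right).toEquiv, hT, Subgroup.card_bot]
    refine Nat.coprime_comm.1 ((Fact.out : p.Prime).coprime_iff_not_dvd.2 fun hd => R.not_dvd_index ?_)
    rwa [← Subgroup.card_mul_index (R : Subgroup ↥N), hc, one_mul] at hd
  · right
    by_contra hne
    have hSN : (S : Subgroup G) ≤ N := inf_eq_left.1 hT
    obtain ⟨P, hP⟩ := hmin N hSN hne
    refine hP (Eq.trans ?_ (hE P))
    ext φ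
    show (_ ∧ (∀ x, φ x ∈ (S : Subgroup G)) ∧ _) ↔ (_ ∧ (∀ x, φ x ∈ (S : Subgroup G) ⊓ N) ∧ _)
    rw [hT]

end Cfsg.Agent.S5336
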