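import Cfsg.Statements.S5337
import Cfsg.Agent.Fus.InnerNormal

set_option autoImplicit false
open Cfsg

namespace Cfsg.Agent.S5337

/-- Let F be a saturated fusion system over a finite abelian p-group S. Then F is simple if and only if S has order p and F is the inner system of S (whose only maps are the inclusions, S being abelian). -/
theorem result {Ω : Type*} [Group Ω] {S : Subgroup Ω} [Finite S] (p : ℕ) [Fact p.Prime] (hS : IsPGroup p S) (F : Cfsg.FusionSystem S) (hF : F.IsSaturated p) (hab : ∀ x ∈ S, ∀ y ∈ S, x * y = y * x) : F.IsSimple p ↔ (Nat.card S = p ∧ ∀ P : Subgroup Ω, F.Hom P = (Cfsg.innerFusionSystem S).Hom P) := by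
  open CfsgLib.Fus in
  have hnS : F.IsNormal S := normal_of_extend hS hF le_rfl fun P f hP hf => by
    have hcard : ∀ R : Subgroup Ω, R ≤ S → Cfsg.FusionSystem.normalizerIn S R = S := fun R hR =>
      inf_eq_left.2 fun s hs => mem_normalizer_of_conj
        (fun x hx => by rw [hab s hs x (hR hx), mul_inv_cancel_right]; exact hx)
        (fun x hx => by rw [← hab x (hR hx) s⁻¹ (inv_mem hs), inv_mul_cancel_right]; exact hx)
    have hfn : F.IsFullyNormalized (img f P) := ⟨hf.img_le, fun R _ =>
      (hcard _ hf.img_le).symm ▸ Subgroup.card_le_of_le inf_le_left⟩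
    obtain ⟨k, hk, hke⟩ := extend (fullyNormalized_spec hS hF hfn).2 hf rfl (N := S) fun g hg =>
      ⟨hg, (hcard P hf.le).ge.trans inf_le_right hg, 1, one_mem _, fun y hy => by
        rw [hab g hg y (hf.le hy), mul_inv_cancel_right, one_mul, inv_one, mul_one]⟩
    rw [sup_eq_right.2 hf.le] at hk
    obtain ⟨α, hα, hαe⟩ := exists_aut hk (Subgroup.eq_of_le_of_card_ge hk.img_le hk.card_img.ge)
    exact ⟨α, hα, fun x hx => by rw [hαe x (hf.le hx), hke x hx]⟩
  constructor
  · intro hs
    obtain ⟨-, hSne, hsim⟩ := hs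
    have hinner : ∀ P : Subgroup Ω, F.Hom P = (Cfsg.innerFusionSystem S).Hom P := by
      rcases hsim _ _ (CfsgLib.Fus.innerSystem_normal_of_normal hS hF hnS) with h | ⟨-, h⟩
      · exact absurd h hSne
      · exact fun P => (h P).symm
    refine ⟨?_, hinner⟩
    haveI : Nontrivial S := (Subgroup.nontrivial_iff_ne_bot S).2 hSne
    obtain ⟨k, hk0, hk⟩ := hS.nontrivial_iff_card.1 inferInstance
    obtain ⟨x, hx⟩ := exists_prime_orderOf_dvd_card' (G := S) p (hk ▸ dvd_pow_self p hk0.ne')
    open CfsgLib.Fus in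
    have hnQ : F.IsNormal (Subgroup.zpowers (x : Ω)) := by
      refine normal_of_extend hS hF (Subgroup.zpowers_le.2 x.2) fun P f hP hf => ⟨1, one_mem _, fun y hy => ?_⟩
      have hf' : IsMap (Cfsg.innerFusionSystem S) P f := by
        obtain ⟨φ, hφ, hφf⟩ := hf; exact ⟨φ, hinner P ▸ hφ, hφf⟩
      obtain ⟨hPS, g, hg, hge⟩ := isMap_inner_iff.1 hf'
      rw [autFun_one (hP hy), hge y hy, hab g hg y (hPS hy), mul_inv_cancel_right]
    rcases hsim _ _ (CfsgLib.Fus.innerSystem_normal_of_normal hS hF hnQ) with h | ⟨h, -⟩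
    · exact absurd h (by rw [Subgroup.zpowers_eq_bot]; intro hx1; rw [← Subgroup.orderOf_coe, hx1, orderOf_one] at hx; exact (Fact.out : p.Prime).one_lt.ne hx)
    · rw [← h, Nat.card_zpowers, Subgroup.orderOf_coe, hx]
  · rintro ⟨hcard, hinner⟩
    have hFi : F = Cfsg.innerFusionSystem S := CfsgLib.Fus.system_ext hinner
    refine CfsgLib.Fus.simple_criterion hF (fun h => ?_) ?_ fun T hT => ?_
    · rw [h, Subgroup.card_bot] at hcard; exact (Fact.out : p.Prime).one_lt.ne hcard
    · open CfsgLib.Fus in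
      refine le_antisymm (fun α hα => ?_) (inn_le_autGroup le_rfl)
      rw [inn_eq_autInducedBy]
      rw [hFi] at hα
      obtain ⟨-, g, hg, hge⟩ := isMap_inner_iff.1 ((mem_autGroup le_rfl).1 hα)
      exact mem_autInducedBy.2 ⟨g, hg, hge⟩
    · have hle : T ≤ S := hT.1
      have hd := Subgroup.card_dvd_of_le hle
      rw [hcard, Nat.dvd_prime Fact.out] at hd
      rcases hd with hd | hd
      · exact Or.inl (Subgroup.card_eq_one.1 hd)
      · exact Or.inr (Subgroup.eq_of_le_of_card_ge hle (by rw [hd, hcard]))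

end Cfsg.Agent.S5337
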