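import Cfsg.Statements.S5338
import Cfsg.Agent.Fus.Quotient

set_option autoImplicit false
open Cfsg

namespace Cfsg.Agent.S5338

/-- Let F be a saturated fusion system over a finite p-group S and F′ ≤ F a saturated subsystem over all of S that is invariant under F in the conjugation sense: for every map φ of F with source Q and every map ψ of F′ between subgroups R ≤ Q (with values in Q), the transported map φψφ⁻¹ defined on φ(R) is again a map of F′. If moreover Aut_{F′}(S) = Aut_F(S), then F′ = F. -/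
theorem result {Ω : Type*} [Group Ω] {S : Subgroup Ω} [Finite S] (p : ℕ) [Fact p.Prime] (hS : IsPGroup p S) (F : Cfsg.FusionSystem S) (hF : F.IsSaturated p) (F' : Cfsg.FusionSystem S) (hF' : F'.IsSaturated p) (hle : F' ≤ F) (hinv : ∀ (Q : Subgroup Ω) (φ : ↥Q →* Ω), φ ∈ F.Hom Q → ∀ (R : Subgroup Ω) (hRQ : R ≤ Q) (ψ : ↥R →* Ω), ψ ∈ F'.Hom R → ∀ (hψQ : ∀ x : R, ψ x ∈ Q), ∃ χ ∈ F'.Hom ((R.subgroupOf Q).map φ), ∀ (x : R) (hx : φ ⟨(x : Ω), hRQ x.2⟩ ∈ (R.subgroupOf Q).map φ), χ ⟨φ ⟨(x : Ω), hRQ x.2⟩, hx⟩ = φ ⟨ψ x, hψQ x⟩) (htop : F'.autGroup S = F.autGroup S) (P : Subgroup Ω) : F'.Hom P = F.Hom P := by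
  have key : F ≤ F' := by
    refine CfsgLib.Fus.fusion_induction hS hF F' fun R hR big => ?_
    by_cases hRS : R = S
    · subst hRS; exact htop.ge
    have hn : ∀ α ∈ F.autGroup R, ∀ κ ∈ F'.autGroup R, α * κ * α⁻¹ ∈ F'.autGroup R := by
      intro α hα κ hκ
      rw [CfsgLib.Fus.mem_autGroup hR.1] at hα hκ ⊢
      have hαh : R.subtype.comp α.toMonoidHom ∈ F.Hom R :=
        hα.hom_mem fun x => (CfsgLib.Fus.autFun_apply α x).symm
      have hκh : R.subtype.comp κ.toMonoidHom ∈ F'.Hom R :=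
        hκ.hom_mem fun x => (CfsgLib.Fus.autFun_apply κ x).symm
      obtain ⟨χ, hχ, hχe⟩ := hinv R _ hαh R le_rfl _ hκh fun x => (κ x).2
      have hi : (R.subgroupOf R).map (R.subtype.comp α.toMonoidHom) = R :=
        (CfsgLib.Fus.map_subgroupOf_eq_img _ le_rfl).trans (CfsgLib.Fus.img_autFun α)
      refine ((CfsgLib.Fus.IsMap.of_hom hχ).mono hi.ge).congr fun y hy => ?_
      have hx := CfsgLib.Fus.autFun_mem α⁻¹ hy
      rw [CfsgLib.Fus.autFun_conj _ _ hy]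
      have hmem : CfsgLib.Fus.autFun α (CfsgLib.Fus.autFun α⁻¹ y) ∈
          (R.subgroupOf R).map (R.subtype.comp α.toMonoidHom) := by
        rw [CfsgLib.Fus.autFun_inv_apply α hy]; exact hi.ge hy
      rw [CfsgLib.Fus.autFun_of_mem α hx] at hmem
      calc CfsgLib.Fus.ev χ y
          = χ ⟨_, hmem⟩ := by
            rw [← CfsgLib.Fus.ev_of_mem χ hmem, ← CfsgLib.Fus.autFun_of_mem α hx,
              CfsgLib.Fus.autFun_inv_apply α hy]
        _ = (α ⟨(κ ⟨_, hx⟩ : R), (κ ⟨_, hx⟩).2⟩ : R) := hχe ⟨_, hx⟩ hmem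
        _ = _ := by
            rw [CfsgLib.Fus.autFun_of_mem κ hx, CfsgLib.Fus.autFun_apply]
    obtain ⟨hA, hrec⟩ := CfsgLib.Fus.fullyNormalized_spec hS hF hR
    intro α hα
    obtain ⟨β, hβ, κ, hκ, rfl, hβN⟩ := CfsgLib.Fus.frattini_aut hA (F'.autGroup R) hn hα
    refine Subgroup.mul_mem _ ?_ hκ
    obtain ⟨f, hf, hfe⟩ := CfsgLib.Fus.extend_aut hrec hβ (N := Cfsg.FusionSystem.normalizerIn S R) le_rfl
      fun g hg γ hγ => hβN γ (CfsgLib.Fus.mem_autInducedBy.2 ⟨g, hg.1, hγ⟩)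
        (CfsgLib.Fus.autInducedBy_le_autGroup hR.1 (CfsgLib.Fus.mem_autInducedBy.2 ⟨g, hg.1, hγ⟩))
    rw [sup_eq_right.2 (CfsgLib.Fus.le_normalizerIn hR.1)] at hf
    have hbig := big _ (CfsgLib.Fus.normalizerIn_le R)
      (CfsgLib.Fus.card_lt_of_lt (CfsgLib.Fus.normalizerIn_le R)
        (CfsgLib.Fus.lt_normalizerIn hS (lt_of_le_of_ne hR.1 hRS))) f hf
    exact (CfsgLib.Fus.mem_autGroup hR.1).2 ((hbig.mono (CfsgLib.Fus.le_normalizerIn hR.1)).congr hfe)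
  exact le_antisymm (hle P) (key P)

end Cfsg.Agent.S5338
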