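import Cfsg.Statements.S5340
import Cfsg.Agent.Fus.Control

set_option autoImplicit false
open Cfsg

namespace Cfsg.Agent.S5340

/-- Let F be a saturated fusion system over a nontrivial finite p-group S such that S is generated by its elements of order p, any two subgroups of S of order p are F-conjugate, and Aut_F(S) consists of inner automorphisms only. Then F is simple. -/
theorem result {Ω : Type*} [Group Ω] {S : Subgroup Ω} [Finite S] (p : ℕ) [Fact p.Prime] (hS : IsPGroup p S) (F : Cfsg.FusionSystem S) (hF : F.IsSaturated p) (hS1 : S ≠ ⊥) (hgen : Subgroup.closure {x : Ω | x ∈ S ∧ orderOf x = p} = S) (htr : ∀ A B : Subgroup Ω, A ≤ S → B ≤ S → Nat.card A = p → Nat.card B = p → F.IsConj A B) (htop : F.autGroup S = Cfsg.Inn ↥S) : F.IsSimple p := by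
  refine CfsgLib.Fus.simple_criterion hF hS1 htop fun T hT => ?_
  refine or_iff_not_imp_left.2 fun hT1 => le_antisymm hT.1 ?_
  haveI := CfsgLib.Fus.finite_of_le hT.1
  haveI : Nontrivial T := (Subgroup.nontrivial_iff_ne_bot _).2 hT1
  obtain ⟨n, hn, hcard⟩ := (hS.to_le hT.1).nontrivial_iff_card.1 inferInstance
  obtain ⟨a, ha⟩ := exists_prime_orderOf_dvd_card' p (G := ↥T) (hcard ▸ dvd_pow_self p hn.ne')
  have haT : Subgroup.zpowers (a : Ω) ≤ T := Subgroup.zpowers_le.2 a.2
  have hca : Nat.card (Subgroup.zpowers (a : Ω)) = p := by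
    rw [Nat.card_zpowers, Subgroup.orderOf_coe, ha]
  conv_lhs => rw [← hgen]
  rw [Subgroup.closure_le]
  rintro x ⟨hxS, hx⟩
  obtain ⟨f, hf, hfi⟩ := CfsgLib.Fus.isConj_iff.1
    (htr _ (Subgroup.zpowers x) (haT.trans hT.1) (Subgroup.zpowers_le.2 hxS) hca (by rw [Nat.card_zpowers, hx]))
  obtain ⟨y, hy, hyx⟩ := hf.mem_img.1 (hfi.ge (Subgroup.mem_zpowers x))
  rw [← hyx]
  exact (CfsgLib.Fus.stronglyClosed_iff.1 hT).2 _ f hf y hy (haT hy)

end Cfsg.Agent.S5340
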