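import Cfsg.Statements.S5343
import Cfsg.Agent.Fus.RealizedNormal
import Cfsg.Agent.Fus.GroupQuot
import Cfsg.Agent.Fus.CoreBasic

set_option autoImplicit false
universe u
open Cfsg

namespace Cfsg.Agent.S5343

/-- Let F be a simple saturated fusion system over a finite p-group S that is realized by some finite group on a Sylow p-subgroup. Then F is realized by a finite simple group on a Sylow p-subgroup. -/
theorem result {Ω : Type u} [Group Ω] {S : Subgroup Ω} [Finite S] (p : ℕ) [Fact p.Prime] (hS : IsPGroup p S) (F : Cfsg.FusionSystem S) (hsimple : F.IsSimple p) (hreal : F.IsRealizable p) : ∃ (G : Type u) (_ : Group G) (_ : Finite G) (_ : IsSimpleGroup G) (ι : ↥S →* G), F.IsRealizedBy ι ∧ ∃ T : Sylow p G, (T : Subgroup G) = ι.range := by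
  classical
  obtain ⟨hFs, hSne, hs⟩ := hsimple
  let Q : ℕ → Prop := fun n => ∃ (G : Type u) (_ : Group G) (_ : Finite G) (ι : ↥S →* G),
    (F.IsRealizedBy ι ∧ ∃ T : Sylow p G, (T : Subgroup G) = ι.range) ∧ Nat.card G = n
  have hQ : ∃ n, Q n := by
    obtain ⟨G, _, _, ι, h⟩ := hreal
    exact ⟨_, G, ‹_›, ‹_›, ι, h, rfl⟩
  obtain ⟨G, _, _, ι, ⟨hr, Ts, hTs⟩, hcard⟩ := Nat.find_spec hQ
  have hmin : ∀ (G' : Type u) [Group G'] [Finite G'] (ι' : ↥S →* G'), F.IsRealizedBy ι' →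
      (∃ T : Sylow p G', (T : Subgroup G') = ι'.range) → Nat.card G ≤ Nat.card G' := fun G' _ _ ι' h1 h2 =>
    hcard ▸ Nat.find_min' hQ ⟨G', ‹_›, ‹_›, ι', ⟨h1, h2⟩, rfl⟩
  have hreq := CfsgLib.Fus.eq_realized hr
  have hTp : ∀ s : ↥S, ι s ∈ (Ts : Subgroup G) := fun s => hTs ▸ ⟨s, rfl⟩
  -- no normal subgroup of order prime to p
  have hcore : Cfsg.pPrimeCore p G = ⊥ := by
    set N := Cfsg.pPrimeCore p G with hN
    haveI : N.Normal := CfsgLib.Fus.normal_pPrimeCore p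
    have hinf : ∀ y ∈ (Ts : Subgroup G), y ∈ N → y = 1 := fun y hy hyN => by
      have hd : Nat.card ↥((Ts : Subgroup G) ⊓ N) = 1 := by
        obtain ⟨k, hk⟩ := IsPGroup.iff_card.1 Ts.2
        refine Nat.eq_one_of_dvd_coprimes ?_ (Subgroup.card_dvd_of_le inf_le_right)
          (hk ▸ Subgroup.card_dvd_of_le inf_le_left)
        exact Nat.Coprime.pow_right _ (CfsgLib.Fus.coprime_card_pPrimeCore p)
      exact Subgroup.mem_bot.1 (Subgroup.eq_bot_of_card_eq _ hd ▸ Subgroup.mem_inf.2 ⟨hy, hyN⟩)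
    by_contra hne
    let π := QuotientGroup.mk' N
    have hinj : Function.Injective (π.comp ι) := (injective_iff_map_eq_one _).2 fun s hs =>
      hr.1 ((hinf _ (hTp s) ((QuotientGroup.eq_one_iff _).1 hs)).trans ι.map_one.symm)
    have hr' : F.IsRealizedBy (π.comp ι) := by
      refine ⟨hinj, fun P hP φ hφ => (hr.2 P hP φ hφ).trans ⟨fun ⟨g, hg⟩ => ⟨π g, fun x => ?_⟩, fun ⟨γ, hγ⟩ => ?_⟩⟩
      · rw [MonoidHom.comp_apply, MonoidHom.comp_apply, hg x, map_mul, map_mul, map_inv]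
      obtain ⟨g, rfl⟩ := QuotientGroup.mk'_surjective N γ
      let ιP : ↥P →* G := (ι.comp (Subgroup.inclusion hP))
      obtain ⟨k, hk, hkS⟩ := CfsgLib.Fus.exists_normal_conj Ts N
        ((((hS.to_le hP).of_surjective ιP.rangeRestrict ιP.rangeRestrict_surjective)).map (MulAut.conj g).toMonoidHom) (by
          rintro _ ⟨_, ⟨x, rfl⟩, rfl⟩
          have h1 : (ι ⟨φ x, hφ x⟩)⁻¹ * (g * ι ⟨x, hP x.2⟩ * g⁻¹) ∈ N := QuotientGroup.eq.1 ((hγ x).trans (by simp [π]))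
          have := Subgroup.mul_mem_sup (hTp ⟨φ x, hφ x⟩) h1
          rwa [mul_inv_cancel_left] at this)
      refine ⟨k * g, fun x => ?_⟩
      have hk' : k * g * ι ⟨x, hP x.2⟩ * (k * g)⁻¹ ∈ (Ts : Subgroup G) := by
        have := hkS _ ⟨_, ⟨x, rfl⟩, rfl⟩
        rw [show k * g * ι ⟨x, hP x.2⟩ * (k * g)⁻¹ = k * (g * ι ⟨x, hP x.2⟩ * g⁻¹) * k⁻¹ by group]
        exact this
      have h2 : (ι ⟨φ x, hφ x⟩)⁻¹ * (k * g * ι ⟨x, hP x.2⟩ * (k * g)⁻¹) = 1 := hinf _ (mul_mem (inv_mem (hTp _)) hk') (by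
        refine (QuotientGroup.eq_one_iff _).1 ?_
        have hk1 : π k = 1 := (QuotientGroup.eq_one_iff k).2 hk
        show π _ = 1
        rw [map_mul, map_inv, show π (ι ⟨φ x, hφ x⟩) = π g * π (ι ⟨x, hP x.2⟩) * (π g)⁻¹ from hγ x]
        simp [hk1, mul_assoc])
      exact inv_mul_eq_one.1 h2
    have h1 := hmin (G ⧸ N) (π.comp ι) hr' ⟨Ts.mapSurjective (QuotientGroup.mk'_surjective N), by
      rw [Sylow.coe_mapSurjective, hTs, MonoidHom.range_comp]⟩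
    have h2 := Subgroup.card_mul_index N
    rw [Subgroup.index_eq_card] at h2
    have h3 : 1 < Nat.card N := N.one_lt_card_iff_ne_bot.2 hne
    have h4 : 0 < Nat.card (G ⧸ N) := Nat.card_pos
    nlinarith
  haveI : Nontrivial G := by
    obtain ⟨x, hx, hx1⟩ := (Subgroup.bot_or_exists_ne_one S).resolve_left hSne
    exact ⟨⟨ι ⟨x, hx⟩, 1, fun h => hx1 (congrArg Subtype.val (hr.1 (h.trans ι.map_one.symm)))⟩⟩
  refine ⟨G, ‹_›, ‹_›, ⟨fun N hN => ?_⟩, ι, hr, Ts, hTs⟩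
  haveI := hN
  obtain ⟨T, E, hE, hmem, hdom⟩ := CfsgLib.Fus.realized_normal ι hr.1 Ts hTs N
  rw [← hreq] at hE
  rcases hs T E hE with hT | ⟨hT, hEF⟩
  · left
    rw [eq_bot_iff, ← hcore]
    refine CfsgLib.Fus.le_pPrimeCore hN ?_
    obtain ⟨R, hR⟩ := CfsgLib.Fus.sylow_inf_normal_system Ts N
    have hb : (Ts : Subgroup G) ⊓ N = ⊥ := (Subgroup.eq_bot_iff_forall _).2 fun y hy => by
      obtain ⟨s, rfl⟩ := MonoidHom.mem_range.1 (hTs ▸ (Subgroup.mem_inf.1 hy).1 : y ∈ ι.range)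
      have h1 : (s : Ω) ∈ T := (hmem s).2 ⟨s.2, (Subgroup.mem_inf.1 hy).2⟩
      rw [hT, Subgroup.mem_bot] at h1
      rw [show s = 1 from Subtype.ext h1, map_one]
    have hc : Nat.card (R : Subgroup ↥N) = 1 := by rw [hR, hb, Subgroup.bot_subgroupOf, Subgroup.card_bot]
    refine Nat.coprime_comm.1 ((Fact.out : p.Prime).coprime_iff_not_dvd.2 fun hd => R.not_dvd_index ?_)
    rwa [← Subgroup.card_mul_index (R : Subgroup ↥N), hc, one_mul] at hd
  · right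
    have hιN : ∀ s, ι s ∈ N := fun s => ((hmem s).1 (hT.symm ▸ s.2)).2
    let ι' : ↥S →* ↥N := ι.codRestrict N hιN
    have hr' : F.IsRealizedBy ι' := by
      refine ⟨fun a b hab => hr.1 (congrArg Subtype.val hab), fun P hP φ hφ => ⟨fun h => ?_, fun ⟨g, hg⟩ =>
        (hr.2 P hP φ hφ).2 ⟨g, fun x => congrArg Subtype.val (hg x)⟩⟩⟩
      obtain ⟨_hP, _hφ, n, hn, hne⟩ := hdom P φ ((hEF P).symm ▸ h)
      exact ⟨⟨n, hn⟩, fun x => Subtype.ext (hne x)⟩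
    refine Subgroup.eq_top_of_le_card _ (hmin N ι' hr' ⟨Ts.subtype (fun y hy => ?_), ?_⟩)
    · obtain ⟨s, rfl⟩ := MonoidHom.mem_range.1 (hTs ▸ hy : y ∈ ι.range)
      exact hιN s
    · ext y
      rw [Sylow.coe_subtype, Subgroup.mem_subgroupOf, hTs]
      exact ⟨fun ⟨s, hs⟩ => ⟨s, Subtype.ext hs⟩, fun ⟨s, hs⟩ => ⟨s, congrArg Subtype.val hs⟩⟩

end Cfsg.Agent.S5343
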