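import Cfsg.Statements.S5347
import Cfsg.Agent.Spor.Fischer.Basic
-- import your own Cfsg.Agent.* helpers here

set_option autoImplicit false
open Cfsg

namespace Cfsg.Agent.S5347

open CfsgLib.Fischer

/-- Let D be a conjugation-invariant generating set of 3-transpositions of a finite group G, p a prime bigger than 3, and P a p-subgroup of G. If a member d of D normalizes P then d centralizes P. -/
theorem result {G : Type*} [Group G] [Finite G] {D : Set G} (hD : Cfsg.IsThreeTranspositionGroup D) {p : ℕ} (hp : p.Prime) (hp3 : 3 < p) (P : Subgroup G) (hP : IsPGroup p P) {d : G} (hd : d ∈ D) (hnorm : d ∈ Subgroup.normalizer (P : Set G)) : ∀ x ∈ P, Commute d x := by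
  intro x hx
  by_contra hdx
  have hxd : d * x * d⁻¹ ∈ P := Subgroup.mem_normalizer_iff.1 hnorm x |>.1 hx
  set c := x * d * x⁻¹ with hc
  have hcD : c ∈ D := hD.2.1 x d hd
  have hcom : (d * c) ∈ P := by
    have : d * c = (d * x * d⁻¹) * x⁻¹ := by rw [hc, inv_eq hD.1 hd]; group
    rw [this]; exact mul_mem hxd (inv_mem hx)
  have hne : d * c ≠ 1 := by
    intro k
    apply hdx
    have h1 : c = d := by rw [← inv_eq hD.1 hd]; exact (inv_eq_of_mul_eq_one_right k).symm
    rw [hc] at h1
    exact (mul_inv_eq_iff_eq_mul.1 h1).symm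
  obtain ⟨k, hk⟩ := hP ⟨d * c, hcom⟩
  have hdvd : orderOf (d * c) ∣ p ^ k := orderOf_dvd_of_pow_eq_one (congrArg Subtype.val hk)
  have h1 : orderOf (d * c) ≠ 1 := fun k => hne (orderOf_eq_one_iff.1 k)
  obtain ⟨j, -, hj⟩ := (Nat.dvd_prime_pow hp).1 hdvd
  have hpd : p ∣ orderOf (d * c) := by
    rcases Nat.eq_zero_or_pos j with rfl | hjpos
    · exact absurd (hj.trans (pow_zero p)) h1
    · rw [hj]; exact dvd_pow_self p hjpos.ne'
  rcases hD.1.2 d hd c hcD with h2 | h3
  · have := Nat.le_of_dvd (by norm_num) (hpd.trans (orderOf_dvd_of_pow_eq_one h2)); omega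
  · have := Nat.le_of_dvd (by norm_num) (hpd.trans (orderOf_dvd_of_pow_eq_one h3)); omega

end Cfsg.Agent.S5347
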