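import Cfsg.Statements.S5354
import Cfsg.Agent.Spor.Fischer.Structure
import Cfsg.Agent.Spor.Fischer.Classes
import Mathlib
-- import your own Cfsg.Agent.* helpers here

set_option autoImplicit false
open Cfsg

namespace Cfsg.Agent.S5354

open CfsgLib.Fischer

/-- Let D be a conjugation-invariant generating set of 3-transpositions of the finite group G on which G acts primitively by conjugation, and suppose two different members of D commute (width at least 2). Then G has a quasisimple normal subgroup L of index at most 2 with the generalized Fitting subgroup of G equal to L times the centre, the commuting graph of D is connected, and for d in D the subgroup generated by the members of D commuting with d is a maximal D-subgroup: it is proper, and every subgroup generated by members of D that contains it is either it or G. -/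
theorem result {G : Type*} [Group G] [Finite G] {D : Set G} (hD : Cfsg.IsThreeTranspositionGroup D) (hprim : Cfsg.IsPrimitiveUnderConj D) (hw : ∃ a ∈ D, ∃ b ∈ D, a ≠ b ∧ Commute a b) : (∃ L : Subgroup G, L.Normal ∧ Cfsg.IsQuasisimple L ∧ L.index ≤ 2 ∧ Cfsg.generalizedFittingSubgroup G = L ⊔ Subgroup.center G) ∧ (Cfsg.commutingGraph D).Connected ∧ ∀ d ∈ D, Subgroup.closure {y : G | y ∈ D ∧ Commute d y} ≠ ⊤ ∧ ∀ H : Subgroup G, Cfsg.IsDSubgroup D H → Subgroup.closure {y : G | y ∈ D ∧ Commute d y} ≤ H → H = Subgroup.closure {y : G | y ∈ D ∧ Commute d y} ∨ H = ⊤ := by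
  refine ⟨primitive_structure hD hprim hw, connected_of_primitive hD hprim hw, fun d hd => ?_⟩
  obtain ⟨x, hx, hdx⟩ := exists_nc hD hprim hd
  refine ⟨fun htop => ?_, fun H hH hle => ?_⟩
  · apply hdx
    have hx' : x ∈ Subgroup.closure {y : G | y ∈ D ∧ Commute d y} := htop ▸ Subgroup.mem_top x
    clear hx hdx
    induction hx' using Subgroup.closure_induction with
    | mem y hy => exact hy.2
    | one => exact Commute.one_right d
    | mul y z _ _ hy hz => exact hy.mul_right hz
    | inv y _ hy => exact hy.inv_right
  · by_cases hex : ∃ e ∈ D, e ∈ H ∧ ¬ Commute d e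
    · obtain ⟨e, he, heH, hde⟩ := hex
      exact Or.inr (closure_maximal hD hprim hw hd he hde
        (fun y hy hdy => hle (Subgroup.subset_closure ⟨hy, hdy⟩)) heH)
    · push Not at hex
      refine Or.inl (le_antisymm ?_ hle)
      rw [← hH]
      exact Subgroup.closure_mono fun e he => ⟨he.1, hex e he.1 he.2⟩

end Cfsg.Agent.S5354
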