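import Cfsg.Statements.S5355
import Cfsg.Agent.Spor.Fischer.Classes
import Mathlib
-- import your own Cfsg.Agent.* helpers here

set_option autoImplicit false
open Cfsg

namespace Cfsg.Agent.S5355

open CfsgLib.Fischer

/-- Let D be a conjugacy class of 3-transpositions generating the finite group G, with at least two members, and d a member of D. Suppose that every member of D commuting with d commutes with exactly the same members of D as d does, and that exactly one member of D other than d commutes with d. Then G is isomorphic to the symmetric group of degree 4. -/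
theorem result {G : Type*} [Group G] [Finite G] {D : Set G} (hD : Cfsg.IsThreeTranspositionClass D) (hD2 : ∃ a ∈ D, ∃ b ∈ D, a ≠ b) {d : G} (hd : d ∈ D) (hV : {y : G | y ∈ D ∧ Commute d y} = {v : G | v ∈ D ∧ ∀ e ∈ D, Commute v e ↔ Commute d e}) (hm : {y : G | y ∈ D ∧ Commute d y}.ncard = 2) : Nonempty (G ≃* Equiv.Perm (Fin 4)) := by
  have h := hD.1
  have hc := class_conj_closed hD
  -- every member has exactly one partner
  have hkey : ∀ u ∈ D, ∃ w ∈ D, w ≠ u ∧ Commute u w ∧ (∀ e ∈ D, Commute w e ↔ Commute u e) ∧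
      ∀ e ∈ D, Commute u e → e = u ∨ e = w := by
    obtain ⟨x, y, hne, hxy⟩ := Set.ncard_eq_two.1 hm
    obtain ⟨w, hw, hwd, hall⟩ : ∃ w ∈ {y : G | y ∈ D ∧ Commute d y}, w ≠ d ∧
        ∀ e ∈ D, Commute d e → e = d ∨ e = w := by
      have hdm : d ∈ {y : G | y ∈ D ∧ Commute d y} := ⟨hd, Commute.refl d⟩
      rw [hxy] at hdm
      rcases hdm with rfl | hdm
      · refine ⟨y, by rw [hxy]; simp, hne.symm, fun e he hde => ?_⟩
        have : e ∈ ({d, y} : Set G) := hxy ▸ ⟨he, hde⟩
        simpa using this
      · obtain rfl : d = y := hdm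
        refine ⟨x, by rw [hxy]; simp, hne, fun e he hde => ?_⟩
        have : e ∈ ({x, d} : Set G) := hxy ▸ ⟨he, hde⟩
        simpa [or_comm] using this
    have hws : w ∈ {v : G | v ∈ D ∧ ∀ e ∈ D, Commute v e ↔ Commute d e} := hV ▸ hw
    intro u hu
    obtain ⟨g, rfl⟩ := class_transitive hD d hd u hu
    refine ⟨g * w * g⁻¹, hc g w hw.1, fun e => hwd (mul_left_cancel (mul_right_cancel e)),
      (commute_conj_iff g).2 hw.2, fun e he => ?_, fun e he hce => ?_⟩
    · have := hws.2 (g⁻¹ * e * g) (by simpa using hc g⁻¹ e he)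
      rw [← commute_conj_iff g, ← commute_conj_iff g (x := d)] at this
      simpa [mul_assoc] using this
    · have h1 : Commute d (g⁻¹ * e * g) := by
        have := (commute_conj_iff g⁻¹).2 hce
        simpa [mul_assoc] using this
      rcases hall _ (by simpa using hc g⁻¹ e he) h1 with e1 | e1
      · exact Or.inl (by rw [← e1]; group)
      · exact Or.inr (by rw [← e1]; group)
  choose! p hp hpne hpc hps hpu using hkey
  have huniq : ∀ u ∈ D, ∀ w ∈ D, w ≠ u → Commute u w → w = p u := fun u hu w hw hwu hcw =>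
    (hpu u hu w hw hcw).resolve_left hwu
  -- the four-point configuration of two members
  have hfour : ∀ a ∈ D, ∀ b ∈ D, ¬ Commute a b → ∃ φ : Equiv.Perm (Fin 4) →* G,
      Function.Injective φ ∧ φ (Equiv.swap 0 1) = a ∧ φ (Equiv.swap 1 2) = b ∧
        φ (Equiv.swap 2 3) = p a ∧ φ (Equiv.swap 0 3) = p b ∧ φ (Equiv.swap 1 3) = p (a * b * a) := by
    intro a ha b hb hab
    obtain ⟨φ, hinj, fa, fb, fc⟩ := exists_hom_perm_four h ha hb (hp a ha) (hpne a ha).symm (hpc a ha)
      hab (fun k => hab ((hps a ha b hb).1 k.symm))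
    have fm : φ (Equiv.swap 0 2) = a * b * a := by
      rw [← fa, ← fb, ← map_mul, ← map_mul]; congr 1; decide +kernel
    have hmD : a * b * a ∈ D := conj_mem h hc ha hb
    have h03D : φ (Equiv.swap 0 3) ∈ D := by
      rw [show φ (Equiv.swap 0 3) = (a * b * a) * p a * (a * b * a) by
        rw [← fm, ← fc, ← map_mul, ← map_mul]; congr 1; decide +kernel]
      exact conj_mem h hc hmD (hp a ha)
    have h13D : φ (Equiv.swap 1 3) ∈ D := by
      rw [show φ (Equiv.swap 1 3) = b * p a * b by
        rw [← fb, ← fc, ← map_mul, ← map_mul]; congr 1; decide +kernel]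
      exact conj_mem h hc hb (hp a ha)
    refine ⟨φ, hinj, fa, fb, fc, huniq b hb _ h03D ?_ ?_, huniq _ hmD _ h13D ?_ ?_⟩
    · rw [← fb]; exact fun k => absurd (hinj k) (by decide +kernel)
    · rw [← fb]
      exact (show Commute (Equiv.swap (1 : Fin 4) 2) (Equiv.swap 0 3) by
        unfold Commute SemiconjBy; decide +kernel).map φ
    · rw [← fm]; exact fun k => absurd (hinj k) (by decide +kernel)
    · rw [← fm]
      exact (show Commute (Equiv.swap (0 : Fin 4) 2) (Equiv.swap 1 3) by
        unfold Commute SemiconjBy; decide +kernel).map φ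
  have hline : ∀ a ∈ D, ∀ b ∈ D, ¬ Commute a b →
      (a * b * a) * p (a * b * a) = (a * p a) * (b * p b) ∧ (a * p a) * (b * p b) = (b * p b) * (a * p a) := by
    intro a ha b hb hab
    obtain ⟨φ, -, fa, fb, fc, fd, fe⟩ := hfour a ha b hb hab
    rw [← fd, ← fe, ← fc, ← fa, ← fb]
    simp only [← map_mul]
    exact ⟨congrArg φ (by decide +kernel), congrArg φ (by decide +kernel)⟩
  obtain ⟨e, he, hde⟩ := exists_nc_class hD hD2 hd
  obtain ⟨φ, hinj, fd, fe, fv, fw, fx⟩ := hfour d hd e he hde
  have hrange : ∀ f ∈ D, f ∈ φ.range := by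
    intro f hf
    have hdr : d ∈ φ.range := ⟨_, fd⟩
    have her : e ∈ φ.range := ⟨_, fe⟩
    have hvr : p d ∈ φ.range := ⟨_, fv⟩
    have hwr : p e ∈ φ.range := ⟨_, fw⟩
    by_cases hef : Commute e f
    · rcases hpu e he f hf hef with rfl | rfl
      exacts [her, hwr]
    by_cases hdf : Commute d f
    · rcases hpu d hd f hf hdf with rfl | rfl
      exacts [hdr, hvr]
    have hgD := conj_mem h hc he hf
    have hback : f = e * (e * f * e) * e := by
      simp only [mul_assoc, mul_cancel h he, mul_self h he, mul_one]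
    by_cases hdg : Commute d (e * f * e)
    · rw [hback]
      rcases hpu d hd _ hgD hdg with k | k <;> rw [k]
      exacts [mul_mem (mul_mem her hdr) her, mul_mem (mul_mem her hvr) her]
    exfalso
    have hnc : ¬ Commute (d * e * d) (d * f * d) := by
      rw [← invconj h hd, ← invconj h hd]
      exact fun k => hef ((commute_conj_iff d).1 k)
    have e1 := (hline d hd _ hgD hdg).1
    have e2 := (hline _ (conj_mem h hc hd he) _ (conj_mem h hc hd hf) hnc).1
    rw [show d * e * d * (d * f * d) * (d * e * d) = d * (e * f * e) * d by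
      simp only [mul_assoc, mul_cancel h hd]] at e2
    rw [e1, (hline e he f hf hef).1, (hline d hd e he hde).1, (hline d hd f hf hdf).1] at e2
    set A := d * p d
    set B := e * p e
    set C := f * p f
    have hAB : A * B = B * A := (hline d hd e he hde).2
    rw [mul_assoc A B (A * C), mul_left_cancel_iff, mul_left_cancel_iff] at e2
    have hA : A = 1 := mul_eq_right.1 e2.symm
    exact hpne d hd (eq_comm.1 (by
      rw [← inv_eq h (hp d hd)]; exact eq_inv_of_mul_eq_one_left hA))
  have hsurj : Function.Surjective φ := by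
    rw [← MonoidHom.range_eq_top, eq_top_iff, ← hD.2.2, Subgroup.closure_le]
    exact hrange
  exact ⟨(MulEquiv.ofBijective φ ⟨hinj, hsurj⟩).symm⟩

end Cfsg.Agent.S5355
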