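import Cfsg.Statements.S5356
import Cfsg.Agent.Spor.Fischer.SplitTwo
import Mathlib
-- import your own Cfsg.Agent.* helpers here

set_option autoImplicit false
open Cfsg

namespace Cfsg.Agent.S5356

open CfsgLib.Fischer

/-- Let D be a conjugacy class of 3-transpositions generating the finite group G, with at least two members, and d a member of D such that every member of D commuting with d commutes with exactly the same members of D as d. Then there is a Sylow 3-subgroup P of G normalized by d such that G is generated by d, P and the largest normal 2-subgroup of G. -/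
theorem result {G : Type*} [Group G] [Finite G] {D : Set G} (hD : Cfsg.IsThreeTranspositionClass D) (hD2 : ∃ a ∈ D, ∃ b ∈ D, a ≠ b) {d : G} (hd : d ∈ D) (hV : {y : G | y ∈ D ∧ Commute d y} = {v : G | v ∈ D ∧ ∀ e ∈ D, Commute v e ↔ Commute d e}) : ∃ P : Sylow 3 G, d ∈ Subgroup.normalizer (P : Set G) ∧ Subgroup.zpowers d ⊔ (P : Subgroup G) ⊔ Cfsg.pCore 2 G = ⊤ := by
  have h := hD.1
  have hc := class_conj_closed hD
  haveI hOn := CfsgLib.Solv.pCore_normal (G := G) (p := 2)
  set O := Cfsg.pCore 2 G with hO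
  have hO2 : IsPGroup 2 O := CfsgLib.Solv.pCore_isPGroup G 2
  obtain ⟨t1, t2⟩ := two_classes hD hD2 hd
  -- commuting members are congruent modulo `O`
  have hmod : ∀ a ∈ D, ∀ b ∈ D, Commute a b → a⁻¹ * b ∈ O := by
    intro a ha b hb hab
    obtain ⟨g, rfl⟩ := class_transitive hD d hd a ha
    have hb' : g⁻¹ * b * g ∈ {y : G | y ∈ D ∧ Commute d y} := by
      refine ⟨by simpa using hc g⁻¹ b hb, ?_⟩
      have := (commute_conj_iff g⁻¹).2 hab
      simpa [mul_assoc] using this
    rw [hV, t1] at hb'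
    have := hOn.conj_mem _ hb'.2 g
    simpa [mul_assoc] using this
  let π := QuotientGroup.mk' O
  have hdO : ∀ a ∈ D, π a ≠ 1 := by
    intro a ha e
    have haO : a ∈ O := (QuotientGroup.eq_one_iff a).1 e
    have hDO : ∀ b ∈ D, b ∈ O := fun b hb => by
      obtain ⟨g, rfl⟩ := class_transitive hD a ha b hb
      exact hOn.conj_mem a haO g
    obtain ⟨x, hx, hdx⟩ := exists_nc_class hD hD2 hd
    obtain ⟨k, hk⟩ := hO2 ⟨d * x, mul_mem (hDO d hd) (hDO x hx)⟩
    have h1 := eq_one_of_coprime_pow (Nat.Coprime.pow_left k (by norm_num : Nat.Coprime 2 3))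
      (congrArg Subtype.val hk) (pow_three_of_nc h hd hx hdx)
    exact hdx ((show d = x by rw [← inv_eq h hx]; exact eq_inv_of_mul_eq_one_left h1) ▸ Commute.refl d)
  have hA : IsThreeTranspositionSet (π '' D) := by
    refine ⟨?_, ?_⟩
    · rintro _ ⟨y, hy, rfl⟩
      exact orderOf_eq_prime (by rw [← map_pow, pow_two, mul_self h hy, map_one]) (hdO y hy)
    · rintro _ ⟨y, hy, rfl⟩ _ ⟨y', hy', rfl⟩
      rcases h.2 y hy y' hy' with k | k
      · exact Or.inl (by rw [← map_mul, ← map_pow, k, map_one])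
      · exact Or.inr (by rw [← map_mul, ← map_pow, k, map_one])
  have hAs : SelfClosed (π '' D) := by
    rintro _ ⟨a, ha, rfl⟩ _ ⟨b, hb, rfl⟩
    exact ⟨a * b * a, conj_mem h hc ha hb, by simp⟩
  have hA1 : ∀ a ∈ π '' D, ∀ b ∈ π '' D, Commute a b → a = b := by
    rintro _ ⟨a, ha, rfl⟩ _ ⟨b, hb, rfl⟩ hab
    by_cases hcab : Commute a b
    · exact QuotientGroup.eq.2 (hmod a ha b hb hcab)
    · have h1 : π (a * b) ^ 3 = 1 := by rw [← map_pow, pow_three_of_nc h ha hb hcab, map_one]
      rw [map_mul] at h1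
      have h2 : (π a * π b) ^ 2 = 1 := by
        rw [hab.mul_pow, ← map_pow, ← map_pow, pow_two, pow_two, mul_self h ha, mul_self h hb, map_one,
          mul_one]
      have h3 := eq_one_of_coprime_pow (by norm_num : Nat.Coprime 2 3) h2 h1
      have hb' : (π b)⁻¹ = π b := by rw [← map_inv, inv_eq h hb]
      rw [← hb']
      exact eq_inv_of_mul_eq_one_left h3
  have hthree := three_group_of_width_one hA hAs hA1
  set N := Subgroup.closure {g | ∃ a ∈ π '' D, ∃ b ∈ π '' D, g = a * b}
  set K := N.comap π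
  haveI hNn : N.Normal := by
    refine ⟨fun n hn g => ?_⟩
    obtain ⟨g, rfl⟩ := QuotientGroup.mk'_surjective O g
    induction hn using Subgroup.closure_induction with
    | mem y hy =>
      obtain ⟨_, ⟨a, ha, rfl⟩, _, ⟨b, hb, rfl⟩, rfl⟩ := hy
      exact Subgroup.subset_closure ⟨_, ⟨g * a * g⁻¹, hc g a ha, rfl⟩, _, ⟨g * b * g⁻¹, hc g b hb, rfl⟩,
        by simp [π, mul_assoc]⟩
    | one => simp
    | mul y z _ _ hy hz =>
      rw [show π g * (y * z) * (π g)⁻¹ = (π g * y * (π g)⁻¹) * (π g * z * (π g)⁻¹) by group]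
      exact mul_mem hy hz
    | inv y _ hy =>
      rw [show π g * y⁻¹ * (π g)⁻¹ = (π g * y * (π g)⁻¹)⁻¹ by group]; exact inv_mem hy
  haveI hKn : K.Normal := hNn.comap π
  have hOK : ThreeOver O K := by
    refine ⟨hO2, fun x hx => ?_, fun x hx => ?_⟩
    · show π x ∈ N
      rw [show π x = 1 from (QuotientGroup.eq_one_iff x).2 hx]; exact one_mem _
    · obtain ⟨j, hj⟩ := hthree ⟨π x, hx⟩
      refine ⟨j, (QuotientGroup.eq_one_iff _).1 ?_⟩
      exact congrArg Subtype.val hj
  have hgen : K ⊔ Subgroup.zpowers d = ⊤ := by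
    rw [eq_top_iff, ← hD.2.2, Subgroup.closure_le]
    intro x hx
    have h1 : x * d ∈ K :=
      Subgroup.subset_closure ⟨_, ⟨x, hx, rfl⟩, _, ⟨d, hd, rfl⟩, map_mul π x d⟩
    have := mul_mem (Subgroup.mem_sup_left (T := Subgroup.zpowers d) h1)
      (Subgroup.mem_sup_right (S := K) (Subgroup.mem_zpowers d))
    rwa [mul_assoc, mul_self h hd, mul_one] at this
  obtain ⟨P, hP⟩ := exists_sylow_normalized (Nat.card G) G le_rfl hD hd O K hOK hgen
  refine ⟨P, Subgroup.mem_normalizer_iff.2 fun x => ⟨fun hx => ?_, fun hx => ?_⟩, ?_⟩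
  · rw [inv_eq h hd]; exact hP x hx
  · have := hP _ hx
    simp only [inv_eq h hd, mul_assoc, mul_cancel h hd, mul_self h hd, mul_one] at this
    exact this
  · obtain ⟨-, hKP⟩ := hOK.sylow (mul_self h hd) hgen P
    rw [eq_top_iff, ← hgen]
    refine sup_le (hKP.trans (sup_le ?_ ?_)) ?_
    · exact le_sup_right.trans le_sup_left
    · exact le_sup_right
    · exact le_sup_left.trans le_sup_left

end Cfsg.Agent.S5356
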