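import Cfsg.Statements.S5358
import Cfsg.Agent.Spor.Fischer.ReflThree
import Mathlib
-- import your own Cfsg.Agent.* helpers here

set_option autoImplicit false
open scoped MatrixGroups
open Cfsg

namespace Cfsg.Agent.S5358

open CfsgLib.Fischer CfsgLib.Lie

/-- Let Q be a non-degenerate quadratic form on the n-dimensional coordinate space over the field with three elements and u, v vectors of the same non-zero norm Q(u) = Q(v) spanning different lines (v ≠ u and v ≠ −u). Then the reflection matrices of u and v commute if and only if u and v are orthogonal for the polar form of Q. -/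
theorem result (n : ℕ) (Q : QuadraticForm (ZMod 3) (Fin n → ZMod 3)) (hQ : (QuadraticMap.polarBilin Q).Nondegenerate) (u v : Fin n → ZMod 3) (hu : Q u ≠ 0) (huv : Q u = Q v) (h1 : v ≠ u) (h2 : v ≠ -u) : Commute (Cfsg.reflectionMatrix (⇑Q) u) (Cfsg.reflectionMatrix (⇑Q) v) ↔ QuadraticMap.polar (⇑Q) u v = 0 := by
  have hv : Q v ≠ 0 := huv ▸ hu
  have hmat : ∀ w, ∀ hw : Q w ≠ 0,
      (((rho w hw : Cfsg.isometryGroup (ZMod 3) ⇑Q) : GL (Fin n) (ZMod 3)) : Matrix (Fin n) (Fin n) (ZMod 3)) =
        Cfsg.reflectionMatrix (⇑Q) w := fun w hw => (Refl.refl_exists hw).choose_spec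
  have key : Commute (Cfsg.reflectionMatrix (⇑Q) u) (Cfsg.reflectionMatrix (⇑Q) v) ↔
      Commute (rho u hu) (rho v hv) := by
    rw [← hmat u hu, ← hmat v hv]
    exact ⟨fun k => Subtype.ext (Units.ext k.eq),
      fun k => congrArg (fun g : Cfsg.isometryGroup (ZMod 3) ⇑Q => ((g : GL (Fin n) (ZMod 3)) : Matrix (Fin n) (Fin n) (ZMod 3))) k.eq⟩
  rw [key, rho_commute_iff hu hv rfl huv.symm]
  exact ⟨fun k => k.resolve_left (not_or.2 ⟨h1, h2⟩), Or.inr⟩

end Cfsg.Agent.S5358
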