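import Cfsg.Statements.S5361
import Cfsg.Agent.Spor.Fischer.Structure
import Cfsg.Agent.Spor.Fischer.Classes
import Mathlib
-- import your own Cfsg.Agent.* helpers here

set_option autoImplicit false
open Cfsg

namespace Cfsg.Agent.S5361

open CfsgLib.Fischer

/-- Let D be a conjugacy class of 3-transpositions generating the finite group G, and suppose the centre of G is trivial and some two different members of D commute. Then the following are equivalent: (1) the commutator subgroup of G is simple (possibly of prime order); (2) G acts primitively on D by conjugation; (3) the largest normal 2-subgroup and the largest normal 3-subgroup of G are trivial and the commuting graph of D is connected. -/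
theorem result {G : Type*} [Group G] [Finite G] {D : Set G} (hD : Cfsg.IsThreeTranspositionClass D) (hZ : Subgroup.center G = ⊥) (hw : ∃ a ∈ D, ∃ b ∈ D, a ≠ b ∧ Commute a b) : (IsSimpleGroup (commutator G) ↔ Cfsg.IsPrimitiveUnderConj D) ∧ (Cfsg.IsPrimitiveUnderConj D ↔ (Cfsg.pCore 2 G = ⊥ ∧ Cfsg.pCore 3 G = ⊥ ∧ (Cfsg.commutingGraph D).Connected)) := by
  have hD2 : ∃ a ∈ D, ∃ b ∈ D, a ≠ b := by
    obtain ⟨a, ha, b, hb, hne, -⟩ := hw
    exact ⟨a, ha, b, hb, hne⟩
  have hG := class_group hD
  refine ⟨⟨primitive_of_simple hD hD2, fun hp => ?_⟩, fun hp => ?_, fun ⟨e2, e3, hconn⟩ => ?_⟩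
  · obtain ⟨L, hn, hq, hi, hF⟩ := primitive_structure hG hp hw
    haveI := hn
    obtain ⟨h2, h3⟩ := cores_central_of_primitive hG hp hw
    have hcen : Subgroup.center L = ⊥ := by
      rw [eq_bot_iff]
      intro z hz
      have hzG : (z : G) ∈ Subgroup.center G := centralizer_component_le_center hD h2 h3 hF
        (Subgroup.mem_centralizer_iff.2 fun l hl =>
          congrArg Subtype.val (Subgroup.mem_center_iff.1 hz ⟨l, hl⟩))
      rw [hZ, Subgroup.mem_bot] at hzG
      exact Subgroup.mem_bot.2 (Subtype.ext hzG)
    haveI : IsSimpleGroup L := by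
      have := hq.2
      exact ((QuotientGroup.quotientMulEquivOfEq hcen).trans QuotientGroup.quotientBot).isSimpleGroup_congr.1 this
    have hc : commutator G = L := le_antisymm (commutator_le_of_index L hi) (by
      rw [← CfsgLib.Inv.component_commutator (K := L) ⟨hn.isSubnormal, hq⟩, commutator_def]
      exact Subgroup.commutator_mono le_top le_top)
    rw [hc]
    infer_instance
  · obtain ⟨h2, h3⟩ := cores_central_of_primitive hG hp hw
    rw [hZ] at h2 h3
    exact ⟨le_bot_iff.1 h2, le_bot_iff.1 h3, connected_of_primitive hG hp hw⟩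
  · obtain ⟨L, hL⟩ := exists_component hD hD2 (e2 ▸ bot_le) (e3 ▸ bot_le)
    haveI := component_normal hD hL
    exact primitive_of_index hD hD2 (e2 ▸ bot_le) (e3 ▸ bot_le) L hL.2
      (genFitting_eq hD (e2 ▸ bot_le) (e3 ▸ bot_le) hL) (index_of_connected hD L hL.2 hconn)

end Cfsg.Agent.S5361
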