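import Cfsg.Statements.S5363
import Mathlib
-- import your own Cfsg.Agent.* helpers here

set_option autoImplicit false
open Cfsg

namespace Cfsg.Agent.S5363

/-- Let D be a conjugation-invariant set of involutions of a finite group G. Then every product of two members of D has odd order or order 2 if and only if, for every a in D and every b in D different from a and commuting with a, the members of D commuting with a b are exactly those commuting with both a and b. -/
theorem result {G : Type*} [Group G] [Finite G] {D : Set G} (hinv : ∀ d ∈ D, orderOf d = 2) (hconj : ∀ g : G, ∀ d ∈ D, g * d * g⁻¹ ∈ D) : (∀ a ∈ D, ∀ b ∈ D, Odd (orderOf (a * b)) ∨ orderOf (a * b) = 2) ↔ ∀ a ∈ D, ∀ b ∈ D, b ≠ a → Commute a b → {y : G | y ∈ D ∧ Commute (a * b) y} = {y : G | y ∈ D ∧ Commute a y} ∩ {y : G | y ∈ D ∧ Commute b y} := by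
  have sq : ∀ a ∈ D, a * a = 1 ∧ a⁻¹ = a := fun a ha => by
    have h1 : a * a = 1 := by rw [← pow_two, ← hinv a ha]; exact pow_orderOf_eq_one a
    exact ⟨h1, inv_eq_of_mul_eq_one_right h1⟩
  constructor
  · intro h a ha b hb hba hab
    have ht : orderOf (a * b) = 2 := by
      refine orderOf_eq_prime ?_ fun k => hba ?_
      · rw [pow_two, hab.symm.mul_mul_mul_comm, (sq a ha).1, (sq b hb).1, one_mul]
      · rw [← (sq a ha).2]; exact (inv_eq_of_mul_eq_one_right k).symm
    ext y
    refine ⟨fun ⟨hy, hc⟩ => ?_, fun hyy => ⟨hyy.1.1, hyy.1.2.mul_left hyy.2.2⟩⟩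
    have key : Commute a y := by
      by_contra hn
      have hya : Odd (orderOf (y * a)) := by
        rcases h y hy a ha with k | k
        · exact k
        · exfalso; apply hn
          have e := pow_orderOf_eq_one (y * a)
          rw [k, pow_two, mul_eq_one_iff_eq_inv, mul_inv_rev, (sq a ha).2, (sq y hy).2] at e
          exact e.symm
      have hcy : Commute (y * a) (a * b) := hc.symm.mul_left ((Commute.refl a).mul_right hab)
      have hord := hcy.orderOf_mul_eq_mul_orderOf_of_coprime (by rw [ht]; exact Nat.coprime_two_right.2 hya)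
      rw [show y * a * (a * b) = y * (a * a) * b by group, (sq a ha).1, mul_one, ht] at hord
      rcases h y hy b hb with k | k
      · rw [hord] at k; exact Nat.not_even_iff_odd.2 k (by simp)
      · rw [hord] at k
        have h1 : y * a = 1 := orderOf_eq_one_iff.1 (by omega)
        apply hn
        rw [show y = a by rw [← (sq a ha).2]; exact eq_inv_of_mul_eq_one_left h1]
    have key2 : Commute b y := by
      have := (key.inv_left).mul_left hc
      rwa [inv_mul_cancel_left] at this
    exact ⟨⟨hy, key⟩, hy, key2⟩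
  · intro h a ha b hb
    obtain ⟨haa, hai⟩ := sq a ha
    set n := orderOf (a * b) with hn
    by_contra hcon
    rw [not_or, Nat.not_odd_iff_even] at hcon
    obtain ⟨m, hm⟩ := hcon.1
    set ρ := a * b with hρ
    have hm2 : 2 ≤ m := by
      have := orderOf_pos ρ
      have := hcon.2
      omega
    have hinvρ : ∀ i : ℕ, a * ρ ^ i * a⁻¹ = (ρ ^ i)⁻¹ := fun i => by
      rw [← conj_pow, ← inv_pow]
      congr 1
      rw [hρ, mul_inv_rev, hai, (sq b hb).2, ← mul_assoc a a b, haa, one_mul]
    have ht : (ρ ^ m)⁻¹ = ρ ^ m := inv_eq_of_mul_eq_one_right (by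
      rw [← pow_add, ← hm]; exact pow_orderOf_eq_one ρ)
    have hat : Commute a (ρ ^ m) := by
      have := hinvρ m
      rw [ht, mul_inv_eq_iff_eq_mul] at this
      exact this
    have hbt : Commute b (ρ ^ m) := by
      have e : b = a * ρ := by rw [hρ, ← mul_assoc, haa, one_mul]
      rw [e]; exact hat.mul_left (Commute.self_pow ρ m)
    -- the conjugate `a * ρ ^ m`
    set a' := a * ρ ^ m with ha'
    have hmove : ∀ i : ℕ, ρ ^ i * a * (ρ ^ i)⁻¹ = a * (ρ ^ (2 * i))⁻¹ := fun i => by
      have h1 : ρ ^ i * a = a * (ρ ^ i)⁻¹ := by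
        rw [← hinvρ i, hai, ← mul_assoc, ← mul_assoc, haa, one_mul]
      rw [h1, mul_assoc, ← mul_inv_rev, ← pow_add, two_mul]
    have ha'D : a' ∈ D := by
      rcases Nat.even_or_odd m with ⟨i, hi⟩ | ⟨i, hi⟩
      · have := hconj (ρ ^ i) a ha
        rw [hmove, two_mul, ← hi, ht] at this
        exact this
      · have := hconj (ρ ^ i)⁻¹ b hb
        have h1 : (ρ ^ i)⁻¹ * a = a * ρ ^ i := by
          rw [← hinvρ i, hai, mul_assoc, haa, mul_one]
        rw [show b = a * ρ by rw [hρ, ← mul_assoc, haa, one_mul], inv_inv, ← mul_assoc, h1,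
          show a * ρ ^ i * ρ * ρ ^ i = a * (ρ ^ i * ρ * ρ ^ i) by group, ← pow_succ, ← pow_add,
          show i + 1 + i = m by omega] at this
        exact this
    have hne : a' ≠ a := by
      intro k
      rw [ha'] at k
      have h1 : ρ ^ m = 1 := mul_left_cancel (k.trans (mul_one a).symm)
      have := Nat.le_of_dvd (by omega) (orderOf_dvd_of_pow_eq_one h1)
      omega
    have hca : Commute a a' := (Commute.refl a).mul_right hat
    have hset := h a ha a' ha'D hne hca
    have hbin : b ∈ {y : G | y ∈ D ∧ Commute (a * a') y} := by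
      refine ⟨hb, ?_⟩
      rw [ha', ← mul_assoc, haa, one_mul]; exact hbt.symm
    rw [hset] at hbin
    have hab : Commute a b := hbin.1.2
    have h2 : ρ ^ 2 = 1 := by rw [hρ, pow_two, hab.symm.mul_mul_mul_comm, haa, (sq b hb).1, one_mul]
    have := Nat.le_of_dvd two_pos (orderOf_dvd_of_pow_eq_one h2)
    omega

end Cfsg.Agent.S5363
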