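import Cfsg.Statements.S5364
import Cfsg.Agent.Spor.Fischer.Basic
-- import your own Cfsg.Agent.* helpers here

set_option autoImplicit false
open Cfsg

namespace Cfsg.Agent.S5364

open CfsgLib.Fischer

/-- Let D be a conjugation-invariant set of involutions of a finite group G and t an involution in the centre of G such that d t does not lie in D for any d in D. If the images of the members of D in G modulo the subgroup generated by t satisfy the 3-transposition order conditions (each has order 2 and any two have product of order at most 3), then so do the members of D. -/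
theorem result {G : Type*} [Group G] [Finite G] {D : Set G} (hinv : ∀ d ∈ D, orderOf d = 2) (hconj : ∀ g : G, ∀ d ∈ D, g * d * g⁻¹ ∈ D) (t : G) (ht : orderOf t = 2) (htZ : t ∈ Subgroup.center G) (hDt : ∀ d ∈ D, d * t ∉ D) [(Subgroup.zpowers t).Normal] (himg : Cfsg.IsThreeTranspositionSet ((QuotientGroup.mk : G → G ⧸ Subgroup.zpowers t) '' D)) : Cfsg.IsThreeTranspositionSet D := by
  have htt : t * t = 1 := by rw [← pow_two, ← ht]; exact pow_orderOf_eq_one t
  have hker : ∀ u : G, (QuotientGroup.mk u : G ⧸ Subgroup.zpowers t) = 1 → u = 1 ∨ u = t := by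
    intro u hu
    rw [QuotientGroup.eq_one_iff] at hu
    obtain ⟨k, rfl⟩ := Subgroup.mem_zpowers_iff.1 hu
    rcases Int.even_or_odd k with ⟨j, rfl⟩ | ⟨j, rfl⟩
    · left; rw [← two_mul, zpow_mul, zpow_two, htt, one_zpow]
    · right; rw [zpow_add, zpow_mul, zpow_two, htt, one_zpow, one_mul, zpow_one]
  have hinv' : ∀ d ∈ D, d⁻¹ = d := fun d hd => inv_eq_of_mul_eq_one_right
    (by rw [← pow_two, ← hinv d hd]; exact pow_orderOf_eq_one d)
  refine ⟨hinv, fun d hd e he => ?_⟩
  rcases himg.2 _ ⟨d, hd, rfl⟩ _ ⟨e, he, rfl⟩ with h2 | h3
  · rw [← QuotientGroup.mk_mul, ← QuotientGroup.mk_pow] at h2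
    rcases hker _ h2 with k | k
    · exact Or.inl k
    · exfalso
      apply hDt d hd
      have := hconj e d hd
      rw [hinv' e he] at this
      convert this using 1
      calc d * t = d * ((d * e) ^ 2) := by rw [k]
        _ = (d * d) * (e * d * e) := by rw [pow_two]; group
        _ = e * d * e := by
          have : d * d = 1 := by nth_rw 2 [← hinv' d hd]; exact mul_inv_cancel d
          rw [this, one_mul]
  · rw [← QuotientGroup.mk_mul, ← QuotientGroup.mk_pow] at h3
    rcases hker _ h3 with k | k
    · exact Or.inr k
    · exfalso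
      apply hDt d hd
      have := hconj (e * d) e he
      convert this using 1
      calc d * t = d * ((d * e) ^ 3) := by rw [k]
        _ = (d * d) * (e * d * e * d * e) := by simp [pow_succ, mul_assoc]
        _ = e * d * e * (e * d)⁻¹ := by
          have : d * d = 1 := by nth_rw 2 [← hinv' d hd]; exact mul_inv_cancel d
          rw [this, one_mul, mul_inv_rev, hinv' d hd, hinv' e he]; group

end Cfsg.Agent.S5364
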