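import Cfsg.Statements.S5396
import Cfsg.Agent.Spor.Fischer.ExtraPairing
import Cfsg.Agent.Solv.FittingBasic
import Cfsg.Agent.Inv.ExtraTwo
-- import your own Cfsg.Agent.* helpers here

set_option autoImplicit false
open Cfsg

namespace Cfsg.Agent.S5396

open scoped commutatorElement


/-- squared order of an abelian subgroup is at most twice the order -/
theorem abelian_bound {E : Type*} [Group E] [Finite E] (hE : Cfsg.IsExtraspecial 2 E) (A : Subgroup E)
    (hA : ∀ a ∈ A, ∀ b ∈ A, a * b = b * a) : Nat.card A * Nat.card A ≤ 2 * Nat.card E := by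
  classical
  set B := A ⊔ Subgroup.center E with hB
  have hc : commutator E ≤ B := (CfsgLib.Fischer.Extra.comm_le hE).trans le_sup_right
  haveI : B.Normal := ⟨fun b hb g => by
    have h := mul_mem (hc (Subgroup.commutator_mem_commutator (Subgroup.mem_top g) (Subgroup.mem_top b))) hb
    rwa [commutatorElement_def, inv_mul_cancel_right] at h⟩
  letI : CommGroup (E ⧸ B) :=
    { (inferInstance : Group (E ⧸ B)) with
      mul_comm := fun p q => by
        obtain ⟨x, rfl⟩ := QuotientGroup.mk_surjective p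
        obtain ⟨y, rfl⟩ := QuotientGroup.mk_surjective q
        rw [← QuotientGroup.mk_mul, ← QuotientGroup.mk_mul, QuotientGroup.eq,
          show (x * y)⁻¹ * (y * x) = ⁅y⁻¹, x⁻¹⁆ by simp only [commutatorElement_def]; group]
        exact hc (Subgroup.commutator_mem_commutator (Subgroup.mem_top _) (Subgroup.mem_top _)) }
  have hBc : ∀ a ∈ A, ∀ b ∈ B, ⁅a, b⁆ = 1 := by
    intro a ha b hb
    have : B ≤ Subgroup.centralizer ({a} : Set E) := sup_le
      (fun c hc => Subgroup.mem_centralizer_singleton_iff.2 (hA c hc a ha))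
      (fun c hc => Subgroup.mem_centralizer_singleton_iff.2 (Subgroup.mem_center_iff.1 hc a).symm)
    exact commutatorElement_eq_one_iff_mul_comm.2 (Subgroup.mem_centralizer_singleton_iff.1 (this hb)).symm
  let g : A →* (E ⧸ B →* ℂˣ) := MonoidHom.mk' (fun a => QuotientGroup.lift B
      ((CfsgLib.Fischer.Extra.pairing hE a.1).comp (QuotientGroup.mk' _)) fun b hb => by
        rw [MonoidHom.mem_ker, MonoidHom.comp_apply, QuotientGroup.mk'_apply, CfsgLib.Fischer.Extra.pairing_mk,
          map_eq_one_iff _ (CfsgLib.Fischer.Extra.sign_injective hE)]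
        exact Subtype.ext (hBc a.1 a.2 b hb)) fun a b => by
    ext x
    simp only [MonoidHom.mul_apply, QuotientGroup.lift_mk', MonoidHom.comp_apply, QuotientGroup.mk'_apply,
      CfsgLib.Fischer.Extra.pairing_mk, ← map_mul]
    congr 1
    congr 1
    refine Subtype.ext ?_
    show ⁅a.1 * b.1, x⁆ = ⁅a.1, x⁆ * ⁅b.1, x⁆
    have h := Subgroup.mem_center_iff.1 (CfsgLib.Fischer.Extra.comm_mem hE b.1 x)
    calc ⁅a.1 * b.1, x⁆ = a.1 * ⁅b.1, x⁆ * (x * a.1⁻¹ * x⁻¹) := by simp only [commutatorElement_def]; group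
      _ = ⁅b.1, x⁆ * ⁅a.1, x⁆ := by rw [h a.1]; simp only [commutatorElement_def]; group
      _ = _ := (h _).symm
  have hk : g.ker ≤ (Subgroup.center E).subgroupOf A := fun a ha => Subgroup.mem_center_iff.2 fun x => by
    have h := DFunLike.congr_fun (MonoidHom.mem_ker.1 ha) (QuotientGroup.mk x)
    simp only [g, MonoidHom.mk'_apply, QuotientGroup.lift_mk, MonoidHom.comp_apply, QuotientGroup.mk'_apply,
      CfsgLib.Fischer.Extra.pairing_mk, MonoidHom.one_apply] at h
    exact (commutatorElement_eq_one_iff_mul_comm.1 (congrArg Subtype.val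
      ((map_eq_one_iff _ (CfsgLib.Fischer.Extra.sign_injective hE)).1 h))).symm
  have h2 : Nat.card g.ker ≤ 2 := by
    rw [← hE.2]
    exact Nat.card_le_card_of_injective (fun a : g.ker => (⟨a.1.1, hk a.2⟩ : Subgroup.center E))
      fun a b h => Subtype.ext (Subtype.ext (congrArg (fun t : Subgroup.center E => (t : E)) h))
  haveI : Finite (E ⧸ B →* ℂˣ) := Nat.finite_of_card_ne_zero (by
    rw [CommGroup.card_monoidHom_of_hasEnoughRootsOfUnity]; exact Nat.card_pos.ne')
  have h3 : Nat.card g.range ≤ B.index := by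
    rw [Subgroup.index, ← CommGroup.card_monoidHom_of_hasEnoughRootsOfUnity (E ⧸ B) ℂ]
    exact Nat.card_le_card_of_injective Subtype.val Subtype.val_injective
  have h4 : Nat.card A ≤ Nat.card B := Nat.le_of_dvd Nat.card_pos (Subgroup.card_dvd_of_le le_sup_left)
  have h5 := g.ker.card_mul_index
  rw [Subgroup.index_ker] at h5
  rw [← h5]
  calc Nat.card g.ker * Nat.card g.range * (Nat.card g.ker * Nat.card g.range)
      ≤ 2 * B.index * Nat.card B := Nat.mul_le_mul (Nat.mul_le_mul h2 h3) (h5.le.trans h4)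
    _ = _ := by rw [mul_assoc, B.index_mul_card]

/-- coordinates: hyperbolic pairs and one further plane -/
abbrev V (m : ℕ) := (Fin m → ZMod 2 × ZMod 2) × (ZMod 2 × ZMod 2)

/-- the form of the last plane -/
def plane (ε : ZMod 2) (u v : ZMod 2 × ZMod 2) : ZMod 2 := u.1 * v.2 + ε * (u.1 * v.1 + u.2 * v.2)

/-- the cocycle -/
def β (m : ℕ) (ε : ZMod 2) (u v : V m) : ZMod 2 := (∑ i, (u.1 i).1 * (v.1 i).2) + plane ε u.2 v.2

theorem β_add_left {m : ℕ} {ε : ZMod 2} (u v w : V m) : β m ε (u + v) w = β m ε u w + β m ε v w := by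
  simp only [β, plane, Prod.fst_add, Prod.snd_add, Pi.add_apply, add_mul, Finset.sum_add_distrib]; ring

theorem β_add_right {m : ℕ} {ε : ZMod 2} (u v w : V m) : β m ε u (v + w) = β m ε u v + β m ε u w := by
  simp only [β, plane, Prod.fst_add, Prod.snd_add, Pi.add_apply, mul_add, Finset.sum_add_distrib]; ring

@[simp] theorem β_zero_left {m : ℕ} {ε : ZMod 2} (w : V m) : β m ε 0 w = 0 := by simp [β, plane]

@[simp] theorem β_zero_right {m : ℕ} {ε : ZMod 2} (w : V m) : β m ε w 0 = 0 := by simp [β, plane]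

/-- the central extension -/
@[ext] structure X (m : ℕ) (ε : ZMod 2) where
  v : V m
  c : ZMod 2

variable {m : ℕ} {ε : ZMod 2}

theorem two_zero (v : V m) : v + v = 0 := by ext <;> simp [CharTwo.add_self_eq_zero]

instance : Mul (X m ε) := ⟨fun x y => ⟨x.v + y.v, x.c + y.c + β m ε x.v y.v⟩⟩
instance : One (X m ε) := ⟨⟨0, 0⟩⟩
instance : Inv (X m ε) := ⟨fun x => ⟨x.v, x.c + β m ε x.v x.v⟩⟩

instance : Group (X m ε) where
  mul_assoc x y z := by
    refine X.ext (add_assoc _ _ _) ?_
    show x.c + y.c + β m ε x.v y.v + z.c + β m ε (x.v + y.v) z.v =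
      x.c + (y.c + z.c + β m ε y.v z.v) + β m ε x.v (y.v + z.v)
    rw [β_add_left, β_add_right]; ring
  one_mul x := by
    refine X.ext (zero_add _) ?_
    show 0 + x.c + β m ε 0 x.v = x.c
    simp
  mul_one x := by
    refine X.ext (add_zero _) ?_
    show x.c + 0 + β m ε x.v 0 = x.c
    simp
  inv_mul_cancel x := by
    refine X.ext (two_zero _) ?_
    show x.c + β m ε x.v x.v + x.c + β m ε x.v x.v = 0
    linear_combination (CharTwo.add_self_eq_zero (x.c + β m ε x.v x.v))

/-- coordinates -/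
def coords : X m ε ≃ V m × ZMod 2 where
  toFun x := (x.v, x.c)
  invFun p := ⟨p.1, p.2⟩
  left_inv _ := rfl
  right_inv _ := rfl

instance : Finite (X m ε) := Finite.of_equiv _ coords.symm

theorem card_X : Nat.card (X m ε) = 2 ^ (2 * (m + 1) + 1) := by
  rw [Nat.card_congr coords]
  simp only [Nat.card_prod, Nat.card_fun, Nat.card_zmod, Nat.card_eq_fintype_card (α := Fin m), Fintype.card_fin]
  rw [← pow_two, ← pow_mul]; ring

theorem zmod2 : ∀ c : ZMod 2, c = 0 ∨ c = 1 := by decide

theorem one_one : (1 : ZMod 2) + 1 = 0 := by decide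

theorem mem_center {x : X m ε} : x ∈ Subgroup.center (X m ε) ↔ x.v = 0 := by
  classical
  constructor
  · intro h
    have key : ∀ w : V m, β m ε w x.v = β m ε x.v w := fun w => by
      have h1 : (0 : ZMod 2) + x.c + β m ε w x.v = x.c + 0 + β m ε x.v w :=
        congrArg X.c (Subgroup.mem_center_iff.1 h ⟨w, 0⟩)
      simpa using h1
    refine Prod.ext (funext fun i => Prod.ext ?_ ?_) (Prod.ext ?_ ?_)
    · have h1 := key (Pi.single i (0, 1), 0)
      simp [β, plane, Pi.single_apply, apply_ite Prod.fst, apply_ite Prod.snd] at h1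
      first | exact h1 | exact h1.symm
    · have h1 := key (Pi.single i (1, 0), 0)
      simp [β, plane, Pi.single_apply, apply_ite Prod.fst, apply_ite Prod.snd] at h1
      first | exact h1 | exact h1.symm
    · have h1 := key (0, (0, 1))
      simp [β, plane] at h1
      first | exact h1 | exact h1.symm
    · have h1 := key (0, (1, 0))
      simp [β, plane] at h1
      first | exact h1 | exact h1.symm
  · intro h
    refine Subgroup.mem_center_iff.2 fun y => X.ext (add_comm _ _) ?_
    show y.c + x.c + β m ε y.v x.v = x.c + y.c + β m ε x.v y.v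
    rw [h, β_zero_left, β_zero_right]; ring

theorem comm_c (x y : X m ε) : ⁅x, y⁆.c = β m ε x.v y.v + β m ε y.v x.v := by
  rw [commutatorElement_def]
  show x.c + y.c + β m ε x.v y.v + (x.c + β m ε x.v x.v) + β m ε (x.v + y.v) x.v + (y.c + β m ε y.v y.v) +
    β m ε (x.v + y.v + x.v) y.v = β m ε x.v y.v + β m ε y.v x.v
  simp only [β_add_left]
  linear_combination (x.c + y.c + β m ε x.v x.v + β m ε y.v y.v + β m ε x.v y.v) * (CharTwo.two_eq_zero : (2 : ZMod 2) = 0)

theorem extra : Cfsg.IsExtraspecial 2 (X m ε) := by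
  classical
  haveI : Fact (Nat.Prime 2) := ⟨Nat.prime_two⟩
  have hp : IsPGroup 2 (X m ε) := IsPGroup.of_card card_X
  have hcomm : commutator (X m ε) ≤ Subgroup.center (X m ε) := by
    rw [commutator_def, Subgroup.commutator_le]
    intro x _ y _
    rw [mem_center]
    show x.v + y.v + x.v + y.v = 0
    rw [show x.v + y.v + x.v + y.v = (x.v + y.v) + (x.v + y.v) by abel]
    exact two_zero _
  have heq : commutator (X m ε) = Subgroup.center (X m ε) := by
    refine le_antisymm hcomm fun x hx => ?_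
    rw [mem_center] at hx
    rcases zmod2 x.c with hc | hc
    · rw [show x = 1 from X.ext hx hc]; exact one_mem _
    · have h : ⁅(⟨(0, (1, 0)), 0⟩ : X m ε), ⟨(0, (0, 1)), 0⟩⁆ = x := by
        refine X.ext ?_ ?_
        · rw [hx, commutatorElement_def]
          show (0, (1, 0)) + (0, (0, 1)) + (0, (1, 0)) + (0, (0, 1)) = (0 : V m)
          simp [one_one]
        · rw [hc, comm_c]
          simp [β, plane]
      rw [← h]
      exact Subgroup.commutator_mem_commutator (Subgroup.mem_top _) (Subgroup.mem_top _)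
  refine ⟨⟨hp, le_antisymm ?_ ?_, heq⟩, ?_⟩
  · refine CfsgLib.Solv.frattini_le_of_elementary (p := 2) _ hcomm fun x => ?_
    rw [mem_center, pow_two]
    exact two_zero x.v
  · rw [← heq]; exact CfsgLib.Solv.commutator_le_frattini hp
  · rw [Nat.card_congr (show Subgroup.center (X m ε) ≃ ZMod 2 from
      { toFun := fun x => x.1.c
        invFun := fun c => ⟨⟨0, c⟩, mem_center.2 rfl⟩
        left_inv := fun x => Subtype.ext (X.ext (mem_center.1 x.2).symm rfl)
        right_inv := fun c => rfl }), Nat.card_zmod]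

/-- the sign of a scalar -/
def sgn (c : ZMod 2) : ℤ := if c = 0 then 1 else -1

theorem sgn_add : ∀ a b : ZMod 2, sgn (a + b) = sgn a * sgn b := by decide

theorem sgn_sum {ι : Type*} (s : Finset ι) (f : ι → ZMod 2) : sgn (∑ i ∈ s, f i) = ∏ i ∈ s, sgn (f i) := by
  classical
  induction s using Finset.induction with
  | empty => simp [sgn]
  | insert a s ha ih => rw [Finset.sum_insert ha, Finset.prod_insert ha, sgn_add, ih]

theorem sum_sgn : ∑ v : V m, sgn (β m 1 v v) = -(2 : ℤ) ^ (m + 1) := by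
  have h1 : ∑ u : ZMod 2 × ZMod 2, sgn (plane 1 u u) = -2 := by decide
  have h2 : ∑ u : ZMod 2 × ZMod 2, sgn (u.1 * u.2) = 2 := by decide
  rw [Fintype.sum_prod_type]
  simp only [β, sgn_add, sgn_sum]
  simp only [← Finset.mul_sum, h1, ← Finset.sum_mul]
  rw [← Fintype.prod_sum (fun (_ : Fin m) (u : ZMod 2 × ZMod 2) => sgn (u.1 * u.2))]
  simp [h2, pow_succ]

theorem no_big : ∀ A : Subgroup (X m 1), Cfsg.IsElementaryAbelian 2 A → Nat.card A ≠ 2 ^ (m + 1 + 1) := by
  classical
  intro A hA hc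
  have h := CfsgLib.Inv.extraspecialTwo_card_order_four (m + 1) extra card_X hA hc
  have hord : ∀ x : X m 1, orderOf x = 4 ↔ β m 1 x.v x.v = 1 := by
    intro x
    have hsq : x ^ 2 = ⟨0, β m 1 x.v x.v⟩ := by
      rw [pow_two]
      refine X.ext (two_zero _) ?_
      show x.c + x.c + β m 1 x.v x.v = _
      rw [CharTwo.add_self_eq_zero, zero_add]
    have h4 : x ^ 4 = 1 := by
      rw [show (4 : ℕ) = 2 * 2 from rfl, pow_mul, hsq, pow_two]
      refine X.ext (add_zero 0) ?_
      show _ + _ + β m 1 (0 : V m) 0 = _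
      rw [CharTwo.add_self_eq_zero, zero_add, β_zero_left]; rfl
    constructor
    · intro ho
      by_contra hne
      have h2 : x ^ 2 = 1 := by
        rw [hsq]
        refine X.ext rfl ?_
        show β m 1 x.v x.v = 0
        revert hne; generalize β m 1 x.v x.v = c; revert c; decide
      have := orderOf_dvd_of_pow_eq_one h2
      rw [ho] at this; norm_num at this
    · intro hQ
      refine orderOf_eq_prime_pow (p := 2) (n := 1) ?_ (by simpa using h4)
      rw [pow_one, hsq, hQ]
      intro e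
      exact one_ne_zero (congrArg X.c e : (1 : ZMod 2) = 0)
  have hcount : Nat.card {x : X m 1 // orderOf x = 4} = 2 * (Finset.univ.filter fun v : V m => β m 1 v v = 1).card := by
    rw [Nat.card_congr (show {x : X m 1 // orderOf x = 4} ≃ ZMod 2 × {v : V m // β m 1 v v = 1} from
      { toFun := fun x => (x.1.c, ⟨x.1.v, (hord _).1 x.2⟩)
        invFun := fun p => ⟨⟨p.2.1, p.1⟩, (hord _).2 p.2.2⟩
        left_inv := fun x => rfl
        right_inv := fun p => rfl }), Nat.card_prod, Nat.card_zmod, Nat.card_eq_fintype_card, Fintype.card_subtype]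
  have hV : Fintype.card (V m) = 2 ^ (m + 1) * 2 ^ (m + 1) := by
    simp [Fintype.card_pi, ZMod.card, pow_succ]
    rw [show (4 : ℕ) = 2 * 2 from rfl, mul_pow]; ring
  have hs := sum_sgn (m := m)
  have e : ∀ v : V m, sgn (β m 1 v v) = 1 - 2 * (if β m 1 v v = 1 then 1 else 0) := fun v => by
    generalize β m 1 v v = c; revert c; decide
  rw [Finset.sum_congr rfl fun v _ => e v, Finset.sum_sub_distrib, ← Finset.mul_sum, Finset.sum_boole,
    Finset.sum_const, Finset.card_univ, hV, nsmul_eq_mul, mul_one] at hs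
  rw [hcount, pow_mul'] at h
  rw [pow_two] at h
  have hs' : (2 * (Finset.univ.filter fun v : V m => β m 1 v v = 1).card : ℤ) = 2 ^ (m + 1) * 2 ^ (m + 1) + 2 ^ (m + 1) := by
    push_cast at hs ⊢; linarith
  have hs'' : 2 * (Finset.univ.filter fun v : V m => β m 1 v v = 1).card = 2 ^ (m + 1) * 2 ^ (m + 1) + 2 ^ (m + 1) := by
    exact_mod_cast hs'
  rw [h] at hs''
  have h1 : 0 < 2 ^ (m + 1) := Nat.two_pow_pos _
  omega

theorem rank_eq {E : Type} [Group E] [Finite E] (r : ℕ)
    (hA : ∃ A : Subgroup E, Cfsg.IsElementaryAbelian 2 A ∧ Nat.card A = 2 ^ r)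
    (hub : ∀ A : Subgroup E, ∀ k, Cfsg.IsElementaryAbelian 2 A → Nat.card A = 2 ^ k → k ≤ r) :
    sSup {k : ℕ | ∃ A : Subgroup E, Cfsg.IsElementaryAbelian 2 A ∧ Nat.card A = 2 ^ k} = r :=
  le_antisymm (csSup_le ⟨r, hA⟩ fun k ⟨A, h1, h2⟩ => hub A k h1 h2) (le_csSup ⟨r, fun k ⟨A, h1, h2⟩ => hub A k h1 h2⟩ hA)

theorem bound {n : ℕ} {E : Type} [Group E] [Finite E] (hE : Cfsg.IsExtraspecial 2 E)
    (hc : Nat.card E = 2 ^ (2 * n + 1)) (A : Subgroup E) (k : ℕ) (hA : Cfsg.IsElementaryAbelian 2 A)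
    (hk : Nat.card A = 2 ^ k) : k ≤ n + 1 := by
  have h := abelian_bound hE A fun a ha b hb => congrArg Subtype.val (hA.1.is_comm.comm (⟨a, ha⟩ : A) ⟨b, hb⟩)
  rw [hk, hc, ← pow_add, ← pow_succ'] at h
  have := (Nat.pow_le_pow_iff_right Nat.one_lt_two).1 h
  omega

/-- For every n ≥ 1 there exist finite extraspecial 2-groups of order 2^(2n+1) whose 2-rank (the largest rank of an elementary abelian subgroup) is n, and ones whose 2-rank is n + 1 (so for each such order there are two non-isomorphic extraspecial 2-groups, told apart by their 2-rank). -/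
theorem result (n : ℕ) (hn : 1 ≤ n) : ∀ r ∈ ({n, n + 1} : Set ℕ), ∃ (E : Type) (_ : Group E) (_ : Finite E), Cfsg.IsExtraspecial 2 E ∧ Nat.card E = 2 ^ (2 * n + 1) ∧ sSup {k : ℕ | ∃ A : Subgroup E, Cfsg.IsElementaryAbelian 2 A ∧ Nat.card A = 2 ^ k} = r := by
  classical
  obtain ⟨m, rfl⟩ : ∃ m, n = m + 1 := ⟨n - 1, by omega⟩
  intro r hr
  simp only [Set.mem_insert_iff, Set.mem_singleton_iff] at hr
  rcases hr with rfl | rfl
  · refine ⟨X m 1, inferInstance, inferInstance, extra, card_X, rank_eq _ ?_ fun A k h1 h2 => ?_⟩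
    · let A : Subgroup (X m 1) :=
        { carrier := {x | (∀ i, (x.v.1 i).1 = 0) ∧ x.v.2 = 0}
          one_mem' := ⟨fun _ => rfl, rfl⟩
          mul_mem' := by
            intro x y hx hy
            refine ⟨fun i => ?_, ?_⟩
            · show (x.v.1 i).1 + (y.v.1 i).1 = 0
              rw [hx.1 i, hy.1 i, add_zero]
            · show x.v.2 + y.v.2 = 0
              rw [hx.2, hy.2, add_zero]
          inv_mem' := fun hx => hx }
      have hβ : ∀ x ∈ A, ∀ y : X m 1, β m 1 x.v y.v = 0 := fun x hx y => by simp [β, plane, hx.1, hx.2]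
      refine ⟨A, ⟨⟨⟨fun x y => Subtype.ext (X.ext (add_comm _ _) ?_)⟩⟩, fun x hx => ?_⟩, ?_⟩
      · show x.1.c + y.1.c + β m 1 x.1.v y.1.v = y.1.c + x.1.c + β m 1 y.1.v x.1.v
        rw [hβ _ x.2, hβ _ y.2]; ring
      · rw [pow_two]
        refine X.ext (two_zero _) ?_
        show x.c + x.c + β m 1 x.v x.v = 0
        rw [hβ _ hx, CharTwo.add_self_eq_zero, add_zero]
      · rw [Nat.card_congr (show A ≃ (Fin m → ZMod 2) × ZMod 2 from
          { toFun := fun x => (fun i => (x.1.v.1 i).2, x.1.c)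
            invFun := fun p => ⟨⟨(fun i => (0, p.1 i), 0), p.2⟩, fun i => rfl, rfl⟩
            left_inv := fun x => Subtype.ext (X.ext (Prod.ext (funext fun i => Prod.ext (x.2.1 i).symm rfl) x.2.2.symm) rfl)
            right_inv := fun p => rfl })]
        simp [pow_succ]
    · have h := bound extra card_X A k h1 h2
      have h' : k ≠ m + 1 + 1 := fun e => no_big A h1 (e ▸ h2)
      omega
  · refine ⟨X m 0, inferInstance, inferInstance, extra, card_X, rank_eq _ ?_ fun A k h1 h2 => bound extra card_X A k h1 h2⟩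
    let A : Subgroup (X m 0) :=
      { carrier := {x | (∀ i, (x.v.1 i).1 = 0) ∧ x.v.2.1 = 0}
        one_mem' := ⟨fun _ => rfl, rfl⟩
        mul_mem' := by
          intro x y hx hy
          refine ⟨fun i => ?_, ?_⟩
          · show (x.v.1 i).1 + (y.v.1 i).1 = 0
            rw [hx.1 i, hy.1 i, add_zero]
          · show x.v.2.1 + y.v.2.1 = 0
            rw [hx.2, hy.2, add_zero]
        inv_mem' := fun hx => hx }
    have hβ : ∀ x ∈ A, ∀ y : X m 0, β m 0 x.v y.v = 0 := fun x hx y => by simp [β, plane, hx.1, hx.2]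
    refine ⟨A, ⟨⟨⟨fun x y => Subtype.ext (X.ext (add_comm _ _) ?_)⟩⟩, fun x hx => ?_⟩, ?_⟩
    · show x.1.c + y.1.c + β m 0 x.1.v y.1.v = y.1.c + x.1.c + β m 0 y.1.v x.1.v
      rw [hβ _ x.2, hβ _ y.2]; ring
    · rw [pow_two]
      refine X.ext (two_zero _) ?_
      show x.c + x.c + β m 0 x.v x.v = 0
      rw [hβ _ hx, CharTwo.add_self_eq_zero, add_zero]
    · rw [Nat.card_congr (show A ≃ (Fin m → ZMod 2) × ZMod 2 × ZMod 2 from
        { toFun := fun x => (fun i => (x.1.v.1 i).2, x.1.v.2.2, x.1.c)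
          invFun := fun p => ⟨⟨(fun i => (0, p.1 i), (0, p.2.1)), p.2.2⟩, fun i => rfl, rfl⟩
          left_inv := fun x => Subtype.ext (X.ext (Prod.ext (funext fun i => Prod.ext (x.2.1 i).symm rfl) (Prod.ext x.2.2.symm rfl)) rfl)
          right_inv := fun p => rfl })]
      simp [pow_succ, mul_assoc]

end Cfsg.Agent.S5396
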