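import Cfsg.Statements.S5405
import Cfsg.Agent.Spor.CocycleData
import Cfsg.Agent.Lie.OrthForms
-- import your own Cfsg.Agent.* helpers here

set_option autoImplicit false
open scoped MatrixGroups
open Cfsg

namespace Cfsg.Agent.S5405

open CfsgLib.Spor CfsgLib.Spor.CocycleVanish CfsgLib.Lie

/-- Vanishing of first cohomology on the natural module for three small orthogonal groups over the field with two elements: for the commutator subgroup of the isometry group of the elliptic quadratic form in dimension 4, of the elliptic form in dimension 6, and of the hyperbolic form in dimension 8, every crossed homomorphism into the natural module (a map f with f(gh) = f(g) + g·f(h)) is principal (of the form g ↦ g·v − v). -/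
theorem result : (∀ f : ↥(Cfsg.Omega (ZMod 2) (Cfsg.quadFormMinus 1 (ZMod 2) 1 1)) → ((Fin 1 ⊕ Fin 1) ⊕ Fin 2 → ZMod 2), (∀ g h : ↥(Cfsg.Omega (ZMod 2) (Cfsg.quadFormMinus 1 (ZMod 2) 1 1)), f (g * h) = f g + Matrix.mulVec (((g : ↥(Cfsg.isometryGroup (ZMod 2) (Cfsg.quadFormMinus 1 (ZMod 2) 1 1))) : GL ((Fin 1 ⊕ Fin 1) ⊕ Fin 2) (ZMod 2)) : Matrix ((Fin 1 ⊕ Fin 1) ⊕ Fin 2) ((Fin 1 ⊕ Fin 1) ⊕ Fin 2) (ZMod 2)) (f h)) → ∃ v : (Fin 1 ⊕ Fin 1) ⊕ Fin 2 → ZMod 2, ∀ g : ↥(Cfsg.Omega (ZMod 2) (Cfsg.quadFormMinus 1 (ZMod 2) 1 1)), f g = Matrix.mulVec (((g : ↥(Cfsg.isometryGroup (ZMod 2) (Cfsg.quadFormMinus 1 (ZMod 2) 1 1))) : GL ((Fin 1 ⊕ Fin 1) ⊕ Fin 2) (ZMod 2)) : Matrix ((Fin 1 ⊕ Fin 1) ⊕ Fin 2) ((Fin 1 ⊕ Fin 1) ⊕ Fin 2) (ZMod 2)) v - v) ∧ (∀ f : ↥(Cfsg.Omega (ZMod 2) (Cfsg.quadFormMinus 2 (ZMod 2) 1 1)) → ((Fin 2 ⊕ Fin 2) ⊕ Fin 2 → ZMod 2),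 (∀ g h : ↥(Cfsg.Omega (ZMod 2) (Cfsg.quadFormMinus 2 (ZMod 2) 1 1)), f (g * h) = f g + Matrix.mulVec (((g : ↥(Cfsg.isometryGroup (ZMod 2) (Cfsg.quadFormMinus 2 (ZMod 2) 1 1))) : GL ((Fin 2 ⊕ Fin 2) ⊕ Fin 2) (ZMod 2)) : Matrix ((Fin 2 ⊕ Fin 2) ⊕ Fin 2) ((Fin 2 ⊕ Fin 2) ⊕ Fin 2) (ZMod 2)) (f h)) → ∃ v : (Fin 2 ⊕ Fin 2) ⊕ Fin 2 → ZMod 2, ∀ g : ↥(Cfsg.Omega (ZMod 2) (Cfsg.quadFormMinus 2 (ZMod 2) 1 1)), f g = Matrix.mulVec (((g : ↥(Cfsg.isometryGroup (ZMod 2) (Cfsg.quadFormMinus 2 (ZMod 2) 1 1))) : GL ((Fin 2 ⊕ Fin 2) ⊕ Fin 2) (ZMod 2)) : Matrix ((Fin 2 ⊕ Fin 2) ⊕ Fin 2) ((Fin 2 ⊕ Fin 2) ⊕ Fin 2) (ZMod 2)) v - v) ∧ (∀ f : ↥(Cfsg.Omega (ZMod 2) (Cfsg.quadFormPlus 4 (ZMod 2))) → (Fin 4 ⊕ Fin 4 → ZMod 2), (∀ g h : ↥(Cfsg.Omega (ZMod 2) (Cfsg.quadFormPlus 4 (ZMod 2))), f (g * h) = f g + Matrix.mulVec (((g : ↥(Cfsg.isometryGroup (ZMod 2)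 (Cfsg.quadFormPlus 4 (ZMod 2)))) : GL (Fin 4 ⊕ Fin 4) (ZMod 2)) : Matrix (Fin 4 ⊕ Fin 4) (Fin 4 ⊕ Fin 4) (ZMod 2)) (f h)) → ∃ v : Fin 4 ⊕ Fin 4 → ZMod 2, ∀ g : ↥(Cfsg.Omega (ZMod 2) (Cfsg.quadFormPlus 4 (ZMod 2))), f g = Matrix.mulVec (((g : ↥(Cfsg.isometryGroup (ZMod 2) (Cfsg.quadFormPlus 4 (ZMod 2)))) : GL (Fin 4 ⊕ Fin 4) (ZMod 2)) : Matrix (Fin 4 ⊕ Fin 4) (Fin 4 ⊕ Fin 4) (ZMod 2)) v - v) := by
  refine ⟨?_, ?_, ?_⟩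
  · intro f hf
    revert f
    rw [show Cfsg.quadFormMinus 1 (ZMod 2) 1 1 = ⇑(OrthForms.minusQ (F := ZMod 2) 1 1 1) from funext fun x => (OrthForms.minusQ_apply 1 _).symm]
    intro f hf
    have hb := CocycleData.chkM1
    have hq : ∀ m, m < 2 ^ 4 → (OrthForms.minusQ (F := ZMod 2) 1 1 1) (toV CocycleData.posM1 m) = if CocycleData.qM1 m then 1 else 0 := fun m hm =>
      (OrthForms.minusQ_apply 1 _).trans (CocycleData.formM1 ⟨m, hm⟩)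
    exact vanish (OrthForms.minusQ (F := ZMod 2) 1 1 1) 4 CocycleData.posM1 CocycleData.qM1 hb.1 hq CocycleData.surjM1 (by simp)
      (gen_four (OrthForms.minusQ (F := ZMod 2) 1 1 1) 4 CocycleData.posM1 CocycleData.qM1 CocycleData.surjM1 hb.1 rfl hq CocycleData.chk4) hb.2 f hf
  · intro f hf
    revert f
    rw [show Cfsg.quadFormMinus 2 (ZMod 2) 1 1 = ⇑(OrthForms.minusQ (F := ZMod 2) 2 1 1) from funext fun x => (OrthForms.minusQ_apply 2 _).symm]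
    intro f hf
    have hb := CocycleData.chkM2
    have hq : ∀ m, m < 2 ^ 6 → (OrthForms.minusQ (F := ZMod 2) 2 1 1) (toV CocycleData.posM2 m) = if CocycleData.qM2 m then 1 else 0 := fun m hm =>
      (OrthForms.minusQ_apply 2 _).trans (CocycleData.formM2 ⟨m, hm⟩)
    exact vanish (OrthForms.minusQ (F := ZMod 2) 2 1 1) 6 CocycleData.posM2 CocycleData.qM2 hb.1 hq CocycleData.surjM2 (by simp)
      (gen_of_W _ 6 _ _ hb.1 hq CocycleData.surjM2 (Refl.W_eq_top (OrthForms.minus_nondeg (by decide) 2) (Or.inr (by simp)))) hb.2 f hf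
  · intro f hf
    revert f
    rw [show Cfsg.quadFormPlus 4 (ZMod 2) = ⇑(OrthOrder.plusQ (F := ZMod 2) 4) from funext fun x => (OrthOrder.plusQ_apply 4 _).symm]
    intro f hf
    have hb := CocycleData.chkP4
    have hq : ∀ m, m < 2 ^ 8 → (OrthOrder.plusQ (F := ZMod 2) 4) (toV CocycleData.posP4 m) = if CocycleData.qP4 m then 1 else 0 := fun m hm =>
      (OrthOrder.plusQ_apply 4 _).trans (CocycleData.formP4 ⟨m, hm⟩)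
    exact vanish (OrthOrder.plusQ (F := ZMod 2) 4) 8 CocycleData.posP4 CocycleData.qP4 hb.1 hq CocycleData.surjP4 (by simp)
      (gen_of_W _ 8 _ _ hb.1 hq CocycleData.surjP4 (Refl.W_eq_top (OrthForms.plus_nondeg 4) (Or.inr (by simp)))) hb.2 f hf

end Cfsg.Agent.S5405
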