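import Cfsg.Statements.S5420
import Cfsg.Agent.Solv.Basic
-- import your own Cfsg.Agent.* helpers here

set_option autoImplicit false
open Cfsg

namespace Cfsg.Agent.S5420

/-- Let Q be an extraspecial 2-subgroup of the finite group G whose centralizer in G is its centre Z and which is normal in the centralizer of Z. If Z lies in the largest normal 2-subgroup of G, then Q is a large extraspecial 2-subgroup of G: it normalizes no non-trivial subgroup of G of odd order. -/
theorem result {G : Type*} [Group G] [Finite G] (Q : Subgroup G) (hL1 : Cfsg.IsExtraspecial 2 ↥Q) (hL2 : Subgroup.centralizer (Q : Set G) = ((Subgroup.center ↥Q).map Q.subtype)) (hL3 : Subgroup.centralizer (((Subgroup.center ↥Q).map Q.subtype) : Set G) ≤ Subgroup.normalizer (Q : Set G)) (hZ : ((Subgroup.center ↥Q).map Q.subtype) ≤ Cfsg.pCore 2 G) : Cfsg.IsLargeExtraspecial Q := by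
  refine ⟨hL1, hL2, hL3, fun K hK hQK => ?_⟩
  have hdisj : ∀ {R : Subgroup G}, IsPGroup 2 R → ∀ x ∈ R, x ∈ K → x = 1 := by
    intro R hR x hx hxK
    obtain ⟨k, hk⟩ := hR ⟨x, hx⟩
    have h1 : x ^ Nat.card K = 1 := congrArg Subtype.val (pow_card_eq_one' (x := (⟨x, hxK⟩ : K)))
    exact orderOf_eq_one_iff.1 (Nat.eq_one_of_dvd_coprimes
      (Nat.Coprime.pow_left k (Nat.coprime_two_left.2 hK)) (orderOf_dvd_of_pow_eq_one (congrArg Subtype.val hk))
      (orderOf_dvd_of_pow_eq_one h1))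
  haveI := CfsgLib.Solv.pCore_normal (G := G) (p := 2)
  have comm : ∀ q ∈ Q, ∀ x ∈ K, q * x * q⁻¹ * x⁻¹ ∈ K := fun q hq x hx =>
    mul_mem ((Subgroup.mem_normalizer_iff.1 (hQK hq) x).1 hx) (inv_mem hx)
  rw [eq_bot_iff]
  intro x hx
  have hxN : x ∈ Subgroup.normalizer (Q : Set G) := hL3 fun z hz => by
    have hzQ : z ∈ Q := Subgroup.map_subtype_le _ hz
    have h1 : z * x * z⁻¹ * x⁻¹ ∈ Cfsg.pCore 2 G := by
      rw [show z * x * z⁻¹ * x⁻¹ = z * (x * z⁻¹ * x⁻¹) by group]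
      exact mul_mem (hZ hz) ((inferInstance : (Cfsg.pCore 2 G).Normal).conj_mem _ (inv_mem (hZ hz)) x)
    have := hdisj (CfsgLib.Solv.pCore_isPGroup G 2) _ h1 (comm z hzQ x hx)
    rw [mul_inv_eq_one, mul_inv_eq_iff_eq_mul] at this
    exact this
  have hxc : x ∈ Subgroup.centralizer (Q : Set G) := fun q hq => by
    have h1 : q * x * q⁻¹ * x⁻¹ ∈ Q := by
      rw [show q * x * q⁻¹ * x⁻¹ = q * (x * q⁻¹ * x⁻¹) by group]
      exact mul_mem hq ((Subgroup.mem_normalizer_iff.1 hxN _).1 (inv_mem hq))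
    have := hdisj hL1.1.1 _ h1 (comm q hq x hx)
    rw [mul_inv_eq_one, mul_inv_eq_iff_eq_mul] at this
    exact this
  rw [hL2] at hxc
  exact Subgroup.mem_bot.2 (hdisj hL1.1.1 x (Subgroup.map_subtype_le _ hxc) hx)

end Cfsg.Agent.S5420
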