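import Cfsg.Statements.S5421
import Cfsg.Agent.Solv.Basic
import Cfsg.Agent.Spor.Fischer.ExtraPairing
-- import your own Cfsg.Agent.* helpers here

set_option autoImplicit false
open Cfsg

namespace Cfsg.Agent.S5421

open scoped commutatorElement

/-- Let Q be an extraspecial 2-subgroup of the finite group G whose centralizer in G is its centre Z and which is normal in the centralizer of Z. If some involution b of Q outside Z has Z inside the largest normal 2-subgroup of the centralizer of b, then Q is a large extraspecial 2-subgroup of G. -/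
theorem result {G : Type*} [Group G] [Finite G] (Q : Subgroup G) (hL1 : Cfsg.IsExtraspecial 2 ↥Q) (hL2 : Subgroup.centralizer (Q : Set G) = ((Subgroup.center ↥Q).map Q.subtype)) (hL3 : Subgroup.centralizer (((Subgroup.center ↥Q).map Q.subtype) : Set G) ≤ Subgroup.normalizer (Q : Set G)) (b : G) (hbQ : b ∈ Q) (hbZ : b ∉ ((Subgroup.center ↥Q).map Q.subtype)) (hb : orderOf b = 2) (hZ : ((Subgroup.center ↥Q).map Q.subtype) ≤ (Cfsg.pCore 2 ↥(Subgroup.centralizer ({b} : Set G))).map (Subgroup.centralizer ({b} : Set G)).subtype) : Cfsg.IsLargeExtraspecial Q := by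
  refine ⟨hL1, hL2, hL3, fun K hK hQK => ?_⟩
  have hdisj : ∀ {R : Subgroup G}, IsPGroup 2 R → ∀ x ∈ R, x ∈ K → x = 1 := by
    intro R hR x hx hxK
    obtain ⟨k, hk⟩ := hR ⟨x, hx⟩
    have h1 : x ^ Nat.card K = 1 := congrArg Subtype.val (pow_card_eq_one' (x := (⟨x, hxK⟩ : K)))
    exact orderOf_eq_one_iff.1 (Nat.eq_one_of_dvd_coprimes
      (Nat.Coprime.pow_left k (Nat.coprime_two_left.2 hK)) (orderOf_dvd_of_pow_eq_one (congrArg Subtype.val hk))
      (orderOf_dvd_of_pow_eq_one h1))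
  set Z := (Subgroup.center Q).map Q.subtype
  have hkill : ∀ x ∈ K, (∀ z ∈ Z, Commute z x) → x = 1 := by
    intro x hx hzx
    have hxN : x ∈ Subgroup.normalizer (Q : Set G) := hL3 fun z hz => (hzx z hz).eq
    have hxc : x ∈ Subgroup.centralizer (Q : Set G) := fun q hq => by
      have h1 : q * x * q⁻¹ * x⁻¹ ∈ Q := by
        rw [show q * x * q⁻¹ * x⁻¹ = q * (x * q⁻¹ * x⁻¹) by group]
        exact mul_mem hq ((Subgroup.mem_normalizer_iff.1 hxN _).1 (inv_mem hq))
      have := hdisj hL1.1.1 _ h1 (mul_mem ((Subgroup.mem_normalizer_iff.1 (hQK hq) x).1 hx) (inv_mem hx))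
      rw [mul_inv_eq_one, mul_inv_eq_iff_eq_mul] at this
      exact this
    rw [hL2] at hxc
    exact hdisj hL1.1.1 x (Subgroup.map_subtype_le _ hxc) hx
  -- the centraliser of `b` in `K` is trivial
  have hfree : ∀ x ∈ K, Commute b x → x = 1 := by
    intro x hx hbx
    refine hkill x hx fun z hz => ?_
    obtain ⟨z', hz', hzz⟩ := hZ hz
    haveI := CfsgLib.Solv.pCore_normal (G := Subgroup.centralizer ({b} : Set G)) (p := 2)
    set X : Subgroup.centralizer ({b} : Set G) := ⟨x, Subgroup.mem_centralizer_singleton_iff.2 hbx.eq.symm⟩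
    have h1 : z' * (X * z'⁻¹ * X⁻¹) ∈ Cfsg.pCore 2 (Subgroup.centralizer ({b} : Set G)) :=
      mul_mem hz' ((inferInstance : (Cfsg.pCore 2 (Subgroup.centralizer ({b} : Set G))).Normal).conj_mem _ (inv_mem hz') X)
    have h2 : z * x * z⁻¹ * x⁻¹ = 1 := by
      refine hdisj ((CfsgLib.Solv.pCore_isPGroup (Subgroup.centralizer ({b} : Set G)) 2).map
        (Subgroup.centralizer ({b} : Set G)).subtype) _ ⟨_, h1, ?_⟩
        (mul_mem ((Subgroup.mem_normalizer_iff.1 (hQK (Subgroup.map_subtype_le _ hz)) x).1 hx) (inv_mem hx))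
      rw [← hzz]
      simp only [Subgroup.coe_subtype, Subgroup.coe_mul, Subgroup.coe_inv, X]
      group
    rw [mul_inv_eq_one, mul_inv_eq_iff_eq_mul] at h2
    exact h2
  have hb2 : b * b = 1 := by rw [← pow_two, ← hb]; exact pow_orderOf_eq_one b
  have hbi : b⁻¹ = b := inv_eq_of_mul_eq_one_right hb2
  let σ : K →* K := MonoidHom.mk' (fun x => ⟨b * x * b⁻¹, (Subgroup.mem_normalizer_iff.1 (hQK hbQ) x).1 x.2⟩)
    fun x y => Subtype.ext (by simp only [Subgroup.coe_mul]; group)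
  have hinv : ∀ x ∈ K, b * x * b⁻¹ = x⁻¹ := by
    intro x hx
    have h2 : ⇑σ = fun y : K => y⁻¹ := by
      refine MonoidHom.FixedPointFree.coe_eq_inv_of_involutive (fun y hy => Subtype.ext ?_) fun y => ?_
      · refine hfree y y.2 ?_
        have : b * (y : G) * b⁻¹ = y := congrArg Subtype.val hy
        rw [mul_inv_eq_iff_eq_mul] at this
        exact this
      · refine Subtype.ext ?_
        show b * (b * (y : G) * b⁻¹) * b⁻¹ = y
        rw [hbi, show b * (b * (y : G) * b) * b = (b * b) * y * (b * b) by group, hb2, one_mul, mul_one]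
    exact congrArg Subtype.val (congrFun h2 ⟨x, hx⟩)
  rw [eq_bot_iff]
  intro x hx
  refine Subgroup.mem_bot.2 (hkill x hx fun z hz => ?_)
  obtain ⟨z', hz', rfl⟩ := hz
  obtain ⟨q, hq⟩ : ∃ q : Q, ¬ Commute q ⟨b, hbQ⟩ := by
    by_contra hc
    push Not at hc
    exact hbZ ⟨⟨b, hbQ⟩, Subgroup.mem_center_iff.2 fun g => (hc g).eq, rfl⟩
  by_cases hz1 : z' = 1
  · simp [hz1]
  have hne : ⁅q, (⟨b, hbQ⟩ : Q)⁆ ≠ 1 := fun k => hq (commutatorElement_eq_one_iff_mul_comm.1 k)
  have hqb : ⁅q, (⟨b, hbQ⟩ : Q)⁆ = z' := congrArg Subtype.val (CfsgLib.Fischer.Extra.center_cases hL1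
    ⟨_, CfsgLib.Fischer.Extra.comm_mem hL1 q ⟨b, hbQ⟩⟩ ⟨z', hz'⟩
    (fun k => hne (congrArg Subtype.val k)) (fun k => hz1 (congrArg Subtype.val k)))
  have hzval : (q : G) * b * (q : G)⁻¹ * b⁻¹ = z' := by
    rw [← hqb, commutatorElement_def]; rfl
  have hbq : ∀ y ∈ K, ((q : G) * b * (q : G)⁻¹) * y * ((q : G) * b * (q : G)⁻¹)⁻¹ = y⁻¹ := by
    intro y hy
    have hy' : (q : G)⁻¹ * y * q ∈ K := by
      have := (Subgroup.mem_normalizer_iff.1 (hQK (inv_mem q.2)) y).1 hy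
      rwa [inv_inv] at this
    calc ((q : G) * b * (q : G)⁻¹) * y * ((q : G) * b * (q : G)⁻¹)⁻¹
        = (q : G) * (b * ((q : G)⁻¹ * y * q) * b⁻¹) * (q : G)⁻¹ := by group
      _ = y⁻¹ := by rw [hinv _ hy']; group
  show (z' : G) * x = x * z'
  rw [← mul_inv_eq_iff_eq_mul, ← hzval]
  calc (q : G) * b * (q : G)⁻¹ * b⁻¹ * x * ((q : G) * b * (q : G)⁻¹ * b⁻¹)⁻¹
      = ((q : G) * b * (q : G)⁻¹) * (b⁻¹ * x * b) * ((q : G) * b * (q : G)⁻¹)⁻¹ := by group
    _ = ((q : G) * b * (q : G)⁻¹) * (b * x * b⁻¹) * ((q : G) * b * (q : G)⁻¹)⁻¹ := by simp only [hbi]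
    _ = x := by rw [hinv x hx, hbq _ (inv_mem hx), inv_inv]

end Cfsg.Agent.S5421
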