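import Cfsg.Statements.S5422
import Cfsg.Agent.Spor.LargeSymm
import Cfsg.Agent.S5421
-- import your own Cfsg.Agent.* helpers here

set_option autoImplicit false
open Cfsg

namespace Cfsg.Agent.S5422

/-- ordered pairs acted on by simultaneous conjugation -/
structure Pair (G : Type*) where
  fst : G
  snd : G

/-- Let Q be an extraspecial 2-subgroup of the finite group G whose centralizer in G is its centre Z and which is normal in the centralizer of Z; suppose Q has width at least 2 (order 2^(2w+1) with w ≥ 2) and g is an element of G not normalizing Z with g Z g⁻¹ inside Q. Then Z lies inside g Q g⁻¹; writing V for the subgroup generated by Z and g Z g⁻¹ (a four-group), the normalizer of V induces on V its full automorphism group, that is, the centralizer of V has index 6 in the normalizer of V; and Q is a large extraspecial 2-subgroup of G. -/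
theorem result {G : Type*} [Group G] [Finite G] (Q : Subgroup G) (hL1 : Cfsg.IsExtraspecial 2 ↥Q) (hL2 : Subgroup.centralizer (Q : Set G) = ((Subgroup.center ↥Q).map Q.subtype)) (hL3 : Subgroup.centralizer (((Subgroup.center ↥Q).map Q.subtype) : Set G) ≤ Subgroup.normalizer (Q : Set G)) (w : ℕ) (hw : 2 ≤ w) (hcard : Nat.card ↥Q = 2 ^ (2 * w + 1)) (g : G) (hg : g ∉ Subgroup.normalizer (((Subgroup.center ↥Q).map Q.subtype) : Set G)) (hZg : (((Subgroup.center ↥Q).map Q.subtype)).map (MulAut.conj g).toMonoidHom ≤ Q) : ((Subgroup.center ↥Q).map Q.subtype) ≤ (Q).map (MulAut.conj g).toMonoidHom ∧ (Subgroup.centralizer ((((Subgroup.center ↥Q).map Q.subtype) ⊔ (((Subgroup.center ↥Q).map Q.subtype)).map (MulAut.conj g).toMonoidHom : Subgroup G) : Set G)).relIndex (Subgroup.normalizer ((((Subgroup.center ↥Q).map Q.subtype) ⊔ (((Subgroup.center ↥Q).map Q.subtype)).map (MulAut.conj g).toMonoidHom : Subgroup G) : Set G)) = 6 ∧ Cfsg.IsLargeExtraspecial Q := by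
  classical
  set Z := (Subgroup.center ↥Q).map Q.subtype with hZdef
  obtain ⟨zc, hzc1, hzu⟩ := (Nat.card_eq_two_iff' (1 : Subgroup.center Q)).1 hL1.2
  set z : G := (zc.1 : Q).1 with hzdef
  have hz1 : z ≠ 1 := fun e => hzc1 (Subtype.ext (Subtype.ext e))
  have hzZ : z ∈ Z := ⟨zc.1, zc.2, rfl⟩
  have hZcases : ∀ w ∈ Z, w = 1 ∨ w = z := by
    rintro _ ⟨w, hw, rfl⟩
    by_cases h : (⟨w, hw⟩ : Subgroup.center Q) = 1
    · left; exact congrArg (fun t : Subgroup.center Q => (t.1 : Q).1) h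
    · right; exact congrArg (fun t : Subgroup.center Q => (t.1 : Q).1) (hzu ⟨w, hw⟩ h)
  have hz2 : z * z = 1 := congrArg (fun t : Subgroup.center Q => (t.1 : Q).1)
    (CfsgLib.Fischer.Extra.center_sq hL1 zc)
  have hz : orderOf z = 2 := orderOf_eq_prime (by rw [pow_two, hz2]) hz1
  have hQC : Q ≤ Subgroup.centralizer ({z} : Set G) := fun q hq =>
    Subgroup.mem_centralizer_singleton_iff.2 (congrArg Subtype.val (Subgroup.mem_center_iff.1 zc.2 ⟨q, hq⟩))
  have hN : Subgroup.centralizer ({z} : Set G) ≤ Subgroup.normalizer (Q : Set G) := fun c hc => hL3 fun w hw => by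
    rcases hZcases w hw with rfl | rfl
    · rw [one_mul, mul_one]
    · exact (Subgroup.mem_centralizer_singleton_iff.1 hc).symm
  have hC : Subgroup.centralizer (Q : Set G) ≤ Q := by rw [hL2]; exact Subgroup.map_subtype_le _
  set x := g * z * g⁻¹ with hxdef
  have hne : x ≠ z := fun e => hg (by
    rw [Subgroup.mem_normalizer_iff]
    intro w
    constructor
    · intro hw
      rcases hZcases w hw with rfl | rfl
      · simpa using hw
      · show x ∈ Z
        rw [e]; exact hw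
    · intro hw
      rcases hZcases _ hw with h | h
      · rw [conj_eq_one_iff.1 h]; exact one_mem Z
      · rw [mul_left_cancel (mul_right_cancel (h.trans e.symm))]; exact hzZ)
  have hxQ : x ∈ Q := hZg ⟨z, hzZ, rfl⟩
  obtain ⟨m, q, hq, hqx, hm1, hm2⟩ := CfsgLib.Spor.LargeSymm.exists_swap Q z x g hL1 hQC hN hC hz hxQ hxdef.symm hne
  have hx1 : x ≠ 1 := fun e => hz1 (conj_eq_one_iff.1 e)
  have hx2 : x * x = 1 := by rw [hxdef, show g * z * g⁻¹ * (g * z * g⁻¹) = g * (z * z) * g⁻¹ by group, hz2]; group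
  have hqz : q * z * q⁻¹ = z := by
    rw [Subgroup.mem_centralizer_singleton_iff.1 (hQC hq), mul_inv_cancel_right]
  refine ⟨?_, ?_, ?_⟩
  · intro w hw
    rcases hZcases w hw with rfl | rfl
    · exact one_mem _
    · have hc : g⁻¹ * m ∈ Subgroup.centralizer ({z} : Set G) := by
        rw [Subgroup.mem_centralizer_singleton_iff]
        calc g⁻¹ * m * z = g⁻¹ * (m * z * m⁻¹) * m := by group
          _ = g⁻¹ * (g * z * g⁻¹) * m := by rw [hm1]
          _ = z * (g⁻¹ * m) := by group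
      exact ⟨g⁻¹ * m * x * (g⁻¹ * m)⁻¹, (Subgroup.mem_normalizer_iff.1 (hN hc) x).1 hxQ, by
        show g * (g⁻¹ * m * x * (g⁻¹ * m)⁻¹) * g⁻¹ = z
        rw [← hm2]; group⟩
  · set V := Z ⊔ Z.map (MulAut.conj g).toMonoidHom with hVdef
    have hzV : z ∈ V := Subgroup.mem_sup_left hzZ
    have hxV : x ∈ V := Subgroup.mem_sup_right ⟨z, hzZ, rfl⟩
    have hVle : ∀ H : Subgroup G, z ∈ H → x ∈ H → V ≤ H := fun H h1 h2 => sup_le
      (fun w hw => by rcases hZcases w hw with rfl | rfl; exacts [one_mem H, h1])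
      (by rintro _ ⟨w, hw, rfl⟩; rcases hZcases w hw with rfl | rfl; exacts [by simp [one_mem], h2])
    have hzx : z * x = x * z := (Subgroup.mem_centralizer_singleton_iff.1 (hQC hxQ)).symm
    let four : Subgroup G :=
      { carrier := {w | w = 1 ∨ w = z ∨ w = x ∨ w = x * z}
        one_mem' := Or.inl rfl
        mul_mem' := by
          have a1 : x * z * z = x := by rw [mul_assoc, hz2, mul_one]
          have a2 : z * (x * z) = x := by rw [← mul_assoc, hzx, a1]
          have a3 : x * (x * z) = z := by rw [← mul_assoc, hx2, one_mul]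
          have a4 : x * z * x = z := by rw [mul_assoc, hzx, a3]
          have a5 : x * z * (x * z) = 1 := by rw [← mul_assoc, a4, hz2]
          rintro u v (rfl | rfl | rfl | rfl) (rfl | rfl | rfl | rfl) <;>
            simp [hz2, hx2, hzx, a1, a2, a3, a4, a5]
        inv_mem' := by
          have h1 : z⁻¹ = z := inv_eq_of_mul_eq_one_right hz2
          have h2 : x⁻¹ = x := inv_eq_of_mul_eq_one_right hx2
          rintro u (rfl | rfl | rfl | rfl) <;> simp [h1, h2, hzx] }
    have hfour : ∀ w ∈ V, w = 1 ∨ w = z ∨ w = x ∨ w = x * z := fun w hw =>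
      hVle four (Or.inr (Or.inl rfl)) (Or.inr (Or.inr (Or.inl rfl))) hw
    have hmk : ∀ n : G, n * z * n⁻¹ ∈ V → n * x * n⁻¹ ∈ V → n ∈ Subgroup.normalizer (V : Set G) := by
      intro n h1 h2
      have hle : V.map (MulAut.conj n).toMonoidHom ≤ V := by
        rw [Subgroup.map_le_iff_le_comap]
        exact hVle _ h1 h2
      have heq : V.map (MulAut.conj n).toMonoidHom = V := Subgroup.eq_of_le_of_card_ge hle (by
        rw [Subgroup.card_map_of_injective (f := (MulAut.conj n).toMonoidHom) (MulAut.conj n).injective])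
      rw [Subgroup.mem_normalizer_iff]
      intro w
      constructor
      · intro hw; exact hle ⟨w, hw, rfl⟩
      · intro hw
        rw [← heq] at hw
        obtain ⟨w', hw', e⟩ := hw
        rw [← (MulAut.conj n).injective e]
        exact hw'
    set N := Subgroup.normalizer (V : Set G)
    letI : MulAction N (Pair G) :=
      { smul := fun n p => ⟨n.1 * p.fst * n.1⁻¹, n.1 * p.snd * n.1⁻¹⟩
        one_smul := fun p => show (Pair.mk ((1 : G) * p.fst * (1 : G)⁻¹) ((1 : G) * p.snd * (1 : G)⁻¹)) = p by simp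
        mul_smul := fun a b p => show (Pair.mk ((a.1 * b.1) * p.fst * (a.1 * b.1)⁻¹) ((a.1 * b.1) * p.snd * (a.1 * b.1)⁻¹)) =
          Pair.mk (a.1 * (b.1 * p.fst * b.1⁻¹) * a.1⁻¹) (a.1 * (b.1 * p.snd * b.1⁻¹) * a.1⁻¹) by simp [mul_assoc] }
    have hsm : ∀ (n : N) (a b : G), n • (⟨a, b⟩ : Pair G) = ⟨n.1 * a * n.1⁻¹, n.1 * b * n.1⁻¹⟩ := fun _ _ _ => rfl
    have hstab : MulAction.stabilizer N (⟨z, x⟩ : Pair G) = (Subgroup.centralizer (V : Set G)).subgroupOf N := by
      ext n
      rw [MulAction.mem_stabilizer_iff, hsm, Pair.mk.injEq, mul_inv_eq_iff_eq_mul, mul_inv_eq_iff_eq_mul,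
        Subgroup.mem_subgroupOf]
      constructor
      · rintro ⟨h1, h2⟩ w hw
        rcases hfour w hw with rfl | rfl | rfl | rfl
        · rw [one_mul, mul_one]
        · exact h1.symm
        · exact h2.symm
        · rw [← mul_assoc n.1, h2, mul_assoc x n.1, h1, ← mul_assoc]
      · exact fun h => ⟨(h z hzV).symm, (h x hxV).symm⟩
    have hxzV : x * z ∈ V := mul_mem hxV hzV
    have hmN : m ∈ N := hmk m (by rw [hm1]; exact hxV) (by rw [hm2]; exact hzV)
    have hqN : q ∈ N := hmk q (by rw [hqz]; exact hzV) (by rw [hqx]; exact hxzV)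
    have hmxz : m * (x * z) * m⁻¹ = x * z := by
      rw [show m * (x * z) * m⁻¹ = m * x * m⁻¹ * (m * z * m⁻¹) by group, hm1, hm2, hzx]
    have hqxz : q * (x * z) * q⁻¹ = x := by
      rw [show q * (x * z) * q⁻¹ = q * x * q⁻¹ * (q * z * q⁻¹) by group, hqx, hqz, mul_assoc, hz2, mul_one]
    have horb : MulAction.orbit N (⟨z, x⟩ : Pair G) = ({⟨z, x⟩, ⟨z, x * z⟩, ⟨x, z⟩, ⟨x, x * z⟩, ⟨x * z, z⟩, ⟨x * z, x⟩} : Set (Pair G)) := by
      apply Set.Subset.antisymm
      · rintro _ ⟨n, rfl⟩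
        show n • (⟨z, x⟩ : Pair G) ∈ _
        rw [hsm]
        have h1 := hfour _ ((Subgroup.mem_normalizer_iff.1 n.2 z).1 hzV)
        have h2 := hfour _ ((Subgroup.mem_normalizer_iff.1 n.2 x).1 hxV)
        have h3 : n.1 * z * n.1⁻¹ ≠ 1 := fun e => hz1 (conj_eq_one_iff.1 e)
        have h4 : n.1 * x * n.1⁻¹ ≠ 1 := fun e => hx1 (conj_eq_one_iff.1 e)
        have h5 : n.1 * z * n.1⁻¹ ≠ n.1 * x * n.1⁻¹ := fun e => hne (mul_left_cancel (mul_right_cancel e)).symm
        simp only [Set.mem_insert_iff, Set.mem_singleton_iff, Pair.mk.injEq]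
        rcases h1 with a | a | a | a
        · exact absurd a h3
        all_goals rcases h2 with b | b | b | b <;> first | exact absurd b h4 | exact absurd (a.trans b.symm) h5 | (rw [a, b]; simp)
      · have h0 : (⟨z, x⟩ : Pair G) ∈ MulAction.orbit N (⟨z, x⟩ : Pair G) := MulAction.mem_orbit_self _
        have o1 : (⟨z, x * z⟩ : Pair G) ∈ MulAction.orbit N (⟨z, x⟩ : Pair G) := by
          refine ⟨⟨q, hqN⟩, ?_⟩
          show (⟨q, hqN⟩ : N) • (⟨z, x⟩ : Pair G) = _
          rw [hsm, hqz, hqx]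
        have o2 : (⟨x, z⟩ : Pair G) ∈ MulAction.orbit N (⟨z, x⟩ : Pair G) := by
          refine ⟨⟨m, hmN⟩, ?_⟩
          show (⟨m, hmN⟩ : N) • (⟨z, x⟩ : Pair G) = _
          rw [hsm, hm1, hm2]
        have o3 : (⟨x, x * z⟩ : Pair G) ∈ MulAction.orbit N (⟨z, x⟩ : Pair G) := by
          refine ⟨⟨m, hmN⟩ * ⟨q, hqN⟩, ?_⟩
          show ((⟨m, hmN⟩ : N) * ⟨q, hqN⟩) • (⟨z, x⟩ : Pair G) = _
          rw [mul_smul, hsm, hsm, hqz, hqx, hm1, hmxz]
        have o4 : (⟨x * z, z⟩ : Pair G) ∈ MulAction.orbit N (⟨z, x⟩ : Pair G) := by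
          refine ⟨⟨q, hqN⟩ * ⟨m, hmN⟩, ?_⟩
          show ((⟨q, hqN⟩ : N) * ⟨m, hmN⟩) • (⟨z, x⟩ : Pair G) = _
          rw [mul_smul, hsm, hsm, hm1, hm2, hqx, hqz]
        have o5 : (⟨x * z, x⟩ : Pair G) ∈ MulAction.orbit N (⟨z, x⟩ : Pair G) := by
          refine ⟨⟨q, hqN⟩ * ⟨m, hmN⟩ * ⟨q, hqN⟩, ?_⟩
          show ((⟨q, hqN⟩ : N) * ⟨m, hmN⟩ * ⟨q, hqN⟩) • (⟨z, x⟩ : Pair G) = _
          rw [mul_smul, mul_smul, hsm, hsm, hsm, hqz, hqx, hm1, hmxz, hqx, hqxz]
        intro p hp
        rcases hp with rfl | rfl | rfl | rfl | rfl | rfl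
        exacts [h0, o1, o2, o3, o4, o5]
    show ((Subgroup.centralizer (V : Set G)).subgroupOf N).index = 6
    rw [← hstab, MulAction.index_stabilizer, horb]
    have e1 : z ≠ x * z := fun e => hx1 (right_eq_mul.1 e)
    have e2 : x ≠ x * z := fun e => hz1 (left_eq_mul.1 e)
    rw [Set.ncard_insert_of_notMem, Set.ncard_insert_of_notMem, Set.ncard_insert_of_notMem, Set.ncard_insert_of_notMem,
      Set.ncard_insert_of_notMem, Set.ncard_singleton]
    all_goals simp [hne, Ne.symm hne, e1, e2, Ne.symm e1, Ne.symm e2, hz1, hx1]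
  · have hxZ : x ∉ Z := fun h => by
      rcases hZcases x h with e | e
      · exact hx1 e
      · exact hne e
    refine Cfsg.Agent.S5421.result Q hL1 hL2 hL3 x hxQ hxZ (orderOf_eq_prime (by rw [pow_two, hx2]) hx1) ?_
    intro w hw
    rcases hZcases w hw with rfl | rfl
    · exact one_mem _
    · have h := CfsgLib.Spor.LargeSymm.pCoreOf_conj m z (CfsgLib.Spor.LargeSymm.le_pCoreOf Q z hL1.1.1 hQC hN hxQ)
      rwa [hm1, hm2] at h

end Cfsg.Agent.S5422
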