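import Cfsg.Statements.S5427
import Cfsg.Agent.Spor.LargeSimple
import Cfsg.Agent.S5421
import Cfsg.Agent.S5422
import Cfsg.Agent.S4218
-- import your own Cfsg.Agent.* helpers here

set_option autoImplicit false
open Cfsg

namespace Cfsg.Agent.S5427

theorem extra_equiv {A B : Type*} [Group A] [Group B] {p : ℕ} (e : A ≃* B) (h : Cfsg.IsExtraspecial p B) : Cfsg.IsExtraspecial p A := by
  obtain ⟨⟨h1, h2, h3⟩, h4⟩ := h
  have hc : (Subgroup.center B).comap e.toMonoidHom = Subgroup.center A := by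
    ext a
    simp only [Subgroup.mem_comap, Subgroup.mem_center_iff]
    refine ⟨fun h b => e.injective (by rw [map_mul, map_mul]; exact h (e b)), fun h b => ?_⟩
    obtain ⟨b, rfl⟩ := e.surjective b
    show e b * e a = e a * e b
    rw [← map_mul, ← map_mul, h b]
  refine ⟨⟨h1.of_injective e.toMonoidHom e.injective, ?_, ?_⟩, ?_⟩
  · rw [← Cfsg.Agent.S4218.frattini_equiv e, h2, hc]
  · have hm : (commutator A).map e.toMonoidHom = commutator B := by
      rw [commutator_def, commutator_def, Subgroup.map_commutator, Subgroup.map_top_of_surjective _ e.surjective]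
    rw [← hc, ← h3, ← hm]
    exact (Subgroup.comap_map_eq_self_of_injective e.injective _).symm
  · rw [← hc, ← h4]
    exact Nat.card_congr (e.toEquiv.subtypeEquiv fun a => Iff.rfl)

/-- Let z be an involution of the finite group G whose centralizer C has generalized Fitting subgroup Q, an extraspecial 2-group of width at least 2 (order 2^(2w+1), w ≥ 2). Let K be a subgroup of G such that the subgroup U generated by the K-conjugates of z is abelian and C is generated by the C-conjugates of U. Suppose that either some K-conjugate of z other than z lies in Q, or some element u of U ∩ Q outside the subgroup generated by z has z in the largest normal 2-subgroup of its centralizer. Then G is simple and Q is a large extraspecial 2-subgroup of G. -/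
theorem result {G : Type*} [Group G] [Finite G] (z : G) (hz : orderOf z = 2) (Q : Subgroup G) (hQC : Q ≤ Subgroup.centralizer ({z} : Set G)) (hF : (Cfsg.generalizedFittingSubgroup ↥(Subgroup.centralizer ({z} : Set G))).map (Subgroup.centralizer ({z} : Set G)).subtype = Q) (hQ : Cfsg.IsExtraspecial 2 ↥Q) (w : ℕ) (hw : 2 ≤ w) (hcard : Nat.card ↥Q = 2 ^ (2 * w + 1)) (K U : Subgroup G) (hU : U = Subgroup.closure {x : G | ∃ k ∈ K, x = k * z * k⁻¹}) (hUab : IsMulCommutative ↥U) (hgen : Subgroup.closure {x : G | ∃ c ∈ Subgroup.centralizer ({z} : Set G), ∃ u ∈ U, x = c * u * c⁻¹} = Subgroup.centralizer ({z} : Set G)) (h3 : (∃ k ∈ K, k * z * k⁻¹ ∈ Q ∧ k * z * k⁻¹ ≠ z) ∨ ∃ u ∈ U ⊓ Q, u ∉ Subgroup.zpowers z ∧ (∃ hz' : z ∈ Subgroup.centralizer ({u} : Set G), (⟨z, hz'⟩ : ↥(Subgroup.centralizer ({u} : Set G))) ∈ Cfsg.pCore 2 ↥(Subgroup.centralizer ({u} : Set G)))) : IsSimpleGroup G ∧ Cfsg.IsLargeExtraspecial Q := by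
  classical
  subst hF
  set H := Subgroup.centralizer ({z} : Set G) with hH
  set Q0 := Cfsg.generalizedFittingSubgroup ↥H with hQ0
  have e : ↥Q0 ≃* ↥(Q0.map H.subtype) := Q0.equivMapOfInjective H.subtype H.subtype_injective
  haveI hQn : Q0.Normal := CfsgLib.Inv.genFitting_normal
  have hQ0E : Cfsg.IsExtraspecial 2 ↥Q0 := extra_equiv e hQ
  have hHmem : ∀ c, c ∈ H ↔ c * z = z * c := fun c => Subgroup.mem_centralizer_singleton_iff
  have hz1 : z ≠ 1 := fun h => by rw [h, orderOf_one] at hz; norm_num at hz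
  have hz2 : z * z = 1 := by rw [← pow_two, ← hz]; exact pow_orderOf_eq_one z
  set Q := Q0.map H.subtype with hQdef
  have hN : H ≤ Subgroup.normalizer (Q : Set G) := by
    intro c hc
    rw [Subgroup.mem_normalizer_iff]
    intro v
    constructor
    · rintro ⟨v', hv', rfl⟩
      exact ⟨⟨c, hc⟩ * v' * ⟨c, hc⟩⁻¹, hQn.conj_mem _ hv' _, rfl⟩
    · rintro ⟨v', hv', e'⟩
      refine ⟨⟨c, hc⟩⁻¹ * v' * ⟨c, hc⟩, by simpa using hQn.conj_mem _ hv' (⟨c, hc⟩⁻¹ : H), ?_⟩
      show c⁻¹ * v'.1 * c = v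
      rw [show v'.1 = c * v * c⁻¹ from e']; group
  have hcq : ∀ c : H, (∀ q ∈ Q0, q * c = c * q) → c ∈ Q0 := fun c hc => Cfsg.Agent.S1265.result (G := H) hc
  have hzQ : z ∈ Q := ⟨⟨z, (hHmem z).2 rfl⟩, hcq _ fun q _ => Subtype.ext ((hHmem q.1).1 q.2), rfl⟩
  have hzcomm : ∀ q ∈ Q, q * z = z * q := fun q hq => (hHmem q).1 (hQC hq)
  have hcenter : (Subgroup.center ↥Q).map Q.subtype = Subgroup.zpowers z := by
    have hzc : (⟨z, hzQ⟩ : Q) ∈ Subgroup.center ↥Q := Subgroup.mem_center_iff.2 fun q => Subtype.ext (hzcomm q.1 q.2)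
    refine (Subgroup.eq_of_le_of_card_ge (Subgroup.zpowers_le.2 (show z ∈ (Subgroup.center ↥Q).map Q.subtype from Subgroup.mem_map.2 ⟨_, hzc, rfl⟩)) ?_).symm
    rw [Subgroup.card_map_of_injective Q.subtype_injective, hQ.2, Nat.card_zpowers, hz]
  have hzpc : Subgroup.centralizer ((Subgroup.zpowers z : Subgroup G) : Set G) = H := by
    ext c
    refine ⟨fun h => (hHmem c).2 (h z (Subgroup.mem_zpowers z)).symm, fun h v hv => ?_⟩
    obtain ⟨k, rfl⟩ := hv
    exact (Commute.zpow_right ((hHmem c).1 h) k).symm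
  have hL2 : Subgroup.centralizer (Q : Set G) = (Subgroup.center ↥Q).map Q.subtype := by
    refine le_antisymm (fun c hc => ?_) ?_
    · have hcH : c ∈ H := (hHmem c).2 (hc z hzQ).symm
      have hcQ : (⟨c, hcH⟩ : H) ∈ Q0 := hcq _ fun q hq => Subtype.ext (hc q.1 ⟨q, hq, rfl⟩)
      exact ⟨⟨c, ⟨_, hcQ, rfl⟩⟩, Subgroup.mem_center_iff.2 fun q => Subtype.ext (hc q.1 q.2), rfl⟩
    · rintro _ ⟨c, hc, rfl⟩ q hq
      exact congrArg Subtype.val (Subgroup.mem_center_iff.1 hc ⟨q, hq⟩)
  have hL3 : Subgroup.centralizer (((Subgroup.center ↥Q).map Q.subtype : Subgroup G) : Set G) ≤ Subgroup.normalizer (Q : Set G) := by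
    rw [hcenter, hzpc]; exact hN
  have hzU : z ∈ U := hU ▸ Subgroup.subset_closure ⟨1, one_mem K, by simp⟩
  have hUH : U ≤ H := fun v hv => (hHmem v).2 (congrArg Subtype.val (hUab.is_comm.comm ⟨v, hv⟩ ⟨z, hzU⟩))
  have hlarge : Cfsg.IsLargeExtraspecial Q := by
    rcases h3 with ⟨k, -, hkQ, hkz⟩ | ⟨u, hu, huz, hzu, hzcore⟩
    · refine (Cfsg.Agent.S5422.result Q hQ hL2 hL3 w hw hcard k (fun hk => hkz ?_) ?_).2.2
      · rw [hcenter] at hk
        have h1 := (Subgroup.mem_normalizer_iff.1 hk z).1 (Subgroup.mem_zpowers z)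
        rw [mem_zpowers_iff_mem_range_orderOf, hz] at h1
        simp only [Finset.mem_image, Finset.mem_range] at h1
        obtain ⟨i, hi, e'⟩ := h1
        interval_cases i
        · exact absurd (conj_eq_one_iff.1 (e'.symm.trans (pow_zero z))) hz1
        · exact e'.symm.trans (pow_one z)
      · rw [hcenter]
        rintro _ ⟨v, hv, rfl⟩
        rw [SetLike.mem_coe, Subgroup.mem_zpowers_iff] at hv
        obtain ⟨i, rfl⟩ := hv
        rw [map_zpow]
        exact Q.zpow_mem hkQ i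
    · obtain ⟨huU, huQ⟩ := Subgroup.mem_inf.1 hu
      have hu2 : u * u = 1 := by
        rw [hU] at huU
        refine Subgroup.closure_induction (p := fun v _ => v * v = 1) ?_ ?_ ?_ ?_ huU
        · rintro v ⟨k, -, rfl⟩
          rw [show k * z * k⁻¹ * (k * z * k⁻¹) = k * (z * z) * k⁻¹ by group, hz2]; group
        · rw [one_mul]
        · intro a b ha hb iha ihb
          have hab : a * b = b * a := congrArg Subtype.val (hUab.is_comm.comm ⟨a, hU ▸ ha⟩ ⟨b, hU ▸ hb⟩)
          rw [show a * b * (a * b) = a * (b * a) * b by group, ← hab,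
            show a * (a * b) * b = a * a * (b * b) by group, iha, ihb, one_mul]
        · intro a _ iha
          rw [← mul_inv_rev, iha, inv_one]
      have hu1 : u ≠ 1 := fun e' => huz (e' ▸ one_mem _)
      refine Cfsg.Agent.S5421.result Q hQ hL2 hL3 u huQ (hcenter ▸ huz) (orderOf_eq_prime (by rw [pow_two, hu2]) hu1) ?_
      rw [hcenter, Subgroup.zpowers_le]
      exact ⟨⟨z, hzu⟩, hzcore, rfl⟩
  refine ⟨?_, hlarge⟩
  haveI : Nontrivial G := ⟨⟨z, 1, hz1⟩⟩
  refine ⟨fun N hNn => ?_⟩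
  haveI := hNn
  by_cases hev : Odd (Nat.card N)
  · exact Or.inl (hlarge.2.2.2 N hev fun v _ => by
      rw [Subgroup.normalizer_eq_top]; trivial)
  right
  haveI : Fact (Nat.Prime 2) := ⟨Nat.prime_two⟩
  obtain ⟨s, hs⟩ := exists_prime_orderOf_dvd_card' (G := N) 2 (by
    rw [Nat.not_odd_iff_even] at hev; exact hev.two_dvd)
  have ht : ∃ t ∈ N, z * t = t * z ∧ t ≠ 1 := by
    by_contra hall
    push Not at hall
    have hs2 : s.1 * s.1 = 1 := by
      have h := pow_orderOf_eq_one s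
      rw [hs, pow_two] at h
      exact congrArg Subtype.val h
    have hi := CfsgLib.Spor.LargeSimple.inverts hz2 N hall s.1 s.2
    rw [inv_eq_of_mul_eq_one_right hs2] at hi
    have h1 := hall s.1 s.2 (mul_inv_eq_iff_eq_mul.1 hi)
    rw [show s = 1 from Subtype.ext h1, orderOf_one] at hs
    norm_num at hs
  have hzN := CfsgLib.Spor.LargeSimple.z_mem z hz H hHmem Q0 hQ0.symm hQ0E N ht
  have hUN : U ≤ N := hU ▸ (Subgroup.closure_le _).2 (by rintro _ ⟨k, -, rfl⟩; exact hNn.conj_mem z hzN k)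
  refine CfsgLib.Spor.LargeSimple.top_of_le z hz H hHmem Q0 hQ0.symm hQ0E N fun c => ?_
  have hle : Subgroup.closure {v : G | ∃ a ∈ H, ∃ u ∈ U, v = a * u * a⁻¹} ≤ N :=
    (Subgroup.closure_le _).2 (by rintro _ ⟨a, -, u, hu, rfl⟩; exact hNn.conj_mem u (hUN hu) a)
  exact hle (hgen.symm ▸ c.2)

end Cfsg.Agent.S5427
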