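import Cfsg.Statements.S5423
import Cfsg.Agent.Spor.HeisenbergPack
-- import your own Cfsg.Agent.* helpers here

set_option autoImplicit false
open Cfsg

namespace Cfsg.Agent.S5423

open CfsgLib.Spor.HeisenbergTwo

open Matrix

/-- coordinates of the normal subgroup sending a given point to the first unit vector -/
theorem exists_coords {G : Type*} [Group G] [Finite G] {n : ℕ} (U : Subgroup G) (hU : Cfsg.IsElementaryAbelian 2 U)
    (hUcard : Nat.card ↥U = 2 ^ (n + 1)) (z : G) (hz : z ∈ U) (hz1 : z ≠ 1) :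
    ∃ ψ : ZMod 2 × (Fin n → ZMod 2) → G, Function.Injective ψ ∧ (∀ p, ψ p ∈ U) ∧ (∀ u ∈ U, ∃ p, ψ p = u) ∧
      (∀ p q, ψ (p + q) = ψ p * ψ q) ∧ ψ (1, 0) = z := by
  classical
  haveI : Fact (Nat.Prime 2) := ⟨Nat.prime_two⟩
  letI : CommGroup U := { (inferInstance : Group U) with mul_comm := fun a b => hU.1.is_comm.comm a b }
  letI : Module (ZMod 2) (Additive U) := AddCommGroup.zmodModule (n := 2) fun x => by
    show Additive.ofMul (Additive.toMul x ^ 2) = Additive.ofMul 1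
    rw [show Additive.toMul x ^ 2 = 1 from Subtype.ext (hU.2 _ (Additive.toMul x).2)]
  have hfr : Module.finrank (ZMod 2) (Additive U) = Module.finrank (ZMod 2) (Fin (n + 1) → ZMod 2) := by
    have h := Module.natCard_eq_pow_finrank (K := ZMod 2) (V := Additive U)
    rw [Nat.card_congr Additive.toMul, hUcard, Nat.card_zmod] at h
    rw [Module.finrank_fin_fun]
    exact (Nat.pow_right_injective (le_refl 2) h).symm
  let e : Additive U ≃ₗ[ZMod 2] (Fin (n + 1) → ZMod 2) := LinearEquiv.ofFinrankEq _ _ hfr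
  let x0 := e (Additive.ofMul (⟨z, hz⟩ : U))
  have hx0 : x0 ≠ 0 := fun h => hz1 (congrArg (fun t : Additive U => ((Additive.toMul t : U) : G))
    (e.map_eq_zero_iff.1 h))
  have he0 : (Pi.single 0 1 : Fin (n + 1) → ZMod 2) ≠ 0 := by simp
  obtain ⟨A, hA⟩ := gl_trans (Pi.single 0 1) x0 he0 hx0
  let φ : ZMod 2 × (Fin n → ZMod 2) → U := fun p => Additive.toMul (e.symm (A.1 *ᵥ Fin.cons p.1 p.2))
  have hAinj : Function.Injective (fun y => A.1 *ᵥ y) := fun a b h => by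
    have := congrArg (fun y => (A⁻¹).1 *ᵥ y) h
    simpa [Matrix.mulVec_mulVec] using this
  refine ⟨fun p => (φ p).1, fun p q h => ?_, fun p => (φ p).2, fun u hu => ?_, fun p q => ?_, ?_⟩
  · obtain ⟨h1, h2⟩ := Fin.cons_injective2 (hAinj (e.symm.injective (Additive.toMul.injective (Subtype.ext h))))
    exact Prod.ext h1 h2
  · let y := (A⁻¹).1 *ᵥ e (Additive.ofMul (⟨u, hu⟩ : U))
    refine ⟨(y 0, Fin.tail y), ?_⟩
    show ((Additive.toMul (e.symm (A.1 *ᵥ Fin.cons (y 0) (Fin.tail y))) : U) : G) = u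
    rw [Fin.cons_self_tail, Matrix.mulVec_mulVec, ← Units.val_mul, mul_inv_cancel, Units.val_one,
      Matrix.one_mulVec, LinearEquiv.symm_apply_apply]
    rfl
  · show ((Additive.toMul (e.symm (A.1 *ᵥ Fin.cons (p.1 + q.1) (p.2 + q.2))) : U) : G) = _
    rw [show (Fin.cons (p.1 + q.1) (p.2 + q.2) : Fin (n + 1) → ZMod 2) = Fin.cons p.1 p.2 + Fin.cons q.1 q.2 from
      by funext i; refine Fin.cases ?_ ?_ i <;> simp, Matrix.mulVec_add, map_add]
    rfl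
  · show ((Additive.toMul (e.symm (A.1 *ᵥ Fin.cons 1 0)) : U) : G) = z
    rw [show (Fin.cons 1 0 : Fin (n + 1) → ZMod 2) = Pi.single 0 1 from by
      funext i; refine Fin.cases ?_ ?_ i <;> simp [Fin.succ_ne_zero], hA, LinearEquiv.symm_apply_apply]
    rfl

/-- Let G be a finite group that is the split extension of an elementary abelian normal subgroup U of order 2^(n+1), n ≥ 1, by its full automorphism group: U has a complement M in G whose conjugation action on U is faithful and realizes every automorphism of U. Let Z be a subgroup of U of order 2 and Q the largest normal 2-subgroup of the centralizer C of Z. Then Q is extraspecial of order 2^(2n+1) with an elementary abelian subgroup of order 2^(n+1) (plus type), Q is a large extraspecial 2-subgroup of G, and C is the split extension of Q by the general linear group of degree n over the field with two elements. -/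
theorem result {G : Type*} [Group G] [Finite G] (n : ℕ) (hn : 1 ≤ n) (U M : Subgroup G) [U.Normal] (hU : Cfsg.IsElementaryAbelian 2 U) (hUcard : Nat.card ↥U = 2 ^ (n + 1)) (hUM : U ⊓ M = ⊥) (hUM' : U ⊔ M = ⊤) (hfaith : ∀ m ∈ M, (∀ u ∈ U, m * u * m⁻¹ = u) → m = 1) (hfull : ∀ φ : ↥U ≃* ↥U, ∃ m ∈ M, ∀ u : ↥U, ((φ u : ↥U) : G) = m * u * m⁻¹) (Z : Subgroup G) (hZU : Z ≤ U) (hZ : Nat.card ↥Z = 2) (Q : Subgroup G) (hQ : Q = (Cfsg.pCore 2 ↥(Subgroup.centralizer (Z : Set G))).map (Subgroup.centralizer (Z : Set G)).subtype) : Cfsg.IsExtraspecial 2 ↥Q ∧ Nat.card ↥Q = 2 ^ (2 * n + 1) ∧ (∃ E : Subgroup G, E ≤ Q ∧ Cfsg.IsElementaryAbelian 2 E ∧ Nat.card ↥E = 2 ^ (n + 1)) ∧ Cfsg.IsLargeExtraspecial Q ∧ ∃ K : Subgroup G, K ≤ Subgroup.centralizer (Z : Set G) ∧ Q ⊓ K = ⊥ ∧ Q ⊔ K = Subgroup.centralizer (Z : Set G) ∧ Nonempty (↥K ≃* Matrix.GeneralLinearGroup (Fin n) (ZMod 2)) := by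
  classical
  haveI : Fact (Nat.Prime 2) := ⟨Nat.prime_two⟩
  obtain ⟨zc, hzc1, hzu⟩ := (Nat.card_eq_two_iff' (1 : Z)).1 hZ
  have hz1 : (zc : G) ≠ 1 := fun e => hzc1 (Subtype.ext e)
  have hZcases : ∀ w ∈ Z, w = 1 ∨ w = zc.1 := fun w hw => by
    by_cases h : (⟨w, hw⟩ : Z) = 1
    · exact Or.inl (congrArg Subtype.val h)
    · exact Or.inr (congrArg Subtype.val (hzu ⟨w, hw⟩ h))
  obtain ⟨ψ, hψ, hψU, hψs, hψa, hψz⟩ := exists_coords U hU hUcard zc.1 (hZU zc.2) hz1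
  have hψ0 : ψ 0 = 1 := mul_eq_left.1 (by rw [← hψa, add_zero] : ψ 0 * ψ 0 = ψ 0)
  have hUn : U.Normal := inferInstance
  have hsplit : ∀ g : G, ∃ u ∈ U, ∃ m ∈ M, g = u * m := fun g => by
    have hg : g ∈ ((U ⊔ M : Subgroup G) : Set G) := by rw [hUM']; trivial
    rw [Subgroup.normal_mul U M] at hg
    obtain ⟨u, hu, m, hm, rfl⟩ := hg
    exact ⟨u, hu, m, hm, rfl⟩
  have huniq : ∀ m ∈ M, ∀ m' ∈ M, (∀ p, m * ψ p * m⁻¹ = m' * ψ p * m'⁻¹) → m = m' := fun m hm m' hm' h => by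
    refine (inv_mul_eq_one.1 (hfaith (m'⁻¹ * m) (mul_mem (inv_mem hm') hm) fun u hu => ?_)).symm
    obtain ⟨p, rfl⟩ := hψs u hu
    rw [show m'⁻¹ * m * ψ p * (m'⁻¹ * m)⁻¹ = m'⁻¹ * (m * ψ p * m⁻¹) * m' by group, h p]
    group
  let Ψ : Multiplicative (ZMod 2 × (Fin n → ZMod 2)) ≃* U := MulEquiv.ofBijective
    (MonoidHom.mk' (fun p => (⟨ψ p.toAdd, hψU _⟩ : U)) fun p q => Subtype.ext (hψa _ _))
    ⟨fun p q h => Multiplicative.toAdd.injective (hψ (congrArg Subtype.val h)),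
      fun u => ⟨Multiplicative.ofAdd (hψs u.1 u.2).choose, Subtype.ext (hψs u.1 u.2).choose_spec⟩⟩
  have hex : ∀ f : (ZMod 2 × (Fin n → ZMod 2)) ≃+ (ZMod 2 × (Fin n → ZMod 2)),
      ∃ m ∈ M, ∀ p, m * ψ p * m⁻¹ = ψ (f p) := fun f => by
    obtain ⟨m, hm, h⟩ := hfull (Ψ.symm.trans (f.toMultiplicative.trans Ψ))
    refine ⟨m, hm, fun p => ?_⟩
    refine (h ⟨ψ p, hψU p⟩).symm.trans ?_
    have h1 : Ψ.symm ⟨ψ p, hψU p⟩ = Multiplicative.ofAdd p := Ψ.symm_apply_eq.2 rfl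
    show ((Ψ (f.toMultiplicative (Ψ.symm ⟨ψ p, hψU p⟩)) : U) : G) = _
    rw [h1]
    rfl
  choose μ hμM hμ using hex
  let sh : (Fin n → ZMod 2) → (ZMod 2 × (Fin n → ZMod 2)) ≃+ (ZMod 2 × (Fin n → ZMod 2)) := fun a =>
    { toFun := fun p => (p.1 + a ⬝ᵥ p.2, p.2)
      invFun := fun p => (p.1 + a ⬝ᵥ p.2, p.2)
      left_inv := fun p => Prod.ext (by show p.1 + a ⬝ᵥ p.2 + a ⬝ᵥ p.2 = p.1
                                        rw [add_assoc, CharTwo.add_self_eq_zero, add_zero]) rfl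
      right_inv := fun p => Prod.ext (by show p.1 + a ⬝ᵥ p.2 + a ⬝ᵥ p.2 = p.1
                                         rw [add_assoc, CharTwo.add_self_eq_zero, add_zero]) rfl
      map_add' := fun p q => Prod.ext (by show p.1 + q.1 + a ⬝ᵥ (p.2 + q.2) = p.1 + a ⬝ᵥ p.2 + (q.1 + a ⬝ᵥ q.2)
                                          rw [dotProduct_add]; ring) rfl }
  let li : GL (Fin n) (ZMod 2) → (ZMod 2 × (Fin n → ZMod 2)) ≃+ (ZMod 2 × (Fin n → ZMod 2)) := fun g =>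
    { toFun := fun p => (p.1, g.1 *ᵥ p.2)
      invFun := fun p => (p.1, (g⁻¹).1 *ᵥ p.2)
      left_inv := fun p => by simp [Matrix.mulVec_mulVec]
      right_inv := fun p => by simp [Matrix.mulVec_mulVec]
      map_add' := fun p q => Prod.ext rfl (Matrix.mulVec_add g.1 p.2 q.2) }
  have hs : ∀ a p, μ (sh a) * ψ p * (μ (sh a))⁻¹ = ψ (p.1 + a ⬝ᵥ p.2, p.2) := fun a p => hμ _ p
  have hl : ∀ g p, μ (li g) * ψ p * (μ (li g))⁻¹ = ψ (p.1, g.1 *ᵥ p.2) := fun g p => hμ _ p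
  have hcomp : ∀ (m m' : G) (p : ZMod 2 × (Fin n → ZMod 2)), m * m' * ψ p * (m * m')⁻¹ = m * (m' * ψ p * m'⁻¹) * m⁻¹ :=
    fun m m' p => by group
  have hsh0 : μ (sh 0) = 1 := huniq _ (hμM _) _ (one_mem M) fun p => by rw [hs]; simp
  have hshadd : ∀ a b, μ (sh (a + b)) = μ (sh a) * μ (sh b) := fun a b =>
    huniq _ (hμM _) _ (mul_mem (hμM _) (hμM _)) fun p => by
      rw [hcomp, hs, hs, hs]
      simp only [add_dotProduct]
      congr 2
      ring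
  let ι : X n →* G :=
    { toFun := fun x => ψ (x.s, x.v) * μ (sh x.a)
      map_one' := by
        show ψ (0, 0) * μ (sh 0) = 1
        rw [hsh0, mul_one]; exact hψ0
      map_mul' := fun x y => by
        show ψ (x.s + y.s + x.a ⬝ᵥ y.v, x.v + y.v) * μ (sh (x.a + y.a)) = _
        rw [hshadd, show (x.s + y.s + x.a ⬝ᵥ y.v, x.v + y.v) = (x.s, x.v) + (y.s + x.a ⬝ᵥ y.v, y.v) from
          Prod.ext (add_assoc _ _ _) rfl, hψa, ← hs x.a (y.s, y.v)]
        group }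
  have hli1 : μ (li 1) = 1 := huniq _ (hμM _) _ (one_mem M) fun p => by rw [hl]; simp
  let κ : GL (Fin n) (ZMod 2) →* G :=
    { toFun := fun g => μ (li g)
      map_one' := hli1
      map_mul' := fun g h => huniq _ (hμM _) _ (mul_mem (hμM _) (hμM _)) fun p => by
        rw [hcomp, hl, hl, hl]; simp [Matrix.mulVec_mulVec] }
  have hdisj : ∀ u ∈ U, ∀ m ∈ M, ∀ u' ∈ U, ∀ m' ∈ M, u * m = u' * m' → u = u' ∧ m = m' := by
    intro u hu m hm u' hu' m' hm' e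
    have h1 : u'⁻¹ * u = m' * m⁻¹ := by
      rw [eq_mul_inv_iff_mul_eq, mul_assoc, e, inv_mul_cancel_left]
    have h2 : u'⁻¹ * u ∈ U ⊓ M := ⟨U.mul_mem (U.inv_mem hu') hu, (by rw [h1]; exact M.mul_mem hm' (M.inv_mem hm))⟩
    rw [hUM, Subgroup.mem_bot] at h2
    exact ⟨(inv_mul_eq_one.1 h2).symm, (mul_inv_eq_one.1 (h1.symm.trans h2)).symm⟩
  have hι : Function.Injective ι := fun x y e => by
    obtain ⟨h1, h2⟩ := hdisj _ (hψU (x.s, x.v)) _ (hμM _) _ (hψU (y.s, y.v)) _ (hμM _) e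
    have h3 := hψ h1
    refine X.ext (congrArg Prod.fst h3) (congrArg Prod.snd h3) (funext fun i => ?_)
    have h4 := hs x.a (0, Pi.single i 1)
    rw [h2, hs] at h4
    simpa using (congrArg Prod.fst (hψ h4)).symm
  have hκ : Function.Injective κ := fun g h e => by
    refine Units.ext (Matrix.ext_of_mulVec_single fun i => ?_)
    have h4 := hl g (0, Pi.single i 1)
    rw [show μ (li g) = μ (li h) from e, hl] at h4
    exact (congrArg Prod.snd (hψ h4)).symm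
  have hz0 : ι ⟨1, 0, 0⟩ = zc.1 := by
    show ψ (1, 0) * μ (sh 0) = _
    rw [hsh0, mul_one, hψz]
  have hC : ∀ c, c ∈ Subgroup.centralizer (Z : Set G) ↔ c * ι ⟨1, 0, 0⟩ = ι ⟨1, 0, 0⟩ * c := fun c => by
    rw [hz0]
    constructor
    · exact fun h => (Subgroup.mem_centralizer_iff.1 h _ zc.2).symm
    · intro h
      refine Subgroup.mem_centralizer_iff.2 fun w hw => ?_
      rcases hZcases w hw with rfl | rfl
      · rw [one_mul, mul_one]
      · exact h.symm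
  have hκC : ∀ g, κ g ∈ Subgroup.centralizer (Z : Set G) := fun g => (hC _).2 (by
    rw [hz0, ← hψz]
    refine mul_inv_eq_iff_eq_mul.1 ?_
    show μ (li g) * ψ (1, 0) * (μ (li g))⁻¹ = _
    rw [hl]; simp)
  have hfix : ∀ m ∈ M, m * zc.1 = zc.1 * m → ∃ (a : Fin n → ZMod 2) (g : Matrix (Fin n) (Fin n) (ZMod 2)),
      ∀ p, m * ψ p * m⁻¹ = ψ (p.1 + a ⬝ᵥ p.2, g *ᵥ p.2) := by
    intro m hm hmz
    choose f hf using fun p => hψs _ (hUn.conj_mem _ (hψU p) m)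
    have hfa : ∀ p q, f (p + q) = f p + f q := fun p q => hψ (by rw [hψa, hf, hf, hf, hψa]; group)
    let L : (Fin n → ZMod 2) →ₗ[ZMod 2] ZMod 2 × (Fin n → ZMod 2) := AddMonoidHom.toZModLinearMap 2
      (AddMonoidHom.mk' (fun v => f (0, v)) fun v w => by
        rw [show ((0 : ZMod 2), v + w) = (0, v) + (0, w) from Prod.ext (add_zero 0).symm rfl]; exact hfa _ _)
    let a : Fin n → ZMod 2 := fun i => (L (Pi.single i 1)).1
    have ha : ∀ v, (L v).1 = a ⬝ᵥ v := fun v => by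
      conv_lhs => rw [← Finset.univ_sum_single v]
      rw [map_sum, Prod.fst_sum, dotProduct]
      refine Finset.sum_congr rfl fun i _ => ?_
      rw [show (Pi.single i (v i) : Fin n → ZMod 2) = v i • (Pi.single i 1) from by rw [← Pi.single_smul, smul_eq_mul, mul_one], map_smul]
      exact mul_comm _ _
    refine ⟨a, LinearMap.toMatrix' ((LinearMap.snd (ZMod 2) (ZMod 2) (Fin n → ZMod 2)).comp L), fun p => ?_⟩
    have h0 : f (p.1, 0) = (p.1, 0) := by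
      rcases zmod2 p.1 with h | h
      · rw [h]; exact hψ (by rw [hf]; rw [show ((0 : ZMod 2), (0 : Fin n → ZMod 2)) = 0 from rfl, hψ0]; group)
      · rw [h]; exact hψ (by rw [hf, hψz, hmz, mul_inv_cancel_right])
    rw [← hf p]
    congr 1
    rw [show p = (p.1, 0) + (0, p.2) from Prod.ext (add_zero _).symm (zero_add _).symm, hfa, h0,
      LinearMap.toMatrix'_mulVec]
    refine Prod.ext ?_ ?_
    · show p.1 + (L p.2).1 = p.1 + 0 + a ⬝ᵥ (0 + p.2)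
      rw [ha, add_zero, zero_add]
    · show (0 : Fin n → ZMod 2) + (L p.2).2 = (L (0 + p.2)).2
      simp only [zero_add]
  have hdec : ∀ c ∈ Subgroup.centralizer (Z : Set G), ∃ x g, c = ι x * κ g := by
    intro c hc
    obtain ⟨u, hu, m, hm, rfl⟩ := hsplit c
    have hmz : m * zc.1 = zc.1 * m := by
      have h1 := Subgroup.mem_centralizer_iff.1 hc _ zc.2
      have h2 : (u : G) * zc.1 = zc.1 * u := congrArg Subtype.val (hU.1.is_comm.comm ⟨u, hu⟩ ⟨_, hZU zc.2⟩)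
      apply mul_left_cancel (a := u)
      rw [← mul_assoc, ← mul_assoc, h2, mul_assoc zc.1 u m, h1]
    obtain ⟨a, g, hag⟩ := hfix m hm hmz
    obtain ⟨a', g', hag'⟩ := hfix m⁻¹ (inv_mem hm) (by
      rw [inv_mul_eq_iff_eq_mul, ← mul_assoc, hmz, mul_inv_cancel_right])
    have hgg : g' * g = 1 := Matrix.ext_of_mulVec_single fun i => by
      have h1 := hag' (0 + a ⬝ᵥ (Pi.single i 1), g *ᵥ Pi.single i 1)
      rw [← hag (0, Pi.single i 1)] at h1
      rw [show m⁻¹ * (m * ψ (0, Pi.single i 1) * m⁻¹) * m⁻¹⁻¹ = ψ (0, Pi.single i 1) by group] at h1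
      rw [← Matrix.mulVec_mulVec, Matrix.one_mulVec]
      exact (congrArg Prod.snd (hψ h1)).symm
    let g1 : GL (Fin n) (ZMod 2) := ⟨g, g', mul_eq_one_comm.1 hgg, hgg⟩
    obtain ⟨p, rfl⟩ := hψs u hu
    refine ⟨⟨p.1, p.2, a ᵥ* g'⟩, g1, ?_⟩
    show ψ p * m = ψ (p.1, p.2) * μ (sh (a ᵥ* g')) * μ (li g1)
    rw [Prod.mk.eta, mul_assoc]
    refine congrArg _ (huniq m hm _ (mul_mem (hμM _) (hμM _)) fun q => ?_)
    rw [hcomp, hl, hs, hag]
    show ψ (q.1 + a ⬝ᵥ q.2, g *ᵥ q.2) = ψ (q.1 + (a ᵥ* g') ⬝ᵥ (g *ᵥ q.2), g *ᵥ q.2)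
    rw [Matrix.dotProduct_mulVec, Matrix.vecMul_vecMul, hgg, Matrix.vecMul_one]
  have hconj : ∀ g x, ∃ y, κ g * ι x * (κ g)⁻¹ = ι y ∧
      y.v = (((MonoidHom.id (GL (Fin n) (ZMod 2))) g : GL (Fin n) (ZMod 2)) : Matrix (Fin n) (Fin n) (ZMod 2)) *ᵥ x.v := by
    intro g x
    refine ⟨⟨x.s, g.1 *ᵥ x.v, x.a ᵥ* (g⁻¹).1⟩, ?_, rfl⟩
    show μ (li g) * (ψ (x.s, x.v) * μ (sh x.a)) * (μ (li g))⁻¹ = ψ (x.s, g.1 *ᵥ x.v) * μ (sh (x.a ᵥ* (g⁻¹).1))
    rw [show μ (li g) * (ψ (x.s, x.v) * μ (sh x.a)) * (μ (li g))⁻¹ =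
      μ (li g) * ψ (x.s, x.v) * (μ (li g))⁻¹ * (μ (li g) * μ (sh x.a) * (μ (li g))⁻¹) by group, hl]
    refine congrArg _ (huniq _ (mul_mem (mul_mem (hμM _) (hμM _)) (inv_mem (hμM _))) _ (hμM _) fun p => ?_)
    obtain ⟨q, rfl⟩ := (li g).surjective p
    rw [hs, ← hμ (li g) q, show μ (li g) * μ (sh x.a) * (μ (li g))⁻¹ * (μ (li g) * ψ q * (μ (li g))⁻¹) *
      (μ (li g) * μ (sh x.a) * (μ (li g))⁻¹)⁻¹ = μ (li g) * (μ (sh x.a) * ψ q * (μ (sh x.a))⁻¹) * (μ (li g))⁻¹ by group,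
      hs, hl]
    show ψ (q.1 + x.a ⬝ᵥ q.2, g.1 *ᵥ q.2) = ψ (q.1 + (x.a ᵥ* (g⁻¹).1) ⬝ᵥ (g.1 *ᵥ q.2), g.1 *ᵥ q.2)
    rw [Matrix.dotProduct_mulVec, Matrix.vecMul_vecMul, ← Units.val_mul, inv_mul_cancel, Units.val_one, Matrix.vecMul_one]
  obtain ⟨hQr, hex', hcard, hE, hL2, hL3, -, hK⟩ := pack hn ι hι κ hκ (MonoidHom.id _) (fun _ _ h => h)
    (fun x y hx hy => gl_trans x y hx hy) _ hC hκC hdec hconj Q hQ
  refine ⟨hex', hcard, hE, ⟨hex', hL2, hL3, fun K hodd hK' => ?_⟩, hK⟩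
  have hUQ : U ≤ Q := fun u hu => by
    obtain ⟨p, rfl⟩ := hψs u hu
    rw [hQr]
    exact ⟨⟨p.1, p.2, 0⟩, by show ψ (p.1, p.2) * μ (sh 0) = _; rw [hsh0, mul_one]⟩
  have hUK : ∀ x ∈ U, x ∈ K → x = 1 := fun x hxU hxK => by
    have h1 : orderOf x ∣ 2 := orderOf_dvd_of_pow_eq_one (hU.2 x hxU)
    have h2 : orderOf x ∣ Nat.card K := Subgroup.orderOf_dvd_natCard K hxK
    rcases (Nat.dvd_prime Nat.prime_two).1 h1 with h | h
    · exact orderOf_eq_one_iff.1 h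
    · rw [h] at h2; exact absurd h2 hodd.not_two_dvd_nat
  refine (Subgroup.eq_bot_iff_forall _).2 fun k hk => ?_
  have hcen : ∀ u ∈ U, k * u * k⁻¹ = u := fun u hu => by
    have h1 : k * u * k⁻¹ * u⁻¹ = 1 := hUK _ (mul_mem (hUn.conj_mem u hu k) (inv_mem hu)) (by
      rw [show k * u * k⁻¹ * u⁻¹ = k * (u * k⁻¹ * u⁻¹) by group]
      exact mul_mem hk ((Subgroup.mem_normalizer_iff.1 (hK' (hUQ hu)) k⁻¹).1 (inv_mem hk)))
    exact mul_inv_eq_one.1 h1
  obtain ⟨u, hu, m, hm, rfl⟩ := hsplit k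
  have hm1 : m = 1 := hfaith m hm fun v hv => by
    have h1 := hcen v hv
    have h2 : u * v = v * u := congrArg Subtype.val (hU.1.is_comm.comm ⟨u, hu⟩ ⟨v, hv⟩)
    calc m * v * m⁻¹ = u⁻¹ * (u * m * v * (u * m)⁻¹) * u := by group
      _ = v := by rw [h1, mul_assoc, ← h2, inv_mul_cancel_left]
  subst hm1
  rw [mul_one] at hk ⊢
  exact hUK u hu hk

end Cfsg.Agent.S5423
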