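import Cfsg.Statements.S5424
import Cfsg.Agent.Spor.HeisenbergPack
import Cfsg.Agent.S5422
-- import your own Cfsg.Agent.* helpers here

set_option autoImplicit false
open Cfsg

namespace Cfsg.Agent.S5424

open CfsgLib.Spor.HeisenbergTwo

open Matrix

/-- the block matrix `[[1,s,a],[0,1,0],[0,v,g]]` -/
def blk {n : ℕ} (s : ZMod 2) (v a : Fin n → ZMod 2) (g : Matrix (Fin n) (Fin n) (ZMod 2)) :
    Matrix (Fin (n + 2)) (Fin (n + 2)) (ZMod 2) :=
  Matrix.of (Fin.cons (Fin.cons 1 (Fin.cons s a))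
    (Fin.cons (Fin.cons 0 (Fin.cons 1 0)) (fun i => Fin.cons 0 (Fin.cons (v i) (g i)))))

theorem blk_mul {n : ℕ} (s s' : ZMod 2) (v v' a a' : Fin n → ZMod 2) (g g' : Matrix (Fin n) (Fin n) (ZMod 2)) :
    blk s v a g * blk s' v' a' g' = blk (s + s' + a ⬝ᵥ v') (v + g *ᵥ v') (a' + a ᵥ* g') (g * g') := by
  ext i j
  refine Fin.cases ?_ (Fin.cases ?_ ?_) i <;> refine Fin.cases ?_ (Fin.cases ?_ ?_) j <;>
    simp [blk, Matrix.mul_apply, Fin.sum_univ_succ, dotProduct, Matrix.mulVec, Matrix.vecMul] <;>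
    ring

theorem blk_one {n : ℕ} : blk (n := n) 0 0 0 1 = 1 := by
  ext i j
  refine Fin.cases ?_ (Fin.cases ?_ ?_) i <;> refine Fin.cases ?_ (Fin.cases ?_ ?_) j <;>
    simp [blk, Matrix.one_apply, Fin.ext_iff]

theorem blk_inj {n : ℕ} {s s' : ZMod 2} {v v' a a' : Fin n → ZMod 2} {g g' : Matrix (Fin n) (Fin n) (ZMod 2)}
    (h : blk s v a g = blk s' v' a' g') : s = s' ∧ v = v' ∧ a = a' ∧ g = g' := by
  refine ⟨?_, funext fun i => ?_, funext fun i => ?_, Matrix.ext fun i j => ?_⟩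
  · simpa [blk] using congrFun (congrFun h (0 : Fin (n + 2))) (Fin.succ 0)
  · simpa [blk] using congrFun (congrFun h i.succ.succ) (Fin.succ 0)
  · simpa [blk] using congrFun (congrFun h (0 : Fin (n + 2))) i.succ.succ
  · simpa [blk] using congrFun (congrFun h i.succ.succ) j.succ.succ

theorem det_one_of_right_inv {m : Type*} [Fintype m] [DecidableEq m] {A B : Matrix m m (ZMod 2)}
    (h : A * B = 1) : A.det = 1 := by
  have h1 : A.det * B.det = 1 := by rw [← Matrix.det_mul, h, Matrix.det_one]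
  rcases CfsgLib.Spor.HeisenbergTwo.zmod2 A.det with h0 | h0
  · rw [h0, zero_mul] at h1; exact absurd h1 (by decide)
  · exact h0

theorem blk_det {n : ℕ} (s : ZMod 2) (v a : Fin n → ZMod 2) (g : Matrix (Fin n) (Fin n) (ZMod 2))
    (hg : g.det = 1) : (blk s v a g).det = 1 := by
  have hu : g * g⁻¹ = 1 := Matrix.mul_nonsing_inv _ (by rw [hg]; exact isUnit_one)
  refine det_one_of_right_inv (B := blk (-(s + a ⬝ᵥ (-(g⁻¹ *ᵥ v)))) (-(g⁻¹ *ᵥ v)) (-(a ᵥ* g⁻¹)) g⁻¹) ?_
  rw [blk_mul, hu, Matrix.mulVec_neg, Matrix.mulVec_mulVec, hu, Matrix.one_mulVec, ← blk_one]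
  congr 1
  · ring
  · exact add_neg_cancel v
  · exact neg_add_cancel _

theorem blk_E {n : ℕ} : blk (n := n) 1 0 0 1 = Matrix.transvection 0 1 1 := by
  ext i j
  refine Fin.cases ?_ (Fin.cases ?_ ?_) i <;> refine Fin.cases ?_ (Fin.cases ?_ ?_) j <;>
    simp [blk, Matrix.transvection, Matrix.single_apply, Matrix.one_apply, Fin.ext_iff]

theorem exists_blk {n : ℕ} (c : Matrix (Fin (n + 2)) (Fin (n + 2)) (ZMod 2)) (hd : c.det = 1)
    (h : c * Matrix.transvection 0 1 1 = Matrix.transvection 0 1 1 * c) :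
    ∃ s v a g, c = blk s v a g := by
  have h' : c * Matrix.single 0 1 (1 : ZMod 2) = Matrix.single 0 1 (1 : ZMod 2) * c := by
    simpa [Matrix.transvection, mul_add, add_mul] using h
  have hcol : ∀ i, i ≠ 0 → c i 0 = 0 := fun i hi => by
    have := congrFun (congrFun h' i) 1
    rw [Matrix.mul_single_apply_same, Matrix.single_mul_apply_of_ne _ _ _ _ _ hi, mul_one] at this
    exact this
  have h00 : c 0 0 = 1 := by
    rcases CfsgLib.Spor.HeisenbergTwo.zmod2 (c 0 0) with h0 | h0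
    · have : c.det = 0 := Matrix.det_eq_zero_of_column_eq_zero 0 fun i => by
        by_cases hi : i = 0
        · rw [hi, h0]
        · exact hcol i hi
      rw [hd] at this; exact absurd this (by decide)
    · exact h0
  have h11 : c 1 1 = 1 := by
    have := congrFun (congrFun h' 0) 1
    rw [Matrix.mul_single_apply_same, Matrix.single_mul_apply_same, one_mul, mul_one] at this
    rw [← this, h00]
  have hrow : ∀ j, j ≠ 1 → c 1 j = 0 := fun j hj => by
    have := congrFun (congrFun h' 0) j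
    rw [Matrix.mul_single_apply_of_ne _ _ _ _ _ hj, Matrix.single_mul_apply_same, one_mul] at this
    exact this.symm
  refine ⟨c 0 1, fun i => c i.succ.succ 1, fun i => c 0 i.succ.succ, fun i j => c i.succ.succ j.succ.succ, ?_⟩
  ext i j
  refine Fin.cases ?_ (Fin.cases ?_ ?_) i <;> refine Fin.cases ?_ (Fin.cases ?_ ?_) j
  · exact h00
  · rfl
  · exact fun j => rfl
  · exact hcol _ (Fin.succ_ne_zero _)
  · exact h11
  · exact fun j => hrow _ (by simp [Fin.ext_iff])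
  · exact fun i => hcol _ (Fin.succ_ne_zero _)
  · exact fun i => rfl
  · exact fun i j => rfl

/-- Let G be the special linear group of degree n + 2 over the field with two elements, n ≥ 2, let z be a transvection, and let Q be the largest normal 2-subgroup of the centralizer C of z. Then Q is extraspecial of order 2^(2n+1) with an elementary abelian subgroup of order 2^(n+1) (plus type), Q is a large extraspecial 2-subgroup of G, and C is the split extension of Q by the special linear group of degree n over the field with two elements. -/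
theorem result (n : ℕ) (hn : 2 ≤ n) (z : Matrix.SpecialLinearGroup (Fin (n + 2)) (ZMod 2)) (hz : (z : Matrix (Fin (n + 2)) (Fin (n + 2)) (ZMod 2)) = Matrix.transvection 0 1 1) (Q : Subgroup (Matrix.SpecialLinearGroup (Fin (n + 2)) (ZMod 2))) (hQ : Q = (Cfsg.pCore 2 ↥(Subgroup.centralizer ({z} : Set (Matrix.SpecialLinearGroup (Fin (n + 2)) (ZMod 2))))).map (Subgroup.centralizer ({z} : Set (Matrix.SpecialLinearGroup (Fin (n + 2)) (ZMod 2)))).subtype) : Cfsg.IsExtraspecial 2 ↥Q ∧ Nat.card ↥Q = 2 ^ (2 * n + 1) ∧ (∃ E : Subgroup (Matrix.SpecialLinearGroup (Fin (n + 2)) (ZMod 2)), E ≤ Q ∧ Cfsg.IsElementaryAbelian 2 E ∧ Nat.card ↥E = 2 ^ (n + 1)) ∧ Cfsg.IsLargeExtraspecial Q ∧ ∃ K : Subgroup (Matrix.SpecialLinearGroup (Fin (n + 2)) (ZMod 2)), K ≤ Subgroup.centralizer ({z} : Set (Matrix.SpecialLinearGroup (Fin (n + 2)) (ZMod 2))) ∧ Q ⊓ K = ⊥ ∧ Q ⊔ K = Subgroup.centralizer ({z} : Set (Matrix.SpecialLinearGroup (Fin (n + 2)) (ZMod 2))) ∧ Nonempty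 (↥K ≃* Matrix.SpecialLinearGroup (Fin n) (ZMod 2)) := by
  classical
  let H := Matrix.SpecialLinearGroup (Fin n) (ZMod 2)
  let G := Matrix.SpecialLinearGroup (Fin (n + 2)) (ZMod 2)
  have hG : ∀ a b : G, (a : Matrix (Fin (n + 2)) (Fin (n + 2)) (ZMod 2)) = b → a = b := fun a b => Subtype.ext
  let ι : X n →* G :=
    { toFun := fun x => ⟨blk x.s x.v x.a 1, blk_det _ _ _ _ Matrix.det_one⟩
      map_one' := hG _ _ blk_one
      map_mul' := fun x y => hG _ _ (by
        show blk (x * y).s (x * y).v (x * y).a 1 = blk x.s x.v x.a 1 * blk y.s y.v y.a 1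
        rw [blk_mul, Matrix.one_mulVec, Matrix.vecMul_one, one_mul, add_comm y.a x.a]; rfl) }
  let κ : H →* G :=
    { toFun := fun g => ⟨blk 0 0 0 g.1, blk_det _ _ _ _ g.2⟩
      map_one' := hG _ _ blk_one
      map_mul' := fun x y => hG _ _ (by
        show blk 0 0 0 (x.1 * y.1) = blk 0 0 0 x.1 * blk 0 0 0 y.1
        rw [blk_mul]; simp) }
  have hι : Function.Injective ι := fun x y e => by
    obtain ⟨h1, h2, h3, -⟩ := blk_inj (congrArg Subtype.val e)
    exact X.ext h1 h2 h3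
  have hκ : Function.Injective κ := fun x y e => Subtype.ext (blk_inj (congrArg Subtype.val e)).2.2.2
  have hz0 : ι ⟨1, 0, 0⟩ = z := hG _ _ (blk_E.trans hz.symm)
  let ρ : H →* GL (Fin n) (ZMod 2) := Matrix.SpecialLinearGroup.toGL
  have hC : ∀ c, c ∈ Subgroup.centralizer ({z} : Set G) ↔ c * ι ⟨1, 0, 0⟩ = ι ⟨1, 0, 0⟩ * c := fun c => by
    rw [hz0]; exact Subgroup.mem_centralizer_singleton_iff
  have hκC : ∀ h, κ h ∈ Subgroup.centralizer ({z} : Set G) := fun h => (hC _).2 (hG _ _ (by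
    show blk 0 0 0 h.1 * blk 1 0 0 1 = blk 1 0 0 1 * blk 0 0 0 h.1
    rw [blk_mul, blk_mul]; simp))
  have hdec : ∀ c ∈ Subgroup.centralizer ({z} : Set G), ∃ x h, c = ι x * κ h := by
    intro c hc
    have key : ∀ d : G, d ∈ Subgroup.centralizer ({z} : Set G) → ∃ s v a g, d.1 = blk s v a g := fun d hd =>
      exists_blk d.1 d.2 (by
        have : (d * z : G).1 = (z * d : G).1 := congrArg (fun t : G => t.1) (Subgroup.mem_centralizer_singleton_iff.1 hd)
        rw [Matrix.SpecialLinearGroup.coe_mul, Matrix.SpecialLinearGroup.coe_mul, hz] at this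
        exact this)
    obtain ⟨s, v, a, g, e⟩ := key c hc
    obtain ⟨s', v', a', g', e'⟩ := key c⁻¹ (inv_mem hc)
    have hgg : g * g' = 1 := by
      have h1 : c.1 * (c⁻¹).1 = 1 := by rw [← Matrix.SpecialLinearGroup.coe_mul, mul_inv_cancel]; rfl
      rw [e, e', blk_mul, ← blk_one] at h1
      exact (blk_inj h1).2.2.2
    refine ⟨⟨s, v, a ᵥ* g'⟩, ⟨g, det_one_of_right_inv hgg⟩, hG _ _ ?_⟩
    show c.1 = blk s v (a ᵥ* g') 1 * blk 0 0 0 g
    rw [e, blk_mul]
    simp [Matrix.vecMul_vecMul, mul_eq_one_comm.1 hgg]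
  have hconj : ∀ h x, ∃ y, κ h * ι x * (κ h)⁻¹ = ι y ∧
      y.v = ((ρ h : GL (Fin n) (ZMod 2)) : Matrix (Fin n) (Fin n) (ZMod 2)) *ᵥ x.v := fun h x => by
    refine ⟨⟨x.s, h.1 *ᵥ x.v, x.a ᵥ* (h⁻¹ : H).1⟩, ?_, rfl⟩
    rw [mul_inv_eq_iff_eq_mul]
    refine hG _ _ ?_
    show blk 0 0 0 h.1 * blk x.s x.v x.a 1 = blk x.s (h.1 *ᵥ x.v) (x.a ᵥ* (h⁻¹ : H).1) 1 * blk 0 0 0 h.1
    rw [blk_mul, blk_mul]
    have h1 : (h⁻¹ : H).1 * h.1 = 1 := by rw [← Matrix.SpecialLinearGroup.coe_mul, inv_mul_cancel]; rfl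
    simp [Matrix.vecMul_vecMul, h1]
  have htr : ∀ x y : Fin n → ZMod 2, x ≠ 0 → y ≠ 0 →
      ∃ h, ((ρ h : GL (Fin n) (ZMod 2)) : Matrix (Fin n) (Fin n) (ZMod 2)) *ᵥ x = y := fun x y hx hy => by
    obtain ⟨g, hg⟩ := gl_trans x y hx hy
    exact ⟨⟨g.1, det_one_of_right_inv (g.mul_inv)⟩, hg⟩
  obtain ⟨hQr, hex, hcard, hE, hL2, hL3, hcen, hK⟩ := pack (by omega : 1 ≤ n) ι hι κ hκ ρ
    Matrix.SpecialLinearGroup.toGL_injective htr _ hC hκC hdec hconj Q hQ
  refine ⟨hex, hcard, hE, ?_, hK⟩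
  let i0 : Fin n := ⟨0, by omega⟩
  have hne : (1 : Fin (n + 2)) ≠ i0.succ.succ := by simp [Fin.ext_iff]
  let g : G := ⟨Matrix.transvection 1 i0.succ.succ 1, Matrix.det_transvection_of_ne _ _ hne _⟩
  have hg0 : g.1 * blk 1 0 0 1 = blk 1 0 (Pi.single i0 1) 1 * g.1 := by
    show Matrix.transvection 1 i0.succ.succ 1 * blk 1 0 0 1 = blk 1 0 (Pi.single i0 1) 1 * Matrix.transvection 1 i0.succ.succ 1
    have hB : blk (n := n) 1 0 (Pi.single i0 1) 1 =
        1 + Matrix.single 0 1 1 + Matrix.single 0 i0.succ.succ 1 := by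
      ext i j
      refine Fin.cases ?_ (Fin.cases ?_ ?_) i <;> refine Fin.cases ?_ (Fin.cases ?_ ?_) j <;>
        simp [blk, Matrix.single_apply, Fin.ext_iff, Pi.single_apply, Matrix.one_apply, eq_comm]
    have hE : ∀ M : Matrix (Fin (n + 2)) (Fin (n + 2)) (ZMod 2), M + M = 0 := fun M => by
      ext i j; exact CharTwo.add_self_eq_zero _
    rw [blk_E, hB, Matrix.transvection, Matrix.transvection]
    simp only [add_mul, mul_add, one_mul, mul_one]
    rw [Matrix.single_mul_single_of_ne (h := Fin.succ_ne_zero _), Matrix.single_mul_single_same,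
      Matrix.single_mul_single_of_ne (h := hne.symm), mul_one]
    linear_combination (norm := abel) -(hE (Matrix.single 0 i0.succ.succ 1))
  have hgz : g * z * g⁻¹ = ι ⟨1, 0, Pi.single i0 1⟩ := by
    rw [mul_inv_eq_iff_eq_mul, ← hz0]
    exact hG _ _ hg0
  have hnz : ι ⟨1, 0, Pi.single i0 1⟩ ≠ z := fun e => by
    rw [← hz0] at e
    have := congrArg X.a (hι e)
    simp at this
  refine (Cfsg.Agent.S5422.result Q hex hL2 hL3 n hn hcard g (fun hg => ?_) ?_).2.2
  · have h1 : g * z * g⁻¹ ∈ (Subgroup.center ↥Q).map Q.subtype :=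
      (Subgroup.mem_normalizer_iff.1 hg z).1 ((hcen z).2 (Or.inr hz0.symm))
    rcases (hcen _).1 h1 with h | h
    · rw [hgz] at h
      have := congrArg X.s (hι (h.trans (map_one ι).symm))
      exact one_ne_zero this
    · rw [hgz, hz0] at h; exact hnz h
  · rintro _ ⟨w, hw, rfl⟩
    show g * w * g⁻¹ ∈ Q
    rcases (hcen w).1 hw with rfl | rfl
    · rw [mul_one, mul_inv_cancel]; exact one_mem Q
    · rw [hz0, hgz, hQr]; exact ⟨_, rfl⟩

end Cfsg.Agent.S5424
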