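import Cfsg.Statements.S5425
import Cfsg.Agent.Spor.HeisenbergPack
import Cfsg.Agent.S5422
import Cfsg.Agent.Spor.M24Classes
import Cfsg.Agent.Spor.M24Elems
-- import your own Cfsg.Agent.* helpers here

set_option autoImplicit false
open Cfsg

namespace Cfsg.Agent.S5425

open CfsgLib.Spor CfsgLib.Spor.M24Elems CfsgLib.Spor.HeisenbergTwo Matrix
open scoped Pointwise

/-- the images of the coordinate group -/
def tabX : List ℕ := [984818244535754528103549039458486304, 29340620570662517957029049942508631, 961438956620049001677386430328277024, 5989235823820259689967313196876887, 960073776451580533733545039064925248, 4758268162650955318617256527333431, 974338656214362718975024378963690560, 19051021382979914925445836698683447, 7287309987501919540748045868599351, 962737030784108451051703854020691008, 22850249688695149930605711816296503, 978327873653409370553588877167592512, 21647169741103660076458455793304663, 976934804572108675034832543981668384, 17739009920735306807106826245014615,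 973054518210042674313238929715267616, 486097500171878969200658184442851912, 361278483128677126285511718525323659, 337914413210138982725918244804708747, 462730897427869328067027312287625800, 461231465138020439924039454668048776, 336817697670350098553714654491390539, 351097783050370380306856625308840523, 475509012741111303019205403920714120, 339212487373933978648356531954266699, 464028971591815441369687181502204296, 479607129289647147722354910909876616, 354788112246596422187431491641193035, 353693931408380787945104455352109451, 478105161098970596591778357990044232, 474212206896369242990967890547094088, 349798439428547787554969678980368779, 901819338944596510285261892401338611, 817802889969085079623560730113055957, 878446383092267492133055712960387315, 794445173158866313082542563678166229, 794071573058345120168229725992065269, 876223835363150912732177102713593043, 808357981836048305899462402570852597, 890495059568558871849252346204921043, 795743247322623530722741949272955125, 879744457256251383717954483729734867,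 811312519087042153807718605919787253, 895328968062326910524720516177501395, 893091207926380385842590087319296243, 810954130194096493116945445569076437, 889204577121537495378341550411520243, 807052314816505029590248738662161621, 652081062664116154403619892816357002, 444268879119136185254262376902021423, 420902276376071018289750373801873711, 628716992744633536674907550040663690, 419727045727230498915502860343649935, 627296075563836283733963615565992234, 641576160944801037854839580071711018, 434004593329376889642934815908046479, 422200350539072657423291939823298191, 630015066909373006766464140383375658, 645590691781090976136420231015223594, 437778508237848837945078538286048911, 644172309301866973125352850564753034, 436600741688180655583242329527603503, 432707787484634829614697868396384559, 640276817322978445102952067881281162, 277879205445780192332601629780072039, 319380864250660316483287072825790118, 254517678256233849317109261406787175, 296011718777658874805555095323233958, 253175276184488231866430830135692967,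 294757973019766719941042078661432934, 267457889437917625128272204754210471, 309032992749448471527508624113030758, 255815752419877729948932089056874151, 297309792941756103398830424037283430, 271388834563850603525137661259337383, 312890493368277379714367540929418854, 270054037796079148921801033336936039, 311629141107156648944800579642904230, 266156017942534804712405654949123687, 307738714778266639163250714216025766, 402890521618351205277973479654800724, 860084954839819860486365207320439273, 836690460068898421494119669929814505, 379554343726724859576994671169584468, 378470265078857001360020652463696372, 835178390887128507395902240702807369, 849428053890721127842783802944535881, 392778235058375525761447010292083188, 380852417890633193084253208957168116, 837988534232731197211959288506367305, 853594583957701376592882717001432393, 396400150736157163595072469556701684, 395374383416272597400092747444174164, 852024202248693757414958849905043945, 848159132645363974463229116266621417, 391451006837168026360877237267905876,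 111890735759189500967275039606037505, 70399228063273750146191920654811874, 88531741395152432619144554048084993, 47027549764763033801098060336923362, 45695288897819242797820985339501570, 87267854432458451307230181112611553, 59967770850609356494461139355327490, 101553005462779482458897947166900961, 89829815558607418777419883954569953, 48325623929049156867920886794574850, 105400364877448806633357170817008353, 63908857180701918903726289026735106, 62563919208128639077930020080091874, 104149153821129901086249850554735617, 58676030656508056853854093711016674, 100248596190316129319380533109120001, 527408092834422380436760672296086802, 777086683074339727301688438697337196, 753718782969206722555082564627276140, 504045320277007600490142200490306834, 751977467099201784524721692779162892, 503190488317374766205311624405524850, 517471811637472139074881737618235762, 766253776762215556503459499636567308, 505343394440840376207982085354824050, 755016857133115056062340836126895372, 770596312192145685618787162311273740,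 520917721952303896543278448265044338, 768849925120112628142104970500677996, 520067959995444768647057050866724114, 516171230075610233272638766257319186, 764958208857512809525578011295392108]

/-- the images of the linear group -/
def tabG : List ℕ := [0, 0, 0, 0, 0, 0, 0, 0, 0, 0, 0, 0, 0, 0, 0, 0, 0, 0, 0, 0, 0, 0, 0, 0, 0, 0, 0, 0, 0, 0, 0, 0, 0, 0, 0, 0, 0, 0, 0, 0, 0, 0, 0, 0, 0, 0, 0, 0, 0, 0, 0, 0, 0, 0, 0, 0, 0, 0, 0, 0, 0, 0, 0, 0, 0, 0, 0, 0, 0, 0, 0, 0, 0, 0, 0, 0, 0, 0, 0, 0, 0, 0, 0, 0, 984737186694955590166981608907849024, 961441496086883049877575036768301632, 961369311352263000130816735576170848, 984805555169919536294758335034893952, 0, 0, 0, 0, 959328910559785762261954005495925120, 973646994400487773935240751741020640, 973615344739455220923224457744166144, 959373239512185674358715231249781024, 0, 0, 984267767221694377871676677632965952, 960942075136467537616359010411950656, 0, 0, 961185080303847641755916506526064992, 984430295117821971159845819609392768, 0, 0, 959750014394111475025217442333280640,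 974391414748731558923041976960002528, 0, 0, 974310400217230228792985360341773568, 959709718229752532247790157057970464, 0, 0, 959617012178718092843660418677362336, 973940554062032246215111428266481248, 959897125049553996931629926906023584, 974053294963827806353539618358580832, 0, 0, 0, 0, 984399484842183245330623967984550976, 961409415667826064667231448532617248, 984696276478677314088622797856277568, 960995129594636700304981929757181984, 0, 0, 0, 0, 0, 0, 0, 0, 0, 0, 0, 0, 0, 0, 984243483715458079950256689701376288, 960828751554058898153298734614104448, 960874334571150692746637668616678656, 984195343501101386488503033139866080, 0, 0, 0, 0, 0, 0, 0, 0, 0, 0, 0, 0, 959583872489259750041469768721147520, 973813282648679990325382297997065536, 973852544627874305824633722826301792, 959545874601588048745426216773268032, 0, 984202951082164080105044112956360736, 0, 960833815554894880865299427909338176, 0, 960869263155771964121666525273293888, 0, 984235865005994746954145143334668320, 0,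 959585124418536443288859341383807552, 0, 973866474417187970183285132388482368, 959544597990076638729185725784794752, 0, 973825950464759357472990638023123296, 0, 0, 959543341092772421121567539211720288, 0, 973812026848765175569488322640400032, 0, 973853821484280538371704120921345696, 0, 959586403533479396759767619495056992, 0, 984225739920192839638805552246041056, 0, 960861669927507529309260982162835840, 984185212253301870841467415639380256, 0, 960821147213018954268689629614451968, 0, 0, 0, 0, 0, 0, 0, 0, 0, 0, 0, 0, 0, 961926325285089808542574676417393216, 977545012452039125100098639870699136, 977515899368832688403479856725827936, 961976990053296407245455939281763648, 0, 0, 0, 0, 962659793242139025375924554809059808, 978312651232933896739724521376272672, 978232879086441799526177284869434624, 962744636145774535878155011925428608, 0, 0, 0, 0, 0, 0, 0, 0, 0, 962251546987520561919182630759909760, 962220767672080103903830833606306272, 0, 0, 977951321681072761146608999551095072, 978084106431262925447325983162707200,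 0, 0, 976990105829392847739289005721748544, 976622437190422540035105018050185248, 0, 976909097487365034896521273070946336, 0, 0, 976582150929508344526804474982237248, 0, 976520239087956030181297214964059808, 976478047087236532226842742051984992, 0, 976763224448068850820885212789692000, 0, 0, 976640578697599807758690224892432032, 0, 962699881464141584119993826816408896, 962338564579455965542257854109921856, 0, 0, 977866293405587793959204725554882176, 978191958966303208311018075321377120, 0, 0, 0, 0, 0, 0, 0, 0, 0, 0, 0, 984389335412866629269198819667628320, 960982440649629495388190824640235904, 0, 0, 961387858599500449177548950235458816, 984673442637135845976660089591966176, 0, 984818244535754528103549039458486304, 0, 961450375382535455138506865050223680, 0, 961360439503047023498727979389224000, 0, 984724508489452699215480746259449888, 0, 959694497775378473410393774066709056, 959738589036037294713989862699181696, 0, 0, 974296447435166286299776514602974528, 974386330097878276089586120324227424,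 0, 0, 0, 0, 0, 0, 0, 0, 0, 0, 0, 959628432605073843934444923988158080, 974067262604871000316098224828038464, 0, 0, 973945644914022110970435173357822304, 959912347948973440041259045457703488, 0, 959369441968991605101417979571820128, 0, 973655856341431559157428326565105312, 0, 973606461760135017242396451293777568, 0, 959332710585955263765836555176007264, 0, 984453122772908695470283188542220768, 984277911717668071400304577854525728, 0, 0, 961197758075010875923306813547039104, 960963635929180743860460855381568768, 0, 0, 0, 0, 0, 0, 0, 0, 0, 0, 0, 962205578638731759737797058997301824, 978067648531224705671570238152550016, 0, 0, 977946261061298900937045180028199264, 962246488865259932171526108049096000, 0, 962653433195980879725715260202043776, 0, 978229054418855360405424554772025632, 962734482381880363294333634127342048, 0, 978310106080672699139293870830398720, 0, 0, 976768299277413956938701513523627072, 976485648607836023842901617906583584, 0, 976646925424413003808171889902389280,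 0, 0, 976526568737506712383583358563157056, 0, 0, 962327140648922488369264347627170272, 978189418480094275830805085758345504, 0, 0, 977865015068216725438661791536295168, 962692262384765829291356279544531328, 0, 0, 0, 0, 0, 0, 0, 0, 0, 976890070463619102873427488400395936, 976607237851914234552322938801542752, 0, 976565680669006414137663566835275360, 0, 0, 976972349684086154841531608652631712, 0, 961922537326599643669549261450132800, 0, 977498157311345191737629246876034688, 961963060034219536332040728043074112, 0, 977538684970649679157409029890253152, 0, 0, 0, 0, 0, 0, 0, 0, 0, 0, 0, 962342342053254777247401787667913920, 977881481632891920397089378184927456, 962697325499171110264656870679190720, 978194471676833395986728301338171616, 0, 0, 0, 962740830037617304780894353201666272, 0, 978313922071620269802858111042690240, 0, 978231607028573809462511137933696192, 0, 962663582037856364467548552498190560, 0, 976560612029438236883020365048782016, 976599630134444819142926833672132832,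 0, 976966010172041907172408992355522784, 0, 0, 976883733645045037027349659655478464, 0, 961966864122275890259545449047988448, 0, 977556418398789265515190524101467328, 0, 977504494667382393873431751707204800, 0, 961936468555084014420294248887884000, 0, 976665932640287188606332592542817472, 976500867780294164625325278138669280, 0, 976544321139138489916214383809239264, 0, 0, 976784773220560118989466025093176512, 0, 0, 0, 0, 0, 0, 0, 0, 0, 0, 962216986504087332603495277935402176, 977948810212710310095811311545981152, 962254106677898657084612437405179072, 978068916934919616095539458132613344, 0, 0, 0, 0, 0, 0, 0, 0, 0, 0, 0, 0, 984276626643360701300950183426163776, 961199006635680702013153356583962656, 984446768309722274321779689720546368, 960950944922468596308270213587568672, 0, 0, 0, 984713093390188445415386470434743936, 0, 961349027111398807277136303061742144, 984794145051439100037340461775994176, 0, 961430076297147174589140293656256864, 0, 0, 959908539601689596707768648795869472,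 959627160219160756377404379856685440, 0, 0, 973935488396150059722187237332920800, 974055837887529872620575745668984064, 0, 0, 984689920776908612642849569574659712, 984398201032347348983340576198409536, 0, 0, 961396720917590117405306542148334144, 960996381838101873711844183449444704, 0, 0, 959341582019604160502368624876998944, 0, 973622934493909090292331430205204960, 959382108441006388563943222557559168, 0, 973663458439317905412733917703187712, 0, 0, 0, 959748737084518605969432039561678496, 974298987878760576892933306281285216, 959705912328495144410131693721276064, 974381266867113878202929330357065312, 0, 0, 0, 0, 0, 0, 0, 0, 0, 0]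

/-- words in the two generators -/
def wordG : List (List ℕ) := [[],
  [],
  [],
  [],
  [],
  [],
  [],
  [],
  [],
  [],
  [],
  [],
  [],
  [],
  [],
  [],
  [],
  [],
  [],
  [],
  [],
  [],
  [],
  [],
  [],
  [],
  [],
  [],
  [],
  [],
  [],
  [],
  [],
  [],
  [],
  [],
  [],
  [],
  [],
  [],
  [],
  [],
  [],
  [],
  [],
  [],
  [],
  [],
  [],
  [],
  [],
  [],
  [],
  [],
  [],
  [],
  [],
  [],
  [],
  [],
  [],
  [],
  [],
  [],
  [],
  [],
  [],
  [],
  [],
  [],
  [],
  [],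
  [],
  [],
  [],
  [],
  [],
  [],
  [],
  [],
  [],
  [],
  [],
  [],
  [0, 1, 0, 1, 1, 0, 1, 0, 1, 1],
  [0, 1, 1, 0, 1, 0, 1, 0],
  [0, 1, 1, 0, 1, 0, 1, 0, 1, 1, 0, 1],
  [0, 1, 0, 1, 1, 0, 1, 0, 1, 0, 1],
  [],
  [],
  [],
  [],
  [1, 1, 0, 1, 0, 1, 0, 1, 1, 0, 1, 0, 1],
  [1, 1, 0, 1, 1, 0, 1],
  [1, 1, 0],
  [1, 1, 0, 1, 0, 1, 0, 1, 1, 0, 1, 1],
  [],
  [],
  [1, 0, 1, 0, 1, 0, 1, 1, 0, 1, 1],
  [0, 1, 0, 1, 0, 1, 1, 0, 1, 1, 0, 1, 0],
  [],
  [],
  [1, 0, 1, 1, 0, 1, 0, 1, 0],
  [0, 1, 1, 0, 1],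
  [],
  [],
  [1, 0],
  [0, 1, 1, 0, 1, 0, 1, 1, 0, 1, 1, 0, 1],
  [],
  [],
  [0, 1, 0, 1, 0, 1, 1, 0, 1, 0, 1],
  [1, 0, 1, 0, 1, 1, 0, 1, 0, 1, 1],
  [],
  [],
  [1, 0, 1, 1, 0, 1],
  [0, 1, 1, 0, 1, 0, 1, 1, 0],
  [1, 0, 1, 0, 1, 1, 0, 1, 0, 1, 0, 1],
  [0, 1, 0, 1, 0, 1, 1, 0, 1, 1],
  [],
  [],
  [],
  [],
  [1, 0, 1, 0, 1, 0, 1, 1, 0, 1, 0, 1],
  [1, 1, 0, 1, 1, 0, 1, 0, 1, 0],
  [0],
  [1, 0, 1, 1, 0, 1, 0, 1, 0, 1, 1, 0, 1],
  [],
  [],
  [],
  [],
  [],
  [],
  [],
  [],
  [],
  [],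
  [],
  [],
  [],
  [],
  [1, 0, 1, 1, 0, 1, 0, 1, 0, 1, 0],
  [1, 0, 1, 0, 1, 0, 1, 1],
  [0, 1, 1, 0, 1, 1, 0],
  [1, 0, 1, 0, 1, 1, 0, 1, 1, 0, 1, 0, 1],
  [],
  [],
  [],
  [],
  [],
  [],
  [],
  [],
  [],
  [],
  [],
  [],
  [0, 1, 1, 0, 1, 1, 0, 1, 0, 1, 1],
  [1, 0, 1, 0],
  [1, 0, 1, 0, 1, 1, 0, 1],
  [0, 1, 1, 0, 1, 1, 0, 1, 0, 1, 0, 1],
  [],
  [0, 1, 0, 1, 0, 1, 0, 1, 1, 0, 1, 0, 1],
  [],
  [0, 1, 0, 1, 0, 1, 1],
  [],
  [1, 0, 1, 1, 0, 1, 1, 0],
  [],
  [1, 1, 0, 1, 0, 1, 1, 0, 1],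
  [],
  [0, 1, 0, 1, 1, 0, 1],
  [],
  [0, 1, 1, 0, 1, 0, 1, 0, 1, 0],
  [0, 1, 1, 0, 1, 0, 1, 0, 1, 1, 0, 1, 1, 0],
  [],
  [0, 1, 0, 1, 1, 0, 1, 0, 1, 0, 1, 1, 0],
  [],
  [],
  [0, 1, 0],
  [],
  [0, 1, 0, 1, 1, 0, 1, 1, 0, 1, 0, 1],
  [],
  [1, 0, 1, 1, 0, 1, 1, 0, 1, 0, 1, 1],
  [],
  [1, 1, 0, 1, 1, 0, 1, 0, 1, 0, 1, 0],
  [],
  [0, 1, 0, 1, 0, 1, 0, 1, 1, 0, 1, 1],
  [],
  [0, 1, 0, 1, 0, 1, 0, 1],
  [1, 1, 0, 1, 0],
  [],
  [1, 1, 0, 1, 0, 1, 0, 1, 1],
  [],
  [],
  [],
  [],
  [],
  [],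
  [],
  [],
  [],
  [],
  [],
  [],
  [],
  [1, 1, 0, 1, 0, 1, 1],
  [0, 1, 0, 1, 0, 1, 0],
  [0, 1, 0, 1, 0, 1, 0, 1, 1, 0, 1],
  [1, 1, 0, 1, 0, 1, 0, 1],
  [],
  [],
  [],
  [],
  [1, 1, 0, 1, 0, 1, 1, 0, 1, 1, 0, 1, 0],
  [0, 1, 0, 1, 1, 0, 1, 1, 0, 1],
  [0, 1, 0, 1, 1, 0],
  [1, 0, 1, 1, 0, 1, 1, 0, 1, 0, 1, 0],
  [],
  [],
  [],
  [],
  [],
  [],
  [],
  [],
  [],
  [1, 1, 0, 1, 0, 1, 1, 0],
  [1, 1, 0, 1, 0, 1, 0, 1, 0],
  [],
  [],
  [0, 1, 0, 1, 0, 1],
  [0, 1, 0, 1, 0, 1, 0, 1, 1, 0, 1, 0],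
  [],
  [],
  [0, 1, 1, 0, 1, 1, 0, 1, 0, 1, 0],
  [1, 0, 1, 0, 1, 1],
  [],
  [0, 1, 1, 0, 1, 1, 0, 1, 0, 1],
  [],
  [],
  [1, 0, 1, 0, 1, 1, 0],
  [],
  [1, 0, 1, 0, 1, 1, 0, 1, 1, 0, 1, 0],
  [1, 0, 1, 0, 1, 0, 1],
  [],
  [1, 0, 1, 0, 1, 1, 0, 1, 1, 0, 1],
  [],
  [],
  [1, 0, 1, 0, 1, 0, 1, 0],
  [],
  [1, 1, 0, 1, 0, 1, 1, 0, 1, 1, 0, 1],
  [1, 0, 1, 1, 0, 1, 1, 0, 1, 0, 1],
  [],
  [],
  [0, 1, 0, 1, 1, 0, 1, 1, 0, 1, 0],
  [0, 1, 0, 1, 1],
  [],
  [],
  [],
  [],
  [],
  [],
  [],
  [],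
  [],
  [],
  [],
  [0, 1, 1, 0, 1, 0],
  [0, 1, 0, 1, 0, 1, 1, 0, 1, 1, 0, 1],
  [],
  [],
  [1, 0, 1, 1, 0, 1, 0, 1],
  [1, 0, 1, 0, 1, 0, 1, 1, 0, 1, 1, 0],
  [],
  [],
  [],
  [1, 1, 0, 1, 1, 0, 1, 0, 1],
  [],
  [1, 0, 1, 1, 0, 1, 0, 1, 0, 1, 1, 0, 1, 0],
  [],
  [1, 0, 1, 0, 1, 0, 1, 1, 0, 1, 0, 1, 0],
  [],
  [0, 1, 0, 1, 0, 1, 1, 0, 1, 0, 1, 0, 1],
  [1, 1, 0, 1, 0, 1, 0, 1, 1, 0, 1, 1, 0],
  [],
  [],
  [1, 1, 0, 1, 1, 0, 1, 0],
  [1, 1],
  [],
  [],
  [],
  [],
  [],
  [],
  [],
  [],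
  [],
  [],
  [],
  [1, 1, 0, 1, 1, 0, 1, 0, 1, 1],
  [0, 1, 1, 0, 1, 0, 1, 1, 0, 1, 1, 0, 1, 0],
  [],
  [],
  [0, 1, 0, 1, 0, 1, 1, 0, 1, 0, 1, 0],
  [1],
  [],
  [1, 0, 1, 0, 1, 1, 0, 1, 0, 1, 0, 1, 0],
  [],
  [0, 1, 1, 0, 1, 0, 1, 1],
  [],
  [0, 1, 0, 1, 0, 1, 1, 0, 1, 1, 0],
  [],
  [1, 0, 1, 1, 0, 1, 0],
  [],
  [1, 0, 1, 1, 0, 1, 0, 1, 1],
  [0, 1, 0, 1, 1, 0, 1, 0, 1, 0, 1, 0],
  [],
  [],
  [0, 1, 1, 0, 1, 0, 1],
  [0, 1, 1, 0, 1, 0, 1, 0, 1, 1, 0, 1, 0],
  [],
  [],
  [],
  [],
  [],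
  [],
  [],
  [],
  [],
  [],
  [],
  [0, 1, 0, 1, 1, 0, 1, 1, 0, 1, 0, 1, 1],
  [1, 0, 1, 1, 0, 1, 1, 0, 1, 0],
  [],
  [],
  [1, 1, 0, 1, 0, 1, 1, 0, 1, 1, 0],
  [0, 1, 0, 1],
  [],
  [1, 0, 1, 0, 1, 1, 0, 1, 1],
  [],
  [1, 0, 1, 0, 1],
  [0, 1, 1, 0, 1, 1, 0, 1, 0],
  [],
  [0, 1, 1, 0, 1, 1, 0, 1, 0, 1, 0, 1, 1],
  [],
  [],
  [0, 1, 0, 1, 1, 0, 1, 0, 1, 0, 1, 1, 0, 1],
  [0, 1, 0, 1, 1, 0, 1, 1, 0],
  [],
  [0, 1, 0, 1, 1, 0, 1, 0, 1, 0, 1, 1, 0, 1, 0],
  [],
  [],
  [0, 1, 0, 1, 1, 0, 1, 1],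
  [],
  [],
  [0, 1, 0, 1, 0],
  [1, 0, 1, 1, 0, 1, 1, 0, 1],
  [],
  [],
  [1, 1, 0, 1, 0, 1, 1, 0, 1, 1],
  [0, 1, 0, 1, 0, 1, 0, 1, 1, 0, 1, 0, 1, 1],
  [],
  [],
  [],
  [],
  [],
  [],
  [],
  [],
  [],
  [1, 1, 0, 1, 0, 1, 0],
  [0, 1, 0, 1, 0, 1, 0, 1, 1],
  [],
  [1, 1, 0, 1, 0, 1],
  [],
  [],
  [0, 1, 0, 1, 0, 1, 0, 1, 1, 0],
  [],
  [0, 1, 1, 0, 1, 1, 0, 1],
  [],
  [1, 0, 1, 0, 1, 0],
  [1, 0, 1, 0, 1, 1, 0, 1, 1, 0],
  [],
  [0, 1, 1, 0, 1, 1, 0, 1, 0, 1, 0, 1, 1, 0],
  [],
  [],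
  [],
  [],
  [],
  [],
  [],
  [],
  [],
  [],
  [],
  [1, 0, 1, 1, 0, 1, 0, 1, 0, 1, 1, 0],
  [1, 0, 1, 0, 1, 0, 1, 1, 0, 1, 0],
  [0, 1, 1],
  [1, 1, 0, 1, 1, 0, 1, 0, 1, 0, 1, 1],
  [],
  [],
  [],
  [1, 0, 1, 0, 1, 1, 0, 1, 0, 1],
  [],
  [1, 0, 1, 1],
  [],
  [0, 1, 1, 0, 1, 0, 1, 1, 0, 1, 1, 0],
  [],
  [0, 1, 0, 1, 0, 1, 1, 0, 1, 0],
  [],
  [0, 1, 0, 1, 1, 0, 1, 0, 1, 0],
  [0, 1, 1, 0, 1, 0, 1, 0, 1, 1],
  [],
  [0, 1, 0, 1, 1, 0, 1, 0, 1],
  [],
  [],
  [0, 1, 1, 0, 1, 0, 1, 0, 1, 1, 0],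
  [],
  [0, 1, 1, 0],
  [],
  [1, 0, 1, 0, 1, 0, 1, 1, 0, 1],
  [],
  [1, 1, 0, 1, 1, 0, 1, 0, 1, 0, 1, 1, 0],
  [],
  [1, 0, 1, 1, 0, 1, 0, 1, 0, 1, 1],
  [],
  [1, 1, 0, 1, 0, 1, 0, 1, 1, 0, 1],
  [1, 1, 0, 1, 1, 0],
  [],
  [1, 1, 0, 1, 0, 1, 0, 1, 1, 0, 1, 0],
  [],
  [],
  [1, 1, 0, 1, 1],
  [],
  [],
  [],
  [],
  [],
  [],
  [],
  [],
  [],
  [],
  [0, 1, 0, 1, 0, 1, 1, 0, 1],
  [1, 0, 1, 1, 0],
  [1, 0, 1, 0, 1, 1, 0, 1, 0, 1, 0],
  [0, 1, 1, 0, 1, 0, 1, 1, 0, 1, 1],
  [],
  [],
  [],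
  [],
  [],
  [],
  [],
  [],
  [],
  [],
  [],
  [],
  [0, 1, 1, 0, 1, 0, 1, 1, 0, 1],
  [0, 1, 0, 1, 0, 1, 1, 0],
  [1, 0, 1, 0, 1, 1, 0, 1, 0, 1, 0, 1, 1],
  [1, 0, 1, 1, 0, 1, 1],
  [],
  [],
  [],
  [1, 1, 0, 1],
  [],
  [1, 1, 0, 1, 1, 0, 1, 1],
  [0, 1, 0, 1, 0, 1, 0, 1, 1, 0, 1, 1, 0],
  [],
  [1, 1, 0, 1, 0, 1, 0, 1, 1, 0],
  [],
  [],
  [0, 1, 0, 1, 0, 1, 1, 0, 1, 0, 1, 1],
  [0, 1, 1, 0, 1, 1, 0, 1, 0, 1, 0, 1, 0],
  [],
  [],
  [1, 0, 1],
  [1, 0, 1, 0, 1, 1, 0, 1, 0],
  [],
  [],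
  [1, 0, 1, 1, 0, 1, 0, 1, 0, 1],
  [0, 1, 0, 1, 0, 1, 1, 0, 1, 1, 0, 1, 0, 1],
  [],
  [],
  [1, 0, 1, 0, 1, 0, 1, 1, 0],
  [0, 1, 1, 0, 1, 1],
  [],
  [],
  [0, 1, 1, 0, 1, 0, 1, 0, 1, 1, 0, 1, 1],
  [],
  [0, 1, 1, 0, 1, 0, 1, 0, 1],
  [0, 1, 0, 1, 1, 0, 1, 0],
  [],
  [0, 1, 0, 1, 1, 0, 1, 0, 1, 0, 1, 1],
  [],
  [],
  [],
  [1, 1, 0, 1, 1, 0, 1, 0, 1, 0, 1],
  [0, 1, 0, 1, 1, 0, 1, 1, 0, 1, 0, 1, 0],
  [0, 1],
  [1, 0, 1, 0, 1, 0, 1, 1, 0, 1, 0, 1, 1],
  [],
  [],
  [],
  [],
  [],
  [],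
  [],
  [],
  [],
  []]

/-- witnesses of the conjugation action -/
def witC : List (List ℕ) := [[1, 13, 4, 7, 64, 113, 16], [1, 6, 2, 14, 97, 48, 64]]

/-- conjugators inside the octad stabiliser -/
def orbP : List (ℕ × ℕ) := [(984818244535754528103549039458486304, 29340620570662517957029049942508631),
  (519238657866671931330087781890726504, 70399228063273750146191920654811874),
  (64561855335816130012247806693247625, 444268879119136185254262376902021423),
  (319706553841257707369740574768277579, 860084954839819860486365207320439273),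
  (377983392290420342537959972274724435, 777086683074339727301688438697337196),
  (475948554720300965775988092435586124, 111890735759189500967275039606037505),
  (432516959080769082623202367578999474, 277879205445780192332601629780072039),
  (403013499703735415132384593693940359, 361278483128677126285511718525323659),
  (901350704349673495029554646515899617, 319380864250660316483287072825790118),
  (652495614817140422359295248409506534, 527408092834422380436760672296086802),
  (835969430910674903177864053712324818, 901819338944596510285261892401338611),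
  (19054515645185553891830280772552330, 652081062664116154403619892816357002),
  (515750053611174497970912359991495285, 402890521618351205277973479654800724),
  (776535673433894038451107409960222369, 486097500171878969200658184442851912),
  (503915267561104247079123797913274612, 817802889969085079623560730113055957)]

/-- the fixed octad -/
def fMask : ℕ := 4415544

/-- a conjugator putting the involution into its own core -/
def gP : ℕ := 256045625971024900546200324420601587

/-- its coordinates -/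
def qP : ℕ := 97

/-- first generator of the linear group -/
def gA : Matrix.SpecialLinearGroup (Fin 3) (ZMod 2) := ⟨!![0, 0, 1; 1, 1, 1; 1, 0, 0], by decide +kernel⟩

/-- second generator of the linear group -/
def gB : Matrix.SpecialLinearGroup (Fin 3) (ZMod 2) := ⟨!![1, 1, 1; 1, 0, 1; 0, 0, 1], by decide +kernel⟩

/-- a binary digit -/
def bt (i k : ℕ) : ℕ := i / 2 ^ k % 2

/-- the code of coordinates -/
def idxX (x : X 3) : ℕ := x.s.val + 2 * (x.v 0).val + 4 * (x.v 1).val + 8 * (x.v 2).val + 16 * (x.a 0).val +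
  32 * (x.a 1).val + 64 * (x.a 2).val

/-- coordinates of a code -/
def ofX (n : ℕ) : X 3 := ⟨(bt n 0 : ℕ), ![((bt n 1 : ℕ) : ZMod 2), (bt n 2 : ℕ), (bt n 3 : ℕ)],
  ![((bt n 4 : ℕ) : ZMod 2), (bt n 5 : ℕ), (bt n 6 : ℕ)]⟩

/-- the product on codes -/
def mulX (i j : ℕ) : ℕ :=
  (bt i 0 + bt j 0 + (bt i 4 * bt j 1 + bt i 5 * bt j 2 + bt i 6 * bt j 3)) % 2 + 2 * ((bt i 1 + bt j 1) % 2) +
  4 * ((bt i 2 + bt j 2) % 2) + 8 * ((bt i 3 + bt j 3) % 2) + 16 * ((bt i 4 + bt j 4) % 2) +
  32 * ((bt i 5 + bt j 5) % 2) + 64 * ((bt i 6 + bt j 6) % 2)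

/-- the code of a matrix -/
def idxG (g : Matrix (Fin 3) (Fin 3) (ZMod 2)) : ℕ := (g 0 0).val + 2 * (g 0 1).val + 4 * (g 0 2).val +
  8 * (g 1 0).val + 16 * (g 1 1).val + 32 * (g 1 2).val + 64 * (g 2 0).val + 128 * (g 2 1).val + 256 * (g 2 2).val

/-- one entry of a product of codes -/
def entG (i j r c : ℕ) : ℕ := (bt i (3 * r) * bt j c + bt i (3 * r + 1) * bt j (3 + c) + bt i (3 * r + 2) * bt j (6 + c)) % 2

/-- the product on codes -/
def mulG (i j : ℕ) : ℕ := entG i j 0 0 + 2 * entG i j 0 1 + 4 * entG i j 0 2 + 8 * entG i j 1 0 + 16 * entG i j 1 1 +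
  32 * entG i j 1 2 + 64 * entG i j 2 0 + 128 * entG i j 2 1 + 256 * entG i j 2 2

theorem add_val : ∀ a b : ZMod 2, (a + b).val = (a.val + b.val) % 2 := by decide

theorem s_val : ∀ a b p q r s t u : ZMod 2,
    (a + b + (p * q + r * s + t * u)).val = (a.val + b.val + (p.val * q.val + r.val * s.val + t.val * u.val)) % 2 := by
  decide +kernel

theorem dot_val : ∀ p q r s t u : ZMod 2,
    (p * q + r * s + t * u).val = (p.val * q.val + r.val * s.val + t.val * u.val) % 2 := by decide +kernel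

theorem partsX (x : X 3) : bt (idxX x) 0 = x.s.val ∧ bt (idxX x) 1 = (x.v 0).val ∧ bt (idxX x) 2 = (x.v 1).val ∧
    bt (idxX x) 3 = (x.v 2).val ∧ bt (idxX x) 4 = (x.a 0).val ∧ bt (idxX x) 5 = (x.a 1).val ∧
    bt (idxX x) 6 = (x.a 2).val ∧ idxX x < 128 := by
  have h := ZMod.val_lt x.s
  have hv := fun i => ZMod.val_lt (x.v i)
  have ha := fun i => ZMod.val_lt (x.a i)
  have := hv 0; have := hv 1; have := hv 2; have := ha 0; have := ha 1; have := ha 2
  simp only [bt, idxX]; omega

theorem idxX_mul (x y : X 3) : idxX (x * y) = mulX (idxX x) (idxX y) := by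
  obtain ⟨h0, h1, h2, h3, h4, h5, h6, -⟩ := partsX x
  obtain ⟨k0, k1, k2, k3, k4, k5, k6, -⟩ := partsX y
  simp only [mulX, h0, h1, h2, h3, h4, h5, h6, k0, k1, k2, k3, k4, k5, k6]
  simp only [idxX, mul_def, Pi.add_apply]
  rw [dotProduct, Fin.sum_univ_three, s_val]
  simp only [add_val]

theorem partsG (g : Matrix (Fin 3) (Fin 3) (ZMod 2)) :
    bt (idxG g) 0 = (g 0 0).val ∧ bt (idxG g) 1 = (g 0 1).val ∧ bt (idxG g) 2 = (g 0 2).val ∧
    bt (idxG g) 3 = (g 1 0).val ∧ bt (idxG g) 4 = (g 1 1).val ∧ bt (idxG g) 5 = (g 1 2).val ∧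
    bt (idxG g) 6 = (g 2 0).val ∧ bt (idxG g) 7 = (g 2 1).val ∧ bt (idxG g) 8 = (g 2 2).val ∧ idxG g < 512 := by
  have h := fun i j => ZMod.val_lt (g i j)
  have := h 0 0; have := h 0 1; have := h 0 2; have := h 1 0; have := h 1 1; have := h 1 2
  have := h 2 0; have := h 2 1; have := h 2 2
  simp only [bt, idxG]; omega

theorem idxG_mul (g h : Matrix (Fin 3) (Fin 3) (ZMod 2)) : idxG (g * h) = mulG (idxG g) (idxG h) := by
  obtain ⟨h0, h1, h2, h3, h4, h5, h6, h7, h8, -⟩ := partsG g
  obtain ⟨k0, k1, k2, k3, k4, k5, k6, k7, k8, -⟩ := partsG h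
  simp only [mulG, entG, Nat.reduceMul, Nat.reduceAdd, h0, h1, h2, h3, h4, h5, h6, h7, h8, k0, k1, k2, k3, k4, k5, k6, k7, k8]
  simp only [idxG, Matrix.mul_apply, Fin.sum_univ_three, dot_val]

theorem idxG_inj {g h : Matrix.SpecialLinearGroup (Fin 3) (ZMod 2)} (e : idxG g.1 = idxG h.1) : g = h := by
  obtain ⟨h0, h1, h2, h3, h4, h5, h6, h7, h8, -⟩ := partsG g.1
  obtain ⟨k0, k1, k2, k3, k4, k5, k6, k7, k8, -⟩ := partsG h.1
  refine Subtype.ext (Matrix.ext fun i j => ZMod.val_injective 2 ?_)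
  fin_cases i <;> fin_cases j <;> simp only [Fin.zero_eta, Fin.mk_one, Fin.reduceFinMk] <;>
    simp only [← h0, ← h1, ← h2, ← h3, ← h4, ← h5, ← h6, ← h7, ← h8, ← k0, ← k1, ← k2, ← k3, ← k4, ← k5, ← k6, ← k7, ← k8, e]

theorem idxX_inj {x y : X 3} (e : idxX x = idxX y) : x = y := by
  obtain ⟨h0, h1, h2, h3, h4, h5, h6, -⟩ := partsX x
  obtain ⟨k0, k1, k2, k3, k4, k5, k6, -⟩ := partsX y
  refine X.ext (ZMod.val_injective 2 (by rw [← h0, ← k0, e])) (funext fun i => ZMod.val_injective 2 ?_)
    (funext fun i => ZMod.val_injective 2 ?_)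
  · fin_cases i <;> simp only [Fin.zero_eta, Fin.mk_one, Fin.reduceFinMk] <;> simp only [← h1, ← h2, ← h3, ← k1, ← k2, ← k3, e]
  · fin_cases i <;> simp only [Fin.zero_eta, Fin.mk_one, Fin.reduceFinMk] <;> simp only [← h4, ← h5, ← h6, ← k4, ← k5, ← k6, e]

/-- the coordinate generators -/
def gensX : List (X 3) := (List.range 7).map fun k => ofX (2 ^ k)

/-- the linear generators -/
def gensG : List (Matrix.SpecialLinearGroup (Fin 3) (ZMod 2)) := [gA, gB]

/-- the word of a coordinate code -/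
def wordX (n : ℕ) : List ℕ := (List.range 7).filter fun k => bt n k == 1

/-- membership test -/
def idB (P : ℕ) : Bool := (List.range 24).all fun k => app P k == k

/-- packed composition of two packed permutations -/
def imgComp (P Q : ℕ) : ℕ := packL ((List.range 24).map fun i => app P (app Q i))

theorem word_checkX : ((List.range 128).all fun n =>
    (wordX n).foldl (fun i k => mulX i (idxX (gensX.getD k 1))) (idxX 1) == n && (wordX n).all (· < 7)) = true := by decide +kernel

theorem word_checkG : ((List.range 512).all fun n => (wordG.getD n []).all (· < 2)) = true ∧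
    ∀ a b c d e f g h i : ZMod 2, a * e * i - a * f * h - b * d * i + b * f * g + c * d * h - c * e * g ≠ 0 →
      (wordG.getD (a.val + 2 * b.val + 4 * c.val + 8 * d.val + 16 * e.val + 32 * f.val + 64 * g.val + 128 * h.val + 256 * i.val) []).foldl
        (fun m k => mulG m (idxG (gensG.getD k 1).1)) (idxG (1 : Matrix.SpecialLinearGroup (Fin 3) (ZMod 2)).1) =
      a.val + 2 * b.val + 4 * c.val + 8 * d.val + 16 * e.val + 32 * f.val + 64 * g.val + 128 * h.val + 256 * i.val := by
  constructor <;> decide +kernel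

theorem tabX_check : ((List.range 128).all fun n => inM24 (tabX.getD n 0) && (n == 0 || !idB (tabX.getD n 0)) &&
    ((List.range 7).all fun k => compB (tabX.getD n 0) (tabX.getD (idxX (gensX.getD k 1)) 0) (tabX.getD (mulX n (idxX (gensX.getD k 1))) 0))) = true ∧
    idB (tabX.getD (idxX 1) 0) = true ∧ idxX 1 = 0 ∧ tabX.getD (idxX ⟨1, 0, 0⟩) 0 = repT8 := by decide +kernel

theorem tabG_check : ((List.range 512).all fun n =>
    (wordG.getD n []).foldl (fun m k => mulG m (idxG (gensG.getD k 1).1)) (idxG (1 : Matrix.SpecialLinearGroup (Fin 3) (ZMod 2)).1) != n ||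
    (inM24 (tabG.getD n 0) && (n == idxG (1 : Matrix.SpecialLinearGroup (Fin 3) (ZMod 2)).1 || !idB (tabG.getD n 0)) &&
    compB (tabG.getD n 0) repT8 (imgComp (tabG.getD n 0) repT8) && compB repT8 (tabG.getD n 0) (imgComp (tabG.getD n 0) repT8) &&
    ((List.range 2).all fun k => compB (tabG.getD n 0) (tabG.getD (idxG (gensG.getD k 1).1) 0) (tabG.getD (mulG n (idxG (gensG.getD k 1).1)) 0)))) = true ∧
    idB (tabG.getD (idxG (1 : Matrix.SpecialLinearGroup (Fin 3) (ZMod 2)).1) 0) = true := by decide +kernel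

theorem conj_check : (∀ h : Fin 2, ∀ k : Fin 7, let q := (witC.getD h.val []).getD k.val 0
    idxX (ofX q) = q ∧
    compB (tabG.getD (idxG (gensG.getD h.val 1).1) 0) (tabX.getD (idxX (gensX.getD k.val 1)) 0)
      (imgComp (tabX.getD q 0) (tabG.getD (idxG (gensG.getD h.val 1).1) 0)) = true ∧
    compB (tabX.getD q 0) (tabG.getD (idxG (gensG.getD h.val 1).1) 0)
      (imgComp (tabX.getD q 0) (tabG.getD (idxG (gensG.getD h.val 1).1) 0)) = true ∧
    ∀ r, (ofX q).v r = ((gensG.getD h.val 1).1 *ᵥ (gensX.getD k.val 1).v) r) := by decide +kernel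

theorem bound_check : (orbP.all fun p => inM24 p.1 && okP p.2 && (imgP p.1 fMask == fMask) &&
      compB p.1 repT8 (imgComp p.1 repT8) && compB p.2 p.1 (imgComp p.1 repT8)) = true ∧
    nodupB 120 (orbP.map fun p => packL ((List.range 24).map (app p.2))) = true ∧ orbP.length = 15 ∧
    ((List.range 24).all fun i => (app repT8 i == i) == fMask.testBit i) = true ∧ (octadList.contains fMask) = true ∧
    fMask < 2 ^ 24 ∧ inM24 gP = true ∧ idxX (ofX qP) = qP ∧ qP ≠ idxX ⟨1, 0, 0⟩ ∧ qP ≠ 0 ∧ qP < 128 ∧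
    compB gP repT8 (imgComp gP repT8) = true ∧ compB (tabX.getD qP 0) gP (imgComp gP repT8) = true := by decide +kernel

/-- multiplicativity from generators -/
theorem hom_of_words {A B : Type*} [Monoid A] [Monoid B] (f : A → B) (idx : A → ℕ) (hinj : Function.Injective idx)
    (gens : List A) (h1 : f 1 = 1) (hgen : ∀ x, ∀ k < gens.length, f (x * gens.getD k 1) = f x * f (gens.getD k 1))
    (m : ℕ → ℕ → ℕ) (hidx : ∀ x y, idx (x * y) = m (idx x) (idx y)) (w : ℕ → List ℕ)
    (hw : ∀ a, (∀ k ∈ w (idx a), k < gens.length) ∧ (w (idx a)).foldl (fun i k => m i (idx (gens.getD k 1))) (idx 1) = idx a) :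
    (∀ x y, f (x * y) = f x * f y) ∧ ∀ P : A → Prop, P 1 → (∀ x, ∀ k < gens.length, P x → P (x * gens.getD k 1)) → ∀ a, P a := by
  have key : ∀ (l : List ℕ) (a : A), l.foldl (fun i k => m i (idx (gens.getD k 1))) (idx a) =
      idx (l.foldl (fun x k => x * gens.getD k 1) a) := by
    intro l
    induction l with
    | nil => intro a; rfl
    | cons k l ih => intro a; rw [List.foldl_cons, List.foldl_cons, ← hidx, ih]
  have hind : ∀ P : A → Prop, P 1 → (∀ x, ∀ k < gens.length, P x → P (x * gens.getD k 1)) → ∀ a, P a := by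
    intro P hP hstep a
    obtain ⟨hk, he⟩ := hw a
    rw [key] at he
    rw [← hinj he]
    generalize w (idx a) = l at hk
    clear he
    suffices ∀ (l : List ℕ) (b : A), (∀ k ∈ l, k < gens.length) → P b → P (l.foldl (fun x k => x * gens.getD k 1) b) from
      this l 1 hk hP
    intro l
    induction l with
    | nil => intro b _ hb; exact hb
    | cons k l ih =>
      intro b hk hb
      exact ih _ (fun j hj => hk j (List.mem_cons_of_mem _ hj)) (hstep b k (hk k (List.mem_cons_self ..)) hb)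
  refine ⟨fun x y => ?_, hind⟩
  refine hind (fun y => ∀ x, f (x * y) = f x * f y) (fun x => by rw [mul_one, h1, mul_one]) (fun y k hk ih x => ?_) y x
  rw [← mul_assoc, hgen _ k hk, ih, hgen _ k hk, mul_assoc]

theorem one_of_idB {P : ℕ} (hok : okP P = true) (h : idB P = true) : mkPerm P = 1 := perm_ext fun i hi => by
  rw [img_mkPerm hok hi, img_one hi]
  exact beq_iff_eq.1 (List.all_eq_true.1 h i (List.mem_range.2 hi))

theorem idB_of_one {P : ℕ} (hok : okP P = true) (h : mkPerm P = 1) : idB P = true := by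
  rw [idB, List.all_eq_true]
  intro i hi
  rw [List.mem_range] at hi
  rw [beq_iff_eq, ← img_mkPerm hok hi, h, img_one hi]

theorem wordG_ok (g : Matrix.SpecialLinearGroup (Fin 3) (ZMod 2)) :
    (∀ k ∈ wordG.getD (idxG g.1) [], k < gensG.length) ∧
      (wordG.getD (idxG g.1) []).foldl (fun i k => mulG i (idxG (gensG.getD k 1).1))
        (idxG (1 : Matrix.SpecialLinearGroup (Fin 3) (ZMod 2)).1) = idxG g.1 := by
  constructor
  · intro k hk
    have h := List.all_eq_true.1 word_checkG.1 (idxG g.1) (List.mem_range.2 (partsG g.1).2.2.2.2.2.2.2.2.2)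
    exact of_decide_eq_true (List.all_eq_true.1 h k hk)
  · exact word_checkG.2 _ _ _ _ _ _ _ _ _ (by rw [← Matrix.det_fin_three, g.2]; exact one_ne_zero)

/-- In the Mathieu group of degree 24 (the automorphism group of the length-24 binary Golay code, acting on the 24 coordinates), let z be an involution whose fixed points form an octad (the support of a code word of weight 8), and let Q be the largest normal 2-subgroup of the centralizer C of z. Then Q is extraspecial of order 2^7 with an elementary abelian subgroup of order 16 (plus type), Q is a large extraspecial 2-subgroup, and C is the split extension of Q by the special linear group of degree 3 over the field with two elements. -/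
theorem result (z : ↥Cfsg.M24) (hz : orderOf z = 2) (hfix : (Finset.univ.filter fun p : Cfsg.GolayPt => (z : Equiv.Perm Cfsg.GolayPt) p = p) ∈ Cfsg.octads) (Q : Subgroup ↥Cfsg.M24) (hQ : Q = (Cfsg.pCore 2 ↥(Subgroup.centralizer ({z} : Set ↥Cfsg.M24))).map (Subgroup.centralizer ({z} : Set ↥Cfsg.M24)).subtype) : Cfsg.IsExtraspecial 2 ↥Q ∧ Nat.card ↥Q = 2 ^ 7 ∧ (∃ E : Subgroup ↥Cfsg.M24, E ≤ Q ∧ Cfsg.IsElementaryAbelian 2 E ∧ Nat.card ↥E = 2 ^ 4) ∧ Cfsg.IsLargeExtraspecial Q ∧ ∃ K : Subgroup ↥Cfsg.M24, K ≤ Subgroup.centralizer ({z} : Set ↥Cfsg.M24) ∧ Q ⊓ K = ⊥ ∧ Q ⊔ K = Subgroup.centralizer ({z} : Set ↥Cfsg.M24) ∧ Nonempty (↥K ≃* Matrix.SpecialLinearGroup (Fin 3) (ZMod 2)) := by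
  classical
  let H := Matrix.SpecialLinearGroup (Fin 3) (ZMod 2)
  obtain ⟨hX, hX1, hX0, hXz⟩ := tabX_check
  obtain ⟨hG, hG1⟩ := tabG_check
  obtain ⟨ho, hnd, hlen, hfm, hfo, hflt, hgP, hqP, hqne, hq0, hqlt, hg1, hg2⟩ := bound_check
  have hX' : ∀ x : X 3, inM24 (tabX.getD (idxX x) 0) = true ∧ (idxX x = 0 ∨ idB (tabX.getD (idxX x) 0) = false) ∧
      ∀ k < 7, mkPerm (tabX.getD (idxX (x * gensX.getD k 1)) 0) = mkPerm (tabX.getD (idxX x) 0) * mkPerm (tabX.getD (idxX (gensX.getD k 1)) 0) := by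
    intro x
    have h := List.all_eq_true.1 hX (idxX x) (List.mem_range.2 (partsX x).2.2.2.2.2.2.2)
    simp only [Bool.and_eq_true, Bool.or_eq_true, beq_iff_eq, Bool.not_eq_true', List.all_eq_true, List.mem_range] at h
    exact ⟨h.1.1, h.1.2, fun k hk => by rw [idxX_mul]; exact mkPerm_comp (h.2 k hk)⟩
  have hG' : ∀ g : H, inM24 (tabG.getD (idxG g.1) 0) = true ∧
      (idxG g.1 = idxG (1 : H).1 ∨ idB (tabG.getD (idxG g.1) 0) = false) ∧
      mkPerm (tabG.getD (idxG g.1) 0) * mkPerm repT8 = mkPerm repT8 * mkPerm (tabG.getD (idxG g.1) 0) ∧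
      ∀ k < 2, mkPerm (tabG.getD (idxG (g * gensG.getD k 1).1) 0) = mkPerm (tabG.getD (idxG g.1) 0) * mkPerm (tabG.getD (idxG (gensG.getD k 1).1) 0) := by
    intro g
    have h := List.all_eq_true.1 hG (idxG g.1) (List.mem_range.2 (partsG g.1).2.2.2.2.2.2.2.2.2)
    simp only [Bool.and_eq_true, Bool.or_eq_true, beq_iff_eq, Bool.not_eq_true', List.all_eq_true, List.mem_range, bne_iff_ne, ne_eq] at h
    have h' := h.resolve_left (fun h => h (wordG_ok g).2)
    exact ⟨h'.1.1.1.1, h'.1.1.1.2, (mkPerm_comp h'.1.1.2).symm.trans (mkPerm_comp h'.1.2),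
      fun k hk => by rw [Matrix.SpecialLinearGroup.coe_mul, idxG_mul]; exact mkPerm_comp (h'.2 k hk)⟩
  let fx : X 3 → ↥M24 := fun x => ⟨mkPerm (tabX.getD (idxX x) 0), mkPerm_mem_M24 (hX' x).1⟩
  let fg : H → ↥M24 := fun g => ⟨mkPerm (tabG.getD (idxG g.1) 0), mkPerm_mem_M24 (hG' g).1⟩
  obtain ⟨hxm, hxind⟩ := hom_of_words fx idxX (fun a b h => idxX_inj h) gensX
    (Subtype.ext (one_of_idB (inM24_ok (hX' 1).1) hX1))
    (fun x k hk => Subtype.ext ((hX' x).2.2 k hk)) mulX idxX_mul wordX (fun a => by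
      have h := List.all_eq_true.1 word_checkX (idxX a) (List.mem_range.2 (partsX a).2.2.2.2.2.2.2)
      simp only [Bool.and_eq_true, beq_iff_eq, List.all_eq_true, decide_eq_true_eq] at h
      exact ⟨fun k hk => h.2 k hk, h.1⟩)
  obtain ⟨hgm, hgind⟩ := hom_of_words fg (fun g => idxG g.1) (fun a b h => idxG_inj h) gensG
    (Subtype.ext (one_of_idB (inM24_ok (hG' 1).1) hG1))
    (fun x k hk => Subtype.ext ((hG' x).2.2.2 k hk)) mulG
    (fun x y => by rw [Matrix.SpecialLinearGroup.coe_mul, idxG_mul]) (fun n => wordG.getD n []) wordG_ok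
  let ι0 : X 3 →* ↥M24 := MonoidHom.mk' fx hxm
  let κ0 : H →* ↥M24 := MonoidHom.mk' fg hgm
  have hι : Function.Injective ι0 := (injective_iff_map_eq_one ι0).2 fun x hx => by
    rcases (hX' x).2.1 with h | h
    · exact idxX_inj (h.trans hX0.symm)
    · rw [idB_of_one (inM24_ok (hX' x).1) (congrArg Subtype.val hx)] at h; cases h
  have hκ : Function.Injective κ0 := (injective_iff_map_eq_one κ0).2 fun g hg => by
    rcases (hG' g).2.1 with h | h
    · exact idxG_inj h
    · rw [idB_of_one (inM24_ok (hG' g).1) (congrArg Subtype.val hg)] at h; cases h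
  let z0 : ↥M24 := ι0 ⟨1, 0, 0⟩
  have hz0 : (z0 : Equiv.Perm GolayPt) = mkPerm repT8 := congrArg mkPerm hXz
  let ρ : H →* GL (Fin 3) (ZMod 2) := Matrix.SpecialLinearGroup.toGL
  have hconj0 : ∀ (g : H) (x : X 3), ∃ y, κ0 g * ι0 x * (κ0 g)⁻¹ = ι0 y ∧ y.v = g.1 *ᵥ x.v := by
    refine hgind (fun g => ∀ x, ∃ y, κ0 g * ι0 x * (κ0 g)⁻¹ = ι0 y ∧ y.v = g.1 *ᵥ x.v)
      (fun x => ⟨x, by rw [map_one, one_mul, inv_one, mul_one], by rw [Matrix.SpecialLinearGroup.coe_one, one_mulVec]⟩) ?_
    intro g h hh ihg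
    have hgen : ∀ x, ∃ y, κ0 (gensG.getD h 1) * ι0 x * (κ0 (gensG.getD h 1))⁻¹ = ι0 y ∧ y.v = (gensG.getD h 1).1 *ᵥ x.v := by
      refine hxind _ ⟨1, by rw [map_one, mul_one, mul_inv_cancel], (Matrix.mulVec_zero _).symm⟩ fun x k hk ⟨y, hy, hyv⟩ => ?_
      obtain ⟨hq, hc1, hc2, hv⟩ := conj_check ⟨h, hh⟩ ⟨k, hk⟩
      set q := (witC.getD h []).getD k 0
      refine ⟨y * ofX q, ?_, ?_⟩
      · rw [map_mul, map_mul, ← hy]
        have e : κ0 (gensG.getD h 1) * ι0 (gensX.getD k 1) = ι0 (ofX q) * κ0 (gensG.getD h 1) := Subtype.ext (by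
          show mkPerm (tabG.getD (idxG (gensG.getD h 1).1) 0) * mkPerm (tabX.getD (idxX (gensX.getD k 1)) 0) =
            mkPerm (tabX.getD (idxX (ofX q)) 0) * mkPerm (tabG.getD (idxG (gensG.getD h 1).1) 0)
          rw [hq]
          exact (mkPerm_comp hc1).symm.trans (mkPerm_comp hc2))
        rw [eq_mul_inv_iff_mul_eq.2 e.symm]
        group
      · show y.v + (ofX q).v = _ *ᵥ (x.v + (gensX.getD k 1).v)
        rw [Matrix.mulVec_add, hyv, funext hv]
    intro x
    obtain ⟨y, hy, hyv⟩ := hgen x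
    obtain ⟨w, hw, hwv⟩ := ihg y
    refine ⟨w, ?_, ?_⟩
    · rw [map_mul, ← hw, ← hy]; group
    · rw [hwv, hyv, Matrix.mulVec_mulVec, Matrix.SpecialLinearGroup.coe_mul]
  have hκC0 : ∀ g, κ0 g * z0 = z0 * κ0 g := fun g => Subtype.ext (by
    show mkPerm (tabG.getD (idxG g.1) 0) * (z0 : Equiv.Perm GolayPt) = (z0 : Equiv.Perm GolayPt) * mkPerm (tabG.getD (idxG g.1) 0)
    rw [hz0]; exact (hG' g).2.2.1)
  have hιC0 : ∀ x, ι0 x * z0 = z0 * ι0 x := fun x => by
    show ι0 x * ι0 _ = ι0 _ * ι0 x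
    rw [← map_mul, ← map_mul, Subgroup.mem_center_iff.1 (mem_center.2 ⟨rfl, rfl⟩) x]
  set C0 := Subgroup.centralizer ({z0} : Set ↥M24) with hC0
  have hbound : Nat.card C0 * 15 ≤ 322560 := by
    simp only [List.all_eq_true, Bool.and_eq_true, beq_iff_eq] at ho
    have hoct : ofMask fMask ∈ octads := (mem_octads_iff hflt).2 (List.contains_iff_mem.1 hfo)
    have hfix : ∀ p, p ∈ ofMask fMask ↔ mkPerm repT8 p = p := fun p => by
      have h := List.all_eq_true.1 hfm (num p) (List.mem_range.2 (num_lt p))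
      rw [beq_iff_eq] at h
      rw [mem_ofMask, ← h, beq_iff_eq, ← num_mkPerm (inM24_ok rep_mem.1)]
      exact ⟨fun e => num_injective e, fun e => by rw [e]⟩
    rw [← card_stab_octad hoct]
    obtain ⟨L, hL⟩ : ∃ L, L = orbP := ⟨_, rfl⟩
    rw [← hL] at ho hnd hlen
    have hstab : ∀ c : C0, (c.1 : ↥M24) ∈ MulAction.stabilizer M24 (ofMask fMask) := fun c => by
      have hc : ((c.1 : ↥M24) : Equiv.Perm GolayPt) * mkPerm repT8 = mkPerm repT8 * c.1 := by
        rw [← hz0]; exact congrArg Subtype.val (Subgroup.mem_centralizer_singleton_iff.1 c.2)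
      refine MulAction.mem_stabilizer_iff.2 (Finset.eq_of_subset_of_card_le ?_ (card_smul_perm _ _).ge)
      intro p hp
      rw [show (c.1 : ↥M24) • ofMask fMask = ((c.1 : ↥M24) : Equiv.Perm GolayPt) • ofMask fMask from rfl, smul_eq_image, Finset.mem_image] at hp
      obtain ⟨r, hr, rfl⟩ := hp
      rw [hfix, ← Equiv.Perm.mul_apply, ← hc, Equiv.Perm.mul_apply, (hfix r).1 hr]
    have hk : ∀ k : Fin L.length, (⟨mkPerm (L.get k).1, mkPerm_mem_M24 (ho _ (List.get_mem _ _)).1.1.1.1⟩ : ↥M24) ∈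
        MulAction.stabilizer M24 (ofMask fMask) := fun k => MulAction.mem_stabilizer_iff.2 (by
      show mkPerm (L.get k).1 • ofMask fMask = ofMask fMask
      rw [smul_ofMask (inM24_ok (ho _ (List.get_mem _ _)).1.1.1.1), (ho _ (List.get_mem _ _)).1.1.2])
    let T : C0 × Fin L.length → MulAction.stabilizer M24 (ofMask fMask) := fun a => ⟨_, mul_mem (hk a.2) (hstab a.1)⟩
    have hT : Function.Injective T := by
      rintro ⟨c, k⟩ ⟨c', k'⟩ e
      have hcm : ∀ x : C0, ((x.1 : ↥M24) : Equiv.Perm GolayPt) * mkPerm repT8 = mkPerm repT8 * x.1 := fun x => by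
        rw [← hz0]; exact congrArg Subtype.val (Subgroup.mem_centralizer_singleton_iff.1 x.2)
      have hy : ∀ l : Fin L.length, mkPerm (L.get l).2 * mkPerm (L.get l).1 = mkPerm (L.get l).1 * mkPerm repT8 :=
        fun l => (mkPerm_comp (ho _ (List.get_mem _ _)).2).symm.trans (mkPerm_comp (ho _ (List.get_mem _ _)).1.2)
      have e0 : mkPerm (L.get k).1 * ((c.1 : ↥M24) : Equiv.Perm GolayPt) = mkPerm (L.get k').1 * ((c'.1 : ↥M24) : Equiv.Perm GolayPt) :=
        congrArg (fun t : MulAction.stabilizer M24 (ofMask fMask) => ((t.1 : ↥M24) : Equiv.Perm GolayPt)) e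
      have e1 : mkPerm (L.get k).2 = mkPerm (L.get k').2 := by
        apply mul_right_cancel (b := mkPerm (L.get k).1 * ((c.1 : ↥M24) : Equiv.Perm GolayPt))
        conv_rhs => rw [e0]
        rw [← mul_assoc, hy, mul_assoc, ← hcm, ← mul_assoc, e0, mul_assoc, hcm, ← mul_assoc, ← hy, mul_assoc]
      have hkk : k = k' := by
        have hn := nodup_of_nodupB _ _ hnd
        have h3 : (L.map fun p => packL ((List.range 24).map (app p.2))).get ⟨k, by simp⟩ =
            (L.map fun p => packL ((List.range 24).map (app p.2))).get ⟨k', by simp⟩ := by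
          simp only [List.get_eq_getElem, List.getElem_map]
          refine congrArg packL (List.map_congr_left fun i hi => ?_)
          rw [List.mem_range] at hi
          rw [← img_mkPerm (ho _ (List.getElem_mem _)).1.1.1.2 hi, ← img_mkPerm (ho _ (List.getElem_mem _)).1.1.1.2 hi]
          exact congrArg (fun q => img q i) e1
        simpa [Fin.ext_iff] using hn.injective_get h3
      subst hkk
      exact Prod.ext (Subtype.ext (Subtype.ext (mul_left_cancel e0))) rfl
    have := Nat.card_le_card_of_injective T hT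
    rwa [Nat.card_prod, Nat.card_fin, hlen] at this
  have hHcard : Nat.card H = 168 := by
    have hb : Function.Bijective (Matrix.SpecialLinearGroup.toGL : H → GL (Fin 3) (ZMod 2)) := by
      refine ⟨Matrix.SpecialLinearGroup.toGL_injective, fun g => ⟨⟨g.1, ?_⟩, Units.ext rfl⟩⟩
      rcases zmod2 (g.1.det) with h | h
      · exact absurd h ((Matrix.isUnit_iff_isUnit_det _).1 g.isUnit).ne_zero
      · exact h
    rw [Nat.card_congr (Equiv.ofBijective _ hb), Matrix.card_GL_field]
    simp [Fin.prod_univ_three, ZMod.card]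
  have hdec0 : ∀ c ∈ C0, ∃ x g, c = ι0 x * κ0 g := by
    let T : X 3 × H → C0 := fun a => ⟨ι0 a.1 * κ0 a.2,
      mul_mem (Subgroup.mem_centralizer_singleton_iff.2 (hιC0 a.1)) (Subgroup.mem_centralizer_singleton_iff.2 (hκC0 a.2))⟩
    have hT : Function.Injective T := by
      rintro ⟨x, g⟩ ⟨x', g'⟩ e
      have e0 : ι0 x * κ0 g = ι0 x' * κ0 g' := congrArg Subtype.val e
      have e1 : ι0 (x'⁻¹ * x) = κ0 (g' * g⁻¹) := by
        rw [map_mul, map_mul, map_inv, map_inv, eq_mul_inv_iff_mul_eq, mul_assoc, e0, inv_mul_cancel_left]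
      have hg : g' * g⁻¹ = 1 := Matrix.SpecialLinearGroup.toGL_injective (by
        rw [map_one]
        refine Units.ext (Matrix.ext_of_mulVec_single fun i => ?_)
        obtain ⟨y, hy, hyv⟩ := hconj0 (g' * g⁻¹) ⟨0, Pi.single i 1, 0⟩
        rw [← e1, ← map_inv, ← map_mul, ← map_mul] at hy
        rw [Units.val_one, Matrix.one_mulVec]
        show (g' * g⁻¹).1 *ᵥ Pi.single i 1 = _
        rw [← hyv, ← hι hy]
        show (x'⁻¹ * x).v + Pi.single i 1 + (x'⁻¹ * x).v = Pi.single i 1
        rw [add_right_comm, vec_two, zero_add])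
      obtain rfl : g = g' := (mul_inv_eq_one.1 hg).symm
      exact Prod.ext (hι (mul_right_cancel e0)) rfl
    have hb : Function.Bijective T := by
      refine (Nat.bijective_iff_injective_and_card T).2 ⟨hT, le_antisymm (Nat.card_le_card_of_injective T hT) ?_⟩
      rw [Nat.card_prod, card_X, hHcard]
      omega
    intro c hc
    obtain ⟨⟨x, g⟩, e⟩ := hb.2 ⟨c, hc⟩
    exact ⟨x, g, (congrArg Subtype.val e).symm⟩
  -- transport to the given involution
  have hfixN : fixN (z : Equiv.Perm GolayPt) = 8 := by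
    have h := (mem_octads.1 hfix).2
    unfold fixN
    convert h
  obtain ⟨c, hc, hcase⟩ := inv_cases z.2 (by rw [← hz]; exact (orderOf_submonoid z).trans rfl)
  rcases hcase with ⟨hcz, -⟩ | ⟨-, h0⟩
  swap
  · rw [h0] at hfixN; cases hfixN
  let φ : ↥M24 ≃* ↥M24 := MulAut.conj (⟨c, hc⟩ : ↥M24)⁻¹
  have hφz : φ z0 = z := Subtype.ext (by
    show c⁻¹ * (z0 : Equiv.Perm GolayPt) * c⁻¹⁻¹ = z
    rw [hz0, ← hcz]; group)
  let ι : X 3 →* ↥M24 := φ.toMonoidHom.comp ι0
  let κ : H →* ↥M24 := φ.toMonoidHom.comp κ0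
  have hC : ∀ w, w ∈ Subgroup.centralizer ({z} : Set ↥M24) ↔ w * ι ⟨1, 0, 0⟩ = ι ⟨1, 0, 0⟩ * w := fun w => by
    rw [show ι ⟨1, 0, 0⟩ = z from hφz]; exact Subgroup.mem_centralizer_singleton_iff
  have hκC : ∀ g, κ g ∈ Subgroup.centralizer ({z} : Set ↥M24) := fun g => (hC _).2 (by
    show φ (κ0 g) * φ z0 = φ z0 * φ (κ0 g)
    rw [← map_mul, ← map_mul, hκC0 g])
  have hdec : ∀ w ∈ Subgroup.centralizer ({z} : Set ↥M24), ∃ x g, w = ι x * κ g := fun w hw => by
    obtain ⟨x, g, e⟩ := hdec0 (φ.symm w) (Subgroup.mem_centralizer_singleton_iff.2 (φ.injective (by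
      rw [map_mul, map_mul, φ.apply_symm_apply, hφz]; exact Subgroup.mem_centralizer_singleton_iff.1 hw)))
    refine ⟨x, g, ?_⟩
    show w = φ (ι0 x) * φ (κ0 g)
    rw [← map_mul, ← e, φ.apply_symm_apply]
  have hconj : ∀ g x, ∃ y, κ g * ι x * (κ g)⁻¹ = ι y ∧ y.v = ((ρ g : GL (Fin 3) (ZMod 2)) : Matrix (Fin 3) (Fin 3) (ZMod 2)) *ᵥ x.v := fun g x => by
    obtain ⟨y, hy, hyv⟩ := hconj0 g x
    refine ⟨y, ?_, hyv⟩
    show φ (κ0 g) * φ (ι0 x) * (φ (κ0 g))⁻¹ = φ (ι0 y)
    rw [← map_inv, ← map_mul, ← map_mul, hy]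
  have htr : ∀ x y : Fin 3 → ZMod 2, x ≠ 0 → y ≠ 0 →
      ∃ h, ((ρ h : GL (Fin 3) (ZMod 2)) : Matrix (Fin 3) (Fin 3) (ZMod 2)) *ᵥ x = y := fun x y hx hy => by
    obtain ⟨g, hg⟩ := gl_trans x y hx hy
    refine ⟨⟨g.1, ?_⟩, hg⟩
    rcases zmod2 (g.1.det) with h | h
    · exact absurd h ((Matrix.isUnit_iff_isUnit_det _).1 g.isUnit).ne_zero
    · exact h
  have hιinj : Function.Injective ι := φ.injective.comp hι
  obtain ⟨hQr, hex, hcard, hE, hL2, hL3, hcen, hK⟩ := pack (by norm_num : 1 ≤ 3) ι hιinj κ (φ.injective.comp hκ) ρ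
    Matrix.SpecialLinearGroup.toGL_injective htr _ hC hκC hdec hconj Q hQ
  refine ⟨hex, hcard, hE, ?_, hK⟩
  let g : ↥M24 := φ ⟨mkPerm gP, mkPerm_mem_M24 hgP⟩
  have hgz : g * z * g⁻¹ = ι (ofX qP) := by
    rw [mul_inv_eq_iff_eq_mul, ← hφz]
    show φ _ * φ z0 = φ (ι0 (ofX qP)) * φ _
    rw [← map_mul, ← map_mul]
    refine congrArg φ (Subtype.ext ?_)
    show mkPerm gP * (z0 : Equiv.Perm GolayPt) = mkPerm (tabX.getD (idxX (ofX qP)) 0) * mkPerm gP
    rw [hz0, hqP]
    exact (mkPerm_comp hg1).symm.trans (mkPerm_comp hg2)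
  refine (Cfsg.Agent.S5422.result Q hex hL2 hL3 3 (by norm_num) hcard g (fun hg => ?_) ?_).2.2
  · have h1 : g * z * g⁻¹ ∈ (Subgroup.center ↥Q).map Q.subtype :=
      (Subgroup.mem_normalizer_iff.1 hg z).1 ((hcen z).2 (Or.inr hφz.symm))
    rw [hgz] at h1
    rcases (hcen _).1 h1 with h | h
    · rw [← map_one ι] at h
      exact hq0 (hqP ▸ (congrArg idxX (hιinj h)).trans hX0)
    · exact hqne (hqP ▸ congrArg idxX (hιinj h))
  · rintro _ ⟨w, hw, rfl⟩
    show g * w * g⁻¹ ∈ Q
    rcases (hcen w).1 hw with rfl | rfl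
    · rw [mul_one, mul_inv_cancel]; exact one_mem Q
    · rw [show ι ⟨1, 0, 0⟩ = z from hφz, hgz, hQr]; exact ⟨_, rfl⟩

end Cfsg.Agent.S5425
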