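import Cfsg.Statements.S5426
import Cfsg.Agent.Inv.Component
import Cfsg.Agent.Inv.CharTwo
import Cfsg.Agent.Inv.CharP2
import Cfsg.Agent.Inv.CharPLocal
import Cfsg.Agent.Inv.CyclicSylow
import Cfsg.Agent.Perm.MinClass
import Cfsg.Agent.Solv.CoprimeAction
import Cfsg.Agent.Solv.FittingBasic
import Cfsg.Agent.Spor.LargeSymm
-- import your own Cfsg.Agent.* helpers here

set_option autoImplicit false
open Cfsg

namespace Cfsg.Agent.S5426

open scoped commutatorElement Pointwise


/-- every non-trivial subgroup normalised by a large extraspecial subgroup contains the central involution -/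
theorem mem_of_normalized {G : Type*} [Group G] [Finite G] {Q : Subgroup G} {z : G}
    (hp : IsPGroup 2 Q) (hL4 : ∀ K : Subgroup G, Odd (Nat.card K) → Q ≤ Subgroup.normalizer (K : Set G) → K = ⊥)
    (hC : ∀ c, (∀ q ∈ Q, q * c = c * q) → c = 1 ∨ c = z)
    (N : Subgroup G) (hN : Q ≤ Subgroup.normalizer (N : Set G)) (hN1 : N ≠ ⊥) : z ∈ N := by
  classical
  haveI : Fact (Nat.Prime 2) := ⟨Nat.prime_two⟩
  have hev : 2 ∣ Nat.card N := by
    rw [← even_iff_two_dvd, ← Nat.not_odd_iff_even]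
    exact fun h => hN1 (hL4 N h hN)
  set X := Q ⊔ N
  haveI hn : (N.subgroupOf X).Normal :=
    (Subgroup.normal_subgroupOf_iff_le_normalizer le_sup_right).2 (sup_le hN Subgroup.le_normalizer)
  obtain ⟨S, hS⟩ := (hp.of_equiv (Subgroup.subgroupOfEquivOfLe (le_sup_left : Q ≤ X)).symm).exists_le_sylow
  obtain ⟨P, hP⟩ := CfsgLib.Inv.sylow_inf_normal S (N.subgroupOf X)
  have hev' : 2 ∣ Nat.card (N.subgroupOf X) := by
    rwa [Nat.card_congr (Subgroup.subgroupOfEquivOfLe (le_sup_right : N ≤ X)).toEquiv]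
  have hP2 : 2 ∣ Nat.card (P : Subgroup (N.subgroupOf X)) := P.dvd_card_of_dvd_card hev'
  have hne : (N.subgroupOf X).subgroupOf (S : Subgroup X) ≠ ⊥ := by
    intro e
    have h : (S : Subgroup X) ⊓ N.subgroupOf X = ⊥ := by
      rw [inf_comm, ← disjoint_iff, ← Subgroup.subgroupOf_eq_bot]; exact e
    rw [← Subgroup.card_map_of_injective (N.subgroupOf X).subtype_injective, hP, h, Subgroup.card_bot] at hP2
    norm_num at hP2
  have hmc := CfsgLib.Perm.inf_center_ne_bot S.isPGroup' _ hne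
  rw [Ne, Subgroup.eq_bot_iff_forall] at hmc
  push Not at hmc
  obtain ⟨v, hv, hv1⟩ := hmc
  obtain ⟨hvN, hvc⟩ := Subgroup.mem_inf.1 hv
  rcases hC v.1.1 fun q hq => congrArg (fun s : (S : Subgroup X) => s.1.1)
    (Subgroup.mem_center_iff.1 hvc ⟨⟨q, le_sup_left (b := N) hq⟩, hS hq⟩) with e | e
  · exact absurd (Subtype.ext (Subtype.ext e)) hv1
  · rw [← e]; exact hvN

/-- Let Q be a large extraspecial 2-subgroup of the finite group G (extraspecial; centralizer equal to its centre; normal in the centralizer of its centre; normalizing no non-trivial subgroup of odd order) with centre generated by z, and let M be the normal closure of z in G. Then one of the following holds: Q is normal in G; or M is abelian and the generalized Fitting subgroup of G is its largest normal 2-subgroup; or M is the generalized Fitting subgroup of G and is a non-abelian simple group; or M is the generalized Fitting subgroup of G and is the direct product of a non-abelian simple subgroup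 L and its conjugate u L u⁻¹ by some u in Q (the two meet trivially and commute elementwise), with z = z₁ (u z₁ u⁻¹) for some z₁ in L whose centralizer in L is a Sylow 2-subgroup of L with Frattini subgroup inside the subgroup generated by z₁, and Q is not the largest normal 2-subgroup of the centralizer of z. -/
theorem result {G : Type*} [Group G] [Finite G] (Q : Subgroup G) (hQ : Cfsg.IsLargeExtraspecial Q) (z : G) (hz : ((Subgroup.center ↥Q).map Q.subtype) = Subgroup.zpowers z) (M : Subgroup G) (hM : M = Subgroup.normalClosure ({z} : Set G)) : Q.Normal ∨ (IsMulCommutative ↥M ∧ Cfsg.generalizedFittingSubgroup G = Cfsg.pCore 2 G) ∨ (M = Cfsg.generalizedFittingSubgroup G ∧ IsSimpleGroup ↥M ∧ ¬ IsMulCommutative ↥M) ∨ (M = Cfsg.generalizedFittingSubgroup G ∧ ∃ (L : Subgroup G) (u : G), u ∈ Q ∧ IsSimpleGroup ↥L ∧ ¬ IsMulCommutative ↥L ∧ L ⊓ (L).map (MulAut.conj u).toMonoidHom = ⊥ ∧ (∀ x ∈ L, ∀ y ∈ (L).map (MulAut.conj u).toMonoidHom, x * y = y * x) ∧ L ⊔ (L).map (MulAut.conj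 u).toMonoidHom = M ∧ ∃ z₁ ∈ L, z = z₁ * (u * z₁ * u⁻¹) ∧ (∃ R : Sylow 2 ↥L, (R : Subgroup ↥L) = (Subgroup.centralizer ({z₁} : Set G)).subgroupOf L ∧ (frattini ↥(R : Subgroup ↥L)).map ((L.subtype).comp (R : Subgroup ↥L).subtype) ≤ Subgroup.zpowers z₁) ∧ Q ≠ (Cfsg.pCore 2 ↥(Subgroup.centralizer ({z} : Set G))).map (Subgroup.centralizer ({z} : Set G)).subtype) := by
  classical
  haveI : Fact (Nat.Prime 2) := ⟨Nat.prime_two⟩
  obtain ⟨hE, hL2, hL3, hL4⟩ := hQ
  have hzo : orderOf z = 2 := by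
    rw [← Nat.card_zpowers, ← hz, Subgroup.card_map_of_injective Q.subtype_injective, hE.2]
  have hz1 : z ≠ 1 := fun e => by rw [e, orderOf_one] at hzo; norm_num at hzo
  have hz2 : z * z = 1 := by rw [← pow_two, ← hzo]; exact pow_orderOf_eq_one z
  have hzp : ∀ v ∈ Subgroup.zpowers z, v = 1 ∨ v = z := by
    intro v hv
    rw [mem_zpowers_iff_mem_range_orderOf, hzo] at hv
    simp only [Finset.mem_image, Finset.mem_range] at hv
    obtain ⟨k, hk, rfl⟩ := hv
    interval_cases k <;> simp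
  have hC : ∀ c, (∀ q ∈ Q, q * c = c * q) → c = 1 ∨ c = z := fun c hc => hzp c (hz ▸ hL2 ▸ hc)
  have hp := hE.1.1
  have hkey := mem_of_normalized hp hL4 hC
  have hzQ : z ∈ Q := Subgroup.map_subtype_le _ (hz.symm ▸ Subgroup.mem_zpowers z)
  have hzc : ∀ q ∈ Q, q * z = z * q := by
    intro q hq
    obtain ⟨c, hc, e⟩ : z ∈ (Subgroup.center ↥Q).map Q.subtype := hz.symm ▸ Subgroup.mem_zpowers z
    rw [← e]
    exact congrArg Subtype.val (Subgroup.mem_center_iff.1 hc ⟨q, hq⟩)
  have hCN : ∀ c : G, c * z = z * c → c ∈ Subgroup.normalizer (Q : Set G) := fun c hc => hL3 (by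
    rw [hz]
    rintro v ⟨k, rfl⟩
    exact (Commute.zpow_right hc k).symm.eq)
  have hMn : M.Normal := hM ▸ Subgroup.normalClosure_normal
  have hzM : z ∈ M := hM ▸ Subgroup.subset_normalClosure rfl
  have hmin : ∀ N : Subgroup G, N.Normal → N ≠ ⊥ → M ≤ N := fun N hN hN1 => by
    haveI := hN
    exact hM ▸ Subgroup.normalClosure_le_normal (Set.singleton_subset_iff.2
      (hkey N (by rw [Subgroup.normalizer_eq_top]; exact le_top) hN1))
  have hO : Cfsg.pPrimeCore 2 G = ⊥ := by
    haveI : (Cfsg.pPrimeCore 2 G).Normal := inferInstance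
    exact hL4 _ (Nat.coprime_two_right.1 (CfsgLib.Fus.coprime_card_pPrimeCore 2))
      (by rw [Subgroup.normalizer_eq_top]; exact le_top)
  have hFO := CfsgLib.Inv.fitting_eq_pCore_two hO
  by_cases hMc : IsMulCommutative M
  · refine Or.inr (Or.inl ⟨hMc, ?_⟩)
    have hlayer : Cfsg.layer G = ⊥ := CfsgLib.Inv.layer_eq_bot_iff.2 fun K hK => by
      have hKM : ⁅K, M⁆ = ⊥ := (CfsgLib.Inv.component_le_or_commute hK M).resolve_left fun h =>
        CfsgLib.Inv.component_not_solvable hK (by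
          haveI : IsMulCommutative K := ⟨⟨fun a b => Subtype.ext
            (show a.1 * b.1 = b.1 * a.1 from congrArg Subtype.val (hMc.is_comm.comm ⟨a, h a.2⟩ ⟨b, h b.2⟩))⟩⟩
          exact Group.isSolvable_of_comm fun a b => (inferInstance : IsMulCommutative K).is_comm.comm a b)
      set C := Subgroup.centralizer ({z} : Set G) with hCdef
      have hKC : K ≤ C := fun k hk => Subgroup.mem_centralizer_singleton_iff.2
        ((Subgroup.mem_centralizer_iff.1 ((Subgroup.commutator_eq_bot_iff_le_centralizer.1 hKM) hk)) z hzM).symm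
      have hQC : Q ≤ C := fun q hq => Subgroup.mem_centralizer_singleton_iff.2 (hzc q hq)
      haveI hQn : (Q.subgroupOf C).Normal := (Subgroup.normal_subgroupOf_iff_le_normalizer hQC).2
        fun c hc => hCN c (Subgroup.mem_centralizer_singleton_iff.1 hc)
      haveI : Group.IsNilpotent (Q.subgroupOf C) := (hp.of_equiv (Subgroup.subgroupOfEquivOfLe hQC).symm).isNilpotent
      have h := CfsgLib.Inv.component_commute_solvable (CfsgLib.Inv.isComponent_subgroupOf hK hKC)
        hQn.isSubnormal inferInstance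
      have hKQ : K ≤ Subgroup.zpowers z := fun k hk => hz ▸ hL2 ▸ fun q hq => congrArg Subtype.val
        (Subgroup.mem_centralizer_iff.1 ((Subgroup.commutator_eq_bot_iff_le_centralizer.1 h)
          (show (⟨k, hKC hk⟩ : C) ∈ K.subgroupOf C from hk)) ⟨q, hQC hq⟩ hq)
      refine CfsgLib.Inv.component_not_solvable hK (Group.isSolvable_of_comm fun a b => Subtype.ext ?_)
      obtain ⟨i, hi⟩ := hKQ a.2
      obtain ⟨j, hj⟩ := hKQ b.2
      show a.1 * b.1 = b.1 * a.1
      rw [← hi, ← hj]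
      exact (Commute.zpow_zpow (Commute.refl z) i j).eq
    rw [Cfsg.generalizedFittingSubgroup, hlayer, bot_sup_eq, hFO]
  refine Or.inr (Or.inr ?_)
  have hCM : Subgroup.centralizer (M : Set G) = ⊥ := by
    by_contra h
    haveI : (Subgroup.centralizer (M : Set G)).Normal := Subgroup.normal_centralizer
    have h1 := hmin _ inferInstance h
    exact hMc ⟨⟨fun a b => Subtype.ext (Subgroup.mem_centralizer_iff.1 (h1 b.2) a a.2)⟩⟩
  have hnc : ∀ u ∈ M, (∀ m ∈ M, m * u = u * m) → u = 1 := fun u _ h => by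
    rw [← Subgroup.mem_bot, ← hCM]; exact h
  have hzM' : ¬ ∀ m ∈ M, m * z = z * m := fun h => hz1 (hnc z hzM h)
  have hfit : Cfsg.fittingSubgroup G = ⊥ := by
    by_contra hne
    haveI := CfsgLib.Inv.fitting_nilpotent (G := G)
    have hMF := hmin _ (CfsgLib.Solv.fittingSubgroup_normal G) hne
    haveI : Group.IsNilpotent M := Group.nilpotent_of_mulEquiv (Subgroup.subgroupOfEquivOfLe hMF)
    haveI : Nontrivial M := ⟨⟨⟨z, hzM⟩, 1, fun e => hz1 (congrArg Subtype.val e)⟩⟩
    obtain ⟨c, hc, hc1⟩ : ∃ c ∈ Subgroup.center M, c ≠ 1 := by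
      by_contra h; push Not at h
      exact Group.IsNilpotent.center_ne_bot M ((Subgroup.eq_bot_iff_forall _).2 h)
    exact hc1 (Subtype.ext (hnc c.1 c.2 fun m hm => congrArg Subtype.val (Subgroup.mem_center_iff.1 hc ⟨m, hm⟩)))
  have hcompM : ∀ K : Subgroup G, Cfsg.IsComponent K → K ≤ M := fun K hK => by
    rcases CfsgLib.Inv.component_le_or_commute hK M with h | h
    · exact h
    · exact absurd (le_bot_iff.1 (hCM ▸ Subgroup.commutator_eq_bot_iff_le_centralizer.1 h)) (CfsgLib.Inv.component_ne_bot hK)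
  have hMF : M = Cfsg.generalizedFittingSubgroup G := by
    rw [Cfsg.generalizedFittingSubgroup, hfit, sup_bot_eq]
    refine le_antisymm (hmin _ CfsgLib.Inv.layer_normal fun h => ?_) (sSup_le hcompM)
    have h1 := CfsgLib.Inv.centralizer_genFitting_le (G := G)
    rw [Cfsg.generalizedFittingSubgroup, hfit, sup_bot_eq, h] at h1
    exact hz1 (Subgroup.mem_bot.1 (h1 fun v hv => by rw [Subgroup.mem_bot.1 hv, one_mul, mul_one]))
  have hML : M = Cfsg.layer G := by rw [hMF, Cfsg.generalizedFittingSubgroup, hfit, sup_bot_eq]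
  -- components are simple
  have hcen : ∀ K : Subgroup G, Cfsg.IsComponent K → Subgroup.center K = ⊥ := fun K hK => by
    haveI : IsMulCommutative ((Subgroup.center K).map K.subtype) := ⟨⟨by
      rintro ⟨_, a, ha, rfl⟩ ⟨_, b, hb, rfl⟩
      exact Subtype.ext (congrArg (fun t : K => (t : G)) (Subgroup.mem_center_iff.1 hb a))⟩⟩
    haveI : Group.IsNilpotent (Subgroup.center K) := by
      letI : CommGroup (Subgroup.center K) := { (inferInstance : Group (Subgroup.center K)) with
        mul_comm := fun a b => Subtype.ext (Subgroup.mem_center_iff.1 b.2 a.1) }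
      exact CommGroup.isNilpotent
    haveI : Group.IsNilpotent ((Subgroup.center K).map K.subtype) :=
      Group.nilpotent_of_mulEquiv ((Subgroup.center K).equivMapOfInjective K.subtype K.subtype_injective)
    have h := CfsgLib.Inv.subnormal_le_fitting
      ((inferInstance : (Subgroup.center K).Normal).isSubnormal.trans' hK.1) inferInstance
    rw [hfit, le_bot_iff, Subgroup.map_eq_bot_iff_of_injective _ K.subtype_injective] at h
    exact h
  have hsimple : ∀ K : Subgroup G, Cfsg.IsComponent K → IsSimpleGroup K ∧ ¬ IsMulCommutative K := fun K hK => by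
    haveI := CfsgLib.Inv.quasisimple_nontrivial hK.2
    refine ⟨⟨fun N hN => ?_⟩, fun h => ?_⟩
    · haveI := hN
      rcases CfsgLib.Inv.quasisimple_normal hK.2 N with h | h
      · exact Or.inl (le_bot_iff.1 (hcen K hK ▸ h))
      · exact Or.inr h
    · exact CfsgLib.Inv.quasisimple_center_ne_top hK.2
        ((Subgroup.eq_top_iff' _).2 fun a => Subgroup.mem_center_iff.2 fun b => h.is_comm.comm b a)
  obtain ⟨L, hL⟩ : ∃ L : Subgroup G, Cfsg.IsComponent L := by
    by_contra h
    push Not at h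
    rw [CfsgLib.Inv.layer_eq_bot_iff.2 h] at hML
    exact hz1 (Subgroup.mem_bot.1 (hML ▸ hzM))
  have hcomm : ∀ {A B : Subgroup G}, Cfsg.IsComponent A → Cfsg.IsComponent B → A ≠ B →
      ∀ a ∈ A, ∀ b ∈ B, a * b = b * a := fun hA hB hne a ha b hb =>
    ((Subgroup.mem_centralizer_iff.1 ((Subgroup.commutator_eq_bot_iff_le_centralizer.1
      (CfsgLib.Inv.components_commute hA hB hne)) ha)) b hb).symm
  by_cases hone : ∀ K : Subgroup G, Cfsg.IsComponent K → K = L
  · left
    have : M = L := hML.trans (le_antisymm (sSup_le fun K hK => (hone K hK).le) (CfsgLib.Inv.component_le_layer hL))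
    exact ⟨hMF, this ▸ hsimple L hL⟩
  push Not at hone
  obtain ⟨K0, hK0, hK0L⟩ := hone
  right
  refine ⟨hMF, L, ?_⟩
  -- conjugates
  set cj : G → Subgroup G → Subgroup G := fun u K => K.map (MulAut.conj u).toMonoidHom with hcj
  have hcjC : ∀ u K, Cfsg.IsComponent K → Cfsg.IsComponent (cj u K) := fun u K hK => CfsgLib.Inv.isComponent_conj hK u
  have hcjmul : ∀ u v K, cj u (cj v K) = cj (u * v) K := fun u v K => by
    simp only [hcj, Subgroup.map_map]
    congr 1
    ext x; simp [mul_assoc]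
  have hcj1 : ∀ K, cj 1 K = K := fun K => by
    ext x
    simp only [hcj, Subgroup.mem_map]
    exact ⟨by rintro ⟨y, hy, rfl⟩; simpa using hy, fun h => ⟨x, h, by simp⟩⟩
  have horb : ∀ K, Cfsg.IsComponent K → z ∈ sSup {J : Subgroup G | ∃ q ∈ Q, J = cj q K} := fun K hK => by
    refine hkey _ (fun q hq => ?_) fun e => ?_
    · have hle : ∀ r ∈ Q, (sSup {J : Subgroup G | ∃ q ∈ Q, J = cj q K}).map (MulAut.conj r).toMonoidHom ≤
          sSup {J : Subgroup G | ∃ q ∈ Q, J = cj q K} := fun r hr => by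
        rw [Subgroup.map_le_iff_le_comap]
        refine sSup_le ?_
        rintro _ ⟨s, hs, rfl⟩
        rw [← Subgroup.map_le_iff_le_comap]
        exact le_sSup ⟨r * s, mul_mem hr hs, hcjmul r s K⟩
      refine Subgroup.mem_normalizer_iff.2 fun v => ⟨fun hv => hle q hq ⟨v, hv, rfl⟩, fun hv => ?_⟩
      have h := hle q⁻¹ (inv_mem hq) ⟨_, hv, rfl⟩
      have h' : q⁻¹ * (q * v * q⁻¹) * q⁻¹⁻¹ ∈ sSup {J : Subgroup G | ∃ q ∈ Q, J = cj q K} := h
      rwa [show q⁻¹ * (q * v * q⁻¹) * q⁻¹⁻¹ = v by group] at h'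
    · have : cj 1 K ≤ sSup {J : Subgroup G | ∃ q ∈ Q, J = cj q K} := le_sSup ⟨1, one_mem Q, rfl⟩
      rw [e, hcj1] at this
      exact CfsgLib.Inv.component_ne_bot hK (le_bot_iff.1 this)
  -- some elements of the extraspecial group move every component in a transitive manner
  have htrans : ∀ K, Cfsg.IsComponent K → ∃ q ∈ Q, K = cj q L := by
    intro K hK
    by_contra hKo
    refine hzM' fun m hm => ?_
    suffices hle : M ≤ Subgroup.centralizer ({z} : Set G) by
      exact Subgroup.mem_centralizer_singleton_iff.1 (hle hm)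
    rw [hML]
    refine sSup_le fun J hJ j hj => Subgroup.mem_centralizer_singleton_iff.2 ?_
    have hcz : ∀ B, Cfsg.IsComponent B → (∀ q ∈ Q, J ≠ cj q B) → j * z = z * j := fun B hB hne => by
      have hle : sSup {I : Subgroup G | ∃ q ∈ Q, I = cj q B} ≤ Subgroup.centralizer ({j} : Set G) := sSup_le (by
        rintro _ ⟨q, hq, rfl⟩ b hb
        exact Subgroup.mem_centralizer_singleton_iff.2 (hcomm hJ (hcjC q B hB) (hne q hq) j hj b hb).symm)
      exact (Subgroup.mem_centralizer_singleton_iff.1 (hle (horb B hB))).symm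
    by_cases hJL : ∃ q ∈ Q, J = cj q L
    · refine hcz K hK fun q hq e => hKo ?_
      obtain ⟨r, hr, e'⟩ := hJL
      refine ⟨q⁻¹ * r, mul_mem (inv_mem hq) hr, ?_⟩
      rw [← hcjmul, ← e', e, hcjmul, inv_mul_cancel, hcj1]
    · push Not at hJL
      exact hcz L hL hJL
  obtain ⟨u, huQ, huK⟩ := htrans K0 hK0
  set L' := cj u L with hL'
  have hL'C : Cfsg.IsComponent L' := hcjC u L hL
  have hLL' : L' ≠ L := fun e => hK0L (huK.trans e)
  set Rest := sSup {K : Subgroup G | Cfsg.IsComponent K ∧ K ≠ L} with hRest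
  have hleRest : ∀ {K : Subgroup G}, Cfsg.IsComponent K → K ≠ L → K ≤ Rest := fun hK hne => le_sSup ⟨hK, hne⟩
  have hRestL : ∀ r ∈ Rest, ∀ l ∈ L, r * l = l * r := by
    intro r hr l hl
    have hle : Rest ≤ Subgroup.centralizer ({l} : Set G) := sSup_le fun K ⟨hK, hne⟩ k hk =>
      Subgroup.mem_centralizer_singleton_iff.2 (hcomm hK hL hne k hk l hl)
    exact Subgroup.mem_centralizer_singleton_iff.1 (hle hr)
  have hinf : ∀ x ∈ L, x ∈ Rest → x = 1 := fun x hx hx' => by
    have : (⟨x, hx⟩ : L) ∈ Subgroup.center L := Subgroup.mem_center_iff.2 fun l => Subtype.ext (hRestL x hx' l l.2).symm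
    rw [hcen L hL, Subgroup.mem_bot] at this
    exact congrArg Subtype.val this
  have huniq : ∀ a ∈ L, ∀ a' ∈ L, ∀ b ∈ Rest, ∀ b' ∈ Rest, a * b = a' * b' → a = a' ∧ b = b' := by
    intro a ha a' ha' b hb b' hb' e
    have e' : a'⁻¹ * a = b' * b⁻¹ := by
      calc a'⁻¹ * a = a'⁻¹ * (a * b) * b⁻¹ := by group
        _ = a'⁻¹ * (a' * b') * b⁻¹ := by rw [e]
        _ = _ := by group
    have h1 := hinf _ (mul_mem (inv_mem ha') ha) (e' ▸ mul_mem hb' (inv_mem hb))
    have h2 : a' = a := inv_mul_eq_one.1 h1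
    subst h2
    exact ⟨rfl, mul_left_cancel e⟩
  have hMsup : M ≤ L ⊔ Rest := hML ▸ sSup_le fun K hK => by
    by_cases hne : K = L
    · exact hne ▸ le_sup_left
    · exact (hleRest hK hne).trans le_sup_right
  obtain ⟨a, ha, b, hb, hzab⟩ : ∃ a ∈ L, ∃ b ∈ Rest, z = a * b := by
    obtain ⟨m, hm, x, hx, e⟩ := CfsgLib.Solv.exists_mul_of_mem_sup (X := Rest) (M := L) (fun r hr =>
      Subgroup.mem_normalizer_iff.2 fun v => ⟨fun hv => by rw [hRestL r hr v hv, mul_inv_cancel_right]; exact hv,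
        fun hv => by
          have := hRestL r hr _ hv
          have e1 : r * v = (r * v * r⁻¹) * r := by group
          rw [← this] at e1
          rwa [mul_left_cancel e1]⟩)
      (sup_comm L Rest ▸ hMsup hzM : z ∈ Rest ⊔ L)
    exact ⟨m, hm, x, hx, e⟩
  have hab : a * b = b * a := (hRestL b hb a ha).symm
  have hzl : ∀ c ∈ L, (c * z = z * c ↔ c * a = a * c) := by
    intro c hc
    rw [hzab]
    have hcb := hRestL b hb c hc
    constructor
    · intro h
      refine mul_right_cancel (b := b) ?_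
      calc c * a * b = c * (a * b) := mul_assoc _ _ _
        _ = a * b * c := h
        _ = a * c * b := by rw [mul_assoc, hcb, mul_assoc]
    · intro h
      calc c * (a * b) = (c * a) * b := (mul_assoc _ _ _).symm
        _ = a * (c * b) := by rw [h, mul_assoc]
        _ = a * b * c := by rw [← hcb, mul_assoc]
  have ha1 : a ≠ 1 := by
    intro e
    have hall : ∀ c ∈ L, c * z = z * c := fun c hc => (hzl c hc).2 (by rw [e, mul_one, one_mul])
    refine hzM' fun m hm => ?_
    suffices hle : M ≤ Subgroup.centralizer ({z} : Set G) by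
      exact Subgroup.mem_centralizer_singleton_iff.1 (hle hm)
    rw [hML]
    refine sSup_le fun J hJ j hj => Subgroup.mem_centralizer_singleton_iff.2 ?_
    obtain ⟨q, hq, rfl⟩ := htrans J hJ
    obtain ⟨c, hc, rfl⟩ := hj
    show q * c * q⁻¹ * z = z * (q * c * q⁻¹)
    calc q * c * q⁻¹ * z = q * c * (q⁻¹ * z) := by group
      _ = q * (c * z) * q⁻¹ := by rw [hzc q⁻¹ (inv_mem hq)]; group
      _ = q * (z * c) * q⁻¹ := by rw [hall c hc]
      _ = (q * z) * c * q⁻¹ := by group
      _ = z * (q * c * q⁻¹) := by rw [hzc q hq]; group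
  have ha2 : a * a = 1 := by
    refine (huniq (a * a) (mul_mem ha ha) 1 (one_mem _) (b * b) (mul_mem hb hb) 1 (one_mem _) ?_).1
    calc a * a * (b * b) = a * (a * b) * b := by group
      _ = a * (b * a) * b := by rw [← hab]
      _ = (a * b) * (a * b) := by group
      _ = 1 * 1 := by rw [← hzab, hz2, one_mul]
  -- centraliser of the projection
  set R := L ⊓ Subgroup.centralizer ({a} : Set G) with hRdef
  have hRmem : ∀ c, c ∈ R ↔ c ∈ L ∧ c * z = z * c := fun c => by
    rw [hRdef, Subgroup.mem_inf, Subgroup.mem_centralizer_singleton_iff]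
    exact ⟨fun h => ⟨h.1, (hzl c h.1).2 h.2⟩, fun h => ⟨h.1, (hzl c h.1).1 h.2⟩⟩
  have hmove : ∀ c, c ∈ R → c * (u * c⁻¹ * u⁻¹) ∈ Q ∧ u * c⁻¹ * u⁻¹ ∈ Rest := by
    intro c hc
    obtain ⟨hcL, hcz⟩ := (hRmem c).1 hc
    refine ⟨?_, hleRest hL'C hLL' ⟨c⁻¹, inv_mem hcL, rfl⟩⟩
    rw [show c * (u * c⁻¹ * u⁻¹) = (c * u * c⁻¹) * u⁻¹ by group]
    exact mul_mem ((Subgroup.mem_normalizer_iff.1 (hCN c hcz) u).1 huQ) (inv_mem huQ)
  have hsqQ : ∀ x ∈ Q, x * x = 1 ∨ x * x = z := fun x hx => hzp _ (hz ▸ Subgroup.mem_map.2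
    ⟨_, CfsgLib.Spor.LargeSymm.sq_central hE ⟨x, hx⟩, rfl⟩)
  have hsq : ∀ c ∈ R, c * c = 1 ∨ c * c = a := by
    intro c hc
    obtain ⟨hxQ, hd⟩ := hmove c hc
    have hcL := ((hRmem c).1 hc).1
    set d := u * c⁻¹ * u⁻¹
    have e : c * d * (c * d) = c * c * (d * d) := by
      calc c * d * (c * d) = c * (d * c) * d := by group
        _ = c * (c * d) * d := by rw [hRestL d hd c hcL]
        _ = _ := by group
    rcases hsqQ _ hxQ with h | h <;> rw [e] at h
    · exact Or.inl (huniq _ (mul_mem hcL hcL) 1 (one_mem _) _ (mul_mem hd hd) 1 (one_mem _) (by rw [h, one_mul])).1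
    · exact Or.inr (huniq _ (mul_mem hcL hcL) a ha _ (mul_mem hd hd) b hb (by rw [h, hzab])).1
  have hR2 : IsPGroup 2 R := fun c => ⟨2, Subtype.ext (by
    rw [Subgroup.coe_pow, show (2 : ℕ) ^ 2 = 2 + 2 from rfl, pow_add, pow_two, Subgroup.coe_one]
    rcases hsq c.1 c.2 with h | h <;> rw [h]
    · rw [one_mul]
    · rw [ha2])⟩
  haveI := (hsimple L hL).1
  have hLna := (hsimple L hL).2
  let aL : L := ⟨a, ha⟩
  have haR : a ∈ R := Subgroup.mem_inf.2 ⟨ha, Subgroup.mem_centralizer_singleton_iff.2 rfl⟩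
  -- the centraliser has more than two elements
  have hbig : ¬ ∀ c ∈ R, c = 1 ∨ c = a := by
    intro hsmall
    have hao : orderOf aL = 2 := orderOf_eq_prime (Subtype.ext (by rw [Subgroup.coe_pow, pow_two]; exact ha2))
      fun e => ha1 (congrArg Subtype.val e)
    have hap : IsPGroup 2 (Subgroup.zpowers aL) := IsPGroup.of_card (n := 1) (by rw [Nat.card_zpowers, hao, pow_one])
    obtain ⟨T, hT⟩ := hap.exists_le_sylow
    have hcentr : ∀ c : L, c * aL = aL * c → c ∈ Subgroup.zpowers aL := fun c hc => by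
      rcases hsmall c.1 (Subgroup.mem_inf.2 ⟨c.2, Subgroup.mem_centralizer_singleton_iff.2 (congrArg Subtype.val hc)⟩) with e | e
      · rw [show c = 1 from Subtype.ext e]; exact one_mem _
      · rw [show c = aL from Subtype.ext e]; exact Subgroup.mem_zpowers _
    haveI : Nontrivial (T : Subgroup L) := ⟨⟨⟨aL, hT (Subgroup.mem_zpowers _)⟩, 1, fun e => ha1 (congrArg (fun v : (T : Subgroup L) => v.1.1) e)⟩⟩
    haveI := T.isPGroup'.center_nontrivial
    obtain ⟨⟨t, htc⟩, ht1⟩ := exists_ne (1 : Subgroup.center (T : Subgroup L))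
    have hta : t.1 = aL := by
      have h1 := hcentr t.1 (congrArg Subtype.val (Subgroup.mem_center_iff.1 htc ⟨aL, hT (Subgroup.mem_zpowers _)⟩)).symm
      rw [mem_zpowers_iff_mem_range_orderOf, hao] at h1
      simp only [Finset.mem_image, Finset.mem_range] at h1
      obtain ⟨k, hk, e⟩ := h1
      interval_cases k
      · exact absurd (Subtype.ext (Subtype.ext (by rw [← e, pow_zero]; rfl))) ht1
      · rw [← e, pow_one]
    have hT2 : (T : Subgroup L) = Subgroup.zpowers aL := le_antisymm (fun s hs => hcentr s (by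
      rw [← hta]; exact congrArg Subtype.val (Subgroup.mem_center_iff.1 htc ⟨s, hs⟩))) hT
    have hev : Even (Nat.card L) := even_iff_two_dvd.2 (hao ▸ orderOf_dvd_natCard aL)
    obtain ⟨H, hH⟩ := CfsgLib.Inv.exists_index_two_of_cyclic_sylow hev T (by rw [hT2]; infer_instance)
    rcases (Subgroup.normal_of_index_eq_two hH).eq_bot_or_eq_top with e | e
    · rw [e, Subgroup.index_bot] at hH
      exact hLna (haveI := isCyclic_of_prime_card (p := 2) hH; ⟨⟨(IsCyclic.commGroup (α := L)).mul_comm⟩⟩)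
    · rw [e, Subgroup.index_top] at hH
      norm_num at hH
  -- exactly two components
  have htwo : ∀ K, Cfsg.IsComponent K → K = L ∨ K = L' := by
    intro K hK
    by_contra hKne
    push Not at hKne
    obtain ⟨v, hvQ, hvK⟩ := htrans K hK
    have hvL' : cj v L' ≠ L := by
      intro e
      have hv2 : cj (v * v) L = L := by
        rcases hsqQ v hvQ with h | h
        · rw [h, hcj1]
        · rw [h]
          refine le_antisymm ?_ fun x hx => ?_
          all_goals
            have hzn : z ∈ Subgroup.normalizer (L : Set G) := CfsgLib.Inv.component_normal_in_layer hL (hML ▸ hzM)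
          · rintro _ ⟨x, hx, rfl⟩; exact (Subgroup.mem_normalizer_iff.1 hzn x).1 hx
          · refine ⟨z⁻¹ * x * z, ?_, by simp [mul_assoc]⟩
            have := (Subgroup.mem_normalizer_iff.1 (inv_mem hzn) x).1 hx
            rwa [inv_inv] at this
      rw [← hcjmul] at hv2
      have h3 : cj v⁻¹ (cj v (cj v L)) = cj v⁻¹ (cj v L') := by rw [hv2, e]
      rw [hcjmul, inv_mul_cancel, hcj1, hcjmul, inv_mul_cancel, hcj1, ← hvK] at h3
      exact hKne.2 h3
    refine hbig fun c hc => ?_
    obtain ⟨hxQ, hd⟩ := hmove c hc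
    have hcL := ((hRmem c).1 hc).1
    set d := u * c⁻¹ * u⁻¹ with hd'
    have hy : (c * d) * v * (c * d)⁻¹ * v⁻¹ ∈ Subgroup.zpowers z :=
      hz ▸ Subgroup.mem_map.2 ⟨_, CfsgLib.Fischer.Extra.comm_mem hE ⟨_, hxQ⟩ ⟨v, hvQ⟩, rfl⟩
    have hd2 : v * d⁻¹ * v⁻¹ ∈ Rest := hleRest (hcjC v L' hL'C) hvL'
      ⟨d⁻¹, inv_mem ⟨c⁻¹, inv_mem hcL, rfl⟩, rfl⟩
    have hc2 : v * c⁻¹ * v⁻¹ ∈ Rest := hleRest hK hKne.1 (by rw [hvK]; exact ⟨c⁻¹, inv_mem hcL, rfl⟩)
    set y := (c * d) * v * (c * d)⁻¹ * v⁻¹ with hydef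
    have hy' : y = c * (d * ((v * d⁻¹ * v⁻¹) * (v * c⁻¹ * v⁻¹))) := by rw [hydef]; group
    rcases hzp y hy with h | h <;> rw [hy'] at h
    · exact Or.inl (huniq c hcL 1 (one_mem _) _ (mul_mem hd (mul_mem hd2 hc2)) 1 (one_mem _) (by rw [h, one_mul])).1
    · exact Or.inr (huniq c hcL a ha _ (mul_mem hd (mul_mem hd2 hc2)) b hb (by rw [h, hzab])).1
  have hRest' : Rest = L' := le_antisymm (sSup_le fun K ⟨hK, hne⟩ => ((htwo K hK).resolve_left hne).le)
    (hleRest hL'C hLL')
  refine ⟨u, huQ, (hsimple L hL).1, hLna, ?_, fun x hx y hy => hcomm hL hL'C (Ne.symm hLL') x hx y hy, ?_, ?_⟩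
  · rw [Subgroup.eq_bot_iff_forall]
    intro x hx
    exact hinf x (Subgroup.mem_inf.1 hx).1 (hleRest hL'C hLL' (Subgroup.mem_inf.1 hx).2)
  · exact le_antisymm (sup_le (hcompM L hL) (hcompM L' hL'C)) (hMsup.trans (sup_le le_sup_left (hRest' ▸ le_sup_right)))
  have huz : u * z * u⁻¹ = z := by rw [hzc u huQ, mul_inv_cancel_right]
  have hbu : b = u * a * u⁻¹ := by
    have huL : cj u L' = L := by
      rcases htwo (cj u L') (hcjC u L' hL'C) with e | e
      · exact e
      · exfalso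
        have h3 : cj u⁻¹ (cj u L') = cj u⁻¹ L' := by rw [e]
        rw [hcjmul, inv_mul_cancel, hcj1, hL', hcjmul, inv_mul_cancel, hcj1] at h3
        exact hLL' h3
    have hub : u * b * u⁻¹ ∈ L := huL ▸ ⟨b, hRest' ▸ hb, rfl⟩
    have hua : u * a * u⁻¹ ∈ Rest := hRest'.symm ▸ ⟨a, ha, rfl⟩
    refine ((huniq (u * b * u⁻¹) hub a ha (u * a * u⁻¹) hua b hb ?_).2).symm
    calc u * b * u⁻¹ * (u * a * u⁻¹) = u * (b * a) * u⁻¹ := by group
      _ = u * z * u⁻¹ := by rw [← hab, ← hzab]
      _ = a * b := by rw [huz, hzab]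
  refine ⟨a, ha, by rw [← hbu, hzab], ?_, ?_⟩
  · -- the centraliser is a Sylow subgroup
    obtain ⟨P, hP⟩ := hp.exists_le_sylow
    have hzP : ∀ s ∈ (P : Subgroup G), s * z = z * s := by
      haveI : Nontrivial (P : Subgroup G) := ⟨⟨⟨z, hP hzQ⟩, 1, fun e => hz1 (congrArg Subtype.val e)⟩⟩
      haveI := P.isPGroup'.center_nontrivial
      obtain ⟨⟨t, htc⟩, ht1⟩ := exists_ne (1 : Subgroup.center (P : Subgroup G))
      have hcm : ∀ s ∈ (P : Subgroup G), s * t.1 = t.1 * s := fun s hs =>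
        congrArg Subtype.val (Subgroup.mem_center_iff.1 htc ⟨s, hs⟩)
      rcases hC t.1 (fun q hq => hcm q (hP hq)) with e | e
      · exact absurd (Subtype.ext (Subtype.ext e)) ht1
      · exact fun s hs => e ▸ hcm s hs
    obtain ⟨T, hT⟩ := CfsgLib.Inv.sylow_subnormal P hL.1
    have hTR : (T : Subgroup L) ≤ R.subgroupOf L := fun s hs => (hRmem s.1).2 ⟨s.2,
      hzP s.1 (Subgroup.mem_inf.1 (hT ▸ ⟨s, hs, rfl⟩ : s.1 ∈ (P : Subgroup G) ⊓ L)).1⟩
    have heq : (T : Subgroup L) = (Subgroup.centralizer ({a} : Set G)).subgroupOf L := by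
      rw [← Subgroup.inf_subgroupOf_right, inf_comm, ← hRdef]
      exact (T.is_maximal' (hR2.of_equiv (Subgroup.subgroupOfEquivOfLe (inf_le_left : R ≤ L)).symm) hTR).symm
    refine ⟨T, heq, ?_⟩
    have hsq' : ∀ s : (T : Subgroup L), s.1.1 * s.1.1 = 1 ∨ s.1.1 * s.1.1 = a := fun s => by
      have h := heq.le s.2
      exact hsq s.1.1 (Subgroup.mem_inf.2 ⟨s.1.2, h⟩)
    rw [Subgroup.map_le_iff_le_comap]
    set K := (Subgroup.zpowers a).comap (L.subtype.comp (T : Subgroup L).subtype) with hK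
    have hKc : ∀ s : (T : Subgroup L), s ∈ K → s.1.1 * s.1.1 = 1 ∧ ∀ t : (T : Subgroup L), t * s = s * t := by
      intro s hs
      obtain ⟨i, hi⟩ := hs
      have hi' : a ^ i = s.1.1 := hi
      refine ⟨?_, fun t => Subtype.ext (Subtype.ext ?_)⟩
      · rw [← hi']; show a ^ i * a ^ i = 1
        rw [← (Commute.refl a).mul_zpow, ha2, one_zpow]
      · show t.1.1 * s.1.1 = s.1.1 * t.1.1
        rw [← hi']
        exact (Commute.zpow_right (Subgroup.mem_centralizer_singleton_iff.1 (heq.le t.2) : Commute t.1.1 a) i).eq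
    have hKsq : ∀ s : (T : Subgroup L), s * s ∈ K := fun s => by
      show s.1.1 * s.1.1 ∈ Subgroup.zpowers a
      rcases hsq' s with h | h <;> rw [h]
      · exact one_mem _
      · exact Subgroup.mem_zpowers a
    haveI hKn : K.Normal := ⟨fun s hs t => by rw [(hKc s hs).2 t, mul_inv_cancel_right]; exact hs⟩
    refine CfsgLib.Solv.frattini_le_of_elementary (p := 2) K ?_ fun s => by rw [pow_two]; exact hKsq s
    rw [commutator_def, Subgroup.commutator_le]
    intro s _ t _
    have e : ⁅s, t⁆ = (s * t * (s * t)) * ((t⁻¹ * (s⁻¹ * s⁻¹) * t) * (t⁻¹ * t⁻¹)) := by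
      rw [commutatorElement_def]; group
    rw [e]
    refine mul_mem (hKsq _) (mul_mem ?_ (hKsq _))
    have := hKn.conj_mem _ (hKsq s⁻¹) t⁻¹
    rwa [inv_inv] at this
  · intro hQO
    refine hbig fun c hc => ?_
    set C := Subgroup.centralizer ({z} : Set G) with hCdef
    have hRC : ∀ x, x ∈ R → x ∈ C := fun x hx => Subgroup.mem_centralizer_singleton_iff.2 ((hRmem x).1 hx).2
    haveI hMC : (M.subgroupOf C).Normal := inferInstance
    have hMCp : IsPGroup 2 (M.subgroupOf C) := by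
      intro m
      refine ⟨2, Subtype.ext (Subtype.ext ?_)⟩
      obtain ⟨l, hl, r, hr, e⟩ : ∃ l ∈ L, ∃ r ∈ Rest, m.1.1 = l * r := by
        obtain ⟨r, hr, l, hl, e⟩ := CfsgLib.Solv.exists_mul_of_mem_sup (X := L) (M := Rest) (fun x hx =>
          Subgroup.mem_normalizer_iff.2 fun v => ⟨fun hv => by
              rw [← hRestL v hv x hx, mul_inv_cancel_right]; exact hv,
            fun hv => by
              have e1 := hRestL _ hv x hx
              rw [inv_mul_cancel_right] at e1
              rw [mul_left_cancel e1]; exact hv⟩)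
          (hMsup m.2)
        exact ⟨l, hl, r, hr, e.trans (hRestL r hr l hl)⟩
      have hm : m.1.1 * z = z * m.1.1 := Subgroup.mem_centralizer_singleton_iff.1 m.1.2
      have h1 : l * a * (r * b) = a * l * (b * r) := by
        calc l * a * (r * b) = l * (a * r) * b := by group
          _ = l * (r * a) * b := by rw [hRestL r hr a ha]
          _ = (l * r) * (a * b) := by group
          _ = (a * b) * (l * r) := by rw [← e, ← hzab, hm]
          _ = a * (b * l) * r := by group
          _ = a * (l * b) * r := by rw [hRestL b hb l hl]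
          _ = _ := by group
      obtain ⟨hla, hrb⟩ := huniq _ (mul_mem hl ha) _ (mul_mem ha hl) _ (mul_mem hr hb) _ (mul_mem hb hr) h1
      have hl4 : l ^ 4 = 1 := by
        have hlR : l ∈ R := Subgroup.mem_inf.2 ⟨hl, Subgroup.mem_centralizer_singleton_iff.2 hla⟩
        rw [show (4 : ℕ) = 2 + 2 from rfl, pow_add, pow_two]
        rcases hsq l hlR with h | h <;> rw [h]
        · rw [one_mul]
        · exact ha2
      obtain ⟨l', hl', el⟩ := (hRest' ▸ hr : r ∈ L')
      have el' : u * l' * u⁻¹ = r := el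
      have hr4 : r ^ 4 = 1 := by
        have hla' : l' * a = a * l' := by
          refine mul_left_cancel (a := u) (mul_right_cancel (b := u⁻¹) ?_)
          calc u * (l' * a) * u⁻¹ = (u * l' * u⁻¹) * (u * a * u⁻¹) := by group
            _ = (u * a * u⁻¹) * (u * l' * u⁻¹) := by rw [el', ← hbu, hrb]
            _ = u * (a * l') * u⁻¹ := by group
        have hlR : l' ∈ R := Subgroup.mem_inf.2 ⟨hl', Subgroup.mem_centralizer_singleton_iff.2 hla'⟩
        rw [← el', conj_pow, show (4 : ℕ) = 2 + 2 from rfl, pow_add, pow_two]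
        rcases hsq l' hlR with h | h <;> rw [h]
        · group
        · rw [ha2]; group
      show m.1.1 ^ 2 ^ 2 = 1
      rw [e, show (2 : ℕ) ^ 2 = 4 from rfl, Commute.mul_pow (hRestL r hr l hl).symm, hl4, hr4, one_mul]
    have hRQ : ∀ x ∈ R, x ∈ Q := fun x hx => by
      rw [hQO]
      exact ⟨⟨x, hRC x hx⟩, CfsgLib.Solv.le_pCore hMCp (hcompM L hL ((hRmem x).1 hx).1 :
        (⟨x, hRC x hx⟩ : C) ∈ M.subgroupOf C), rfl⟩
    have hcL := ((hRmem c).1 hc).1
    have hu' : u * c * u⁻¹ * c⁻¹ ∈ Subgroup.zpowers z :=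
      hz ▸ Subgroup.mem_map.2 ⟨_, CfsgLib.Fischer.Extra.comm_mem hE ⟨u, huQ⟩ ⟨c, hRQ c hc⟩, rfl⟩
    have hucR : u * c * u⁻¹ ∈ Rest := hRest'.symm ▸ ⟨c, hcL, rfl⟩
    rcases hzp _ hu' with e | e
    · left
      exact hinf c hcL ((mul_inv_eq_one.1 e) ▸ hucR)
    · right
      have e1 : 1 * (u * c * u⁻¹) = (a * c) * b := by
        rw [one_mul, mul_inv_eq_iff_eq_mul.1 e, hzab, mul_assoc, hRestL b hb c hcL, mul_assoc]
      have h := (huniq 1 (one_mem _) (a * c) (mul_mem ha hcL) _ hucR b hb e1).1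
      rw [eq_inv_of_mul_eq_one_right h.symm, inv_eq_of_mul_eq_one_right ha2]

end Cfsg.Agent.S5426
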