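import Cfsg.Statements.S5434
import Cfsg.Agent.Spor.LargeSymm
import Cfsg.Agent.Solv.CoprimeAction
import Cfsg.Agent.Solv.FittingBasic
import Cfsg.Agent.S5427
-- import your own Cfsg.Agent.* helpers here

set_option autoImplicit false
open Cfsg

namespace Cfsg.Agent.S5434

open scoped commutatorElement


/-- a non-abelian subgroup with centre inside the centre is extraspecial -/
theorem sub_extra {E : Type*} [Group E] [Finite E] (hE : Cfsg.IsExtraspecial 2 E) (D : Subgroup E)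
    (hD : ∀ a ∈ D, (∀ b ∈ D, a * b = b * a) → a ∈ Subgroup.center E) (hna : ∃ a ∈ D, ∃ b ∈ D, a * b ≠ b * a) :
    Cfsg.IsExtraspecial 2 D := by
  haveI : Fact (Nat.Prime 2) := ⟨Nat.prime_two⟩
  obtain ⟨a, ha, b, hb, hab⟩ := hna
  let c : D := ⁅(⟨a, ha⟩ : D), ⟨b, hb⟩⁆
  have hc : c.1 ∈ Subgroup.center E := CfsgLib.Fischer.Extra.comm_mem hE a b
  have hc1 : (⟨c.1, hc⟩ : Subgroup.center E) ≠ 1 := fun e =>
    hab (mul_inv_eq_iff_eq_mul.1 (mul_inv_eq_one.1 (congrArg Subtype.val e)))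
  have hmem : ∀ v : D, v ∈ Subgroup.center D → v = 1 ∨ v = c := fun v hv => by
    have hv' : v.1 ∈ Subgroup.center E := hD v v.2 fun u hu =>
      (congrArg Subtype.val (Subgroup.mem_center_iff.1 hv ⟨u, hu⟩)).symm
    by_cases h : v = 1
    · exact Or.inl h
    · exact Or.inr (Subtype.ext (congrArg (fun t : Subgroup.center E => (t : E))
        (CfsgLib.Fischer.Extra.center_cases hE ⟨v, hv'⟩ ⟨c.1, hc⟩
          (fun e => h (Subtype.ext (congrArg (fun t : Subgroup.center E => (t : E)) e))) hc1)))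
  have hle : ∀ v : D, v.1 ∈ Subgroup.center E → v ∈ Subgroup.center D := fun v hv =>
    Subgroup.mem_center_iff.2 fun u => Subtype.ext (Subgroup.mem_center_iff.1 hv u)
  have hcomm : commutator D ≤ Subgroup.center D := by
    rw [commutator_def, Subgroup.commutator_le]
    exact fun u _ v _ => hle _ (CfsgLib.Fischer.Extra.comm_mem hE u.1 v.1)
  have hcD : c ∈ commutator D := Subgroup.commutator_mem_commutator (Subgroup.mem_top _) (Subgroup.mem_top _)
  have heq : commutator D = Subgroup.center D := le_antisymm hcomm fun v hv => by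
    rcases hmem v hv with rfl | rfl
    · exact one_mem _
    · exact hcD
  have hp : IsPGroup 2 D := hE.1.1.to_subgroup D
  refine ⟨⟨hp, le_antisymm ?_ ?_, heq⟩, ?_⟩
  · refine CfsgLib.Solv.frattini_le_of_elementary (p := 2) _ hcomm fun x => hle _ ?_
    rw [Subgroup.coe_pow, pow_two]
    exact CfsgLib.Spor.LargeSymm.sq_central hE _
  · rw [← heq]; exact CfsgLib.Solv.commutator_le_frattini hp
  · refine le_antisymm ?_ ?_
    · rw [← hE.2]
      exact Nat.card_le_card_of_injective (fun v : Subgroup.center D => (⟨v.1.1, hD v.1.1 v.1.2 fun u hu =>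
        (congrArg Subtype.val (Subgroup.mem_center_iff.1 v.2 ⟨u, hu⟩)).symm⟩ : Subgroup.center E))
        fun u v h => Subtype.ext (Subtype.ext (congrArg (fun t : Subgroup.center E => (t : E)) h))
    · rw [Nat.succ_le_iff, Finite.one_lt_card_iff_nontrivial]
      exact ⟨⟨⟨c, heq ▸ hcD⟩, 1, fun e => hc1 (Subtype.ext (congrArg (fun t : Subgroup.center D => (t.1 : E)) e))⟩⟩

theorem sub_extra' {G : Type*} [Group G] [Finite G] {Q D : Subgroup G} (hE : Cfsg.IsExtraspecial 2 Q) (hDQ : D ≤ Q)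
    (hD : ∀ a ∈ D, (∀ b ∈ D, a * b = b * a) → ∀ q ∈ Q, q * a = a * q) (hna : ∃ a ∈ D, ∃ b ∈ D, a * b ≠ b * a) :
    Cfsg.IsExtraspecial 2 D := by
  obtain ⟨a, ha, b, hb, hab⟩ := hna
  have h := sub_extra hE (D.subgroupOf Q) (fun u hu h => Subgroup.mem_center_iff.2 fun q => Subtype.ext
      (hD u hu (fun v hv => congrArg Subtype.val (h ⟨v, hDQ hv⟩ hv)) q q.2))
    ⟨⟨a, hDQ ha⟩, ha, ⟨b, hDQ hb⟩, hb, fun e => hab (congrArg Subtype.val e)⟩
  exact Cfsg.Agent.S5427.extra_equiv (Subgroup.subgroupOfEquivOfLe hDQ).symm h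

/-- Let Q be a large extraspecial 2-subgroup of the finite group G (extraspecial; centralizer equal to its centre; normal in the centralizer of its centre; normalizing no non-trivial subgroup of odd order), and A a non-trivial subgroup of odd order of the normalizer of Q. Then Q is the central product of the centralizer of A in Q and the commutator subgroup [Q, A] (they generate Q and commute elementwise), [Q, A] is extraspecial, and the centralizer of A in Q is either the centre of Q or extraspecial. -/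
theorem result {G : Type*} [Group G] [Finite G] (Q : Subgroup G) (hQ : Cfsg.IsLargeExtraspecial Q) (A : Subgroup G) (hA : A ≤ Subgroup.normalizer (Q : Set G)) (hAodd : Odd (Nat.card ↥A)) (hA1 : A ≠ ⊥) : (Q ⊓ Subgroup.centralizer (A : Set G)) ⊔ ⁅Q, A⁆ = Q ∧ (∀ x ∈ Q ⊓ Subgroup.centralizer (A : Set G), ∀ y ∈ ⁅Q, A⁆, x * y = y * x) ∧ Cfsg.IsExtraspecial 2 ↥⁅Q, A⁆ ∧ (Q ⊓ Subgroup.centralizer (A : Set G) = ((Subgroup.center ↥Q).map Q.subtype) ∨ Cfsg.IsExtraspecial 2 ↥(Q ⊓ Subgroup.centralizer (A : Set G))) := by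
  classical
  haveI : Fact (Nat.Prime 2) := ⟨Nat.prime_two⟩
  obtain ⟨hE, hC, -, -⟩ := hQ
  set Z := (Subgroup.center ↥Q).map Q.subtype with hZ
  have hZQ : Z ≤ Q := Subgroup.map_subtype_le _
  have hZc : ∀ c ∈ Z, ∀ q ∈ Q, q * c = c * q := by
    rintro _ ⟨c, hc, rfl⟩ q hq
    exact congrArg Subtype.val (Subgroup.mem_center_iff.1 hc ⟨q, hq⟩)
  have hcZ : ∀ c, (∀ q ∈ Q, q * c = c * q) → c ∈ Z := fun c hc => hC ▸ hc
  have hAn : ∀ a ∈ A, ∀ q ∈ Q, a * q * a⁻¹ ∈ Q := fun a ha q hq => (Subgroup.mem_normalizer_iff.1 (hA ha) q).1 hq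
  have hcop : (Nat.card A).Coprime (Nat.card Q) := by
    obtain ⟨k, hk⟩ := hE.1.1.exists_card_eq
    rw [hk]; exact Nat.Coprime.pow_right k (Nat.coprime_two_right.2 hAodd)
  haveI : Group.IsNilpotent Q := hE.1.1.isNilpotent
  have hs : Group.IsSolvable A ∨ Group.IsSolvable Q := Or.inr inferInstance
  have hdec := CfsgLib.Solv.commutator_sup_inf_centralizer hA hcop hs
  have hBQ : ⁅Q, A⁆ ≤ Q := CfsgLib.Solv.commutator_le_of_le_normalizer hA
  set C := Q ⊓ Subgroup.centralizer (A : Set G) with hCdef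
  have hAZ : ∀ a ∈ A, ∀ c ∈ Z, a * c * a⁻¹ = c := by
    intro a ha c hc
    have hca : a * c * a⁻¹ ∈ Z := hcZ _ fun q hq => by
      have h := hZc c hc _ (by simpa using hAn a⁻¹ (inv_mem ha) q hq : a⁻¹ * q * a ∈ Q)
      calc q * (a * c * a⁻¹) = a * (a⁻¹ * q * a * c) * a⁻¹ := by group
        _ = a * (c * (a⁻¹ * q * a)) * a⁻¹ := by rw [h]
        _ = _ := by group
    by_cases h1 : c = 1
    · rw [h1]; group
    obtain ⟨c', hc', rfl⟩ := hc
    obtain ⟨d, hd, hde⟩ := hca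
    have h := CfsgLib.Fischer.Extra.center_cases hE ⟨d, hd⟩ ⟨c', hc'⟩
      (fun e => h1 (by
        have h2 : d.1 = 1 := congrArg (fun t : Subgroup.center Q => (t.1 : G)) e
        exact conj_eq_one_iff.1 (hde.symm.trans h2)))
      (fun e => h1 (congrArg (fun t : Subgroup.center Q => (t.1 : G)) e))
    rw [← hde]
    exact congrArg (fun t : Subgroup.center Q => (t.1 : G)) h
  have hkey : ∀ c ∈ C, ∀ y ∈ ⁅Q, A⁆, c * y = y * c := by
    intro c hc y hy
    obtain ⟨hcQ, hcA⟩ := Subgroup.mem_inf.1 hc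
    suffices h : ⁅Q, A⁆ ≤ Subgroup.centralizer ({c} : Set G) by
      exact (Subgroup.mem_centralizer_singleton_iff.1 (h hy)).symm
    rw [Subgroup.commutator_le]
    intro q hq a ha
    refine Subgroup.mem_centralizer_singleton_iff.2 ?_
    have hz : c * q * c⁻¹ * q⁻¹ ∈ Z := by
      exact ⟨⁅(⟨c, hcQ⟩ : Q), ⟨q, hq⟩⁆, CfsgLib.Fischer.Extra.comm_mem hE _ _, rfl⟩
    have hq' := hAn a ha q⁻¹ (inv_mem hq)
    have hca : a * c = c * a := hcA a ha
    set u := c * q * c⁻¹ * q⁻¹ with hu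
    have e1 : c * (a * q⁻¹ * a⁻¹) * c⁻¹ = a * (c * q⁻¹ * c⁻¹) * a⁻¹ := by
      calc c * (a * q⁻¹ * a⁻¹) * c⁻¹ = (c * a) * q⁻¹ * (c * a)⁻¹ := by group
        _ = (a * c) * q⁻¹ * (a * c)⁻¹ := by rw [hca]
        _ = _ := by group
    have e2 : c * q * c⁻¹ = u * q := by rw [hu]; group
    have e3 : c * q⁻¹ * c⁻¹ = q⁻¹ * u⁻¹ := by
      rw [hu]; group
    have e4 : u * (q * (a * q⁻¹ * a⁻¹)) = (q * (a * q⁻¹ * a⁻¹)) * u :=
      (hZc u hz _ (mul_mem hq hq')).symm
    have : c * ⁅q, a⁆ * c⁻¹ = ⁅q, a⁆ := by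
      rw [commutatorElement_def, show c * (q * a * q⁻¹ * a⁻¹) * c⁻¹ = (c * q * c⁻¹) * (c * (a * q⁻¹ * a⁻¹) * c⁻¹) by group,
        e1, e2, e3, show u * q * (a * (q⁻¹ * u⁻¹) * a⁻¹) = u * (q * (a * q⁻¹ * a⁻¹)) * (a * u⁻¹ * a⁻¹) by group,
        hAZ a ha u⁻¹ (inv_mem hz), e4]
      group
    exact (mul_inv_eq_iff_eq_mul.1 this).symm
  have hsup : C ⊔ ⁅Q, A⁆ = Q := le_antisymm (sup_le inf_le_left hBQ) fun q hq => by
    obtain ⟨x, hx, c, hc, rfl⟩ := hdec q hq
    exact mul_mem (Subgroup.mem_sup_right hx) (Subgroup.mem_sup_left hc)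
  have hnc : ∃ a ∈ A, ∃ q ∈ Q, a * q ≠ q * a := by
    by_contra hall
    push Not at hall
    refine hA1 ((Subgroup.eq_bot_iff_forall _).2 fun a ha => ?_)
    have : a ∈ Q := hZQ (hcZ a fun q hq => (hall a ha q hq).symm)
    have h1 := Subgroup.card_dvd_of_le (Subgroup.zpowers_le.2 ha)
    have h2 := Subgroup.card_dvd_of_le (Subgroup.zpowers_le.2 this)
    rw [Nat.card_zpowers] at h1 h2
    exact orderOf_eq_one_iff.1 (Nat.eq_one_of_dvd_coprimes hcop h1 h2)
  refine ⟨hsup, hkey, sub_extra' hE hBQ (fun y hy h q hq => ?_) ?_, ?_⟩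
  · obtain ⟨x, hx, c, hc, rfl⟩ := hdec q hq
    rw [mul_assoc, hkey c hc y hy, ← mul_assoc, ← h x hx, mul_assoc]
  · by_contra hab
    push Not at hab
    have hBZ : ⁅Q, A⁆ ≤ Z := fun y hy => hcZ y fun q hq => by
      obtain ⟨x, hx, c, hc, rfl⟩ := hdec q hq
      rw [mul_assoc, hkey c hc y hy, ← mul_assoc, ← hab y hy x hx, mul_assoc]
    have hB : ⁅Q, A⁆ = ⊥ := by
      rw [← CfsgLib.Solv.commutator_commutator_right hA hcop hs, Subgroup.commutator_eq_bot_iff_le_centralizer]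
      intro y hy a ha
      exact mul_inv_eq_iff_eq_mul.1 (hAZ a ha y (hBZ hy))
    obtain ⟨a, ha, q, hq, hne⟩ := hnc
    refine hne ?_
    have h : ⁅q, a⁆ ∈ (⊥ : Subgroup G) := hB ▸ Subgroup.commutator_mem_commutator hq ha
    rw [Subgroup.mem_bot, commutatorElement_eq_one_iff_mul_comm] at h
    exact h.symm
  · by_cases hab : ∀ x ∈ C, ∀ y ∈ C, x * y = y * x
    · left
      refine le_antisymm (fun x hx => hcZ x fun q hq => ?_) fun x hx => Subgroup.mem_inf.2 ⟨hZQ hx, fun a ha => ?_⟩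
      · obtain ⟨u, hu, c, hc, rfl⟩ := hdec q hq
        rw [mul_assoc, hab c hc x hx, ← mul_assoc, ← hkey x hx u hu, mul_assoc]
      · exact mul_inv_eq_iff_eq_mul.1 (hAZ a ha x hx)
    · right
      push Not at hab
      refine sub_extra' hE inf_le_left (fun x hx h q hq => ?_) hab
      obtain ⟨u, hu, c, hc, rfl⟩ := hdec q hq
      rw [mul_assoc, ← h c hc, ← mul_assoc, ← hkey x hx u hu, mul_assoc]

end Cfsg.Agent.S5434
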