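import Cfsg.Statements.S5428
import Cfsg.Agent.S5422
import Cfsg.Agent.S5427
import Cfsg.Agent.S5434
import Cfsg.Agent.S1265
import Cfsg.Agent.S0095
import Cfsg.Agent.Inv.Component
import Cfsg.Agent.Inv.CyclicSylow
import Cfsg.Agent.Base.ZStar.App
-- import your own Cfsg.Agent.* helpers here

set_option autoImplicit false
open Cfsg

namespace Cfsg.Agent.S5428

open scoped commutatorElement


/-- Let z be an involution of the finite group G whose centralizer C has generalized Fitting subgroup Q extraspecial (as a 2-group), let A be a subgroup of C of odd order, and let R be the centralizer of A in Q; suppose R has order at least 32, the largest normal subgroup of odd order of the centralizer of the subgroup generated by A and R lies in A, the order of that centralizer is not divisible by 4, and g is an element of G with g z g⁻¹ in R but outside the centre Z of Q. Let M be the subgroup generated by A and the centralizer of A (A is normal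 in it). Then: the centralizer in M of the subgroup generated by R and A, joined with A, equals the subgroup generated by A and Z; the image of R in M/A is a large extraspecial 2-subgroup of M/A; and g z g⁻¹ is conjugate to z inside the subgroup generated by R and the centralizer of A in g Q g⁻¹. -/
theorem result {G : Type*} [Group G] [Finite G] (z : G) (hz : orderOf z = 2) (Q : Subgroup G) (hQC : Q ≤ Subgroup.centralizer ({z} : Set G)) (hF : (Cfsg.generalizedFittingSubgroup ↥(Subgroup.centralizer ({z} : Set G))).map (Subgroup.centralizer ({z} : Set G)).subtype = Q) (hQ : Cfsg.IsExtraspecial 2 ↥Q) (A : Subgroup G) (hA : A ≤ Subgroup.centralizer ({z} : Set G)) (hAodd : Odd (Nat.card ↥A)) (R : Subgroup G) (hR : R = Q ⊓ Subgroup.centralizer (A : Set G)) (hR32 : 32 ≤ Nat.card ↥R) (hO : (Cfsg.oddCore ↥(Subgroup.centralizer ((A ⊔ R : Subgroup G) : Set G))).map (Subgroup.centralizer ((A ⊔ R : Subgroup G) : Set G)).subtype ≤ A) (h4 : ¬ 4 ∣ Nat.card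 ↥(Subgroup.centralizer ((A ⊔ R : Subgroup G) : Set G))) (g : G) (hgR : g * z * g⁻¹ ∈ R) (hgZ : g * z * g⁻¹ ∉ ((Subgroup.center ↥Q).map Q.subtype)) (M : Subgroup G) (hM : M = Subgroup.centralizer (A : Set G) ⊔ A) [hn : (A.subgroupOf M).Normal] : (M ⊓ Subgroup.centralizer ((R ⊔ A : Subgroup G) : Set G)) ⊔ A = A ⊔ ((Subgroup.center ↥Q).map Q.subtype) ∧ Cfsg.IsLargeExtraspecial ((R.subgroupOf M).map (QuotientGroup.mk' (A.subgroupOf M))) ∧ ∃ x ∈ R ⊔ ((Q).map (MulAut.conj g).toMonoidHom ⊓ Subgroup.centralizer (A : Set G)), x * (g * z * g⁻¹) * x⁻¹ = z := by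
  classical
  haveI : Fact (Nat.Prime 2) := ⟨Nat.prime_two⟩
  set C := Subgroup.centralizer ({z} : Set G) with hC
  set Q0 := Cfsg.generalizedFittingSubgroup ↥C with hQ0
  haveI hQn : Q0.Normal := CfsgLib.Inv.genFitting_normal
  have hCmem : ∀ c, c ∈ C ↔ c * z = z * c := fun c => Subgroup.mem_centralizer_singleton_iff
  have hz1 : z ≠ 1 := fun h => by rw [h, orderOf_one] at hz; norm_num at hz
  have hz2 : z * z = 1 := by rw [← pow_two, ← hz]; exact pow_orderOf_eq_one z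
  have hzp : ∀ v ∈ Subgroup.zpowers z, v = 1 ∨ v = z := by
    intro v hv
    rw [mem_zpowers_iff_mem_range_orderOf, hz] at hv
    simp only [Finset.mem_image, Finset.mem_range] at hv
    obtain ⟨k, hk, rfl⟩ := hv
    interval_cases k <;> simp
  have hN : C ≤ Subgroup.normalizer (Q : Set G) := by
    intro c hc
    rw [Subgroup.mem_normalizer_iff]
    intro v
    rw [← hF]
    constructor
    · rintro ⟨v', hv', rfl⟩
      exact ⟨⟨c, hc⟩ * v' * ⟨c, hc⟩⁻¹, hQn.conj_mem _ hv' _, rfl⟩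
    · rintro ⟨v', hv', e'⟩
      refine ⟨⟨c, hc⟩⁻¹ * v' * ⟨c, hc⟩, by simpa using hQn.conj_mem _ hv' (⟨c, hc⟩⁻¹ : C), ?_⟩
      show c⁻¹ * v'.1 * c = v
      rw [show v'.1 = c * v * c⁻¹ from e']; group
  have hcq : ∀ c : C, (∀ q ∈ Q0, q * c = c * q) → c ∈ Q0 := fun c hc => Cfsg.Agent.S1265.result (G := C) hc
  have hzQ : z ∈ Q := hF ▸ ⟨⟨z, (hCmem z).2 rfl⟩, hcq _ fun q _ => Subtype.ext ((hCmem q.1).1 q.2), rfl⟩
  have hzcomm : ∀ q ∈ Q, q * z = z * q := fun q hq => (hCmem q).1 (hQC hq)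
  have hcenter : (Subgroup.center ↥Q).map Q.subtype = Subgroup.zpowers z := by
    have hzc : (⟨z, hzQ⟩ : Q) ∈ Subgroup.center ↥Q := Subgroup.mem_center_iff.2 fun q => Subtype.ext (hzcomm q.1 q.2)
    refine (Subgroup.eq_of_le_of_card_ge (Subgroup.zpowers_le.2 (show z ∈ (Subgroup.center ↥Q).map Q.subtype from
      Subgroup.mem_map.2 ⟨_, hzc, rfl⟩)) ?_).symm
    rw [Subgroup.card_map_of_injective Q.subtype_injective, hQ.2, Nat.card_zpowers, hz]
  have hL2 : Subgroup.centralizer (Q : Set G) = (Subgroup.center ↥Q).map Q.subtype := by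
    refine le_antisymm (fun c hc => ?_) ?_
    · have hcC : c ∈ C := (hCmem c).2 (hc z hzQ).symm
      have hcQ : (⟨c, hcC⟩ : C) ∈ Q0 := hcq _ fun q hq => Subtype.ext (hc q.1 (hF ▸ ⟨q, hq, rfl⟩))
      exact ⟨⟨c, hF ▸ ⟨_, hcQ, rfl⟩⟩, Subgroup.mem_center_iff.2 fun q => Subtype.ext (hc q.1 q.2), rfl⟩
    · rintro _ ⟨c, hc, rfl⟩ q hq
      exact congrArg Subtype.val (Subgroup.mem_center_iff.1 hc ⟨q, hq⟩)
  have hzpc : Subgroup.centralizer ((Subgroup.zpowers z : Subgroup G) : Set G) = C := by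
    ext c
    refine ⟨fun h => (hCmem c).2 (h z (Subgroup.mem_zpowers z)).symm, fun h v hv => ?_⟩
    obtain ⟨k, rfl⟩ := hv
    exact (Commute.zpow_right ((hCmem c).1 h) k).symm
  have hL3 : Subgroup.centralizer (((Subgroup.center ↥Q).map Q.subtype : Subgroup G) : Set G) ≤ Subgroup.normalizer (Q : Set G) := by
    rw [hcenter, hzpc]; exact hN
  -- the width
  obtain ⟨w, hw1, hwc⟩ := Cfsg.Agent.S0095.result hQ
  have hRQ : R ≤ Q := hR ▸ inf_le_left
  have hw : 2 ≤ w := by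
    by_contra h
    have : w = 1 := by omega
    subst this
    have := (Nat.le_of_dvd Nat.card_pos (Subgroup.card_dvd_of_le hRQ))
    rw [hwc] at this
    norm_num at this
    omega
  set y := g * z * g⁻¹ with hy
  have hyQ : y ∈ Q := hRQ hgR
  have hynp : y ∉ Subgroup.zpowers z := hcenter ▸ hgZ
  have hgN : g ∉ Subgroup.normalizer (((Subgroup.center ↥Q).map Q.subtype) : Set G) := fun h => by
    rw [hcenter] at h
    exact hynp ((Subgroup.mem_normalizer_iff.1 h z).1 (Subgroup.mem_zpowers z))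
  have hgle : ((Subgroup.center ↥Q).map Q.subtype).map (MulAut.conj g).toMonoidHom ≤ Q := by
    rw [hcenter, Subgroup.map_le_iff_le_comap, Subgroup.zpowers_le]
    exact hyQ
  obtain ⟨hzgQ, -, hlarge⟩ := Cfsg.Agent.S5422.result Q hQ hL2 hL3 w hw hwc g hgN hgle
  -- a non-central element fixed by a subgroup of odd order is moved to its product with z
  have hmove : ∀ B : Subgroup G, B ≤ C → Odd (Nat.card B) → ∀ v, v ∈ Q ⊓ Subgroup.centralizer (B : Set G) →
      v ≠ 1 → v ≠ z → ∃ r ∈ Q ⊓ Subgroup.centralizer (B : Set G), r * v * r⁻¹ = v * z := by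
    intro B hB hBo v hv hv1 hvz
    obtain ⟨hvQ, hvB⟩ := Subgroup.mem_inf.1 hv
    by_contra hall
    push Not at hall
    have hcomm : ∀ r ∈ Q ⊓ Subgroup.centralizer (B : Set G), r * v = v * r := by
      intro r hr
      have hc : ⁅(⟨r, (Subgroup.mem_inf.1 hr).1⟩ : Q), ⟨v, hvQ⟩⁆ ∈ Subgroup.center ↥Q := CfsgLib.Fischer.Extra.comm_mem hQ _ _
      have hc' : r * v * r⁻¹ * v⁻¹ ∈ Subgroup.zpowers z := hcenter ▸ Subgroup.mem_map.2 ⟨_, hc, rfl⟩
      rcases hzp _ hc' with e | e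
      · exact mul_inv_eq_iff_eq_mul.1 (mul_inv_eq_one.1 e)
      · exact absurd ((mul_inv_eq_iff_eq_mul.1 e).trans (hzcomm v hvQ).symm) (hall r hr)
    have hvall : ∀ q ∈ Q, q * v = v * q := by
      by_cases hB1 : B = ⊥
      · subst hB1
        exact fun q hq => hcomm q (Subgroup.mem_inf.2 ⟨hq, fun b hb => by
          rw [Subgroup.mem_bot.1 hb, one_mul, mul_one]⟩)
      · obtain ⟨hsup, hck, -, -⟩ := Cfsg.Agent.S5434.result Q hlarge B (hB.trans hN) hBo hB1
        intro q hq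
        suffices hle : Q ≤ Subgroup.centralizer ({v} : Set G) by
          exact Subgroup.mem_centralizer_singleton_iff.1 (hle hq)
        rw [← hsup]
        refine sup_le (fun r hr => Subgroup.mem_centralizer_singleton_iff.2 (hcomm r hr)) fun r hr => ?_
        exact Subgroup.mem_centralizer_singleton_iff.2 (hck v hv r hr).symm
    have : v ∈ Subgroup.zpowers z := hcenter ▸ hL2 ▸ (fun q hq => hvall q hq : v ∈ Subgroup.centralizer (Q : Set G))
    rcases hzp _ this with e | e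
    · exact hv1 e
    · exact hvz e
  have hzA : ∀ a ∈ A, a * z = z * a := fun a ha => (hCmem a).1 (hA ha)
  have hzR : z ∈ R := hR ▸ Subgroup.mem_inf.2 ⟨hzQ, fun a ha => hzA a ha⟩
  have hyA : ∀ a ∈ A, a * y = y * a := fun a ha => (Subgroup.mem_inf.1 (hR ▸ hgR : y ∈ Q ⊓ Subgroup.centralizer (A : Set G))).2 a ha
  have hy1 : y ≠ 1 := fun e => hz1 (conj_eq_one_iff.1 e)
  have hyz : y ≠ z := fun e => hynp (e ▸ Subgroup.mem_zpowers z)
  have hy2 : y * y = 1 := by
    rw [hy, show g * z * g⁻¹ * (g * z * g⁻¹) = g * (z * z) * g⁻¹ by group, hz2]; group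
  obtain ⟨r, hr, hry⟩ := hmove A hA hAodd y (hR ▸ hgR) hy1 hyz
  -- conjugate back
  set B := A.map (MulAut.conj g⁻¹).toMonoidHom with hB
  have hBmem : ∀ b ∈ B, g * b * g⁻¹ ∈ A := by
    rintro _ ⟨a, ha, rfl⟩
    simpa [mul_assoc] using ha
  have hBC : B ≤ C := fun b hb => (hCmem b).2 (by
    have h := hyA _ (hBmem b hb)
    calc b * z = g⁻¹ * ((g * b * g⁻¹) * y) * g := by rw [hy]; group
      _ = g⁻¹ * (y * (g * b * g⁻¹)) * g := by rw [h]
      _ = z * b := by rw [hy]; group)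
  set z' := g⁻¹ * z * g with hz'
  have hz'Q : z' ∈ Q := by
    obtain ⟨v, hv, e⟩ := hzgQ (hcenter ▸ Subgroup.mem_zpowers z)
    have e' : g * v * g⁻¹ = z := e
    rw [hz', ← e']
    simpa [mul_assoc] using hv
  have hz'B : z' ∈ Subgroup.centralizer (B : Set G) := fun b hb => by
    have h := hzA _ (hBmem b hb)
    calc b * z' = g⁻¹ * ((g * b * g⁻¹) * z) * g := by rw [hz']; group
      _ = g⁻¹ * (z * (g * b * g⁻¹)) * g := by rw [h]
      _ = z' * b := by rw [hz']; group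
  have hz'1 : z' ≠ 1 := fun e => hz1 (by
    calc z = g * z' * g⁻¹ := by rw [hz']; group
      _ = 1 := by rw [e]; group)
  have hz'z : z' ≠ z := fun e => hyz (by
    calc y = g * z' * g⁻¹ := by rw [e, hy]
      _ = z := by rw [hz']; group)
  obtain ⟨s, hs, hsz⟩ := hmove B hBC (by rw [hB, Subgroup.card_map_of_injective (MulAut.conj g⁻¹).injective]; exact hAodd)
    z' (Subgroup.mem_inf.2 ⟨hz'Q, hz'B⟩) hz'1 hz'z
  obtain ⟨hsQ, hsB⟩ := Subgroup.mem_inf.1 hs
  set r' := g * s * g⁻¹ with hr'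
  have hr'Q : r' ∈ Q.map (MulAut.conj g).toMonoidHom := ⟨s, hsQ, rfl⟩
  have hr'A : r' ∈ Subgroup.centralizer (A : Set G) := fun a ha => by
    have hb : g⁻¹ * a * g ∈ B := ⟨a, ha, by simp [mul_assoc]⟩
    have h := hsB _ hb
    calc a * r' = g * ((g⁻¹ * a * g) * s) * g⁻¹ := by rw [hr']; group
      _ = g * (s * (g⁻¹ * a * g)) * g⁻¹ := by rw [h]
      _ = r' * a := by rw [hr']; group
  have hr'z : r' * z * r'⁻¹ = z * y := by
    calc r' * z * r'⁻¹ = g * (s * z' * s⁻¹) * g⁻¹ := by rw [hr', hz']; group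
      _ = g * (z' * z) * g⁻¹ := by rw [hsz]
      _ = z * y := by rw [hz', hy]; group
  have hr'y : r' * y * r'⁻¹ = y := by
    calc r' * y * r'⁻¹ = g * (s * z) * s⁻¹ * g⁻¹ := by rw [hr', hy]; group
      _ = g * (z * s) * s⁻¹ * g⁻¹ := by rw [hzcomm s hsQ]
      _ = y := by rw [hy]; group
  set x := r' * r with hx
  have hrR : r ∈ R := hR ▸ hr
  have hxS : x ∈ R ⊔ (Q.map (MulAut.conj g).toMonoidHom ⊓ Subgroup.centralizer (A : Set G)) :=
    mul_mem (Subgroup.mem_sup_right (Subgroup.mem_inf.2 ⟨hr'Q, hr'A⟩)) (Subgroup.mem_sup_left hrR)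
  have hyzc : y * z = z * y := hzcomm y hyQ
  have hxy : x * y * x⁻¹ = z := by
    calc x * y * x⁻¹ = r' * (r * y * r⁻¹) * r'⁻¹ := by rw [hx]; group
      _ = r' * (y * z) * r'⁻¹ := by rw [hry]
      _ = (r' * y * r'⁻¹) * (r' * z * r'⁻¹) := by group
      _ = y * (z * y) := by rw [hr'y, hr'z]
      _ = (y * z) * y := by group
      _ = (z * y) * y := by rw [hyzc]
      _ = z * (y * y) := by group
      _ = z := by rw [hy2, mul_one]
  -- part one
  set H := Subgroup.centralizer ((A ⊔ R : Subgroup G) : Set G) with hH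
  have hcsup : ∀ c, (∀ a ∈ A, a * c = c * a) → (∀ v ∈ R, v * c = c * v) → c ∈ H := fun c h1 h2 v hv => by
    have hle : A ⊔ R ≤ Subgroup.centralizer ({c} : Set G) := sup_le
      (fun a ha => Subgroup.mem_centralizer_singleton_iff.2 (h1 a ha))
      (fun a ha => Subgroup.mem_centralizer_singleton_iff.2 (h2 a ha))
    exact Subgroup.mem_centralizer_singleton_iff.1 (hle hv)
  have hzH : z ∈ H := hcsup z hzA fun v hv => hzcomm v (hRQ hv)
  have hHle : ∀ c ∈ H, ∃ a ∈ A, c = a ∨ c = a * z := by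
    have hev : 2 ∣ Nat.card H := by
      have h := Subgroup.card_dvd_of_le (Subgroup.zpowers_le.2 hzH)
      rwa [Nat.card_zpowers, hz] at h
    let T : Sylow 2 H := default
    have hT2 : Nat.card (T : Subgroup H) = 2 := by
      obtain ⟨k, hk⟩ := T.isPGroup'.exists_card_eq
      have h2 := T.dvd_card_of_dvd_card hev
      have h := Subgroup.card_subgroup_dvd_card (T : Subgroup H)
      rw [hk] at h h2
      rcases k with _ | _ | k
      · norm_num at h2
      · rw [hk]; rfl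
      · exact absurd ((pow_dvd_pow 2 (show 2 ≤ k + 1 + 1 by omega)).trans h) h4
    obtain ⟨N, hN2⟩ := CfsgLib.Inv.exists_index_two_of_cyclic_sylow (even_iff_two_dvd.2 hev) T (isCyclic_of_prime_card hT2)
    have hNn := Subgroup.normal_of_index_eq_two hN2
    have hNo : Odd (Nat.card N) := by
      rw [← Nat.not_even_iff_odd, even_iff_two_dvd]
      rintro ⟨j, hj⟩
      exact h4 ⟨j, by rw [← N.card_mul_index, hN2, hj]; ring⟩
    have hNA : ∀ c : H, c ∈ N → c.1 ∈ A := fun c hc => hO ⟨c, CfsgLib.Base.ZStar.le_oddCore hNn hNo hc, rfl⟩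
    intro c hc
    by_cases hcN : (⟨c, hc⟩ : H) ∈ N
    · exact ⟨c, hNA _ hcN, Or.inl rfl⟩
    · refine ⟨c * z, hNA (⟨c, hc⟩ * ⟨z, hzH⟩) ?_, Or.inr ?_⟩
      · rw [Subgroup.mul_mem_iff_of_index_two hN2]
        refine ⟨fun h => absurd h hcN, fun h => ?_⟩
        exfalso
        have h1 := Subgroup.card_dvd_of_le (Subgroup.zpowers_le.2 (hNA _ h))
        rw [Nat.card_zpowers, hz] at h1
        exact (Nat.not_even_iff_odd.2 hAodd) (even_iff_two_dvd.2 h1)
      · rw [mul_assoc, hz2, mul_one]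
  have hHeq : H ≤ A ⊔ Subgroup.zpowers z := fun c hc => by
    obtain ⟨a, ha, rfl | rfl⟩ := hHle c hc
    · exact Subgroup.mem_sup_left ha
    · exact mul_mem (Subgroup.mem_sup_left ha) (Subgroup.mem_sup_right (Subgroup.mem_zpowers z))
  have hHM : H ≤ M := fun c hc => hM ▸ Subgroup.mem_sup_left (fun a ha => hc a (Subgroup.mem_sup_left ha))
  have hpart1 : (M ⊓ Subgroup.centralizer ((R ⊔ A : Subgroup G) : Set G)) ⊔ A = A ⊔ ((Subgroup.center ↥Q).map Q.subtype) := by
    rw [hcenter, sup_comm R A, ← hH, inf_eq_right.2 hHM]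
    exact le_antisymm (sup_le hHeq le_sup_left)
      (sup_le le_sup_right ((Subgroup.zpowers_le.2 hzH).trans le_sup_left))
  refine ⟨hpart1, ?_, x, hxS, hxy⟩
  -- R is extraspecial
  have hRE : Cfsg.IsExtraspecial 2 ↥R := by
    by_cases hA1 : A = ⊥
    · have : R = Q := by
        rw [hR, inf_eq_left]
        intro q _ a ha
        have ha1 : a = 1 := by rw [hA1] at ha; exact Subgroup.mem_bot.1 ha
        rw [ha1, one_mul, mul_one]
      rw [this]; exact hQ
    · obtain ⟨-, -, -, h | h⟩ := Cfsg.Agent.S5434.result Q hlarge A (hA.trans hN) hAodd hA1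
      · exfalso
        rw [← hR, hcenter] at h
        rw [h, Nat.card_zpowers, hz] at hR32
        omega
      · rw [hR]; exact h
  have hRA : ∀ v ∈ R, v ∈ A → v = 1 := fun v hv hv' => by
    obtain ⟨k, hk⟩ := hQ.1.1.exists_card_eq
    have h1 := Subgroup.card_dvd_of_le (Subgroup.zpowers_le.2 (hRQ hv))
    have h2 := Subgroup.card_dvd_of_le (Subgroup.zpowers_le.2 hv')
    rw [Nat.card_zpowers] at h1 h2
    rw [hk] at h1
    exact orderOf_eq_one_iff.1 (Nat.eq_one_of_dvd_coprimes (Nat.Coprime.pow_left k (Nat.coprime_two_left.2 hAodd)) h1 h2)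
  have hRM : R ≤ M := fun v hv => hM ▸ Subgroup.mem_sup_left (Subgroup.mem_inf.1 (hR ▸ hv : v ∈ Q ⊓ Subgroup.centralizer (A : Set G))).2
  set π := QuotientGroup.mk' (A.subgroupOf M) with hπ
  set Rb := (R.subgroupOf M).map π with hRb
  let f : R →* Rb := MonoidHom.mk' (fun v => ⟨π ⟨v, hRM v.2⟩, Subgroup.mem_map.2 ⟨⟨v, hRM v.2⟩, v.2, rfl⟩⟩)
    fun a b => Subtype.ext (map_mul π ⟨a, hRM a.2⟩ ⟨b, hRM b.2⟩)
  have hfb : Function.Bijective f := by
    refine ⟨(injective_iff_map_eq_one _).2 fun v hv => ?_, ?_⟩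
    · have h : (⟨v, hRM v.2⟩ : M) ∈ A.subgroupOf M := (QuotientGroup.eq_one_iff _).1 (congrArg Subtype.val hv)
      exact Subtype.ext (hRA v.1 v.2 h)
    · rintro ⟨_, v, hv, rfl⟩
      exact ⟨⟨v.1, hv⟩, rfl⟩
  have hRbE : Cfsg.IsExtraspecial 2 ↥Rb := Cfsg.Agent.S5427.extra_equiv (MulEquiv.ofBijective f hfb).symm hRE
  set zb := π ⟨z, hRM hzR⟩ with hzb
  have hzb1 : zb ≠ 1 := fun e => hz1 (hRA z hzR ((QuotientGroup.eq_one_iff (⟨z, hRM hzR⟩ : M)).1 e))
  have hzb2 : orderOf zb = 2 := orderOf_eq_prime (by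
    rw [hzb, ← map_pow, show (⟨z, hRM hzR⟩ : M) ^ 2 = 1 from Subtype.ext (by rw [Subgroup.coe_pow, pow_two]; exact hz2), map_one]) hzb1
  have hRbc : (Subgroup.center ↥Rb).map Rb.subtype = Subgroup.zpowers zb := by
    refine (Subgroup.eq_of_le_of_card_ge (Subgroup.zpowers_le.2 (show zb ∈ (Subgroup.center ↥Rb).map Rb.subtype from
      Subgroup.mem_map.2 ⟨f ⟨z, hzR⟩, Subgroup.mem_center_iff.2 fun q => ?_, rfl⟩)) ?_).symm
    · obtain ⟨v, rfl⟩ := hfb.2 q
      rw [← map_mul, ← map_mul]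
      exact congrArg f (Subtype.ext (hzcomm v (hRQ v.2)))
    · rw [Subgroup.card_map_of_injective Rb.subtype_injective, hRbE.2, Nat.card_zpowers, hzb2]
  -- centralisers in the quotient come from centralisers
  have hsplit : ∀ m : M, ∃ c : M, (∀ a ∈ A, a * c.1 = c.1 * a) ∧ π m = π c := by
    intro m
    haveI := hn
    have hCA : Subgroup.centralizer (A : Set G) ≤ M := hM ▸ le_sup_left
    have hAM : A ≤ M := hM ▸ le_sup_right
    have htop : (Subgroup.centralizer (A : Set G)).subgroupOf M ⊔ A.subgroupOf M = ⊤ := by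
      rw [← Subgroup.subgroupOf_sup hCA hAM, ← hM, Subgroup.subgroupOf_self]
    obtain ⟨c, hc, a, ha, e⟩ := Subgroup.mem_sup_of_normal_right.1 (htop.symm ▸ Subgroup.mem_top m)
    refine ⟨c, hc, ?_⟩
    rw [← e, map_mul, show π a = 1 from (QuotientGroup.eq_one_iff a).2 ha, mul_one]
  have hlift : ∀ (c : M) (v : G) (hv : v ∈ R), (∀ a ∈ A, a * c.1 = c.1 * a) →
      π c * π ⟨v, hRM hv⟩ = π ⟨v, hRM hv⟩ * π c → c.1 * v = v * c.1 := by
    intro c v hv hc h
    rw [← map_mul, ← map_mul, hπ, QuotientGroup.mk'_apply, QuotientGroup.mk'_apply, QuotientGroup.eq] at h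
    have hα : (c.1 * v)⁻¹ * (v * c.1) ∈ A := h
    set α := (c.1 * v)⁻¹ * (v * c.1) with hαdef
    have hvA : Commute v α := ((Subgroup.mem_inf.1 (hR ▸ hv : v ∈ Q ⊓ Subgroup.centralizer (A : Set G))).2 α hα).symm
    obtain ⟨k, hk⟩ := hQ.1.1 ⟨v, hRQ hv⟩
    have hk' : v ^ 2 ^ k = 1 := congrArg Subtype.val hk
    have hconj : c.1⁻¹ * v * c.1 = v * α := by rw [hαdef]; group
    have hpow : α ^ 2 ^ k = 1 := by
      have h1 : (v * α) ^ 2 ^ k = c.1⁻¹ * v ^ 2 ^ k * c.1 := by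
        rw [← hconj]
        have := conj_pow (a := c.1⁻¹) (b := v) (i := 2 ^ k)
        rwa [inv_inv] at this
      rw [hvA.mul_pow, hk', one_mul, mul_one, inv_mul_cancel] at h1
      exact h1
    have h1 := Subgroup.card_dvd_of_le (Subgroup.zpowers_le.2 hα)
    rw [Nat.card_zpowers] at h1
    have hα1 : α = 1 := orderOf_eq_one_iff.1 (Nat.eq_one_of_dvd_coprimes
      (Nat.Coprime.pow_left k (Nat.coprime_two_left.2 hAodd)) (orderOf_dvd_of_pow_eq_one hpow) h1)
    rw [hαdef, inv_mul_eq_one] at hα1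
    exact hα1
  have hRb2 : Subgroup.centralizer (Rb : Set (M ⧸ A.subgroupOf M)) = (Subgroup.center ↥Rb).map Rb.subtype := by
    refine le_antisymm (fun q hq => ?_) ?_
    · obtain ⟨m, rfl⟩ := QuotientGroup.mk_surjective q
      obtain ⟨c, hcA, e⟩ := hsplit m
      rw [QuotientGroup.mk'_apply, QuotientGroup.mk'_apply] at e
      rw [e] at hq ⊢
      rw [hRbc]
      obtain ⟨a, ha, h | h⟩ := hHle c.1 (hcsup c.1 hcA fun v hv => (hlift c v hv hcA
        (hq (π ⟨v, hRM hv⟩) ⟨⟨v, hRM hv⟩, hv, rfl⟩).symm).symm)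
      · rw [show ((c : M) : M ⧸ A.subgroupOf M) = 1 from (QuotientGroup.eq_one_iff c).2 (show c.1 ∈ A from h ▸ ha)]
        exact one_mem _
      · have hAM : A ≤ M := hM ▸ le_sup_right
        have e' : c = ⟨a, hAM ha⟩ * ⟨z, hRM hzR⟩ := Subtype.ext h
        rw [e', QuotientGroup.mk_mul, show ((⟨a, hAM ha⟩ : M) : M ⧸ A.subgroupOf M) = 1 from (QuotientGroup.eq_one_iff _).2 ha, one_mul]
        exact Subgroup.mem_zpowers zb
    · rintro _ ⟨c, hc, rfl⟩ q hq
      exact congrArg Subtype.val (Subgroup.mem_center_iff.1 hc ⟨q, hq⟩)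
  have hRb3 : Subgroup.centralizer (((Subgroup.center ↥Rb).map Rb.subtype : Subgroup _) : Set (M ⧸ A.subgroupOf M)) ≤
      Subgroup.normalizer (Rb : Set (M ⧸ A.subgroupOf M)) := by
    intro q hq
    rw [hRbc] at hq
    obtain ⟨m, rfl⟩ := QuotientGroup.mk_surjective q
    obtain ⟨c, hcA, e⟩ := hsplit m
    rw [QuotientGroup.mk'_apply, QuotientGroup.mk'_apply] at e
    rw [e] at hq ⊢
    have hcz := hlift c z hzR hcA (hq zb (Subgroup.mem_zpowers zb)).symm
    have hcQ := hN ((hCmem c.1).2 hcz)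
    refine (Subgroup.le_normalizer_map π) ⟨c, Subgroup.mem_normalizer_iff.2 fun v => ?_, rfl⟩
    show v.1 ∈ R ↔ c.1 * v.1 * c.1⁻¹ ∈ R
    rw [hR, Subgroup.mem_inf, Subgroup.mem_inf]
    refine and_congr (Subgroup.mem_normalizer_iff.1 hcQ v.1) ⟨fun h a ha => ?_, fun h a ha => ?_⟩
    · have hca : Commute a c.1 := hcA a ha
      exact ((hca.mul_right (h a ha : Commute a v.1)).mul_right hca.inv_right).eq
    · have hca : Commute a c.1 := hcA a ha
      have := (hca.inv_right.mul_right (h a ha : Commute a _)).mul_right hca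
      rwa [show c.1⁻¹ * (c.1 * v.1 * c.1⁻¹) * c.1 = v.1 by group] at this
  obtain ⟨w', hw1', hwc'⟩ := Cfsg.Agent.S0095.result hRbE
  have hw' : 2 ≤ w' := by
    by_contra h
    have : w' = 1 := by omega
    subst this
    rw [Nat.card_congr (MulEquiv.ofBijective f hfb).toEquiv, hwc'] at hR32
    norm_num at hR32
  have hxA : x ∈ Subgroup.centralizer (A : Set G) := mul_mem hr'A (Subgroup.mem_inf.1 hr).2
  have hxM : x⁻¹ ∈ M := hM ▸ Subgroup.mem_sup_left (inv_mem hxA)
  have hxzy : x⁻¹ * z * x⁻¹⁻¹ = y := by rw [← hxy]; group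
  have hyb : π ⟨x⁻¹, hxM⟩ * zb * (π ⟨x⁻¹, hxM⟩)⁻¹ = π ⟨y, hRM hgR⟩ := by
    rw [hzb, ← map_inv, ← map_mul, ← map_mul]
    exact congrArg π (Subtype.ext hxzy)
  refine (Cfsg.Agent.S5422.result Rb hRbE hRb2 hRb3 w' hw' hwc' (π ⟨x⁻¹, hxM⟩) (fun h => ?_) ?_).2.2
  · rw [hRbc] at h
    have h1 := (Subgroup.mem_normalizer_iff.1 h zb).1 (Subgroup.mem_zpowers zb)
    rw [hyb, mem_zpowers_iff_mem_range_orderOf, hzb2] at h1
    simp only [Finset.mem_image, Finset.mem_range] at h1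
    obtain ⟨i, hi, e⟩ := h1
    interval_cases i
    · rw [pow_zero] at e
      exact hy1 (hRA y hgR ((QuotientGroup.eq_one_iff (⟨y, hRM hgR⟩ : M)).1 e.symm))
    · rw [pow_one] at e
      have h2 : f ⟨z, hzR⟩ = f ⟨y, hgR⟩ := Subtype.ext e
      exact hyz (congrArg Subtype.val (hfb.1 h2)).symm
  · rw [hRbc, Subgroup.map_le_iff_le_comap, Subgroup.zpowers_le]
    show π ⟨x⁻¹, hxM⟩ * zb * (π ⟨x⁻¹, hxM⟩)⁻¹ ∈ Rb
    rw [hyb]
    exact ⟨⟨y, hRM hgR⟩, hgR, rfl⟩

end Cfsg.Agent.S5428
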