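import Cfsg.Statements.S5429
import Cfsg.Agent.S5422
import Cfsg.Agent.S1265
import Cfsg.Agent.S0095
import Cfsg.Agent.Inv.Component
import Cfsg.Agent.Spor.Fischer.ExtraPairing
import Cfsg.Agent.Spor.LargeSymm
import Cfsg.Agent.Solv.FittingBasic
-- import your own Cfsg.Agent.* helpers here

set_option autoImplicit false
open Cfsg

namespace Cfsg.Agent.S5429

open scoped commutatorElement


/-- Let z be an involution of the finite group G with centralizer C whose generalized Fitting subgroup Q is extraspecial of width at least 3 (order 2^(2w+1), w ≥ 3); let g be an element of G with g z g⁻¹ in Q but outside the centre Z of Q, and t an involution lying in both Q and g Q g⁻¹ that is not conjugate to z; write P for the centralizer of t in Q and suppose that the elements of C acting trivially by conjugation on P modulo the subgroup generated by t and z are exactly the elements of Q. Then the image of P in the centralizer of t modulo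 the subgroup generated by t is a large extraspecial 2-subgroup there, and g z g⁻¹ is conjugate to z inside the subgroup generated by P and the centralizer of t in g Q g⁻¹. -/
theorem result {G : Type*} [Group G] [Finite G] (z : G) (hz : orderOf z = 2) (Q : Subgroup G) (hQC : Q ≤ Subgroup.centralizer ({z} : Set G)) (hF : (Cfsg.generalizedFittingSubgroup ↥(Subgroup.centralizer ({z} : Set G))).map (Subgroup.centralizer ({z} : Set G)).subtype = Q) (hQ : Cfsg.IsExtraspecial 2 ↥Q) (w : ℕ) (hw : 3 ≤ w) (hcard : Nat.card ↥Q = 2 ^ (2 * w + 1)) (g : G) (hgQ : g * z * g⁻¹ ∈ Q) (hgZ : g * z * g⁻¹ ∉ ((Subgroup.center ↥Q).map Q.subtype)) (t : G) (ht : orderOf t = 2) (htQ : t ∈ Q ⊓ (Q).map (MulAut.conj g).toMonoidHom) (htz : ¬ IsConj z t) (P : Subgroup G) (hP : P = Q ⊓ Subgroup.centralizer ({t} : Set G)) (hCP : ∀ c ∈ Subgroup.centralizer ({z} : Set G), (∀ x ∈ P, ∃ y ∈ Subgroup.closure ({t, z} : Set G), c * x * c⁻¹ = x * y) ↔ c ∈ Q) [hn : ((Subgroup.zpowers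 t).subgroupOf (Subgroup.centralizer ({t} : Set G))).Normal] : Cfsg.IsLargeExtraspecial ((P.subgroupOf (Subgroup.centralizer ({t} : Set G))).map (QuotientGroup.mk' ((Subgroup.zpowers t).subgroupOf (Subgroup.centralizer ({t} : Set G))))) ∧ ∃ x ∈ P ⊔ ((Q).map (MulAut.conj g).toMonoidHom ⊓ Subgroup.centralizer ({t} : Set G)), x * (g * z * g⁻¹) * x⁻¹ = z := by
  classical
  haveI : Fact (Nat.Prime 2) := ⟨Nat.prime_two⟩
  set C := Subgroup.centralizer ({z} : Set G) with hC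
  set Q0 := Cfsg.generalizedFittingSubgroup ↥C with hQ0
  haveI hQn : Q0.Normal := CfsgLib.Inv.genFitting_normal
  have hCmem : ∀ c, c ∈ C ↔ c * z = z * c := fun c => Subgroup.mem_centralizer_singleton_iff
  have hz1 : z ≠ 1 := fun h => by rw [h, orderOf_one] at hz; norm_num at hz
  have hz2 : z * z = 1 := by rw [← pow_two, ← hz]; exact pow_orderOf_eq_one z
  have hzp : ∀ v ∈ Subgroup.zpowers z, v = 1 ∨ v = z := by
    intro v hv
    rw [mem_zpowers_iff_mem_range_orderOf, hz] at hv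
    simp only [Finset.mem_image, Finset.mem_range] at hv
    obtain ⟨k, hk, rfl⟩ := hv
    interval_cases k <;> simp
  have hN : C ≤ Subgroup.normalizer (Q : Set G) := by
    intro c hc
    rw [Subgroup.mem_normalizer_iff]
    intro v
    rw [← hF]
    constructor
    · rintro ⟨v', hv', rfl⟩
      exact ⟨⟨c, hc⟩ * v' * ⟨c, hc⟩⁻¹, hQn.conj_mem _ hv' _, rfl⟩
    · rintro ⟨v', hv', e'⟩
      refine ⟨⟨c, hc⟩⁻¹ * v' * ⟨c, hc⟩, by simpa using hQn.conj_mem _ hv' (⟨c, hc⟩⁻¹ : C), ?_⟩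
      show c⁻¹ * v'.1 * c = v
      rw [show v'.1 = c * v * c⁻¹ from e']; group
  have hcq : ∀ c : C, (∀ q ∈ Q0, q * c = c * q) → c ∈ Q0 := fun c hc => Cfsg.Agent.S1265.result (G := C) hc
  have hzQ : z ∈ Q := hF ▸ ⟨⟨z, (hCmem z).2 rfl⟩, hcq _ fun q _ => Subtype.ext ((hCmem q.1).1 q.2), rfl⟩
  have hzcomm : ∀ q ∈ Q, q * z = z * q := fun q hq => (hCmem q).1 (hQC hq)
  have hcenter : (Subgroup.center ↥Q).map Q.subtype = Subgroup.zpowers z := by
    have hzc : (⟨z, hzQ⟩ : Q) ∈ Subgroup.center ↥Q := Subgroup.mem_center_iff.2 fun q => Subtype.ext (hzcomm q.1 q.2)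
    refine (Subgroup.eq_of_le_of_card_ge (Subgroup.zpowers_le.2 (show z ∈ (Subgroup.center ↥Q).map Q.subtype from
      Subgroup.mem_map.2 ⟨_, hzc, rfl⟩)) ?_).symm
    rw [Subgroup.card_map_of_injective Q.subtype_injective, hQ.2, Nat.card_zpowers, hz]
  have hL2 : Subgroup.centralizer (Q : Set G) = (Subgroup.center ↥Q).map Q.subtype := by
    refine le_antisymm (fun c hc => ?_) ?_
    · have hcC : c ∈ C := (hCmem c).2 (hc z hzQ).symm
      have hcQ : (⟨c, hcC⟩ : C) ∈ Q0 := hcq _ fun q hq => Subtype.ext (hc q.1 (hF ▸ ⟨q, hq, rfl⟩))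
      exact ⟨⟨c, hF ▸ ⟨_, hcQ, rfl⟩⟩, Subgroup.mem_center_iff.2 fun q => Subtype.ext (hc q.1 q.2), rfl⟩
    · rintro _ ⟨c, hc, rfl⟩ q hq
      exact congrArg Subtype.val (Subgroup.mem_center_iff.1 hc ⟨q, hq⟩)
  have hzpc : Subgroup.centralizer ((Subgroup.zpowers z : Subgroup G) : Set G) = C := by
    ext c
    refine ⟨fun h => (hCmem c).2 (h z (Subgroup.mem_zpowers z)).symm, fun h v hv => ?_⟩
    obtain ⟨k, rfl⟩ := hv
    exact (Commute.zpow_right ((hCmem c).1 h) k).symm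
  have hL3 : Subgroup.centralizer (((Subgroup.center ↥Q).map Q.subtype : Subgroup G) : Set G) ≤ Subgroup.normalizer (Q : Set G) := by
    rw [hcenter, hzpc]; exact hN
  obtain ⟨htQ1, ht'⟩ := Subgroup.mem_inf.1 htQ
  obtain ⟨t', ht'Q, hgt⟩ := ht'
  change g * t' * g⁻¹ = t at hgt
  set y := g * z * g⁻¹ with hy
  have hynp : y ∉ Subgroup.zpowers z := hcenter ▸ hgZ
  have hgN : g ∉ Subgroup.normalizer (((Subgroup.center ↥Q).map Q.subtype) : Set G) := fun h => by
    rw [hcenter] at h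
    exact hynp ((Subgroup.mem_normalizer_iff.1 h z).1 (Subgroup.mem_zpowers z))
  have hgle : ((Subgroup.center ↥Q).map Q.subtype).map (MulAut.conj g).toMonoidHom ≤ Q := by
    rw [hcenter, Subgroup.map_le_iff_le_comap, Subgroup.zpowers_le]
    exact hgQ
  obtain ⟨hzgQ, -, hlarge⟩ := Cfsg.Agent.S5422.result Q hQ hL2 hL3 w (by omega) hcard g hgN hgle
  have hy1 : y ≠ 1 := fun e => hz1 (conj_eq_one_iff.1 e)
  have hyz : y ≠ z := fun e => hynp (e ▸ Subgroup.mem_zpowers z)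
  have hy2 : y * y = 1 := by
    rw [hy, show g * z * g⁻¹ * (g * z * g⁻¹) = g * (z * z) * g⁻¹ by group, hz2]; group
  have ht1 : t ≠ 1 := fun h => by rw [h, orderOf_one] at ht; norm_num at ht
  have ht2 : t * t = 1 := by rw [← pow_two, ← ht]; exact pow_orderOf_eq_one t
  have htne : t ≠ z := fun e => htz (e ▸ IsConj.refl z)
  have htzc : t * z = z * t := hzcomm t htQ1
  have htyc : t * y = y * t := by
    calc t * y = g * (t' * z) * g⁻¹ := by rw [← hgt, hy]; group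
      _ = g * (z * t') * g⁻¹ := by rw [hzcomm t' ht'Q]
      _ = y * t := by rw [← hgt, hy]; group
  have hcases : ∀ q ∈ Q, ∀ v ∈ Q, q * v * q⁻¹ = v ∨ q * v * q⁻¹ = v * z := by
    intro q hq v hv
    have hc : ⁅(⟨q, hq⟩ : Q), ⟨v, hv⟩⁆ ∈ Subgroup.center ↥Q := CfsgLib.Fischer.Extra.comm_mem hQ _ _
    have hc' : q * v * q⁻¹ * v⁻¹ ∈ Subgroup.zpowers z := hcenter ▸ Subgroup.mem_map.2 ⟨_, hc, rfl⟩
    rcases hzp _ hc' with e | e
    · exact Or.inl (mul_inv_eq_one.1 e)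
    · exact Or.inr ((mul_inv_eq_iff_eq_mul.1 e).trans (hzcomm v hv).symm)
  have hcentral : ∀ v, v ∈ Q → (∀ q ∈ Q, q * v = v * q) → v = 1 ∨ v = z := fun v hv h =>
    hzp v (hcenter ▸ hL2 ▸ (fun q hq => h q hq : v ∈ Subgroup.centralizer (Q : Set G)))
  have hmove : ∀ u ∈ Q, u * u = 1 → ∀ v ∈ Q, v ≠ 1 → v ≠ z → v ≠ u → v ≠ u * z →
      ∃ r ∈ Q, r * u = u * r ∧ r * v * r⁻¹ = v * z := by
    intro u hu hu2 v hv h1 h2 h3 h4
    by_contra hall
    push Not at hall
    have hx : (⟨v, hv⟩ : Q) ∉ Subgroup.zpowers (⟨u, hu⟩ : Q) ⊔ Subgroup.center Q := by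
      intro h
      obtain ⟨a, ha, b, hb, e⟩ := Subgroup.mem_sup_of_normal_right.1 h
      have hb' := hcentral b.1 b.2 fun q hq => congrArg Subtype.val (Subgroup.mem_center_iff.1 hb ⟨q, hq⟩)
      obtain ⟨i, rfl⟩ := ha
      have e' : u ^ i * b.1 = v := congrArg Subtype.val e
      have hi : u ^ i = 1 ∨ u ^ i = u := by
        rcases Int.even_or_odd i with ⟨j, rfl⟩ | ⟨j, rfl⟩
        · left; rw [← two_mul, zpow_mul, zpow_two, hu2, one_zpow]
        · right; rw [zpow_add, zpow_mul, zpow_two, hu2, one_zpow, one_mul, zpow_one]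
      rcases hi with hi | hi <;> rcases hb' with hb' | hb' <;> rw [hi, hb'] at e'
      · exact h1 (by rw [← e', one_mul])
      · exact h2 (by rw [← e', one_mul])
      · exact h3 (by rw [← e', mul_one])
      · exact h4 e'.symm
    obtain ⟨a, ha, hna⟩ := CfsgLib.Fischer.Extra.exists_separate hQ (Subgroup.zpowers (⟨u, hu⟩ : Q)) hx
    have hau : a.1 * u = u * a.1 := congrArg Subtype.val (ha _ (Subgroup.mem_zpowers _))
    rcases hcases a.1 a.2 v hv with e | e
    · exact hna (Subtype.ext (mul_inv_eq_iff_eq_mul.1 e))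
    · exact hall a.1 a.2 hau e
  obtain ⟨q0, hq0, hq0t⟩ : ∃ q ∈ Q, q * t * q⁻¹ = t * z := by
    by_contra hall
    push Not at hall
    rcases hcentral t htQ1 fun q hq => mul_inv_eq_iff_eq_mul.1 ((hcases q hq t htQ1).resolve_right (hall q hq)) with e | e
    · exact ht1 e
    · exact htne e
  have hconjtz : IsConj t (t * z) := isConj_iff.2 ⟨q0, hq0t⟩
  have htzy : y ≠ t * z := fun e => htz ((isConj_iff.2 ⟨g, e⟩ : IsConj z (t * z)).trans hconjtz.symm)
  have hyt : y ≠ t := fun e => htz (isConj_iff.2 ⟨g, e⟩)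
  obtain ⟨r, hrQ, hrt, hry⟩ := hmove t htQ1 ht2 y hgQ hy1 hyz hyt htzy
  have ht'2 : t' * t' = 1 := by
    calc t' * t' = g⁻¹ * (t * t) * g := by rw [← hgt]; group
      _ = 1 := by rw [ht2]; group
  set z' := g⁻¹ * z * g with hz'
  have hz'Q : z' ∈ Q := by
    obtain ⟨v, hv, e⟩ := hzgQ (hcenter ▸ Subgroup.mem_zpowers z)
    have e' : g * v * g⁻¹ = z := e
    rw [hz', ← e']
    simpa [mul_assoc] using hv
  have hback : z = g * z' * g⁻¹ := by rw [hz']; group
  obtain ⟨s, hsQ, hst, hsz⟩ := hmove t' ht'Q ht'2 z' hz'Q (fun e => hz1 (by rw [hback, e]; group))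
    (fun e => hyz (by rw [hy]; conv_rhs => rw [hback, e]))
    (fun e => htne (by rw [hback, e, hgt]))
    (fun e => htzy (by
      have e1 : z = t * y := by rw [hback, e, hy, ← hgt]; group
      calc y = t * (t * y) := by rw [← mul_assoc, ht2, one_mul]
        _ = t * z := by rw [← e1]))
  set r' := g * s * g⁻¹ with hr'
  have hr'Q : r' ∈ Q.map (MulAut.conj g).toMonoidHom := ⟨s, hsQ, rfl⟩
  have hr't : r' * t = t * r' := by
    calc r' * t = g * (s * t') * g⁻¹ := by rw [hr', ← hgt]; group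
      _ = g * (t' * s) * g⁻¹ := by rw [hst]
      _ = t * r' := by rw [hr', ← hgt]; group
  have hr'z : r' * z * r'⁻¹ = z * y := by
    calc r' * z * r'⁻¹ = g * (s * z' * s⁻¹) * g⁻¹ := by rw [hr', hz']; group
      _ = g * (z' * z) * g⁻¹ := by rw [hsz]
      _ = z * y := by rw [hz', hy]; group
  have hr'y : r' * y * r'⁻¹ = y := by
    calc r' * y * r'⁻¹ = g * (s * z) * s⁻¹ * g⁻¹ := by rw [hr', hy]; group
      _ = g * (z * s) * s⁻¹ * g⁻¹ := by rw [hzcomm s hsQ]
      _ = y := by rw [hy]; group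
  set x := r' * r with hx
  have hPmem : ∀ v, v ∈ P ↔ v ∈ Q ∧ v * t = t * v := fun v => by
    rw [hP, Subgroup.mem_inf, Subgroup.mem_centralizer_singleton_iff]
  have hrP : r ∈ P := (hPmem r).2 ⟨hrQ, hrt⟩
  have hxS : x ∈ P ⊔ (Q.map (MulAut.conj g).toMonoidHom ⊓ Subgroup.centralizer ({t} : Set G)) :=
    mul_mem (Subgroup.mem_sup_right (Subgroup.mem_inf.2 ⟨hr'Q, Subgroup.mem_centralizer_singleton_iff.2 hr't⟩))
      (Subgroup.mem_sup_left hrP)
  have hxy : x * y * x⁻¹ = z := by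
    calc x * y * x⁻¹ = r' * (r * y * r⁻¹) * r'⁻¹ := by rw [hx]; group
      _ = r' * (y * z) * r'⁻¹ := by rw [hry]
      _ = (r' * y * r'⁻¹) * (r' * z * r'⁻¹) := by group
      _ = y * (z * y) := by rw [hr'y, hr'z]
      _ = (y * z) * y := by group
      _ = (z * y) * y := by rw [hzcomm y hgQ]
      _ = z * (y * y) := by group
      _ = z := by rw [hy2, mul_one]
  refine ⟨?_, x, hxS, hxy⟩
  have hPZ : ∀ v ∈ P, (∀ u ∈ P, u * v = v * u) → v = 1 ∨ v = z ∨ v = t ∨ v = t * z := by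
    intro v hv h
    by_contra hall
    simp only [not_or] at hall
    obtain ⟨k, hkQ, hkt, hkv⟩ := hmove t htQ1 ht2 v ((hPmem v).1 hv).1 hall.1 hall.2.1 hall.2.2.1 hall.2.2.2
    rw [mul_inv_eq_iff_eq_mul.2 (h k ((hPmem k).2 ⟨hkQ, hkt⟩))] at hkv
    exact hz1 (left_eq_mul.1 hkv)
  set T := Subgroup.centralizer ({t} : Set G) with hT
  have hTmem : ∀ c, c ∈ T ↔ c * t = t * c := fun c => Subgroup.mem_centralizer_singleton_iff
  have hPT : P ≤ T := fun v hv => (hTmem v).2 ((hPmem v).1 hv).2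
  have htp : ∀ v ∈ Subgroup.zpowers t, v = 1 ∨ v = t := by
    intro v hv
    rw [mem_zpowers_iff_mem_range_orderOf, ht] at hv
    simp only [Finset.mem_image, Finset.mem_range] at hv
    obtain ⟨k, hk, rfl⟩ := hv
    interval_cases k <;> simp
  have htP : t ∈ P := (hPmem t).2 ⟨htQ1, rfl⟩
  have hzP : z ∈ P := (hPmem z).2 ⟨hzQ, htzc.symm⟩
  have hyP : y ∈ P := (hPmem y).2 ⟨hgQ, htyc.symm⟩
  set Nt := (Subgroup.zpowers t).subgroupOf T with hNt
  set π := QuotientGroup.mk' Nt with hπ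
  set Pb := (P.subgroupOf T).map π with hPb
  have hker : ∀ c : T, π c = 1 ↔ c.1 = 1 ∨ c.1 = t := fun c => by
    rw [hπ, QuotientGroup.mk'_apply, QuotientGroup.eq_one_iff, hNt, Subgroup.mem_subgroupOf]
    exact ⟨htp _, by rintro (e | e) <;> rw [e]; exacts [one_mem _, Subgroup.mem_zpowers t]⟩
  let zT : T := ⟨z, hPT hzP⟩
  set zb := π zT with hzb
  have hzb1 : zb ≠ 1 := fun e => ((hker zT).1 e).elim hz1 fun e => htne e.symm
  have hzb2 : orderOf zb = 2 := orderOf_eq_prime (by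
    rw [hzb, ← map_pow, show zT ^ 2 = 1 from Subtype.ext (by rw [Subgroup.coe_pow, pow_two]; exact hz2), map_one]) hzb1
  have hmemPb : ∀ c : T, π c ∈ Pb → c.1 ∈ P := by
    rintro c ⟨v, hv, e⟩
    rcases (hker (v⁻¹ * c)).1 (by rw [map_mul, map_inv, e, inv_mul_cancel]) with h | h
    · rw [show c.1 = v.1 from (inv_mul_eq_one.1 h).symm]; exact hv
    · rw [show c.1 = v.1 * t from inv_mul_eq_iff_eq_mul.1 h]; exact mul_mem hv htP
  -- centralising the image
  have hfix : ∀ c : T, (∀ v : T, v.1 ∈ P → π v * π c = π c * π v) → π c ∈ Subgroup.zpowers zb := by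
    intro c hc
    have hstep : ∀ v ∈ P, c.1 * v * c.1⁻¹ = v ∨ c.1 * v * c.1⁻¹ = v * t := by
      intro v hv
      have h := hc ⟨v, hPT hv⟩ hv
      have h1 : π ((⟨v, hPT hv⟩ : T)⁻¹ * (c * ⟨v, hPT hv⟩ * c⁻¹)) = 1 := by
        rw [map_mul, map_inv, map_mul, map_mul, map_inv, ← h, mul_inv_cancel_right, inv_mul_cancel]
      rcases (hker _).1 h1 with e | e
      · exact Or.inl (inv_mul_eq_one.1 e).symm
      · exact Or.inr (inv_mul_eq_iff_eq_mul.1 e)
    have hcz : c.1 * z = z * c.1 := by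
      rcases hstep z hzP with e | e
      · exact mul_inv_eq_iff_eq_mul.1 e
      · exact absurd ((isConj_iff.2 ⟨c.1, e⟩ : IsConj z (z * t)).trans (htzc ▸ hconjtz.symm)) htz
    have hcQ : c.1 ∈ Q := (hCP c.1 ((hCmem c.1).2 hcz)).1 fun v hv => by
      rcases hstep v hv with e | e
      · exact ⟨1, one_mem _, by rw [e, mul_one]⟩
      · exact ⟨t, Subgroup.subset_closure (Set.mem_insert _ _), e⟩
    have hcP : c.1 ∈ P := (hPmem c.1).2 ⟨hcQ, (hTmem c.1).1 c.2⟩
    have hcc : ∀ v ∈ P, v * c.1 = c.1 * v := by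
      intro v hv
      rcases hcases c.1 hcQ v ((hPmem v).1 hv).1 with e | e
      · exact (mul_inv_eq_iff_eq_mul.1 e).symm
      · rcases hstep v hv with e' | e'
        · exact absurd (left_eq_mul.1 (e'.symm.trans e)) hz1
        · exact absurd (mul_left_cancel (e'.symm.trans e)) htne
    rcases hPZ c.1 hcP hcc with e | e | e | e
    · rw [(hker c).2 (Or.inl e)]; exact one_mem _
    · rw [show c = zT from Subtype.ext e]; exact Subgroup.mem_zpowers zb
    · rw [(hker c).2 (Or.inr e)]; exact one_mem _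
    · rw [show c = (⟨t, hPT htP⟩ : T) * zT from Subtype.ext e, map_mul,
        (hker (⟨t, hPT htP⟩ : T)).2 (Or.inr rfl), one_mul]
      exact Subgroup.mem_zpowers zb
  have hzbP : zb ∈ Pb := ⟨zT, hzP, rfl⟩
  have hzbc : ∀ v : T, v.1 ∈ P → π v * zb = zb * π v := fun v hv => by
    rw [hzb, ← map_mul, ← map_mul]
    exact congrArg π (Subtype.ext (hzcomm v.1 ((hPmem v.1).1 hv).1))
  have hbp : IsPGroup 2 (P.subgroupOf T) :=
    (IsPGroup.to_le (hQ.1.1) (fun v hv => ((hPmem v).1 hv).1)).of_equiv (Subgroup.subgroupOfEquivOfLe hPT).symm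
  have hPbp : IsPGroup 2 Pb := hbp.map π
  have hcen : ∀ v : Pb, v ∈ Subgroup.center Pb ↔ v.1 ∈ Subgroup.zpowers zb := by
    intro v
    obtain ⟨c, hc, e⟩ := v.2
    constructor
    · intro h
      rw [← e]
      exact hfix c fun u hu => by
        rw [e]
        exact congrArg Subtype.val (Subgroup.mem_center_iff.1 h ⟨π u, ⟨u, hu, rfl⟩⟩)
    · intro h
      refine Subgroup.mem_center_iff.2 fun u => Subtype.ext ?_
      obtain ⟨a, ha, e'⟩ := u.2
      obtain ⟨i, hi⟩ := h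
      show u.1 * v.1 = v.1 * u.1
      rw [← e', ← hi]
      exact (Commute.zpow_right (hzbc a ha) i).eq
  have hcard2 : Nat.card (Subgroup.center Pb) = 2 := by
    rw [← hzb2, ← Nat.card_zpowers]
    exact Nat.card_congr {
      toFun := fun v => ⟨v.1.1, (hcen v.1).1 v.2⟩
      invFun := fun v => ⟨⟨v.1, (Subgroup.zpowers_le.2 hzbP) v.2⟩, (hcen _).2 v.2⟩
      left_inv := fun v => rfl
      right_inv := fun v => rfl }
  have hcommb : commutator Pb ≤ Subgroup.center Pb := by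
    rw [commutator_def, Subgroup.commutator_le]
    rintro ⟨_, a, ha, rfl⟩ _ ⟨_, b, hb, rfl⟩ _
    rw [hcen]
    show π a * π b * (π a)⁻¹ * (π b)⁻¹ ∈ _
    rw [← map_inv, ← map_inv, ← map_mul, ← map_mul, ← map_mul]
    rcases hcases a.1 ((hPmem _).1 ha).1 b.1 ((hPmem _).1 hb).1 with e | e
    · rw [show a * b * a⁻¹ * b⁻¹ = 1 from Subtype.ext (mul_inv_eq_one.2 e), map_one]; exact one_mem _
    · rw [show a * b * a⁻¹ * b⁻¹ = zT from Subtype.ext (mul_inv_eq_iff_eq_mul.2 (e.trans (hzcomm b.1 ((hPmem _).1 hb).1)))]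
      exact Subgroup.mem_zpowers zb
  have hPbE : Cfsg.IsExtraspecial 2 ↥Pb := by
    have heq : commutator Pb = Subgroup.center Pb := by
      refine Subgroup.eq_of_le_of_card_ge hcommb ?_
      rw [hcard2, Nat.succ_le_iff, Finite.one_lt_card_iff_nontrivial]
      refine ⟨⟨⟨⁅(⟨π ⟨r, hPT hrP⟩, ⟨_, hrP, rfl⟩⟩ : Pb), ⟨π ⟨y, hPT hyP⟩, ⟨_, hyP, rfl⟩⟩⁆,
        Subgroup.commutator_mem_commutator (Subgroup.mem_top _) (Subgroup.mem_top _)⟩, 1, fun e => hzb1 ?_⟩⟩
      have e' : π ⟨r, hPT hrP⟩ * π ⟨y, hPT hyP⟩ * (π ⟨r, hPT hrP⟩)⁻¹ * (π ⟨y, hPT hyP⟩)⁻¹ = 1 :=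
        congrArg (fun v : commutator Pb => (v.1 : T ⧸ Nt)) e
      rw [← map_inv, ← map_inv, ← map_mul, ← map_mul, ← map_mul] at e'
      rw [hzb, ← e']
      exact congrArg π (Subtype.ext (by
        show z = r * y * r⁻¹ * y⁻¹
        rw [hry, hzcomm y hgQ, mul_inv_cancel_right]))
    refine ⟨⟨hPbp, le_antisymm ?_ ?_, heq⟩, hcard2⟩
    · refine CfsgLib.Solv.frattini_le_of_elementary (p := 2) _ hcommb fun v => (hcen _).2 ?_
      obtain ⟨c, hc, e⟩ := v.2
      rw [Subgroup.coe_pow, ← e, ← map_pow]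
      have h2 : c.1 * c.1 ∈ Subgroup.zpowers z := hcenter ▸ Subgroup.mem_map.2
        ⟨_, CfsgLib.Spor.LargeSymm.sq_central hQ ⟨c.1, ((hPmem _).1 hc).1⟩, rfl⟩
      rcases hzp _ h2 with e2 | e2
      · rw [show c ^ 2 = 1 from Subtype.ext (by rw [Subgroup.coe_pow, pow_two]; exact e2), map_one]; exact one_mem _
      · rw [show c ^ 2 = zT from Subtype.ext (by rw [Subgroup.coe_pow, pow_two]; exact e2)]
        exact Subgroup.mem_zpowers zb
    · rw [← heq]; exact CfsgLib.Solv.commutator_le_frattini hPbp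
  have hPbc : (Subgroup.center ↥Pb).map Pb.subtype = Subgroup.zpowers zb := by
    ext v
    constructor
    · rintro ⟨u, hu, rfl⟩; exact (hcen u).1 hu
    · intro hv; exact ⟨⟨v, (Subgroup.zpowers_le.2 hzbP) hv⟩, (hcen _).2 hv, rfl⟩
  have hb2 : Subgroup.centralizer (Pb : Set (T ⧸ Nt)) = (Subgroup.center ↥Pb).map Pb.subtype := by
    rw [hPbc]
    refine le_antisymm (fun q hq => ?_) ?_
    · obtain ⟨c, rfl⟩ := QuotientGroup.mk_surjective q
      exact hfix c fun v hv => hq (π v) ⟨v, hv, rfl⟩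
    · rw [Subgroup.zpowers_le]
      rintro _ ⟨v, hv, rfl⟩
      exact hzbc v hv
  have hb3 : Subgroup.centralizer (((Subgroup.center ↥Pb).map Pb.subtype : Subgroup _) : Set (T ⧸ Nt)) ≤
      Subgroup.normalizer (Pb : Set (T ⧸ Nt)) := by
    intro q hq
    rw [hPbc] at hq
    obtain ⟨c, rfl⟩ := QuotientGroup.mk_surjective q
    have h1 : π (c * zT * c⁻¹) = π zT := by
      have h : zb * π c = π c * zb := hq zb (Subgroup.mem_zpowers zb)
      rw [map_mul, map_mul, map_inv]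
      exact mul_inv_eq_iff_eq_mul.2 h.symm
    have hcz : c.1 * z * c.1⁻¹ = z := by
      rcases (hker (zT⁻¹ * (c * zT * c⁻¹))).1 (by rw [map_mul, map_inv, h1, inv_mul_cancel]) with e | e
      · exact (inv_mul_eq_one.1 e).symm
      · have e2 : c.1 * z * c.1⁻¹ = z * t := inv_mul_eq_iff_eq_mul.1 e
        exact absurd ((isConj_iff.2 ⟨c.1, e2⟩ : IsConj z (z * t)).trans (htzc ▸ hconjtz.symm)) htz
    have hcQ := hN ((hCmem c.1).2 (mul_inv_eq_iff_eq_mul.1 hcz))
    refine (Subgroup.le_normalizer_map π) ⟨c, Subgroup.mem_normalizer_iff.2 fun v => ?_, rfl⟩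
    show v.1 ∈ P ↔ c.1 * v.1 * c.1⁻¹ ∈ P
    rw [hPmem, hPmem]
    refine and_congr (Subgroup.mem_normalizer_iff.1 hcQ v.1) ⟨fun h => ?_, fun h => ?_⟩
    · have hct : Commute t c.1 := ((hTmem c.1).1 c.2).symm
      exact (((hct.mul_right (h : Commute v.1 t).symm).mul_right hct.inv_right).symm).eq
    · have hct : Commute t c.1 := ((hTmem c.1).1 c.2).symm
      have h' := (hct.inv_right.mul_right (h : Commute _ t).symm).mul_right hct
      rw [show c.1⁻¹ * (c.1 * v.1 * c.1⁻¹) * c.1 = v.1 by group] at h'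
      exact h'.symm.eq
  obtain ⟨w', hw1', hwc'⟩ := Cfsg.Agent.S0095.result hPbE
  have hw' : 2 ≤ w' := by
    by_contra h
    have : w' = 1 := by omega
    subst this
    let φ : Q →* Subgroup.center ↥Q := MonoidHom.mk' (fun q => ⟨⁅(⟨t, htQ1⟩ : Q), q⁆, CfsgLib.Fischer.Extra.comm_mem hQ _ q⟩)
      fun a b => Subtype.ext (CfsgLib.Fischer.Extra.comm_mul_right hQ _ a b)
    have h1 := φ.ker.card_mul_index
    rw [Subgroup.index_ker, hcard] at h1
    have h2 : Nat.card φ.range ≤ 2 := hQ.2 ▸ Nat.card_le_card_of_injective Subtype.val Subtype.val_injective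
    let f : φ.ker → Pb := fun q => ⟨π ⟨q.1.1, (hTmem _).2 (by
        have h := congrArg (fun v : Subgroup.center ↥Q => ((v.1 : Q) : G)) (MonoidHom.mem_ker.1 q.2)
        exact (mul_inv_eq_iff_eq_mul.1 (mul_inv_eq_one.1 h)).symm)⟩, ⟨_, (hPmem _).2 ⟨q.1.2, by
        have h := congrArg (fun v : Subgroup.center ↥Q => ((v.1 : Q) : G)) (MonoidHom.mem_ker.1 q.2)
        exact (mul_inv_eq_iff_eq_mul.1 (mul_inv_eq_one.1 h)).symm⟩, rfl⟩⟩
    have h3 : Nat.card φ.ker ≤ 2 * Nat.card Pb := by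
      rw [mul_comm, show (2 : ℕ) = Nat.card (Subgroup.zpowers t) by rw [Nat.card_zpowers, ht], ← Nat.card_prod]
      let pre : Pb → T := fun v => (Subgroup.mem_map.1 v.2).choose
      have hpre : ∀ v, π (pre v) = v.1 := fun v => (Subgroup.mem_map.1 v.2).choose_spec.2
      refine Nat.card_le_card_of_injective (fun q => (f q, (⟨(pre (f q)).1⁻¹ * q.1.1, by
        rcases (hker ((pre (f q))⁻¹ * ⟨q.1.1, (hTmem _).2 (by
          have h := congrArg (fun v : Subgroup.center ↥Q => ((v.1 : Q) : G)) (MonoidHom.mem_ker.1 q.2)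
          exact (mul_inv_eq_iff_eq_mul.1 (mul_inv_eq_one.1 h)).symm)⟩)).1 (by rw [map_mul, map_inv, hpre]; exact inv_mul_cancel _) with e | e
        · rw [show (pre (f q)).1⁻¹ * q.1.1 = 1 from e]; exact one_mem _
        · rw [show (pre (f q)).1⁻¹ * q.1.1 = t from e]; exact Subgroup.mem_zpowers t⟩ : Subgroup.zpowers t))) fun a b h => ?_
      simp only [Prod.mk.injEq, Subtype.mk.injEq] at h
      obtain ⟨h4, h5⟩ := h
      rw [h4] at h5
      exact Subtype.ext (Subtype.ext (mul_left_cancel h5))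
    rw [hwc'] at h3
    have h6 : 2 ^ 7 ≤ 2 ^ (2 * w + 1) := Nat.pow_le_pow_right (by norm_num) (by omega)
    rw [← h1] at h6
    have := Nat.mul_le_mul h3 h2
    norm_num at h6 this
    omega
  have hxT : x⁻¹ ∈ T := inv_mem (mul_mem ((hTmem r').2 hr't) (hPT hrP))
  have hxzy : x⁻¹ * z * x⁻¹⁻¹ = y := by rw [← hxy]; group
  have hyb : π ⟨x⁻¹, hxT⟩ * zb * (π ⟨x⁻¹, hxT⟩)⁻¹ = π ⟨y, hPT hyP⟩ := by
    rw [hzb, ← map_inv, ← map_mul, ← map_mul]
    exact congrArg π (Subtype.ext hxzy)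
  refine (Cfsg.Agent.S5422.result Pb hPbE hb2 hb3 w' hw' hwc' (π ⟨x⁻¹, hxT⟩) (fun h => ?_) ?_).2.2
  · rw [hPbc] at h
    have h1 := (Subgroup.mem_normalizer_iff.1 h zb).1 (Subgroup.mem_zpowers zb)
    rw [hyb, mem_zpowers_iff_mem_range_orderOf, hzb2] at h1
    simp only [Finset.mem_image, Finset.mem_range] at h1
    obtain ⟨i, hi, e⟩ := h1
    interval_cases i
    · rw [pow_zero] at e
      exact ((hker _).1 e.symm).elim hy1 hyt
    · rw [pow_one] at e
      rcases (hker (zT⁻¹ * ⟨y, hPT hyP⟩)).1 (by rw [map_mul, map_inv, ← hzb, e, inv_mul_cancel]) with e' | e'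
      · exact hyz (inv_mul_eq_one.1 e').symm
      · exact htzy ((inv_mul_eq_iff_eq_mul.1 e').trans htzc.symm)
  · rw [hPbc, Subgroup.map_le_iff_le_comap, Subgroup.zpowers_le]
    show π ⟨x⁻¹, hxT⟩ * zb * (π ⟨x⁻¹, hxT⟩)⁻¹ ∈ Pb
    rw [hyb]
    exact ⟨⟨y, hPT hyP⟩, hyP, rfl⟩

end Cfsg.Agent.S5429
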