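import Cfsg.Statements.S5430
import Cfsg.Agent.Spor.LargePair
import Cfsg.Agent.Solv.Basic
-- import your own Cfsg.Agent.* helpers here

set_option autoImplicit false
open Cfsg

namespace Cfsg.Agent.S5430

/-- Let Q be a large extraspecial 2-subgroup of the finite group G (extraspecial; centralizer equal to its centre; normal in the centralizer of its centre; normalizing no non-trivial subgroup of odd order) with centre generated by z, an involution, of width w ≥ 2 (order 2^(2w+1)); let g be an element outside the centralizer H of z with g z g⁻¹ in Q; write V for the subgroup generated by z and g z g⁻¹, X for the subgroup generated by Q and g Q g⁻¹, R for the subgroup generated by the centralizer of z in g Q g⁻¹ and the centralizer of g z g⁻¹ in Q, and E for the intersection of Q and g Q g⁻¹. Then R is the centralizer of V in X and is the largest normal 2-subgroup of X, and X/R is isomorphic to the symmetric group of degree 3; moreover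 the normalizer of V is the product of X and the centralizer of V in H, X is normal in it, and modulo R it is the direct product of X/R and of the centralizer of V in H modulo R. -/
theorem result {G : Type*} [Group G] [Finite G] (Q : Subgroup G) (hQ : Cfsg.IsLargeExtraspecial Q) (z : G) (hz : ((Subgroup.center ↥Q).map Q.subtype) = Subgroup.zpowers z) (hz2 : orderOf z = 2) (w : ℕ) (hw : 2 ≤ w) (hcard : Nat.card ↥Q = 2 ^ (2 * w + 1)) (g : G) (hgH : g ∉ Subgroup.centralizer ({z} : Set G)) (hgQ : g * z * g⁻¹ ∈ Q) (V X R E : Subgroup G) (hV : V = Subgroup.closure ({z, g * z * g⁻¹} : Set G)) (hX : X = Q ⊔ (Q).map (MulAut.conj g).toMonoidHom) (hR : R = ((Q).map (MulAut.conj g).toMonoidHom ⊓ Subgroup.centralizer ({z} : Set G)) ⊔ (Q ⊓ Subgroup.centralizer ({g * z * g⁻¹} : Set G))) (hE : E = Q ⊓ (Q).map (MulAut.conj g).toMonoidHom) : R = X ⊓ Subgroup.centralizer (V : Set G) ∧ R = (Cfsg.pCore 2 ↥X).map X.subtype ∧ (∃ h : (R.subgroupOf X).Normal,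 Nonempty (↥X ⧸ R.subgroupOf X ≃* Equiv.Perm (Fin 3))) ∧ Subgroup.normalizer (V : Set G) = X ⊔ (Subgroup.centralizer ({z} : Set G) ⊓ Subgroup.centralizer (V : Set G)) ∧ (∀ y ∈ Subgroup.normalizer (V : Set G), ∀ x ∈ X, y * x * y⁻¹ ∈ X) ∧ R ≤ Subgroup.centralizer ({z} : Set G) ⊓ Subgroup.centralizer (V : Set G) ∧ (∀ x ∈ X, ∀ c ∈ Subgroup.centralizer ({z} : Set G) ⊓ Subgroup.centralizer (V : Set G), x * c * x⁻¹ * c⁻¹ ∈ R) ∧ X ⊓ (Subgroup.centralizer ({z} : Set G) ⊓ Subgroup.centralizer (V : Set G)) = R := by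
  classical
  obtain ⟨q0, q1, h⟩ := CfsgLib.Spor.LargePair.exists_pair Q hQ z hz hz2 g hgH hgQ
  set x := g * z * g⁻¹ with hxdef
  set P := (Q).map (MulAut.conj g).toMonoidHom with hPdef
  subst hV
  have hX' : X = Q ⊔ P := hX
  subst hX'
  have hR' : R = CfsgLib.Spor.LargePair.core Q P z x := hR
  subst hR'
  have hcen : Subgroup.centralizer ((Subgroup.closure ({z, x} : Set G) : Subgroup G) : Set G) =
      CfsgLib.Spor.LargePair.cv z x := h.centralizer_closure
  have hCV : Subgroup.centralizer ({z} : Set G) ⊓ Subgroup.centralizer ((Subgroup.closure ({z, x} : Set G) : Subgroup G) : Set G) =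
      CfsgLib.Spor.LargePair.cv z x := by
    rw [hcen]; exact inf_eq_right.2 inf_le_left
  rw [hCV, hcen]
  set R := CfsgLib.Spor.LargePair.core Q P z x with hRdef
  set C := CfsgLib.Spor.LargePair.cv z x with hCdef
  set N := Subgroup.normalizer ((Subgroup.closure ({z, x} : Set G) : Subgroup G) : Set G) with hNdef
  obtain ⟨f, hker, hsur⟩ : ∃ f : ↥N →* Equiv.Perm (Fin 3), (∀ u, f u = 1 ↔ u.1 ∈ C) ∧
      ∀ σ, ∃ u : ↥N, u.1 ∈ Q ⊔ P ∧ f u = σ := h.exists_hom
  have hXN : Q ⊔ P ≤ N := h.sup_le_normalizer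
  let f' : ↥(Q ⊔ P) →* Equiv.Perm (Fin 3) := f.comp (Subgroup.inclusion hXN)
  have hf'ker : f'.ker = R.subgroupOf (Q ⊔ P) := by
    ext u
    rw [MonoidHom.mem_ker, MonoidHom.comp_apply, hker, Subgroup.mem_subgroupOf, hRdef, ← h.sup_inf_cv]
    exact ⟨fun e => ⟨u.2, e⟩, fun e => e.2⟩
  have hf'sur : Function.Surjective f' := fun σ => by
    obtain ⟨u, hu, e⟩ := hsur σ
    exact ⟨⟨u.1, hu⟩, e⟩
  haveI hnR := h.core_normal
  have hNeq : N = (Q ⊔ P) ⊔ C := by
    refine le_antisymm (fun y hy => ?_) (sup_le hXN fun c hc => ?_)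
    · obtain ⟨u, hu, e⟩ := hsur (f ⟨y, hy⟩)
      have h1 : u⁻¹.1 * y ∈ C := (hker (u⁻¹ * ⟨y, hy⟩)).1 (by rw [map_mul, map_inv, e, inv_mul_cancel])
      rw [show y = u.1 * (u⁻¹.1 * y) by rw [Subgroup.coe_inv]; group]
      exact Subgroup.mul_mem_sup hu h1
    · refine h.normalizer_mem.1 ⟨?_, ?_⟩
      · rw [(CfsgLib.Spor.LargePair.mem_cv.1 hc).1]; exact Subgroup.subset_closure (Or.inl rfl)
      · rw [(CfsgLib.Spor.LargePair.mem_cv.1 hc).2]; exact Subgroup.subset_closure (Or.inr rfl)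
  have hXnorm : ∀ y ∈ N, ∀ u ∈ Q ⊔ P, y * u * y⁻¹ ∈ Q ⊔ P := by
    intro y hy
    have hsup : (Q ⊔ P) ⊔ C ≤ Subgroup.normalizer ((Q ⊔ P : Subgroup G) : Set G) := by
      refine sup_le Subgroup.le_normalizer fun c hc => ?_
      have key : ∀ d ∈ C, ∀ u ∈ Q ⊔ P, d * u * d⁻¹ ∈ Q ⊔ P := fun d hd => by
        have hle : Q ⊔ P ≤ (Q ⊔ P).comap (MulAut.conj d).toMonoidHom := sup_le
          (fun q hq => Subgroup.mem_sup_left (h.normQ d (CfsgLib.Spor.LargePair.mem_cv.1 hd).1 q hq))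
          (fun p hp => Subgroup.mem_sup_right (h.normP d (CfsgLib.Spor.LargePair.mem_cv.1 hd).2 p hp))
        exact fun u hu => hle hu
      rw [Subgroup.mem_normalizer_iff]
      intro u
      refine ⟨key c hc u, fun hu => ?_⟩
      have := key c⁻¹ (inv_mem hc) _ hu
      rwa [show c⁻¹ * (c * u * c⁻¹) * c⁻¹⁻¹ = u by group] at this
    intro u hu
    exact (Subgroup.mem_normalizer_iff.1 (hsup (hNeq ▸ hy)) u).1 hu
  refine ⟨h.sup_inf_cv.symm, ?_, ⟨hnR, ⟨(QuotientGroup.quotientMulEquivOfEq hf'ker.symm).trans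
    (QuotientGroup.quotientKerEquivOfSurjective f' hf'sur)⟩⟩, hNeq, hXnorm, h.core_le, ?_, h.sup_inf_cv⟩
  · have hRp : IsPGroup 2 (R.subgroupOf (Q ⊔ P)) :=
      h.core_two.of_equiv (Subgroup.subgroupOfEquivOfLe h.core_le_sup).symm
    haveI := CfsgLib.Solv.pCore_normal (G := ↥(Q ⊔ P)) (p := 2)
    have hcore : Cfsg.pCore 2 ↥(Q ⊔ P) = R.subgroupOf (Q ⊔ P) := by
      refine le_antisymm (fun u hu => ?_) (CfsgLib.Solv.le_pCore hRp)
      rw [← hf'ker, MonoidHom.mem_ker]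
      set K := (Cfsg.pCore 2 ↥(Q ⊔ P)).map f' with hKdef
      haveI : K.Normal := Subgroup.Normal.map inferInstance _ hf'sur
      have hK : IsPGroup 2 K := (CfsgLib.Solv.pCore_isPGroup ↥(Q ⊔ P) 2).map f'
      by_contra hne
      have hu' : f' u ∈ K := ⟨u, hu, rfl⟩
      have hdec : ∀ σ : Equiv.Perm (Fin 3), σ = 1 ∨ σ ^ 3 = 1 ∨
          ∃ τ : Equiv.Perm (Fin 3), σ * (τ * σ * τ⁻¹) ≠ 1 ∧ (σ * (τ * σ * τ⁻¹)) ^ 3 = 1 := by decide +kernel
      have hthree : ∀ σ ∈ K, σ ^ 3 = 1 → σ = 1 := by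
        intro σ hσ h3
        obtain ⟨k, hk⟩ := hK ⟨σ, hσ⟩
        exact orderOf_eq_one_iff.1 (Nat.eq_one_of_dvd_coprimes
          (Nat.Coprime.pow_left k (by norm_num)) (orderOf_dvd_of_pow_eq_one (congrArg Subtype.val hk))
          (orderOf_dvd_of_pow_eq_one h3))
      rcases hdec (f' u) with e | e | ⟨τ, e1, e2⟩
      · exact hne e
      · exact hne (hthree _ hu' e)
      · exact e1 (hthree _ (mul_mem hu' ((inferInstance : K.Normal).conj_mem _ hu' τ)) e2)
    rw [hcore, Subgroup.subgroupOf_map_subtype, inf_eq_left.2 h.core_le_sup]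
  · intro y hy c hc
    rw [hRdef, ← h.sup_inf_cv]
    refine Subgroup.mem_inf.2 ⟨?_, mul_mem (h.cv_conj (hXN hy) hc) (inv_mem hc)⟩
    rw [show y * c * y⁻¹ * c⁻¹ = y * (c * y⁻¹ * c⁻¹) by group]
    exact mul_mem hy (hXnorm c (hNeq ▸ Subgroup.mem_sup_right hc) _ (inv_mem hy))

end Cfsg.Agent.S5430
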