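import Cfsg.Statements.S5431
import Cfsg.Agent.Spor.LargePair
-- import your own Cfsg.Agent.* helpers here

set_option autoImplicit false
open Cfsg

namespace Cfsg.Agent.S5431

/-- Let Q be a large extraspecial 2-subgroup of the finite group G (extraspecial; centralizer equal to its centre; normal in the centralizer of its centre; normalizing no non-trivial subgroup of odd order) with centre generated by z, an involution, of width w ≥ 2 (order 2^(2w+1)); let g be an element outside the centralizer H of z with g z g⁻¹ in Q; write V for the subgroup generated by z and g z g⁻¹, X for the subgroup generated by Q and g Q g⁻¹, R for the subgroup generated by the centralizer of z in g Q g⁻¹ and the centralizer of g z g⁻¹ in Q, and E for the intersection of Q and g Q g⁻¹. Then V is the centre of R, E lies in the second centre of R, R is nilpotent of class at most 3, E and R/E are elementary abelian, R/E is the direct product of the images of the centralizer of g z g⁻¹ in Q and of the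 centralizer of z in g Q g⁻¹ (R is their product and they meet in E), and the commutator subgroup of X and E lies in V. -/
theorem result {G : Type*} [Group G] [Finite G] (Q : Subgroup G) (hQ : Cfsg.IsLargeExtraspecial Q) (z : G) (hz : ((Subgroup.center ↥Q).map Q.subtype) = Subgroup.zpowers z) (hz2 : orderOf z = 2) (w : ℕ) (hw : 2 ≤ w) (hcard : Nat.card ↥Q = 2 ^ (2 * w + 1)) (g : G) (hgH : g ∉ Subgroup.centralizer ({z} : Set G)) (hgQ : g * z * g⁻¹ ∈ Q) (V X R E : Subgroup G) (hV : V = Subgroup.closure ({z, g * z * g⁻¹} : Set G)) (hX : X = Q ⊔ (Q).map (MulAut.conj g).toMonoidHom) (hR : R = ((Q).map (MulAut.conj g).toMonoidHom ⊓ Subgroup.centralizer ({z} : Set G)) ⊔ (Q ⊓ Subgroup.centralizer ({g * z * g⁻¹} : Set G))) (hE : E = Q ⊓ (Q).map (MulAut.conj g).toMonoidHom) : (Subgroup.center ↥R).map R.subtype = V ∧ E ≤ (Subgroup.upperCentralSeries ↥R 2).map R.subtype ∧ Subgroup.upperCentralSeries ↥R 3 = ⊤ ∧ Cfsg.IsElementaryAbelian 2 E ∧ (∀ x ∈ R, ∀ y ∈ R, x * y * x⁻¹ * y⁻¹ ∈ E ∧ x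 ^ 2 ∈ E) ∧ ((Q).map (MulAut.conj g).toMonoidHom ⊓ Subgroup.centralizer ({z} : Set G)) ⊓ (Q ⊓ Subgroup.centralizer ({g * z * g⁻¹} : Set G)) = E ∧ ⁅X, E⁆ ≤ V := by
  classical
  obtain ⟨q0, q1, h⟩ := CfsgLib.Spor.LargePair.exists_pair Q hQ z hz hz2 g hgH hgQ
  set x := g * z * g⁻¹ with hxdef
  set P := (Q).map (MulAut.conj g).toMonoidHom with hPdef
  subst hV
  have hX' : X = Q ⊔ P := hX
  subst hX'
  have hR' : R = CfsgLib.Spor.LargePair.core Q P z x := hR
  subst hR'
  subst hE
  set R := CfsgLib.Spor.LargePair.core Q P z x with hRdef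
  have hER : ∀ e ∈ Q ⊓ P, e ∈ R := fun e he => by
    rw [← h.inf_eq] at he
    exact Subgroup.mem_sup_left he.1
  have hVR : ∀ v ∈ Subgroup.closure ({z, x} : Set G), v ∈ R := fun v hv => (h.center_core.2 hv).1
  have hcenter : ∀ c : ↥R, c ∈ Subgroup.center ↥R ↔ c.1 ∈ Subgroup.closure ({z, x} : Set G) := fun c => by
    rw [← h.center_core, Subgroup.mem_center_iff]
    exact ⟨fun e => ⟨c.2, fun r hr => congrArg Subtype.val (e ⟨r, hr⟩)⟩, fun e r => Subtype.ext (e.2 r.1 r.2)⟩
  have htwo : ∀ e : ↥R, e.1 ∈ Q ⊓ P → e ∈ Subgroup.upperCentralSeries ↥R 2 := fun e he => by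
    rw [Subgroup.mem_upperCentralSeries_succ_iff]
    intro r
    rw [Subgroup.upperCentralSeries_one, hcenter]
    show e.1 * r.1 * e.1⁻¹ * r.1⁻¹ ∈ Subgroup.closure ({z, x} : Set G)
    have h1 := h.core_meet r.2 he
    rw [show e.1 * r.1 * e.1⁻¹ * r.1⁻¹ = (r.1 * e.1 * r.1⁻¹ * e.1⁻¹)⁻¹ by group]
    exact inv_mem h1
  refine ⟨?_, ?_, ?_, h.meet_elementary, fun u hu v hv => ⟨h.core_comm hu hv, by rw [pow_two]; exact h.core_sq hu⟩,
    h.inf_eq, h.commutator_le⟩
  · ext c
    constructor
    · rintro ⟨c', hc', rfl⟩; exact (hcenter c').1 hc'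
    · intro hc; exact ⟨⟨c, hVR c hc⟩, (hcenter _).2 hc, rfl⟩
  · intro e he
    exact ⟨⟨e, hER e he⟩, htwo _ he, rfl⟩
  · rw [eq_top_iff]
    intro u _
    rw [Subgroup.mem_upperCentralSeries_succ_iff]
    intro v
    exact htwo _ (h.core_comm u.2 v.2)

end Cfsg.Agent.S5431
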