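import Cfsg.Statements.S5433
import Mathlib
-- import your own Cfsg.Agent.* helpers here

set_option autoImplicit false
open Cfsg

namespace Cfsg.Agent.S5433

/-- Let Q be a large extraspecial 2-subgroup of the finite group G (extraspecial; centralizer equal to its centre; normal in the centralizer of its centre; normalizing no non-trivial subgroup of odd order), and L a normal subgroup of G containing Q. Then G is the product of L and the normalizer of Q. -/
theorem result {G : Type*} [Group G] [Finite G] (Q : Subgroup G) (hQ : Cfsg.IsLargeExtraspecial Q) (L : Subgroup G) [L.Normal] (hQL : Q ≤ L) : L ⊔ Subgroup.normalizer (Q : Set G) = ⊤ := by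
  haveI : Fact (Nat.Prime 2) := ⟨Nat.prime_two⟩
  obtain ⟨hE, hC, hN, -⟩ := hQ
  set Z := (Subgroup.center Q).map Q.subtype with hZdef
  have hZcard : Nat.card Z = 2 := by
    rw [← hE.2]
    exact (Nat.card_congr (Subgroup.equivMapOfInjective _ _ Q.subtype_injective).toEquiv).symm
  obtain ⟨S, hS⟩ := (hE.1.1.comap_of_injective L.subtype L.subtype_injective).exists_le_sylow
  set T := (S : Subgroup L).map L.subtype with hT
  have hQT : Q ≤ T := fun q hq => ⟨⟨q, hQL hq⟩, hS hq, rfl⟩
  set W := (Subgroup.center T).map T.subtype with hW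
  have hWZ : W ≤ Z := by
    rintro _ ⟨w, hw, rfl⟩
    rw [← hC]
    exact fun q hq => congrArg Subtype.val (Subgroup.mem_center_iff.1 hw ⟨q, hQT hq⟩)
  haveI : Nontrivial T := by
    haveI : Nontrivial Q := by
      rw [← Finite.one_lt_card_iff_nontrivial]
      calc 1 < Nat.card (Subgroup.center Q) := by rw [hE.2]; norm_num
        _ ≤ Nat.card Q := Nat.le_of_dvd Nat.card_pos (Subgroup.card_subgroup_dvd_card _)
    exact (Subgroup.inclusion_injective hQT).nontrivial
  haveI := (S.isPGroup'.map L.subtype).center_nontrivial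
  have hWeq : W = Z := by
    refine Subgroup.eq_of_le_of_card_ge hWZ ?_
    rw [hZcard, hW, ← Nat.card_congr (Subgroup.equivMapOfInjective _ _ T.subtype_injective).toEquiv]
    exact Finite.one_lt_card
  have hle : Subgroup.normalizer (T : Set G) ≤ Subgroup.normalizer (Q : Set G) := by
    intro g hg
    refine hN (show g ∈ Subgroup.centralizer (Z : Set G) from fun z hz => ?_)
    have key : g * z * g⁻¹ ∈ Z := by
      rw [← hWeq] at hz ⊢
      obtain ⟨w, hw, rfl⟩ := hz
      refine ⟨⟨g * w * g⁻¹, (Subgroup.mem_normalizer_iff.1 hg _).1 w.2⟩, ?_, rfl⟩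
      rw [SetLike.mem_coe, Subgroup.mem_center_iff]
      intro t
      have ht : g⁻¹ * t * g ∈ T := (Subgroup.mem_normalizer_iff.1 hg _).2 (by simp [mul_assoc, t.2])
      have h1 := congrArg Subtype.val (Subgroup.mem_center_iff.1 hw ⟨_, ht⟩)
      refine Subtype.ext ?_
      simp only [Subgroup.coe_mul] at h1 ⊢
      calc (t : G) * (g * w * g⁻¹) = g * (g⁻¹ * t * g * w) * g⁻¹ := by group
        _ = _ := by rw [h1]; group
    by_cases h1 : z = 1
    · simp [h1]
    have h2 : g * z * g⁻¹ ≠ 1 := fun k => h1 (by simpa using k)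
    have h3 : (⟨g * z * g⁻¹, key⟩ : Z) = ⟨z, hz⟩ := ((Nat.card_eq_two_iff' (1 : Z)).1 hZcard).unique
      (fun k => h2 (congrArg Subtype.val k)) (fun k => h1 (congrArg Subtype.val k))
    exact (mul_inv_eq_iff_eq_mul.1 (congrArg Subtype.val h3)).symm
  rw [eq_top_iff, ← Sylow.normalizer_sup_eq_top S]
  exact sup_le (hle.trans le_sup_right) le_sup_left

end Cfsg.Agent.S5433
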