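import Cfsg.Statements.S5435
import Cfsg.Agent.Solv.FittingBasic
import Cfsg.Agent.Inv.Dihedral
import Cfsg.Agent.S1188
-- import your own Cfsg.Agent.* helpers here

set_option autoImplicit false
open Cfsg

namespace Cfsg.Agent.S5435

open scoped commutatorElement Pointwise


/-- a product of an involution-invariant family vanishes off a set of even fibres -/
theorem even_prod {ι A : Type*} [CommGroup A] (hA : ∀ a : A, a * a = 1) (s : Finset ι) (f : ι → A)
    [DecidableEq A] (h : ∀ a, 2 ∣ (s.filter fun i => f i = a).card) : ∏ i ∈ s, f i = 1 := by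
  rw [← Finset.prod_fiberwise_of_maps_to (t := s.image f) (g := f) (fun i hi => Finset.mem_image_of_mem f hi)]
  refine Finset.prod_eq_one fun a _ => ?_
  rw [Finset.prod_congr rfl (fun i hi => (Finset.mem_filter.1 hi).2), Finset.prod_const]
  obtain ⟨k, hk⟩ := h a
  rw [hk, pow_mul, pow_two, hA, one_pow]

/-- an involution centralising a self-normalising Sylow 2-subgroup of a simple group lies in its Frattini subgroup -/
theorem central_mem_frattini {L : Type*} [Group L] [Finite L] [IsSimpleGroup L] (hL : ¬ IsMulCommutative L)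
    (P : Subgroup L) (hp : IsPGroup 2 P) (hN : Subgroup.normalizer (P : Set L) = P) (w : P)
    (hw : w ∈ Subgroup.center P) (hw2 : w * w = 1) : w ∈ frattini P := by
  classical
  haveI : Fact (Nat.Prime 2) := ⟨Nat.prime_two⟩
  set Φ := frattini P
  letI : CommGroup (P ⧸ Φ) :=
    { (inferInstance : Group (P ⧸ Φ)) with
      mul_comm := fun p q => by
        obtain ⟨x, rfl⟩ := QuotientGroup.mk_surjective p
        obtain ⟨y, rfl⟩ := QuotientGroup.mk_surjective q
        rw [← QuotientGroup.mk_mul, ← QuotientGroup.mk_mul, QuotientGroup.eq,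
          show (x * y)⁻¹ * (y * x) = ⁅y⁻¹, x⁻¹⁆ by simp only [commutatorElement_def]; group]
        exact CfsgLib.Solv.commutator_le_frattini hp (Subgroup.commutator_mem_commutator (Subgroup.mem_top _) (Subgroup.mem_top _)) }
  have hA : ∀ a : P ⧸ Φ, a * a = 1 := fun a => by
    obtain ⟨x, rfl⟩ := QuotientGroup.mk_surjective a
    rw [← QuotientGroup.mk_mul, QuotientGroup.eq_one_iff, ← pow_two]
    exact CfsgLib.Solv.pow_mem_frattini hp x
  set φ : P →* P ⧸ Φ := QuotientGroup.mk' Φ with hφ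
  have htriv : MonoidHom.transfer φ (w : L) = 1 := by
    rcases (inferInstance : (MonoidHom.transfer φ).ker.Normal).eq_bot_or_eq_top with h | h
    · refine absurd ⟨⟨fun a b => ?_⟩⟩ hL
      exact (MonoidHom.ker_eq_bot_iff _).1 h (by rw [map_mul, map_mul, mul_comm])
    · exact MonoidHom.mem_ker.1 (h ▸ Subgroup.mem_top _)
  haveI : Fintype (L ⧸ P) := Fintype.ofFinite _
  let T : P.LeftTransversal := ⟨Set.range Quotient.out, Subgroup.isComplement_range_left Quotient.out_eq'⟩
  let α : L ⧸ P → L := fun q => T.2.leftQuotientEquiv q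
  have hα : ∀ q, (α q : L ⧸ P) = q := fun q => T.2.leftQuotientEquiv.symm_apply_apply q
  have hmem : ∀ q, (α q)⁻¹ * ((w : L) * α ((w : L)⁻¹ • q)) ∈ P := fun q => by
    rw [← QuotientGroup.eq, hα, ← smul_eq_mul, ← MulAction.Quotient.smul_coe, hα, smul_inv_smul]
  let f : L ⧸ P → P ⧸ Φ := fun q => φ ⟨_, hmem q⟩
  have hV : MonoidHom.transfer φ (w : L) = ∏ q, f q := by
    rw [MonoidHom.transfer_def φ T]
    refine Finset.prod_congr (by ext; simp) fun q _ => congrArg φ (Subtype.ext ?_)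
    show (α q)⁻¹ * _ = _
    rw [Subgroup.smul_apply_eq_smul_apply_inv_smul]
    rfl
  have hw2' : (w : L) * w = 1 := congrArg Subtype.val hw2
  have hwi : (w : L)⁻¹ = w := inv_eq_of_mul_eq_one_right hw2'
  have hsq : ∀ q : L ⧸ P, (w : L) • (w : L) • q = q := fun q => by rw [← mul_smul, hw2', one_smul]
  rw [hV, ← Finset.prod_filter_mul_prod_filter_not Finset.univ (fun q : L ⧸ P => (w : L) • q = q)] at htriv
  have hmov : ∏ q ∈ Finset.univ.filter (fun q : L ⧸ P => ¬ (w : L) • q = q), f q = 1 := by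
    refine Finset.prod_involution (fun q _ => (w : L) • q) (fun q _ => ?_) (fun q hq _ => (Finset.mem_filter.1 hq).2)
      (fun q hq => Finset.mem_filter.2 ⟨Finset.mem_univ _, fun e => (Finset.mem_filter.1 hq).2 (by
        have := congrArg (fun t => (w : L) • t) e
        simpa [hsq] using this)⟩) (fun q _ => hsq q)
    show φ _ * φ _ = 1
    rw [← map_mul]
    convert map_one φ
    refine Subtype.ext ?_
    show (α q)⁻¹ * ((w : L) * α ((w : L)⁻¹ • q)) * ((α ((w : L) • q))⁻¹ * ((w : L) * α ((w : L)⁻¹ • (w : L) • q))) = 1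
    simp only [hwi, hsq]
    calc _ = (α q)⁻¹ * ((w : L) * w) * α q := by group
      _ = 1 := by rw [hw2']; group
  rw [hmov, mul_one] at htriv
  set q₀ : L ⧸ P := ((1 : L) : L ⧸ P) with hq₀
  have hval : ∀ (q : L ⧸ P) (hq : (w : L) • q = q) (g : L) (_ : (g : L ⧸ P) = q),
      ∃ hg : g⁻¹ * w * g ∈ P, f q = φ ⟨_, hg⟩ := by
    intro q hq g hg
    have hk : g⁻¹ * α q ∈ P := QuotientGroup.eq.1 (hg.trans (hα q).symm)
    set k : P := ⟨g⁻¹ * α q, hk⟩
    have hm := hmem q
    rw [hwi, hq] at hm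
    have e : g⁻¹ * w * g = k.1 * ((α q)⁻¹ * ((w : L) * α q)) * k.1⁻¹ := by
      show _ = g⁻¹ * α q * _ * (g⁻¹ * α q)⁻¹
      group
    refine ⟨e ▸ P.mul_mem (P.mul_mem k.2 hm) (P.inv_mem k.2), ?_⟩
    show φ ⟨_, hmem q⟩ = φ ⟨_, _⟩
    have e2 : (⟨g⁻¹ * w * g, e ▸ P.mul_mem (P.mul_mem k.2 hm) (P.inv_mem k.2)⟩ : P) = k * ⟨_, hm⟩ * k⁻¹ := Subtype.ext e
    rw [e2, map_mul, map_mul, map_inv, mul_comm (φ k), mul_inv_cancel_right]
    exact congrArg φ (Subtype.ext (by show _ * ((w : L) * α ((w : L)⁻¹ • q)) = _; rw [hwi, hq]))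
  have hw0 : (w : L) • q₀ = q₀ := by
    rw [hq₀, MulAction.Quotient.smul_coe, QuotientGroup.eq, smul_eq_mul, mul_one, mul_one]
    exact P.inv_mem w.2
  have hf0 : f q₀ = φ w := by
    obtain ⟨hg, e⟩ := hval q₀ hw0 1 rfl
    rw [e]; congr 1; exact Subtype.ext (by simp)
  have hsplit := Finset.prod_erase_mul (Finset.univ.filter fun q : L ⧸ P => (w : L) • q = q) f
    (Finset.mem_filter.2 ⟨Finset.mem_univ q₀, hw0⟩)
  rw [even_prod hA _ f fun a => ?_, one_mul, htriv, hf0] at hsplit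
  · exact (QuotientGroup.eq_one_iff w).1 hsplit
  have hinv : ∀ r : P, ∀ q : L ⧸ P, (w : L) • q = q → (w : L) • (r : L) • q = (r : L) • q ∧ f ((r : L) • q) = f q := by
    intro r q hq
    have hrw : (w : L) * r = r * w := (congrArg Subtype.val (Subgroup.mem_center_iff.1 hw r)).symm
    have h1 : (w : L) • (r : L) • q = (r : L) • q := by rw [← mul_smul, hrw, mul_smul, hq]
    refine ⟨h1, ?_⟩
    obtain ⟨g, rfl⟩ := QuotientGroup.mk_surjective q
    obtain ⟨ha, ea⟩ := hval _ h1 ((r : L) * g) rfl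
    obtain ⟨hb, eb⟩ := hval _ hq g rfl
    rw [ea, eb]
    refine congrArg φ (Subtype.ext ?_)
    show ((r : L) * g)⁻¹ * w * ((r : L) * g) = g⁻¹ * w * g
    rw [show ((r : L) * g)⁻¹ * w * ((r : L) * g) = g⁻¹ * (r : L)⁻¹ * ((w : L) * r) * g by group, hrw]; group
  let S : SubMulAction P (L ⧸ P) :=
    { carrier := {q | q ≠ q₀ ∧ (w : L) • q = q ∧ f q = a}
      smul_mem' := by
        rintro r q ⟨hne, hq, hfa⟩
        obtain ⟨h1, h2⟩ := hinv r q hq
        refine ⟨fun e => hne ?_, h1, h2.trans hfa⟩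
        have e' : (r : L) • q = q₀ := e
        rw [eq_inv_smul_iff.2 e', hq₀, MulAction.Quotient.smul_coe, QuotientGroup.eq, smul_eq_mul]
        simp }
  have hfix : IsEmpty (MulAction.fixedPoints P S) := by
    refine ⟨fun u => ?_⟩
    obtain ⟨⟨q, hne, _, _⟩, hq⟩ := u
    apply hne
    obtain ⟨g, rfl⟩ := QuotientGroup.mk_surjective q
    have hg : g⁻¹ ∈ Subgroup.normalizer (P : Set L) := by
      have hle : P.map (MulAut.conj g⁻¹).toMonoidHom ≤ P := by
        rintro _ ⟨r, hr, rfl⟩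
        have h := congrArg Subtype.val (hq ⟨r⁻¹, P.inv_mem hr⟩)
        have h' : ((r⁻¹ * g : L) : L ⧸ P) = g := h
        have h2 := QuotientGroup.eq.1 h'
        show g⁻¹ * r * g⁻¹⁻¹ ∈ P
        simpa [mul_assoc] using h2
      have heq : P.map (MulAut.conj g⁻¹).toMonoidHom = P :=
        Subgroup.eq_of_le_of_card_ge hle (Subgroup.card_map_of_injective (MulAut.conj g⁻¹).injective).ge
      rw [Subgroup.mem_normalizer_iff]
      intro v
      conv_rhs => rw [← heq]
      exact (Subgroup.mem_map_iff_mem (MulAut.conj g⁻¹).injective).symm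
    rw [hN] at hg
    rw [QuotientGroup.eq, mul_one]
    simpa using hg
  have h := hp.card_modEq_card_fixedPoints S
  rw [Nat.card_eq_zero.2 (Or.inl hfix)] at h
  convert (Nat.modEq_zero_iff_dvd.1 h) using 1
  rw [Finset.filter_erase, Finset.filter_filter]
  show _ = Nat.card {q : L ⧸ P // q ≠ q₀ ∧ (w : L) • q = q ∧ f q = a}
  rw [Nat.card_eq_fintype_card, Fintype.card_subtype]
  congr 1
  ext q
  simp

/-- Let L be a finite non-abelian simple group with an involution z whose centralizer R is a Sylow 2-subgroup of L whose Frattini subgroup is the subgroup generated by z. Then R is dihedral of order 8. -/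
theorem result {L : Type*} [Group L] [Finite L] [IsSimpleGroup L] (hL : ¬ IsMulCommutative L) (z : L) (hz : orderOf z = 2) (R : Sylow 2 L) (hR : (R : Subgroup L) = Subgroup.centralizer ({z} : Set L)) (hΦ : (frattini ↥(R : Subgroup L)).map (R : Subgroup L).subtype = Subgroup.zpowers z) : Nonempty (↥(R : Subgroup L) ≃* DihedralGroup 4) := by
  classical
  haveI : Fact (Nat.Prime 2) := ⟨Nat.prime_two⟩
  set P : Subgroup L := R.1 with hP
  have hp : IsPGroup 2 P := R.2
  have hPC : ∀ u, u ∈ P ↔ u * z = z * u := fun u => by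
    rw [show P = _ from hR]; exact Subgroup.mem_centralizer_singleton_iff
  have hz1 : z ≠ 1 := fun e => by rw [e, orderOf_one] at hz; norm_num at hz
  have hz2 : z * z = 1 := by rw [← pow_two, ← hz]; exact pow_orderOf_eq_one z
  have hzp : ∀ v ∈ Subgroup.zpowers z, v = 1 ∨ v = z := by
    intro v hv
    rw [mem_zpowers_iff_mem_range_orderOf, hz] at hv
    simp only [Finset.mem_image, Finset.mem_range] at hv
    obtain ⟨k, hk, rfl⟩ := hv
    interval_cases k <;> simp
  have hΦ' : ∀ v : P, v ∈ frattini P → v.1 = 1 ∨ v.1 = z := fun v hv => hzp _ (hΦ ▸ ⟨v, hv, rfl⟩)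
  have hN : Subgroup.normalizer (P : Set L) = P := by
    refine le_antisymm (fun n hn => ?_) Subgroup.le_normalizer
    have hzmem : z ∈ P := (hPC z).2 rfl
    obtain ⟨v, hv, hvz⟩ : z ∈ (frattini P).map P.subtype := hΦ.symm ▸ Subgroup.mem_zpowers z
    let ν : P →* P := MonoidHom.mk' (fun u => ⟨n * u * n⁻¹, (Subgroup.mem_normalizer_iff.1 hn u).1 u.2⟩)
      fun a b => Subtype.ext (by simp only [Subgroup.coe_mul]; group)
    have hs : Function.Surjective ν := fun u => ⟨⟨n⁻¹ * u * n, by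
      have := (Subgroup.mem_normalizer_iff.1 (inv_mem hn) u).1 u.2
      rwa [inv_inv] at this⟩, Subtype.ext (by show n * (n⁻¹ * u.1 * n) * n⁻¹ = u.1; group)⟩
    rcases hΦ' (ν v) (frattini_le_comap_frattini_of_surjective hs hv) with e | e
    · exact absurd (conj_eq_one_iff.1 e) (fun e' => hz1 (hvz.symm.trans e'))
    · refine (hPC n).2 (mul_inv_eq_iff_eq_mul.1 ?_)
      rw [← hvz]
      exact e.trans hvz.symm
  have hcen : ∀ v : P, v ∈ Subgroup.center P → v.1 * v.1 = 1 → v.1 = 1 ∨ v.1 = z := fun v h1 h2 =>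
    hΦ' v (central_mem_frattini hL P hp hN v h1 (Subtype.ext h2))
  have hniso : ¬ Cfsg.IsIsolatedInvolution z := by
    intro hiso
    haveI hsol : Group.IsSolvable (Subgroup.centralizer ({z} : Set L)) := by
      rw [← hR]
      haveI : Group.IsNilpotent P := hp.isNilpotent
      infer_instance
    have h := Cfsg.Agent.S1188.result z hiso hsol
    have hn : (Cfsg.oddCore L).Normal := inferInstanceAs (Cfsg.oddCore L).Normal
    rcases hn.eq_bot_or_eq_top with e | e
    · have hall : ∀ g : L, g ∈ P := fun g => by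
        have h1 := h g
        rw [e, Subgroup.mem_bot] at h1
        exact (hPC g).2 (mul_inv_eq_iff_eq_mul.1 (mul_inv_eq_one.1 h1)).symm
      haveI : Group.IsNilpotent L := (hp.of_surjective P.subtype fun g => ⟨⟨g, hall g⟩, rfl⟩).isNilpotent
      exact hL ⟨⟨fun a b => IsSimpleGroup.comm_iff_isSolvable.2 inferInstance a b⟩⟩
    · have hodd := CfsgLib.Base.ZStar.odd_card_oddCore (G := L)
      rw [e, Subgroup.card_top] at hodd
      exact (Nat.not_even_iff_odd.2 hodd) (even_iff_two_dvd.2 (hz ▸ orderOf_dvd_natCard z))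
  simp only [Cfsg.IsIsolatedInvolution, hz, true_and, not_forall] at hniso
  obtain ⟨g, hgc, hgne⟩ := hniso
  set x := g * z * g⁻¹ with hx
  have hxP : x ∈ P := (hPC x).2 hgc.eq.symm
  have hx2 : x * x = 1 := by
    rw [hx, show g * z * g⁻¹ * (g * z * g⁻¹) = g * (z * z) * g⁻¹ by group, hz2]; group
  have hx1 : x ≠ 1 := fun e => hz1 (conj_eq_one_iff.1 e)
  obtain ⟨r, hrP, hrx⟩ : ∃ r ∈ P, r * x ≠ x * r := by
    by_contra hall
    push Not at hall
    rcases hcen ⟨x, hxP⟩ (Subgroup.mem_center_iff.2 fun u => Subtype.ext (hall u.1 u.2)) hx2 with e | e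
    · exact hx1 e
    · exact hgne e
  have hcom : ∀ a ∈ P, ∀ b ∈ P, a * b * a⁻¹ = b ∨ a * b * a⁻¹ = z * b := by
    intro a ha b hb
    rcases hΦ' ⁅(⟨a, ha⟩ : P), ⟨b, hb⟩⁆ (CfsgLib.Solv.commutator_le_frattini hp
      (Subgroup.commutator_mem_commutator (Subgroup.mem_top _) (Subgroup.mem_top _))) with e | e
    · left; exact mul_inv_eq_one.1 e
    · right; exact mul_inv_eq_iff_eq_mul.1 e
  have hconj : ∀ a ∈ P, a * x ≠ x * a → a * x * a⁻¹ = z * x := fun a ha hne =>
    (hcom a ha x hxP).resolve_left fun e => hne (mul_inv_eq_iff_eq_mul.1 e)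
  have hsqM : ∀ m ∈ P, m * x = x * m → m * m = 1 := by
    intro m hm hmx
    have h1 : g⁻¹ * m * g ∈ P := (hPC _).2 (by
      calc g⁻¹ * m * g * z = g⁻¹ * (m * x) * g := by rw [hx]; group
        _ = g⁻¹ * (x * m) * g := by rw [hmx]
        _ = _ := by rw [hx]; group)
    have a1 := hΦ' _ (CfsgLib.Solv.pow_mem_frattini hp (⟨m, hm⟩ : P))
    have a2 := hΦ' _ (CfsgLib.Solv.pow_mem_frattini hp (⟨_, h1⟩ : P))
    simp only [Subgroup.coe_pow, Subgroup.coe_mul, pow_two] at a1 a2
    rcases a1 with e | e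
    · exact e
    rw [show g⁻¹ * m * g * (g⁻¹ * m * g) = g⁻¹ * (m * m) * g by group, e] at a2
    rcases a2 with e' | e'
    · exact absurd (by rwa [show g⁻¹ * z * g = g⁻¹ * z * g⁻¹⁻¹ by group, conj_eq_one_iff] at e') hz1
    · exfalso
      apply hgne
      calc x = g * (g⁻¹ * z * g) * g⁻¹ := by rw [e']
        _ = z := by group
  have hzmem : z ∈ P := (hPC z).2 rfl
  have hzx : z * x = x * z := hgc.eq
  have habM : ∀ a ∈ P, a * x = x * a → ∀ b ∈ P, b * x = x * b → a * b = b * a := by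
    intro a ha hax b hb hbx
    have h := hsqM (a * b) (P.mul_mem ha hb) (by rw [mul_assoc, hbx, ← mul_assoc, hax, mul_assoc])
    rw [← inv_eq_of_mul_eq_one_right h, mul_inv_rev, inv_eq_of_mul_eq_one_right (hsqM a ha hax),
      inv_eq_of_mul_eq_one_right (hsqM b hb hbx)]
  have hsplit : ∀ u ∈ P, u * x ≠ x * u → (r⁻¹ * u) * x = x * (r⁻¹ * u) := by
    intro u hu hux
    have h1 := hconj u hu hux
    have h2 := hconj r hrP hrx
    refine mul_inv_eq_iff_eq_mul.1 ?_
    calc r⁻¹ * u * x * (r⁻¹ * u)⁻¹ = r⁻¹ * (u * x * u⁻¹) * r := by group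
      _ = r⁻¹ * (r * x * r⁻¹) * r := by rw [h1, h2]
      _ = x := by group
  have hMr : ∀ m ∈ P, m * x = x * m → r * m * r⁻¹ = m → m = 1 ∨ m = z := by
    intro m hm hmx hmr
    refine hcen ⟨m, hm⟩ (Subgroup.mem_center_iff.2 fun u => Subtype.ext ?_) (hsqM m hm hmx)
    show u.1 * m = m * u.1
    by_cases hux : u.1 * x = x * u.1
    · exact habM u u.2 hux m hm hmx
    · have h1 := habM _ (P.mul_mem (P.inv_mem hrP) u.2) (hsplit u u.2 hux) m hm hmx
      calc u.1 * m = r * (r⁻¹ * u.1 * m) := by group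
        _ = r * (m * (r⁻¹ * u.1)) := by rw [h1]
        _ = (r * m * r⁻¹) * u.1 := by group
        _ = m * u.1 := by rw [hmr]
  have hM : ∀ m ∈ P, m * x = x * m → m = 1 ∨ m = z ∨ m = x ∨ m = z * x := by
    intro m hm hmx
    rcases hcom r hrP m hm with e | e
    · rcases hMr m hm hmx e with h | h <;> simp [h]
    · rcases hMr (m * x) (P.mul_mem hm hxP) (by rw [← mul_assoc x m x, ← hmx]) (by
        calc r * (m * x) * r⁻¹ = (r * m * r⁻¹) * (r * x * r⁻¹) := by group
          _ = (z * m) * (z * x) := by rw [e, hconj r hrP hrx]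
          _ = z * (m * z) * x := by group
          _ = z * (z * m) * x := by rw [(hPC m).1 hm]
          _ = (z * z) * (m * x) := by group
          _ = m * x := by rw [hz2, one_mul]) with h | h
      · right; right; left
        rw [eq_inv_of_mul_eq_one_left h, inv_eq_of_mul_eq_one_right hx2]
      · right; right; right
        rw [← h, mul_assoc, hx2, mul_one]
  obtain ⟨y, hyP, hyx, hy2⟩ : ∃ y ∈ P, y * x ≠ x * y ∧ y * y = 1 := by
    rcases hΦ' _ (CfsgLib.Solv.pow_mem_frattini hp (⟨r, hrP⟩ : P)) with e | e <;>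
      simp only [Subgroup.coe_pow, Subgroup.coe_mul, pow_two] at e
    · exact ⟨r, hrP, hrx, e⟩
    · refine ⟨r * x, P.mul_mem hrP hxP, fun h => hrx ?_, ?_⟩
      · exact mul_right_cancel (h.trans (mul_assoc x r x).symm)
      · calc r * x * (r * x) = (r * x * r⁻¹) * (r * r) * x := by group
          _ = z * (x * z) * x := by rw [hconj r hrP hrx, e]; group
          _ = (z * z) * (x * x) := by rw [← hzx]; group
          _ = 1 := by rw [hz2, hx2, one_mul]
  have hxo : orderOf (⟨x, hxP⟩ : P) = 2 := orderOf_eq_prime (Subtype.ext (by rw [Subgroup.coe_pow, pow_two]; exact hx2))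
    fun e => hx1 (congrArg Subtype.val e)
  have hyo : orderOf (⟨y, hyP⟩ : P) = 2 := orderOf_eq_prime (Subtype.ext (by rw [Subgroup.coe_pow, pow_two]; exact hy2))
    fun e => hyx (by rw [show y = 1 from congrArg Subtype.val e, one_mul, mul_one])
  have hxy2 : x * y * (x * y) = z := by
    calc x * y * (x * y) = x * (y * x * y⁻¹) * (y * y) := by group
      _ = x * (z * x) := by rw [hconj y hyP hyx, hy2, mul_one]
      _ = z * (x * x) := by rw [← mul_assoc, ← hzx, mul_assoc]
      _ = z := by rw [hx2, mul_one]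
  have hord : orderOf ((⟨x, hxP⟩ : P) * ⟨y, hyP⟩) = 4 := by
    refine orderOf_eq_prime_pow (p := 2) (n := 1) (fun e => hz1 ?_) (Subtype.ext ?_)
    · have := congrArg Subtype.val e
      rw [pow_one, pow_two] at this
      exact hxy2.symm.trans this
    · show (x * y) ^ 2 ^ (1 + 1) = 1
      rw [show 2 ^ (1 + 1) = 2 + 2 from rfl, pow_add, pow_two, hxy2, hz2]
  obtain ⟨e⟩ := CfsgLib.Inv.dihedral_equiv hxo hyo
  rw [hord] at e
  have htop : Subgroup.closure ({⟨x, hxP⟩, ⟨y, hyP⟩} : Set P) = ⊤ := by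
    set K := Subgroup.closure ({⟨x, hxP⟩, ⟨y, hyP⟩} : Set P)
    have hxK : (⟨x, hxP⟩ : P) ∈ K := Subgroup.subset_closure (by simp)
    have hyK : (⟨y, hyP⟩ : P) ∈ K := Subgroup.subset_closure (by simp)
    have hzK : (⟨z, hzmem⟩ : P) ∈ K := by
      have := K.mul_mem (K.mul_mem hxK hyK) (K.mul_mem hxK hyK)
      convert this using 1
      exact Subtype.ext hxy2.symm
    have hMK : ∀ m : P, m.1 * x = x * m.1 → m ∈ K := fun m hm => by
      rcases hM m m.2 hm with h | h | h | h
      · rw [show m = 1 from Subtype.ext h]; exact K.one_mem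
      · rw [show m = ⟨z, hzmem⟩ from Subtype.ext h]; exact hzK
      · rw [show m = ⟨x, hxP⟩ from Subtype.ext h]; exact hxK
      · rw [show m = ⟨z, hzmem⟩ * ⟨x, hxP⟩ from Subtype.ext h]; exact K.mul_mem hzK hxK
    refine (Subgroup.eq_top_iff' _).2 fun u => ?_
    by_cases hu : u.1 * x = x * u.1
    · exact hMK u hu
    · have h2 : (⟨y, hyP⟩ : P)⁻¹ * u ∈ K := hMK _ (mul_inv_eq_iff_eq_mul.1 (by
        show y⁻¹ * u.1 * x * (y⁻¹ * u.1)⁻¹ = x
        calc y⁻¹ * u.1 * x * (y⁻¹ * u.1)⁻¹ = y⁻¹ * (u.1 * x * u.1⁻¹) * y := by group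
          _ = y⁻¹ * (y * x * y⁻¹) * y := by rw [hconj u u.2 hu, hconj y hyP hyx]
          _ = x := by group))
      have := K.mul_mem hyK h2
      rwa [mul_inv_cancel_left] at this
  exact ⟨((MulEquiv.subgroupCongr htop.symm).trans e) |> Subgroup.topEquiv.symm.trans⟩

end Cfsg.Agent.S5435
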