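import Cfsg.Statements.S5437
import Mathlib
-- import your own Cfsg.Agent.* helpers here

set_option autoImplicit false
open Cfsg

namespace Cfsg.Agent.S5437

/-- Let I be a set of involutions of the finite group G closed under conjugation, and H a subgroup of G. The following are equivalent: (1) for every member x of I lying in H, the conjugates of x lying in H form a single H-class and the centralizer of x lies in H; (2) for every g outside H, no member of I lies in both H and g H g⁻¹; (3) every member of I lying in H fixes exactly one coset in the action of G on the cosets of H. -/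
theorem result {G : Type*} [Group G] [Finite G] (I : Set G) (hI : ∀ x ∈ I, orderOf x = 2) (hIc : ∀ g : G, ∀ x ∈ I, g * x * g⁻¹ ∈ I) (H : Subgroup G) : ((∀ x ∈ I, x ∈ H → (∀ g : G, g * x * g⁻¹ ∈ H → ∃ h ∈ H, h * x * h⁻¹ = g * x * g⁻¹) ∧ Subgroup.centralizer ({x} : Set G) ≤ H) ↔ (∀ g : G, g ∉ H → ∀ x ∈ I, ¬ (x ∈ H ∧ x ∈ (H : Subgroup G).map (MulAut.conj g).toMonoidHom))) ∧ ((∀ g : G, g ∉ H → ∀ x ∈ I, ¬ (x ∈ H ∧ x ∈ (H : Subgroup G).map (MulAut.conj g).toMonoidHom)) ↔ ∀ x ∈ I, x ∈ H → ∃! c : G ⧸ H, x • c = c) := by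
  have key : ∀ g x : G, x ∈ (H : Subgroup G).map (MulAut.conj g).toMonoidHom ↔ g⁻¹ * x * g ∈ H := by
    intro g x
    constructor
    · rintro ⟨y, hy, rfl⟩; simpa [MulAut.conj_apply, mul_assoc] using hy
    · intro h; exact ⟨_, h, by simp [MulAut.conj_apply, mul_assoc]⟩
  have fix : ∀ g x : G, (x • (g : G ⧸ H) = (g : G ⧸ H)) ↔ g⁻¹ * x * g ∈ H := by
    intro g x
    rw [← H.inv_mem_iff, show ((g⁻¹ * x * g)⁻¹) = (x * g)⁻¹ * g by group]
    exact QuotientGroup.eq
  refine ⟨⟨fun hA g hg x hx hxg => ?_, fun hB x hx hxH => ⟨fun g hgx => ?_, fun c hc => ?_⟩⟩,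
    ⟨fun hB x hx hxH => ⟨((1 : G) : G ⧸ H), (fix 1 x).2 (by simpa using hxH), fun c hc => ?_⟩, fun hC g hg x hx hxg => ?_⟩⟩
  · have hy := (key g x).1 hxg.2
    obtain ⟨hf, hcen⟩ := hA (g⁻¹ * x * g) (by simpa using hIc g⁻¹ x hx) hy
    obtain ⟨h, hh, hhy⟩ := hf g (by simpa [mul_assoc] using hxg.1)
    have hmem : g⁻¹ * h ∈ Subgroup.centralizer ({g⁻¹ * x * g} : Set G) := by
      rw [Subgroup.mem_centralizer_singleton_iff]
      have hx' : h * (g⁻¹ * x * g) * h⁻¹ = x := by rw [hhy]; group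
      rw [mul_inv_eq_iff_eq_mul] at hx'
      calc g⁻¹ * h * (g⁻¹ * x * g) = g⁻¹ * (x * h) := by rw [mul_assoc, hx']
        _ = _ := by group
    apply hg
    have := mul_mem hh (inv_mem (hcen hmem))
    simpa using this
  · by_cases hg : g ∈ H
    · exact ⟨g, hg, rfl⟩
    · exact absurd ⟨hgx, (key g _).2 (by simpa [mul_assoc] using hxH)⟩ (hB g hg _ (hIc g x hx))
  · by_contra hcH
    refine hB c hcH x hx ⟨hxH, (key c x).2 ?_⟩
    rw [Subgroup.mem_centralizer_singleton_iff] at hc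
    rwa [mul_assoc, ← hc, inv_mul_cancel_left]
  · obtain ⟨g, rfl⟩ := QuotientGroup.mk_surjective c
    have hg := (fix g x).1 hc
    by_contra hne
    refine hB g (fun k => hne (QuotientGroup.eq.2 (by simpa using k))) x hx ⟨hxH, (key g x).2 hg⟩
  · obtain ⟨c, -, huniq⟩ := hC x hx hxg.1
    have h1 := huniq _ ((fix 1 x).2 (by simpa using hxg.1))
    have h2 := huniq _ ((fix g x).2 ((key g x).1 hxg.2))
    have := QuotientGroup.eq.1 (h1.trans h2.symm)
    exact hg (by simpa using this)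

end Cfsg.Agent.S5437
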