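import Cfsg.Statements.S5438
import Mathlib
-- import your own Cfsg.Agent.* helpers here

set_option autoImplicit false
open Cfsg

namespace Cfsg.Agent.S5438

/-- Let z be a 2-central involution of the finite group G (an involution central in some Sylow 2-subgroup) and H a subgroup containing z such that the coset H is the only coset of H fixed by z (in the action of G on the cosets of H). Then H has odd index in G, and for every 2-element x of H the conjugates of x lying in H form a single H-class. -/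
theorem result {G : Type*} [Group G] [Finite G] (z : G) (hz : Cfsg.IsTwoCentralInvolution z) (H : Subgroup G) (hzH : z ∈ H) (hfix : ∀ g : G, g⁻¹ * z * g ∈ H → g ∈ H) : Odd H.index ∧ ∀ x ∈ H, (∃ k : ℕ, orderOf x = 2 ^ k) → ∀ g : G, g * x * g⁻¹ ∈ H → ∃ h ∈ H, h * x * h⁻¹ = g * x * g⁻¹ := by
  haveI : Fact (Nat.Prime 2) := ⟨Nat.prime_two⟩
  obtain ⟨hz2, P, hzP, hPz⟩ := hz
  have hC : Subgroup.centralizer ({z} : Set G) ≤ H := fun c hc => hfix c (by
    rw [Subgroup.mem_centralizer_singleton_iff] at hc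
    rwa [mul_assoc, ← hc, inv_mul_cancel_left])
  have hPH : (P : Subgroup G) ≤ H := fun p hp => hC (Subgroup.mem_centralizer_singleton_iff.2 (hPz p hp))
  refine ⟨?_, ?_⟩
  · rw [← Nat.not_even_iff_odd, even_iff_two_dvd]
    exact fun h => P.not_dvd_index (h.trans (Subgroup.index_dvd_of_le hPH))
  -- a 2-subgroup containing `z` lies in `H`
  have hsub : ∀ R : Subgroup G, IsPGroup 2 R → z ∈ R → R ≤ H := by
    intro R hR hzR
    haveI := hR.isNilpotent
    have hnc : NormalizerCondition R := normalizerCondition_of_isNilpotent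
    by_contra hne
    have hlt : H.subgroupOf R < ⊤ := lt_top_iff_ne_top.2 fun k => hne (Subgroup.subgroupOf_eq_top.1 k)
    obtain ⟨r, hr, hr'⟩ := SetLike.exists_of_lt (hnc _ hlt)
    apply hr'
    have := (Subgroup.mem_normalizer_iff.1 (inv_mem hr) (⟨z, hzR⟩ : R)).1 hzH
    rw [Subgroup.mem_subgroupOf] at this
    exact hfix r (by simpa using this)
  rintro x hxH ⟨k, hk⟩ g hgx
  -- conjugate both into the Sylow subgroup
  have hinto : ∀ w ∈ H, (∃ k, orderOf w = 2 ^ k) → ∃ h ∈ H, h * w * h⁻¹ ∈ (P : Subgroup G) := by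
    rintro w hw ⟨k, hk⟩
    have hcyc : IsPGroup 2 (Subgroup.zpowers (⟨w, hw⟩ : H)) :=
      IsPGroup.of_card (n := k) (by rw [Nat.card_zpowers, Subgroup.orderOf_mk, hk])
    obtain ⟨R, hR⟩ := hcyc.exists_le_sylow
    obtain ⟨h, hh⟩ := MulAction.exists_smul_eq H R (P.subtype hPH)
    refine ⟨h, h.2, ?_⟩
    have hm : h * ⟨w, hw⟩ * h⁻¹ ∈ ((P.subtype hPH) : Subgroup H) := by
      rw [← hh]; exact ⟨_, hR (Subgroup.mem_zpowers _), rfl⟩
    exact hm
  obtain ⟨h1, hh1, hx'⟩ := hinto x hxH ⟨k, hk⟩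
  obtain ⟨h2, hh2, hy'⟩ := hinto _ hgx ⟨k, by rw [← hk]; exact (MulAut.conj g).orderOf_eq x⟩
  set g' := h2 * g * h1⁻¹
  set x' := h1 * x * h1⁻¹
  set y' := h2 * (g * x * g⁻¹) * h2⁻¹
  have hgy : g' * x' * g'⁻¹ = y' := by simp only [g', x', y']; group
  set K := Subgroup.centralizer ({y'} : Set G)
  have hz1 : z ∈ K := Subgroup.mem_centralizer_singleton_iff.2 (hPz y' hy').symm
  have hz2' : g' * z * g'⁻¹ ∈ K := Subgroup.mem_centralizer_singleton_iff.2 (by
    rw [← hgy]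
    calc g' * z * g'⁻¹ * (g' * x' * g'⁻¹) = g' * (z * x') * g'⁻¹ := by group
      _ = g' * (x' * z) * g'⁻¹ := by rw [hPz x' hx']
      _ = _ := by group)
  have hord : ∀ (w : G) (hw : w ∈ K), orderOf w = 2 → IsPGroup 2 (Subgroup.zpowers (⟨w, hw⟩ : K)) :=
    fun w hw h2 => IsPGroup.of_card (n := 1) (by rw [Nat.card_zpowers, Subgroup.orderOf_mk, h2, pow_one])
  obtain ⟨R, hR⟩ := (hord z hz1 hz2).exists_le_sylow
  obtain ⟨R', hR'⟩ := (hord _ hz2' (((MulAut.conj g').orderOf_eq z).trans hz2)).exists_le_sylow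
  obtain ⟨c, hc⟩ := MulAction.exists_smul_eq K R' R
  have hRH : (R : Subgroup K).map K.subtype ≤ H :=
    hsub _ (R.isPGroup'.map _) ⟨_, hR (Subgroup.mem_zpowers _), rfl⟩
  have hc' : (c : G) * (g' * z * g'⁻¹) * (c : G)⁻¹ ∈ H := by
    refine hRH ⟨c * ⟨_, hz2'⟩ * c⁻¹, ?_, rfl⟩
    rw [← hc]; exact ⟨_, hR' (Subgroup.mem_zpowers _), rfl⟩
  have hgH : (c : G) * g' ∈ H := by
    rw [← H.inv_mem_iff]
    refine hfix _ ?_
    rw [inv_inv, mul_inv_rev]
    simpa [mul_assoc] using hc'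
  refine ⟨h2⁻¹ * ((c : G) * g') * h1, mul_mem (mul_mem (inv_mem hh2) hgH) hh1, ?_⟩
  have hcy : (c : G) * y' * (c : G)⁻¹ = y' := by
    rw [mul_inv_eq_iff_eq_mul]; exact (Subgroup.mem_centralizer_singleton_iff.1 c.2)
  calc h2⁻¹ * ((c : G) * g') * h1 * x * (h2⁻¹ * ((c : G) * g') * h1)⁻¹
      = h2⁻¹ * ((c : G) * (g' * x' * g'⁻¹) * (c : G)⁻¹) * h2 := by simp only [g', x']; group
    _ = g * x * g⁻¹ := by rw [hgy, hcy]; simp only [y']; group

end Cfsg.Agent.S5438
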