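import Cfsg.Statements.S5439
import Mathlib
-- import your own Cfsg.Agent.* helpers here

set_option autoImplicit false
open Cfsg

namespace Cfsg.Agent.S5439

/-- Let I and J be two different conjugacy classes of involutions of the finite group G and H a subgroup such that every member of I ∪ J fixes exactly one coset in the action on the cosets of H, and such that for every a in I ∩ H and every b in (I ∪ J) ∩ H different from a and commuting with it, the centralizer of a b lies in H. Then H = G. -/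
theorem result {G : Type*} [Group G] [Finite G] (I J : Set G) (a₀ b₀ : G) (ha₀ : orderOf a₀ = 2) (hb₀ : orderOf b₀ = 2) (hI : I = {x | IsConj a₀ x}) (hJ : J = {x | IsConj b₀ x}) (hIJ : I ≠ J) (H : Subgroup G) (hfix : ∀ x ∈ I ∪ J, ∃! c : G ⧸ H, x • c = c) (hcent : ∀ a ∈ I, a ∈ H → ∀ b ∈ I ∪ J, b ∈ H → a ≠ b → a * b = b * a → Subgroup.centralizer ({a * b} : Set G) ≤ H) : H = ⊤ := by
  have inv : ∀ x ∈ I ∪ J, x * x = 1 ∧ x⁻¹ = x := by
    intro x hx
    have h1 : orderOf x = 2 := by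
      rcases hx with hx | hx
      · rw [hI] at hx
        obtain ⟨g, rfl⟩ := isConj_iff.1 (show IsConj a₀ x from hx)
        exact ((MulAut.conj g).orderOf_eq a₀).trans ha₀
      · rw [hJ] at hx
        obtain ⟨g, rfl⟩ := isConj_iff.1 (show IsConj b₀ x from hx)
        exact ((MulAut.conj g).orderOf_eq b₀).trans hb₀
    have h2 : x * x = 1 := by rw [← pow_two, ← h1]; exact pow_orderOf_eq_one x
    exact ⟨h2, inv_eq_of_mul_eq_one_right h2⟩
  have conjI : ∀ g : G, ∀ x ∈ I, g * x * g⁻¹ ∈ I := fun g x hx => by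
    rw [hI] at hx ⊢; exact IsConj.trans (show IsConj a₀ x from hx) (isConj_iff.2 ⟨g, rfl⟩)
  have conjJ : ∀ g : G, ∀ x ∈ J, g * x * g⁻¹ ∈ J := fun g x hx => by
    rw [hJ] at hx ⊢; exact IsConj.trans (show IsConj b₀ x from hx) (isConj_iff.2 ⟨g, rfl⟩)
  have hdis : ∀ x ∈ I, ∀ y ∈ J, ∀ g : G, g * x * g⁻¹ ≠ y := by
    intro x hx y hy g k
    apply hIJ
    rw [hI] at hx
    rw [hJ] at hy
    have h1 : IsConj a₀ b₀ := (IsConj.trans (show IsConj a₀ x from hx) (isConj_iff.2 ⟨g, k⟩)).trans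
      (show IsConj b₀ y from hy).symm
    rw [hI, hJ]
    ext v
    exact ⟨fun hv => h1.symm.trans hv, fun hv => h1.trans hv⟩
  have fixiff : ∀ g x : G, (x • (g : G ⧸ H) = (g : G ⧸ H)) ↔ g⁻¹ * x * g ∈ H := by
    intro g x
    rw [← H.inv_mem_iff, show ((g⁻¹ * x * g)⁻¹) = (x * g)⁻¹ * g by group]
    exact QuotientGroup.eq
  have hcomfix : ∀ x ∈ I ∪ J, ∀ y : G, Commute x y → ∀ c : G ⧸ H, x • c = c → y • c = c := by
    intro x hx y hxy c hc
    refine (hfix x hx).unique ?_ hc
    show x • y • c = y • c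
    rw [← mul_smul, hxy.eq, mul_smul, hc]
  -- members of the two classes fix one coset
  have hone : ∀ x ∈ I, ∀ y ∈ J, ∀ c : G ⧸ H, x • c = c → y • c = c := by
    intro x hx y hy c hc
    obtain ⟨hxx, hxi⟩ := inv x (Or.inl hx)
    obtain ⟨hyy, hyi⟩ := inv y (Or.inr hy)
    set ρ := x * y with hρ
    have hxρ : ∀ i : ℕ, x * ρ ^ i * x⁻¹ = (ρ ^ i)⁻¹ := fun i => by
      rw [← conj_pow, ← inv_pow]
      congr 1
      rw [hρ, mul_inv_rev, hxi, hyi, ← mul_assoc x x y, hxx, one_mul]
    have hy' : y = x * ρ := by rw [hρ, ← mul_assoc, hxx, one_mul]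
    have hmove : ∀ i : ℕ, (ρ ^ i)⁻¹ * x = x * ρ ^ i := fun i => by
      rw [← hxρ i, hxi, mul_assoc, hxx, mul_one]
    rcases Nat.even_or_odd (orderOf ρ) with ⟨m, hm⟩ | ⟨k, hk⟩
    · have ht : (ρ ^ m)⁻¹ = ρ ^ m := inv_eq_of_mul_eq_one_right (by
        rw [← pow_add, ← hm]; exact pow_orderOf_eq_one ρ)
      have hxt : Commute x (ρ ^ m) := by
        have := hxρ m
        rw [ht, mul_inv_eq_iff_eq_mul] at this
        exact this
      have hyt : Commute y (ρ ^ m) := by rw [hy']; exact hxt.mul_left (Commute.self_pow ρ m)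
      have hm1 : ρ ^ m ≠ 1 := by
        intro k
        have := Nat.le_of_dvd (by have := orderOf_pos ρ; omega) (orderOf_dvd_of_pow_eq_one k)
        have := orderOf_pos ρ
        omega
      set x' := x * ρ ^ m
      have hx' : x' ∈ I ∪ J := by
        rcases Nat.even_or_odd m with ⟨i, hi⟩ | ⟨i, hi⟩
        · left
          have := conjI (ρ ^ i)⁻¹ x hx
          rwa [inv_inv, hmove, mul_assoc, ← pow_add, ← hi] at this
        · right
          have := conjJ (ρ ^ i)⁻¹ y hy
          rw [inv_inv, hy', ← mul_assoc (ρ ^ i)⁻¹ x ρ, hmove,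
            show x * ρ ^ i * ρ * ρ ^ i = x * (ρ ^ i * ρ * ρ ^ i) by group, ← pow_succ, ← pow_add,
            show i + 1 + i = m by omega] at this
          exact this
      have hxx' : Commute x x' := (Commute.refl x).mul_right hxt
      have hx'c : x' • c = c := hcomfix x (Or.inl hx) x' hxx' c hc
      obtain ⟨g, rfl⟩ := QuotientGroup.mk_surjective c
      rw [fixiff] at hc hx'c
      refine (fixiff g y).2 (hcent (g⁻¹ * x * g) (by simpa using conjI g⁻¹ x hx) hc (g⁻¹ * x' * g) ?_ hx'c ?_ ?_ ?_)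
      · rcases hx' with k | k
        · exact Or.inl (by simpa using conjI g⁻¹ x' k)
        · exact Or.inr (by simpa using conjJ g⁻¹ x' k)
      · intro k
        apply hm1
        have k' : x = x * ρ ^ m := mul_left_cancel (mul_right_cancel k)
        exact (mul_left_cancel (k'.symm.trans (mul_one x).symm))
      · calc g⁻¹ * x * g * (g⁻¹ * x' * g) = g⁻¹ * (x * x') * g := by group
          _ = _ := by rw [hxx'.eq]; group
      · rw [Subgroup.mem_centralizer_singleton_iff]
        have e : g⁻¹ * x * g * (g⁻¹ * x' * g) = g⁻¹ * (ρ ^ m) * g := by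
          calc g⁻¹ * x * g * (g⁻¹ * x' * g) = g⁻¹ * ((x * x) * ρ ^ m) * g := by simp only [x']; group
            _ = _ := by rw [hxx, one_mul]
        rw [e]
        calc g⁻¹ * y * g * (g⁻¹ * ρ ^ m * g) = g⁻¹ * (y * ρ ^ m) * g := by group
          _ = _ := by rw [hyt.eq]; group
    · exfalso
      refine hdis x hx y hy (ρ ^ (k + 1))⁻¹ ?_
      rw [inv_inv, hmove, mul_assoc, ← pow_add, show k + 1 + (k + 1) = (2 * k + 1) + 1 by omega, pow_succ,
        ← hk, pow_orderOf_eq_one, one_mul, ← hy']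
  have hb0J : b₀ ∈ J := by rw [hJ]; exact IsConj.refl b₀
  have ha0I : a₀ ∈ I := by rw [hI]; exact IsConj.refl a₀
  obtain ⟨c, hc, -⟩ := hfix b₀ (Or.inr hb0J)
  have hallI : ∀ x ∈ I, x • c = c := by
    intro x hx
    obtain ⟨c', hc', -⟩ := hfix x (Or.inl hx)
    rwa [(hfix b₀ (Or.inr hb0J)).unique (hone x hx b₀ hb0J c' hc') hc] at hc'
  have hgc : ∀ g : G, g • c = c := by
    intro g
    refine (hfix (g * a₀ * g⁻¹) (Or.inl (conjI g a₀ ha0I))).unique ?_ (hallI _ (conjI g a₀ ha0I))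
    show (g * a₀ * g⁻¹) • g • c = g • c
    rw [← mul_smul, inv_mul_cancel_right, mul_smul, hallI a₀ ha0I]
  rw [eq_top_iff]
  intro h _
  obtain ⟨g, rfl⟩ := QuotientGroup.mk_surjective c
  have := (fixiff g (g * h * g⁻¹)).1 (hgc _)
  simpa [mul_assoc] using this

end Cfsg.Agent.S5439
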