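import Cfsg.Statements.S5459
import Mathlib
-- import your own Cfsg.Agent.* helpers here

set_option autoImplicit false
open Cfsg

namespace Cfsg.Agent.S5459

open scoped commutatorElement

/-- Let G be a finite group with a quasisimple normal subgroup L and an involution d such that G is generated by L and d, the centre of L has odd order, and d inverts every element of the centre of L. If the commuting graph on the conjugacy class of the image of d in G modulo the centre of L is connected, then the commuting graph on the conjugacy class of d is connected. -/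
theorem result {G : Type*} [Group G] [Finite G] (L : Subgroup G) [L.Normal] (hL : Cfsg.IsQuasisimple ↥L) (d : G) (hd : orderOf d = 2) (hgen : L ⊔ Subgroup.zpowers d = ⊤) (hodd : Odd (Nat.card ↥(Subgroup.center ↥L))) (hinv : ∀ c ∈ (Subgroup.center ↥L).map L.subtype, d * c * d⁻¹ = c⁻¹) [hn : ((Subgroup.center ↥L).map L.subtype).Normal] (hconn : (Cfsg.commutingGraph (conjugatesOf (QuotientGroup.mk d : G ⧸ (Subgroup.center ↥L).map L.subtype))).Connected) : (Cfsg.commutingGraph (conjugatesOf d)).Connected := by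
  classical
  set Z := (Subgroup.center ↥L).map L.subtype with hZ
  have hdd : d * d = 1 := by rw [← pow_two, ← hd]; exact pow_orderOf_eq_one d
  have hZL : ∀ l ∈ L, ∀ c ∈ Z, l * c = c * l := by
    rintro l hl _ ⟨⟨c, hcL⟩, hc, rfl⟩
    exact congrArg Subtype.val (Subgroup.mem_center_iff.1 hc ⟨l, hl⟩)
  have hsplit : ∀ g : G, ∃ l ∈ L, g = l ∨ g = l * d := by
    intro g
    have hg : g ∈ L ⊔ Subgroup.zpowers d := hgen ▸ Subgroup.mem_top g
    rw [Subgroup.mem_sup_of_normal_left] at hg
    obtain ⟨l, hl, w, ⟨i, rfl⟩, rfl⟩ := hg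
    rcases Int.even_or_odd i with ⟨k, rfl⟩ | ⟨k, rfl⟩
    · exact ⟨l, hl, Or.inl (by simp only []; rw [← two_mul, zpow_mul, zpow_two, hdd, one_zpow, mul_one])⟩
    · exact ⟨l, hl, Or.inr (by simp only []; rw [zpow_add, zpow_mul, zpow_two, hdd, one_zpow, one_mul, zpow_one])⟩
  have hinvx : ∀ g : G, ∀ c ∈ Z, (g * d * g⁻¹) * c * (g * d * g⁻¹)⁻¹ = c⁻¹ := by
    intro g c hc
    have hgc : g⁻¹ * c * g ∈ Z := by simpa using hn.conj_mem c hc g⁻¹
    have h1 := hinv _ hgc
    calc (g * d * g⁻¹) * c * (g * d * g⁻¹)⁻¹ = g * (d * (g⁻¹ * c * g) * d⁻¹) * g⁻¹ := by group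
      _ = g * (g⁻¹ * c * g)⁻¹ * g⁻¹ := by rw [h1]
      _ = c⁻¹ := by group
  have hroot : ∀ c ∈ Z, ∃ e ∈ Z, e * e = c := by
    rintro _ ⟨c, hc, rfl⟩
    obtain ⟨k, hk⟩ := hodd
    have h1 : (⟨c, hc⟩ : Subgroup.center L) ^ (2 * k + 1) = 1 := by rw [← hk]; exact pow_card_eq_one'
    refine ⟨(c : G) ^ (k + 1), pow_mem (show (c : G) ∈ Z from ⟨c, hc, rfl⟩) _, ?_⟩
    have h2 : (c : G) ^ (2 * k + 1) = 1 :=
      congrArg (fun x : Subgroup.center L => ((x : L) : G)) h1
    rw [← pow_add, show k + 1 + (k + 1) = 2 * k + 1 + 1 by ring, pow_succ, h2, one_mul]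
    rfl
  set D := conjugatesOf d
  set Γ := Cfsg.commutingGraph D
  have hDg : ∀ g : G, g * d * g⁻¹ ∈ D := fun g => isConj_iff.2 ⟨g, rfl⟩
  let conjD : G → D → D := fun g x => ⟨g * x * g⁻¹, (show IsConj d x from x.2).trans (isConj_iff.2 ⟨g, rfl⟩)⟩
  have hmap : ∀ g : G, ∀ x y : D, Γ.Adj x y → Γ.Adj (conjD g x) (conjD g y) := by
    intro g x y h
    rw [show Γ = SimpleGraph.fromRel _ from rfl, SimpleGraph.fromRel_adj] at h ⊢
    refine ⟨fun e => h.1 (Subtype.ext (mul_left_cancel (mul_right_cancel (congrArg Subtype.val e)))),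
      h.2.imp (fun k => ?_) (fun k => ?_)⟩ <;>
    exact k.map (MulAut.conj g).toMonoidHom
  have hreach : ∀ g : G, ∀ x y : D, Γ.Reachable x y → Γ.Reachable (conjD g x) (conjD g y) := fun g x y h =>
    h.map (⟨conjD g, fun {a b} => hmap g a b⟩ : Γ →g Γ)
  let d0 : D := ⟨d, IsConj.refl d⟩
  let H : Subgroup G :=
    { carrier := {g | Γ.Reachable d0 (conjD g d0)}
      one_mem' := by
        show Γ.Reachable d0 (conjD 1 d0)
        rw [show conjD 1 d0 = d0 from Subtype.ext (by simp [conjD])]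
      mul_mem' := fun {a b} ha hb => by
        show Γ.Reachable d0 (conjD (a * b) d0)
        rw [show conjD (a * b) d0 = conjD a (conjD b d0) from Subtype.ext (by simp [conjD, mul_assoc])]
        exact ha.trans (hreach a _ _ hb)
      inv_mem' := fun {a} ha => by
        show Γ.Reachable d0 (conjD a⁻¹ d0)
        have := hreach a⁻¹ _ _ ha
        rw [show conjD a⁻¹ (conjD a d0) = d0 from Subtype.ext (by simp [conjD, mul_assoc])] at this
        exact this.symm }
  -- every class of the quotient is reached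
  let π := QuotientGroup.mk' Z
  have hlift : ∀ (X Y : conjugatesOf (π d)), (Cfsg.commutingGraph (conjugatesOf (π d))).Walk X Y →
      ∀ x : D, Γ.Reachable d0 x → π x = X → ∃ y : D, Γ.Reachable d0 y ∧ π y = Y := by
    intro X Y p
    induction p with
    | nil => exact fun x hx e => ⟨x, hx, e⟩
    | @cons X W Y hXW p ih =>
      intro x hx ex
      rw [show Cfsg.commutingGraph (conjugatesOf (π d)) = SimpleGraph.fromRel _ from rfl,
        SimpleGraph.fromRel_adj] at hXW
      obtain ⟨gW, hgW⟩ := isConj_iff.1 (show IsConj (π d) W from W.2)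
      obtain ⟨w, rfl⟩ := QuotientGroup.mk'_surjective Z gW
      obtain ⟨a, ha⟩ := isConj_iff.1 (show IsConj d x from x.2)
      set y := w * d * w⁻¹
      have ey : π y = W := by rw [← hgW]; simp [π, y]
      have hcom : Commute (π x) (π y) := by
        rw [ex, ey]; exact hXW.2.elim id Commute.symm
      have hxx : (x : G) * x = 1 := by
        rw [← ha, show a * d * a⁻¹ * (a * d * a⁻¹) = a * (d * d) * a⁻¹ by group, hdd, mul_one, mul_inv_cancel]
      have hyy : y * y = 1 := by
        rw [show y * y = w * (d * d) * w⁻¹ by simp only [y]; group, hdd, mul_one, mul_inv_cancel]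
      have hc : y⁻¹ * (x * y * x) ∈ Z := by
        apply QuotientGroup.eq.1
        show π y = π ((x : G) * y * x)
        rw [map_mul π ((x : G) * y) x, map_mul π (x : G) y, hcom.eq, mul_assoc, ← map_mul π (x : G) x, hxx, map_one, mul_one]
      obtain ⟨e, he, hee⟩ := hroot _ hc
      obtain ⟨f, hf, hff⟩ := hroot _ (inv_mem he)
      have hye : y * e = f * y * f⁻¹ := by
        have h1 : y * f * y = f⁻¹ := by
          have := hinvx w f hf
          rwa [inv_eq_of_mul_eq_one_right hyy] at this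
        calc y * e = y * (f * f)⁻¹ := by rw [hff, inv_inv]
          _ = y * f⁻¹ * f⁻¹ := by group
          _ = y * (y * f * y) * f⁻¹ := by rw [h1]
          _ = (y * y) * (f * y * f⁻¹) := by group
          _ = _ := by rw [hyy, one_mul]
      have hx' : (x : G) * e * x = e⁻¹ := by
        have := hinvx a e he
        rwa [ha, inv_eq_of_mul_eq_one_right hxx] at this
      have hcomm : Commute (x : G) (y * e) := by
        have h1 : (x : G) * (y * e) * x = y * e := by
          calc (x : G) * (y * e) * x = (x * y * x) * ((x : G)⁻¹ * e * x) := by group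
            _ = (x * y * x) * e⁻¹ := by rw [inv_eq_of_mul_eq_one_right hxx, hx']
            _ = y * (y⁻¹ * (x * y * x)) * e⁻¹ := by group
            _ = y * e := by rw [← hee]; group
        calc (x : G) * (y * e) = (x * (y * e) * x) * x := by rw [mul_assoc _ (x : G) x, hxx, mul_one]
          _ = y * e * x := by rw [h1]
      let y' : D := ⟨y * e, by rw [hye]; exact (show IsConj d y from hDg w).trans (isConj_iff.2 ⟨f, rfl⟩)⟩
      have ey' : π y' = W := by
        show π (y * e) = W
        rw [map_mul, show π e = 1 from (QuotientGroup.eq_one_iff e).2 he, mul_one, ey]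
      have hadj : Γ.Adj x y' := by
        rw [show Γ = SimpleGraph.fromRel _ from rfl, SimpleGraph.fromRel_adj]
        refine ⟨fun k => hXW.1 (Subtype.ext ?_), Or.inl hcomm⟩
        rw [← ex, ← ey', k]
      exact ih y' (hx.trans hadj.reachable) ey'
  have hHZ : ∀ g : G, ∃ k ∈ H, ∃ c ∈ Z, ∃ s : G, g = k * s * c ∧ Commute s d := by
    intro g
    obtain ⟨p⟩ := hconn.preconnected ⟨π d, IsConj.refl _⟩ ⟨π (g * d * g⁻¹), π.map_isConj (hDg g)⟩
    obtain ⟨y, hy, ey⟩ := hlift _ _ p d0 SimpleGraph.Reachable.rfl rfl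
    obtain ⟨k, hk⟩ := isConj_iff.1 (show IsConj d y from y.2)
    have hkH : k ∈ H := by
      show Γ.Reachable d0 (conjD k d0)
      rwa [show conjD k d0 = y from Subtype.ext hk]
    -- the two conjugates differ by a central element of the subgroup
    have hm : (g * d * g⁻¹)⁻¹ * (k * d * k⁻¹) ∈ Z := QuotientGroup.eq.1 (by
      show π (g * d * g⁻¹) = π (k * d * k⁻¹)
      rw [hk]; exact ey.symm)
    obtain ⟨e, he, hee⟩ := hroot _ hm
    have hgd : (e⁻¹ * g) * d * (e⁻¹ * g)⁻¹ = k * d * k⁻¹ := by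
      have h1 := hinvx g e he
      have h2 : (g * d * g⁻¹) * (g * d * g⁻¹) = 1 := by
        rw [show g * d * g⁻¹ * (g * d * g⁻¹) = g * (d * d) * g⁻¹ by group, hdd, mul_one, mul_inv_cancel]
      rw [inv_eq_of_mul_eq_one_right h2] at h1 hee
      generalize hG : g * d * g⁻¹ = X at h1 h2 hee
      calc (e⁻¹ * g) * d * (e⁻¹ * g)⁻¹ = e⁻¹ * X * e := by rw [← hG]; group
        _ = (X * e * X) * X * e := by rw [h1]
        _ = X * (e * e) := by rw [mul_assoc (X * e) X X, h2, mul_one, mul_assoc]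
        _ = k * d * k⁻¹ := by rw [hee, ← mul_assoc, h2, one_mul]
    set s := k⁻¹ * (e⁻¹ * g)
    have hcs : Commute s d := by
      have h1 : s * d * s⁻¹ = d := by
        rw [show s * d * s⁻¹ = k⁻¹ * ((e⁻¹ * g) * d * (e⁻¹ * g)⁻¹) * k by simp only [s]; group, hgd]
        group
      exact mul_inv_eq_iff_eq_mul.1 h1
    exact ⟨k, hkH, g⁻¹ * e * g, by simpa using hn.conj_mem e he g⁻¹, s, by simp only [s]; group, hcs⟩
  have hL' : L ≤ H := by
    have hmem : ∀ g : G, ∃ k ∈ H, ∃ c ∈ Z, g = k * c := by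
      intro g
      obtain ⟨k, hk, c, hc, s, rfl, hs⟩ := hHZ g
      refine ⟨k * s, mul_mem hk ?_, c, hc, rfl⟩
      show Γ.Reachable d0 (conjD s d0)
      rw [show conjD s d0 = d0 from Subtype.ext (by simp [conjD, d0, hs.eq])]
    intro l hl
    have hlc : (⟨l, hl⟩ : L) ∈ commutator L := by rw [hL.1.commutator_eq_top]; trivial
    suffices commutator L ≤ H.subgroupOf L from this hlc
    rw [commutator_def, Subgroup.commutator_le]
    intro a _ b _
    obtain ⟨k, hk, c, hc, ea⟩ := hmem a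
    obtain ⟨k', hk', c', hc', eb⟩ := hmem b
    have hcL : ∀ z ∈ Z, z ∈ L := fun z hz => Subgroup.map_subtype_le _ hz
    have hkL : k ∈ L := by
      have : k = (a : G) * c⁻¹ := by rw [ea, mul_inv_cancel_right]
      rw [this]; exact mul_mem a.2 (inv_mem (hcL c hc))
    have hkL' : k' ∈ L := by
      have : k' = (b : G) * c'⁻¹ := by rw [eb, mul_inv_cancel_right]
      rw [this]; exact mul_mem b.2 (inv_mem (hcL c' hc'))
    show ((⁅a, b⁆ : L) : G) ∈ H
    have e : ((⁅a, b⁆ : L) : G) = ⁅k, k'⁆ := by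
      rw [commutatorElement_def, commutatorElement_def]
      show (a : G) * b * (a : G)⁻¹ * (b : G)⁻¹ = _
      rw [ea, eb]
      calc k * c * (k' * c') * (k * c)⁻¹ * (k' * c')⁻¹
          = k * (c * k') * c' * c⁻¹ * k⁻¹ * c'⁻¹ * k'⁻¹ := by group
        _ = k * (k' * c) * c' * c⁻¹ * k⁻¹ * c'⁻¹ * k'⁻¹ := by rw [hZL k' hkL' c hc]
        _ = k * k' * (c * c') * c⁻¹ * k⁻¹ * c'⁻¹ * k'⁻¹ := by group
        _ = k * k' * (c' * c) * c⁻¹ * k⁻¹ * c'⁻¹ * k'⁻¹ := by rw [hZL c (hcL c hc) c' hc']
        _ = k * k' * (c' * k⁻¹) * c'⁻¹ * k'⁻¹ := by group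
        _ = k * k' * (k⁻¹ * c') * c'⁻¹ * k'⁻¹ := by rw [hZL k⁻¹ (inv_mem hkL) c' hc']
        _ = k * k' * k⁻¹ * k'⁻¹ := by group
    rw [e, commutatorElement_def]
    exact mul_mem (mul_mem (mul_mem hk hk') (inv_mem hk)) (inv_mem hk')
  have hall : ∀ x : D, Γ.Reachable d0 x := by
    intro x
    obtain ⟨g, hg⟩ := isConj_iff.1 (show IsConj d x from x.2)
    obtain ⟨l, hl, rfl | rfl⟩ := hsplit g
    · have := hL' hl
      rwa [show x = conjD g d0 from Subtype.ext hg.symm]
    · have := hL' hl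
      rwa [show x = conjD l d0 from Subtype.ext (by rw [← hg]; simp [conjD, d0, mul_assoc, hdd, inv_eq_of_mul_eq_one_right hdd])]
  haveI : Nonempty D := ⟨d0⟩
  exact ⟨fun u v => (hall u).symm.trans (hall v)⟩

end Cfsg.Agent.S5459
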