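import Cfsg.Statements.S5521
import Cfsg.Agent.Spor.M24Card
-- import your own Cfsg.Agent.* helpers here

set_option autoImplicit false
open Cfsg

namespace Cfsg.Agent.S5521

open CfsgLib.Spor
open scoped Pointwise

/-- The Mathieu group M₂₄ in its natural action on the 24 coordinate positions of the binary Golay code has minimal base size exactly 7: every set of at most 6 positions is fixed pointwise by some non-identity element of M₂₄, while some set of 7 positions is fixed pointwise only by the identity. -/
theorem result :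
    (∀ B : Finset Cfsg.GolayPt, B.card ≤ 6 → ∃ g ∈ Cfsg.M24, g ≠ 1 ∧ ∀ b ∈ B, g b = b) ∧
    (∃ B : Finset Cfsg.GolayPt, B.card = 7 ∧ ∀ g ∈ Cfsg.M24, (∀ b ∈ B, g b = b) → g = 1) := by
  classical
  refine ⟨fun B hB => ?_, ?_⟩
  · by_contra hcon
    push Not at hcon
    let f : Cfsg.M24 → ↥B → Cfsg.GolayPt := fun g b => (g : Equiv.Perm Cfsg.GolayPt) b
    have hinj : Function.Injective f := by
      intro g h he
      by_contra hne
      obtain ⟨b, hb, hne'⟩ := hcon ((g : Equiv.Perm Cfsg.GolayPt)⁻¹ * h)
        (mul_mem (inv_mem g.2) h.2) (fun e => hne (Subtype.ext (inv_mul_eq_one.1 e)))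
      apply hne'
      rw [Equiv.Perm.mul_apply, ← show (g : Equiv.Perm Cfsg.GolayPt) b = (h : Equiv.Perm Cfsg.GolayPt) b from congrFun he ⟨b, hb⟩]
      simp
    have hle : Nat.card Cfsg.M24 ≤ 24 ^ 6 := by
      refine le_trans (Nat.card_le_card_of_injective f hinj) ?_
      rw [Nat.card_eq_fintype_card, Fintype.card_fun, Fintype.card_coe,
        show Fintype.card Cfsg.GolayPt = 24 by simp]
      exact Nat.pow_le_pow_right (by norm_num) hB
    rw [card_M24] at hle
    norm_num at hle
  · refine ⟨(m24Base.map ofMask).toFinset.biUnion id, by decide +kernel, fun g hg h => ?_⟩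
    refine eq_one_of_fix_base hg fun l hl => h _ ?_
    have key : (m24Chain.all fun l => m24Base.any fun m => m.testBit (l.base % 24)) = true := by decide +kernel
    have := List.all_eq_true.1 key l hl
    obtain ⟨m, hm, hbit⟩ := List.any_eq_true.1 this
    rw [Finset.mem_biUnion]
    refine ⟨ofMask m, List.mem_toFinset.2 (List.mem_map_of_mem hm), ?_⟩
    rw [id, mem_ofMask, num, pt, Equiv.apply_symm_apply, Fin.val_ofNat]
    exact hbit

end Cfsg.Agent.S5521
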