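import Cfsg.Statements.S5522
import Cfsg.Agent.Spor.SquareDod
-- import your own Cfsg.Agent.* helpers here

set_option autoImplicit false
open Cfsg

namespace Cfsg.Agent.S5522

open scoped Pointwise

/-- The Mathieu group M₁₁, realised as the stabiliser of one point of the dodecad of squares inside the stabiliser M₁₂ of that dodecad in M₂₄, acts on the twelve coordinate positions outside the dodecad of squares (its 3-transitive action of degree 12); in this action every element of prime order fixes a point, i.e. the action is elusive. -/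
theorem result (g : Equiv.Perm Cfsg.GolayPt) (hg : g ∈ Cfsg.Spor.M11) (hord : (orderOf g).Prime) :
    ∃ x : Cfsg.GolayPt, x ∉ Cfsg.Spor.squareDodecad ∧ g x = x := by
  classical
  obtain ⟨hgM, hgD, hg0⟩ := CfsgLib.Spor.SquareDod.mem_M11.1 hg
  haveI := Fact.mk hord
  obtain ⟨hDC, hD12⟩ := CfsgLib.Spor.mem_dodecads.1 CfsgLib.Spor.SquareDod.sq_mem
  have hDiff : ∀ x, g x ∈ Spor.squareDodecad ↔ x ∈ Spor.squareDodecad := fun x => by
    conv_lhs => rw [← hgD]
    exact CfsgLib.Spor.mem_smul_iff
  by_contra hno
  push Not at hno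
  set p := orderOf g with hp
  let τ : Equiv.Perm {x : GolayPt // x ∉ Spor.squareDodecad} := g.subtypePerm (fun x => not_congr (hDiff x))
  have hτ : τ ^ p ^ 1 = 1 := by
    rw [pow_one]
    refine Equiv.ext fun x => Subtype.ext ?_
    have h : g ^ p = 1 := pow_orderOf_eq_one g
    simp only [τ, Equiv.Perm.subtypePerm_pow, Equiv.Perm.subtypePerm_apply, Equiv.Perm.one_apply, h]
  have hdvd : p ∣ 12 := by
    have h := Equiv.Perm.card_compl_support_modEq hτ
    have he : τ.supportᶜ = ∅ := Finset.eq_empty_of_forall_notMem fun x hx => by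
      rw [Finset.mem_compl, Equiv.Perm.notMem_support] at hx
      exact hno x.1 x.2 (congrArg Subtype.val hx)
    have hc : Fintype.card {x : GolayPt // x ∉ Spor.squareDodecad} = 12 := by
      have h24 : Fintype.card GolayPt = 24 := by decide
      rw [Fintype.card_subtype_compl, h24, Fintype.card_coe, hD12]
    rw [he, hc, Finset.card_empty] at h
    exact (Nat.modEq_zero_iff_dvd).1 h.symm
  set F := Finset.univ.filter fun x => g x = x with hF
  have hFD : F ⊆ Spor.squareDodecad := fun x hx => by
    by_contra hxD
    exact hno x hxD (Finset.mem_filter.1 hx).2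
  have hF0 : (some 0 : GolayPt) ∈ F := Finset.mem_filter.2 ⟨Finset.mem_univ _, hg0⟩
  have hle := Nat.le_of_dvd (by norm_num) hdvd
  have hp23 : p = 2 ∨ p = 3 := by interval_cases p <;> revert hord hdvd <;> norm_num
  rcases hp23 with h2 | h3
  · rcases CfsgLib.Spor.M24Elems.involution_classes.1 g hgM h2 with ho | hfree
    · obtain ⟨hoC, ho8⟩ := CfsgLib.Spor.mem_octads.1 ho
      have h1 := CfsgLib.Spor.card_symmDiff_add F Spor.squareDodecad
      have hoC' : F ∈ CfsgLib.Spor.Code := by convert hoC
      have h4 := CfsgLib.Spor.card_cases (CfsgLib.Spor.symmDiff_mem_code hoC' hDC)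
      rw [Finset.inter_eq_left.2 hFD, hD12] at h1
      change F.card = 8 at ho8
      omega
    · exact hfree _ hg0
  · obtain ⟨c, -, ⟨-, h6⟩ | ⟨-, h6⟩⟩ := CfsgLib.Spor.M24Elems.tri_cases hgM h3
    · change F.card = 6 at h6
      obtain ⟨s, hsF, hs⟩ := Finset.exists_subset_card_eq (show 5 ≤ F.card by omega)
      obtain ⟨o, ⟨ho, hso⟩, -⟩ := CfsgLib.Spor.existsUnique_octad hs
      obtain ⟨hoC, ho8⟩ := CfsgLib.Spor.mem_octads.1 ho
      have hgo : g • o = o := (CfsgLib.Spor.octad_ext ho (CfsgLib.Spor.smul_mem_octads hgM ho) (by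
        rw [← hs]
        refine Finset.card_le_card (Finset.subset_inter hso fun x hx => ?_)
        rw [← (Finset.mem_filter.1 (hsF hx)).2]
        exact CfsgLib.Spor.mem_smul_iff.2 (hso hx))).symm
      have hoiff : ∀ x, g x ∈ o ↔ x ∈ o := fun x => by
        conv_lhs => rw [← hgo]
        exact CfsgLib.Spor.mem_smul_iff
      have h5 : 5 ≤ (o ∩ Spor.squareDodecad).card := hs ▸ Finset.card_le_card (Finset.subset_inter hso (hsF.trans hFD))
      have he := CfsgLib.Spor.even_inter hoC hDC
      have h1 := CfsgLib.Spor.card_symmDiff_add o Spor.squareDodecad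
      have h4 := CfsgLib.Spor.card_cases (CfsgLib.Spor.symmDiff_mem_code hoC hDC)
      have h8 : (o ∩ Spor.squareDodecad).card ≤ 8 := ho8 ▸ Finset.card_le_card Finset.inter_subset_left
      have h2 : (o \ Spor.squareDodecad).card = 2 := by
        have := Finset.card_inter_add_card_sdiff o Spor.squareDodecad
        omega
      obtain ⟨a, b, hab, he2⟩ := Finset.card_eq_two.1 h2
      have hmem : ∀ x, x ∈ o \ Spor.squareDodecad → g x ∈ o \ Spor.squareDodecad := fun x hx => by
        rw [Finset.mem_sdiff] at hx ⊢
        exact ⟨(hoiff x).2 hx.1, fun h => hx.2 ((hDiff x).1 h)⟩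
      have hout : ∀ x, x ∈ o \ Spor.squareDodecad → g x ≠ x := fun x hx => hno x (Finset.mem_sdiff.1 hx).2
      have ha : a ∈ o \ Spor.squareDodecad := by rw [he2]; simp
      have hb : b ∈ o \ Spor.squareDodecad := by rw [he2]; simp
      have hga : g a = b := by
        have := hmem a ha
        rw [he2, Finset.mem_insert, Finset.mem_singleton] at this
        exact this.resolve_left (hout a ha)
      have hgb : g b = a := by
        have := hmem b hb
        rw [he2, Finset.mem_insert, Finset.mem_singleton] at this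
        exact this.resolve_right (hout b hb)
      have h3' : g ^ 3 = 1 := by rw [← h3]; exact pow_orderOf_eq_one g
      have hc := congrArg (fun q : Equiv.Perm GolayPt => q a) h3'
      simp only [pow_succ, pow_zero, one_mul, Equiv.Perm.mul_apply, Equiv.Perm.one_apply, hga, hgb] at hc
      exact hab hc.symm
    · exact (CfsgLib.Spor.M24Elems.free_iff g).2 h6 _ hg0

end Cfsg.Agent.S5522
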