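import Cfsg.Statements.S5541
import Mathlib
-- import your own Cfsg.Agent.* helpers here

set_option autoImplicit false
open Cfsg

namespace Cfsg.Agent.S5541

/-- Let ρ be a representation of a group H on a finite-dimensional real vector space U whose only ρ-invariant subspaces are the zero subspace and U, and suppose U carries a non-zero ρ-invariant symmetric bilinear form. Then the following are equivalent: (1) there is a non-zero ρ-equivariant commutative bilinear product on U of which every ρ-equivariant bilinear product is a scalar multiple; (2) there is a non-zero ρ-invariant trilinear form on U that is symmetric under all permutations of its arguments and of which every ρ-invariant trilinear form is a scalar multiple. -/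
theorem result {H : Type*} [Group H] {U : Type*} [AddCommGroup U] [Module ℝ U] [FiniteDimensional ℝ U] (ρ : Representation ℝ H U) (hirr : ∀ W : Submodule ℝ U, (∀ g : H, W.map (ρ g) ≤ W) → W = ⊥ ∨ W = ⊤) (B : LinearMap.BilinForm ℝ U) (hB0 : B ≠ 0) (hBs : ∀ u v, B u v = B v u) (hBi : ∀ (g : H) (u v : U), B (ρ g u) (ρ g v) = B u v) : (∃ m : U →ₗ[ℝ] U →ₗ[ℝ] U, m ≠ 0 ∧ (∀ u v, m u v = m v u) ∧ (∀ (g : H) (u v : U), m (ρ g u) (ρ g v) = ρ g (m u v)) ∧ ∀ m' : U →ₗ[ℝ] U →ₗ[ℝ] U, (∀ (g : H) (u v : U), m' (ρ g u) (ρ g v) = ρ g (m' u v)) → ∃ c : ℝ, m' = c • m) ↔ (∃ t : U →ₗ[ℝ] U →ₗ[ℝ] U →ₗ[ℝ] ℝ, t ≠ 0 ∧ (∀ u v w, t u v w = t v u w ∧ t u v w = t u w v) ∧ (∀ (g : H) (u v w : U), t (ρ g u) (ρ g v) (ρ g w) = t u v w) ∧ ∀ t' : U →ₗ[ℝ] U →ₗ[ℝ] U →ₗ[ℝ] ℝ, (∀ (g : H) (u v w : U), t' (ρ g u) (ρ g v) (ρ g w) = t' u v w) → ∃ c : ℝ, t' = c • t) := by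
  classical
  have hnd : ∀ u, (∀ v, B u v = 0) → u = 0 := by
    intro u hu
    have hinvW : ∀ g : H, (LinearMap.ker B).map (ρ g) ≤ LinearMap.ker B := by
      rintro g _ ⟨w, hw, rfl⟩
      rw [SetLike.mem_coe, LinearMap.mem_ker] at hw
      rw [LinearMap.mem_ker]
      ext v
      rw [show v = ρ g (ρ g⁻¹ v) from (ρ.self_inv_apply g v).symm, hBi, hw]
      simp
    rcases hirr _ hinvW with h | h
    · exact (Submodule.eq_bot_iff _).1 h u (LinearMap.mem_ker.2 (LinearMap.ext hu))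
    · exact absurd (LinearMap.ker_eq_top.1 h) hB0
  have hinj : Function.Injective B := (injective_iff_map_eq_zero B).2 fun u hu => hnd u fun v => by rw [hu]; rfl
  let Φ : U ≃ₗ[ℝ] Module.Dual ℝ U := LinearEquiv.ofBijective B ⟨hinj,
    (LinearMap.injective_iff_surjective_of_finrank_eq_finrank Subspace.dual_finrank_eq.symm).1 hinj⟩
  let T : (U →ₗ[ℝ] U →ₗ[ℝ] U) → U →ₗ[ℝ] U →ₗ[ℝ] U →ₗ[ℝ] ℝ := fun m => m.compr₂ B
  let M : (U →ₗ[ℝ] U →ₗ[ℝ] U →ₗ[ℝ] ℝ) → U →ₗ[ℝ] U →ₗ[ℝ] U := fun t => t.compr₂ Φ.symm.toLinearMap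
  have hT : ∀ m u v w, T m u v w = B (m u v) w := fun m u v w => rfl
  have hM : ∀ t u v w, B (M t u v) w = t u v w := fun t u v w => by
    show Φ (Φ.symm (t u v)) w = _
    rw [LinearEquiv.apply_symm_apply]
  have hext : ∀ m m' : U →ₗ[ℝ] U →ₗ[ℝ] U, (∀ u v w, B (m u v) w = B (m' u v) w) → m = m' :=
    fun m m' h => LinearMap.ext fun u => LinearMap.ext fun v => hinj (LinearMap.ext (h u v))
  have hTi : ∀ m, (∀ (g : H) (u v : U), m (ρ g u) (ρ g v) = ρ g (m u v)) →
      ∀ (g : H) (u v w : U), T m (ρ g u) (ρ g v) (ρ g w) = T m u v w := fun m h g u v w => by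
    rw [hT, hT, h, hBi]
  have hMi : ∀ t, (∀ (g : H) (u v w : U), t (ρ g u) (ρ g v) (ρ g w) = t u v w) →
      ∀ (g : H) (u v : U), M t (ρ g u) (ρ g v) = ρ g (M t u v) := fun t h g u v => hinj (LinearMap.ext fun w => by
    obtain ⟨w, rfl⟩ : ∃ w', ρ g w' = w := ⟨ρ g⁻¹ w, ρ.self_inv_apply g w⟩
    rw [hM, h, hBi, hM])
  constructor
  · rintro ⟨m, hm0, hms, hmi, hmu⟩
    have huniq : ∀ t', (∀ (g : H) (u v w : U), t' (ρ g u) (ρ g v) (ρ g w) = t' u v w) → ∃ c : ℝ, t' = c • T m := by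
      intro t' h'
      obtain ⟨c, hc⟩ := hmu (M t') (hMi t' h')
      refine ⟨c, LinearMap.ext fun u => LinearMap.ext fun v => LinearMap.ext fun w => ?_⟩
      rw [← hM t', hc]
      simp [hT]
    have hne : T m ≠ 0 := fun h => hm0 (hext _ _ fun u v w => by
      rw [← hT, h]; simp)
    refine ⟨T m, hne, fun u v w => ⟨by rw [hT, hT, hms], ?_⟩, hTi m hmi, huniq⟩
    let t' : U →ₗ[ℝ] U →ₗ[ℝ] U →ₗ[ℝ] ℝ := LinearMap.mk₂ ℝ (fun u v => (T m u).flip v)
      (fun a b v => by ext w; simp) (fun r a v => by ext w; simp) (fun a b v => by ext w; simp)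
      (fun r a v => by ext w; simp)
    have ht' : ∀ u v w, t' u v w = T m u w v := fun u v w => rfl
    obtain ⟨c, hc⟩ := huniq t' fun g u v w => by rw [ht', ht', hTi m hmi]
    have h1 : ∀ u v w, T m u w v = c * T m u v w := fun u v w => by rw [← ht', hc]; rfl
    obtain ⟨a, b, d, habd⟩ : ∃ a b d, T m a b d ≠ 0 := by
      by_contra hh
      push_neg at hh
      exact hne (LinearMap.ext fun u => LinearMap.ext fun v => LinearMap.ext fun w => hh u v w)
    have hs : ∀ u v w, T m u v w = T m v u w := fun u v w => by rw [hT, hT, hms]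
    have hc2 : c ^ 2 = 1 := mul_right_cancel₀ habd (by rw [one_mul, sq, mul_assoc, ← h1, ← h1])
    rcases sq_eq_one_iff.1 hc2 with rfl | rfl
    · rw [h1, one_mul]
    · exfalso
      have := h1 a b d; have := h1 b d a; have := h1 d a b; have := h1 a d b; have := h1 b a d; have := h1 d b a
      have := hs a b d; have := hs b d a; have := hs d a b
      exact habd (by linarith)
  · rintro ⟨t, ht0, hts, hti, htu⟩
    refine ⟨M t, fun h => ht0 ?_, fun u v => hinj (LinearMap.ext fun w => ?_), hMi t hti, fun m' h' => ?_⟩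
    · refine LinearMap.ext fun u => LinearMap.ext fun v => LinearMap.ext fun w => ?_
      rw [← hM t, h]; simp
    · rw [hM, hM, (hts u v w).1]
    · obtain ⟨c, hc⟩ := htu (T m') (hTi m' h')
      refine ⟨c, hext _ _ fun u v w => ?_⟩
      rw [← hT, hc]
      simp [hM]

end Cfsg.Agent.S5541
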