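import Cfsg.Statements.S5543
import Cfsg.Prelude.Def_AxialAlgebras
import Mathlib
-- import your own Cfsg.Agent.* helpers here

set_option autoImplicit false
open Cfsg

namespace Cfsg.Agent.S5543

/-- Let V be a finite-dimensional real vector space with a commutative bilinear product and a positive-definite symmetric bilinear form that associates with the product and satisfies the Norton inequality (the Majorana setting of the definitions). Let X be a group of linear automorphisms of V in which every element squares to the identity, and suppose every non-identity element x of X is a Majorana involution with an axial vector a(x) of squared length 1, such that for any two distinct non-identity x, y the product a(x) ∘ a(y) equals (1/8)(a(x) + a(y) − a(xy)) (the dihedral subalgebra of type 2A whose third axis belongs to the involution xy). Then X has order at most 4. -/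
theorem result {V : Type*} [AddCommGroup V] [Module ℝ V] [FiniteDimensional ℝ V] (mul : V →ₗ[ℝ] V →ₗ[ℝ] V) (B : LinearMap.BilinForm ℝ V) (hV : Cfsg.Axial.IsMajoranaAmbient mul B) (X : Subgroup (V ≃ₗ[ℝ] V)) (hX : ∀ x ∈ X, x * x = 1) (ax : (V ≃ₗ[ℝ] V) → V) (hax : ∀ x ∈ X, x ≠ 1 → Cfsg.Axial.IsMajoranaPair mul B x (ax x)) (h1 : ∀ x ∈ X, x ≠ 1 → B (ax x) (ax x) = 1) (h2A : ∀ x ∈ X, ∀ y ∈ X, x ≠ 1 → y ≠ 1 → x ≠ y → mul (ax x) (ax y) = (1 / 8 : ℝ) • (ax x + ax y - ax (x * y))) : Nat.card ↥X ≤ 4 := by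
  classical
  obtain ⟨hc, hsy, -, hass, -⟩ := hV
  by_contra hcard
  haveI : Finite X := Nat.finite_of_card_ne_zero (by omega)
  haveI := Fintype.ofFinite X
  have hinv : ∀ a : X, a * a = 1 := fun a => Subtype.ext (hX a.1 a.2)
  have hcm : ∀ a b : X, a * b = b * a := by
    intro a b
    calc a * b = (b * b) * (a * b) * (a * a) := by rw [hinv, hinv, one_mul, mul_one]
      _ = b * ((b * a) * (b * a)) * a := by simp only [mul_assoc]
      _ = b * a := by rw [hinv, mul_one]
  obtain ⟨x, y, z, hx, hy, hz, hxy, hzx, hzy, hzxy⟩ : ∃ x y z : X, x ≠ 1 ∧ y ≠ 1 ∧ z ≠ 1 ∧ x ≠ y ∧ z ≠ x ∧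
      z ≠ y ∧ z ≠ x * y := by
    have pick : ∀ s : Finset X, s.card ≤ 4 → ∃ t, t ∉ s := fun s hs => by
      by_contra hh
      push_neg at hh
      have := Finset.card_le_card (fun t _ => hh t : (Finset.univ : Finset X) ⊆ s)
      rw [Finset.card_univ, ← Nat.card_eq_fintype_card] at this
      omega
    obtain ⟨x, hx⟩ := pick {1} (by simp)
    obtain ⟨y, hy⟩ := pick {1, x} (Finset.card_le_two.trans (by norm_num))
    obtain ⟨z, hz⟩ := pick {1, x, y, x * y} Finset.card_le_four
    simp only [Finset.mem_insert, Finset.mem_singleton, not_or] at hx hy hz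
    exact ⟨x, y, z, hx, hy.1, hz.1, Ne.symm hy.2, hz.2.1, hz.2.2.1, hz.2.2.2⟩
  have hsimp : ∀ p q : X, q ≠ 1 → p * q ≠ p := fun p q h e => h (mul_eq_left.1 e)
  have hne : ∀ p q : X, p ≠ q → p * q ≠ 1 := fun p q h e => h (by
    rw [← mul_one p, ← hinv q, ← mul_assoc, e, one_mul])
  let A : X → V := fun p => ax p.1
  have hco : ∀ p : X, p ≠ 1 → p.1 ≠ 1 := fun p h e => h (Subtype.ext e)
  have m2 : ∀ p q : X, p ≠ 1 → q ≠ 1 → p ≠ q → mul (A p) (A q) = (1 / 8 : ℝ) • (A p + A q - A (p * q)) :=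
    fun p q h1 h2 h3 => h2A p.1 p.2 q.1 q.2 (hco p h1) (hco q h2) fun e => h3 (Subtype.ext e)
  have hn : ∀ p : X, p ≠ 1 → B (A p) (A p) = 1 := fun p h => h1 p.1 p.2 (hco p h)
  have hidem : ∀ p : X, p ≠ 1 → mul (A p) (A p) = A p := fun p h => (hax p.1 p.2 (hco p h)).2.2.1.1.2.1
  have hform : ∀ p q : X, p ≠ 1 → q ≠ 1 → p ≠ q → B (A p) (A q) = 1 / 8 := by
    intro p q h1 h2 h3
    have key : ∀ q : X, q ≠ 1 → p ≠ q → B (A p) (A q) = 1 / 8 * (1 + B (A p) (A q) - B (A p) (A (p * q))) := by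
      intro q h2 h3
      conv_lhs => rw [← hidem p h1]
      rw [← hass, m2 p q h1 h2 h3]
      simp only [map_smul, map_sub, map_add, hn p h1, smul_eq_mul]
    have e1 := key q h2 h3
    have e2 := key (p * q) (hne p q h3) fun e => hsimp p q h2 e.symm
    rw [← mul_assoc, hinv, one_mul] at e2
    linarith
  let u : X → V := fun q => A q - A (x * q)
  have hu : ∀ q : X, q ≠ 1 → x ≠ q → mul (A x) (u q) = (1 / 4 : ℝ) • u q := by
    intro q h2 h3
    have e2 := m2 x (x * q) hx (hne x q h3) fun e => hsimp x q h2 e.symm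
    rw [← mul_assoc, hinv, one_mul] at e2
    simp only [u, map_sub, m2 x q hx h2 h3, e2]
    module
  have yz1 : y * z ≠ 1 := hne y z (Ne.symm hzy)
  have xyz : x ≠ y * z := fun e => hzxy (by rw [e, hcm y z, mul_assoc, hinv, mul_one])
  have e : mul (u y) (u z) = (-(1 / 4) : ℝ) • u (y * z) := by
    have xy1 := hne x y hxy
    have xz1 := hne x z (Ne.symm hzx)
    have e1 := m2 y z hy hz (Ne.symm hzy)
    have e2 := m2 y (x * z) hy xz1 fun g => hzxy (by rw [g, ← mul_assoc, hinv, one_mul])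
    have e3 := m2 (x * y) z xy1 hz (Ne.symm hzxy)
    have e4 := m2 (x * y) (x * z) xy1 xz1 fun g => hzy (mul_left_cancel g).symm
    rw [← mul_assoc, hcm y x, mul_assoc] at e2
    rw [mul_assoc] at e3
    rw [show x * y * (x * z) = y * z by rw [hcm x y, mul_assoc, ← mul_assoc x, hinv, one_mul]] at e4
    simp only [u, map_sub, LinearMap.sub_apply, e1, e2, e3, e4]
    module
  obtain ⟨-, -, ⟨⟨-, -, -, hfus⟩, -⟩, -⟩ := hax x.1 x.2 (hco x hx)
  have hmem : ∀ q : X, q ≠ 1 → x ≠ q → u q ∈ Cfsg.Axial.eigen mul (A x) (1 / 4 : ℝ) := fun q a b =>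
    Module.End.mem_eigenspace_iff.2 (hu q a b)
  have hS : (1 / 4 : ℝ) ∈ Cfsg.Axial.majoranaSpectrum := by simp [Cfsg.Axial.majoranaSpectrum]
  have hf := hfus _ hS _ hS _ (hmem y hy hxy) _ (hmem z hz (Ne.symm hzx))
  rw [Cfsg.Axial.monsterLaw, if_neg (by norm_num), if_neg (by norm_num), if_pos ⟨rfl, rfl⟩] at hf
  have hle : Cfsg.Axial.eigenSum mul (A x) ({1, 0} : Set ℝ) ≤ LinearMap.ker (B (u (y * z))) := by
    refine iSup₂_le fun c hc' w hw => ?_
    rw [Cfsg.Axial.eigen, Module.End.mem_eigenspace_iff] at hw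
    rw [LinearMap.mem_ker]
    have h := hass (u (y * z)) (A x) w
    rw [hw, hc (u (y * z)) (A x), hu _ yz1 xyz, map_smul, map_smul, LinearMap.smul_apply] at h
    simp only [smul_eq_mul] at h
    simp only [Set.mem_insert_iff, Set.mem_singleton_iff] at hc'
    rcases hc' with rfl | rfl <;> linarith
  have h0 := hle hf
  rw [LinearMap.mem_ker, e, map_smul, smul_eq_mul] at h0
  have hxyz1 : x * (y * z) ≠ 1 := hne _ _ xyz
  have hq : B (u (y * z)) (u (y * z)) = 7 / 4 := by
    simp only [u, map_sub, LinearMap.sub_apply, hn _ yz1, hn _ hxyz1,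
      hform _ _ yz1 hxyz1 (fun g => hx (mul_eq_right.1 g.symm)), hsy (A (x * (y * z))) (A (y * z))]
    norm_num
  rw [hq] at h0
  norm_num at h0

end Cfsg.Agent.S5543
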