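import Cfsg.Statements.S5545
import Cfsg.Prelude.Def_AxialAlgebras
import Mathlib
-- import your own Cfsg.Agent.* helpers here

set_option autoImplicit false
open Cfsg

namespace Cfsg.Agent.S5545

open Cfsg.Axial

variable {V : Type*} [AddCommGroup V] [Module ℝ V]

theorem transport (mul : V →ₗ[ℝ] V →ₗ[ℝ] V) (B : LinearMap.BilinForm ℝ V) (ν μ : V ≃ₗ[ℝ] V) (a : V)
    (hm : ∀ u v, ν (mul u v) = mul (ν u) (ν v)) (hB : ∀ u v, B (ν u) (ν v) = B u v)
    (hc : μ * ν = ν * μ) (h : IsMajoranaPair mul B μ a) : IsMajoranaPair mul B μ (ν a) := by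
  obtain ⟨h1, h2, ⟨⟨h3, h4, h5, h6⟩, h7⟩, h8, h9⟩ := h
  have hcomm : ∀ v, μ (ν v) = ν (μ v) := fun v => congrArg (fun f : V ≃ₗ[ℝ] V => f v) hc
  have hev : ∀ (c : ℝ) (v : V), v ∈ eigen mul (ν a) c ↔ ν.symm v ∈ eigen mul a c := by
    intro c v
    rw [eigen, eigen, Module.End.mem_eigenspace_iff, Module.End.mem_eigenspace_iff,
      ← ν.injective.eq_iff (a := mul a (ν.symm v)), hm, map_smul, LinearEquiv.apply_symm_apply]
  have hmap : ∀ c : ℝ, eigen mul (ν a) c = (eigen mul a c).map ν.toLinearMap := by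
    intro c
    ext v
    rw [hev, Submodule.mem_map]
    exact ⟨fun hv => ⟨_, hv, ν.apply_symm_apply v⟩, fun ⟨w, hw, e⟩ => by rw [← e]; simpa using hw⟩
  have hsum : ∀ S : Set ℝ, eigenSum mul (ν a) S = (eigenSum mul a S).map ν.toLinearMap := by
    intro S
    simp only [eigenSum, Submodule.map_iSup, hmap]
  refine ⟨h1, h2, ⟨⟨fun e => h3 (ν.injective (by rw [e, map_zero])), by rw [← hm, h4], ?_, ?_⟩, ?_⟩, ?_, ?_⟩
  · rw [hsum, h5, Submodule.map_top, LinearEquiv.range]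
  · intro c hc' d hd u hu v hv
    rw [hmap] at hu hv
    obtain ⟨u, hu, rfl⟩ := hu
    obtain ⟨v, hv, rfl⟩ := hv
    rw [hsum]
    exact ⟨_, h6 c hc' d hd u hu v hv, hm u v⟩
  · rw [hmap, h7, Submodule.map_span, Set.image_singleton]
    rfl
  · intro v hv
    rw [hsum] at hv
    obtain ⟨w, hw, rfl⟩ := hv
    show μ (ν w) = ν w
    rw [hcomm]
    exact congrArg ν (h8 w hw)
  · intro v hv
    rw [hmap] at hv
    obtain ⟨w, hw, rfl⟩ := hv
    show μ (ν w) = -ν w
    rw [hcomm, ← map_neg]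
    exact congrArg ν (h9 w hw)

theorem core (mul : V →ₗ[ℝ] V →ₗ[ℝ] V) (B : LinearMap.BilinForm ℝ V) (hc : IsCommMul mul)
    (hsy : ∀ u v : V, B u v = B v u) (hpos : ∀ u : V, u ≠ 0 → 0 < B u u)
    (hass : ∀ u v w : V, B u (mul v w) = B (mul u v) w) (μ : V ≃ₗ[ℝ] V) (a v : V)
    (h : IsMajoranaPair mul B μ a) (hn : B a a = 1) (hv : mul v v = v) (hfix : μ v = v) :
    mul a (mul v a) = (3 * B v a / 4) • a + (1 / 4 : ℝ) • mul v a ∧
    mul (v + (3 * B v a) • a - (4 : ℝ) • mul v a) ((4 : ℝ) • mul v a - (4 * B v a) • a) =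
      (2 - B v a) • (mul v a - B v a • a) := by
  obtain ⟨-, -, ⟨⟨-, haa, htop, hfus⟩, hone⟩, h8, h9⟩ := h
  have hmem : v ∈ eigenSum mul a majoranaSpectrum := htop ▸ Submodule.mem_top
  rw [eigenSum, majoranaSpectrum, iSup_insert, iSup_insert, iSup_insert, iSup_singleton] at hmem
  obtain ⟨e1, he1, r, hr, rfl⟩ := Submodule.mem_sup.1 hmem
  obtain ⟨z, hz, r', hr', rfl⟩ := Submodule.mem_sup.1 hr
  obtain ⟨w, hw, t, ht, rfl⟩ := Submodule.mem_sup.1 hr'
  have hplus : ∀ c ∈ ({1, 0, 1 / 4} : Set ℝ), ∀ u ∈ eigen mul a c, μ u = u := fun c hc' u hu =>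
    h8 u (le_iSup₂ (f := fun c _ => eigen mul a c) c hc' hu)
  have ht0 : t = 0 := by
    have e : μ t = -t := h9 t ht
    rw [map_add, map_add, map_add, hplus 1 (by simp) e1 he1, hplus 0 (by simp) z hz,
      hplus (1 / 4) (by simp) w hw, e] at hfix
    have h2 : (2 : ℝ) • t = 0 := by linear_combination (norm := module) -hfix
    exact (smul_eq_zero.1 h2).resolve_left two_ne_zero
  subst ht0
  rw [add_zero] at *
  rw [hone, Submodule.mem_span_singleton] at he1
  obtain ⟨b, rfl⟩ := he1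
  have ez := Module.End.mem_eigenspace_iff.1 hz
  have ew := Module.End.mem_eigenspace_iff.1 hw
  rw [zero_smul] at ez
  have orth : ∀ (c d : ℝ) (x y : V), mul a x = c • x → mul a y = d • y → c ≠ d → B x y = 0 := by
    intro c d x y hx hy hne
    have h := hass x a y
    rw [hy, hc x a, hx, map_smul, map_smul, LinearMap.smul_apply, smul_eq_mul, smul_eq_mul] at h
    have : (c - d) * B x y = 0 := by linear_combination -h
    exact (mul_eq_zero.1 this).resolve_left (sub_ne_zero.2 hne)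
  have oz : B z a = 0 := orth 0 1 z a (by rw [ez, zero_smul]) (by rw [haa, one_smul]) (by norm_num)
  have ow : B w a = 0 := orth (1 / 4) 1 w a ew (by rw [haa, one_smul]) (by norm_num)
  have hb : B (b • a + (z + w)) a = b := by
    simp only [map_add, map_smul, LinearMap.add_apply, LinearMap.smul_apply, oz, ow, hn, smul_eq_mul]
    ring
  rw [hb]
  have hva : mul (b • a + (z + w)) a = b • a + (1 / 4 : ℝ) • w := by
    rw [hc, map_add, map_add, map_smul, haa, ez, ew, zero_add]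
  have hap : mul a (mul (b • a + (z + w)) a) = (3 * b / 4) • a + (1 / 4 : ℝ) • mul (b • a + (z + w)) a := by
    rw [hva, map_add, map_smul, map_smul, haa, ew]
    module
  refine ⟨hap, ?_⟩
  have fz := hfus 0 (by simp [majoranaSpectrum]) 0 (by simp [majoranaSpectrum]) z hz z hz
  have fw := hfus (1 / 4) (by simp [majoranaSpectrum]) (1 / 4) (by simp [majoranaSpectrum]) w hw w hw
  have fzw := hfus 0 (by simp [majoranaSpectrum]) (1 / 4) (by simp [majoranaSpectrum]) z hz w hw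
  rw [monsterLaw, if_neg (by norm_num), if_neg (by norm_num), if_neg (by norm_num), if_neg (by norm_num),
    if_pos rfl] at fz
  rw [monsterLaw, if_neg (by norm_num), if_neg (by norm_num), if_pos ⟨rfl, rfl⟩] at fw
  rw [monsterLaw, if_neg (by norm_num), if_neg (by norm_num), if_neg (by norm_num), if_pos (by norm_num)] at fzw
  rw [eigenSum, iSup_singleton] at fz fzw
  have ezw := Module.End.mem_eigenspace_iff.1 fzw
  have eq1 : b ^ 2 • a + mul z z + mul w w + (b / 2) • w + (2 : ℝ) • mul z w = b • a + (z + w) := by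
    conv_rhs => rw [← hv]
    simp only [map_add, map_smul, LinearMap.add_apply, LinearMap.smul_apply, haa, ez, ew, hc z a, hc w a, hc w z]
    module
  set X := b ^ 2 • a + mul z z + mul w w - b • a - z with hX
  set Y := (b / 2 - 1) • w + (2 : ℝ) • mul z w with hY
  have hXY : X + Y = 0 := by
    simp only [hX, hY]
    linear_combination (norm := module) eq1
  have eY : mul a Y = (1 / 4 : ℝ) • Y := by
    simp only [hY, map_add, map_smul, ew, ezw]
    module
  have hXmem : X ∈ LinearMap.ker (B Y) := by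
    have hker : eigenSum mul a ({1, 0} : Set ℝ) ≤ LinearMap.ker (B Y) := by
      refine iSup₂_le fun c hc' u hu => LinearMap.mem_ker.2 (orth (1 / 4) c Y u eY (Module.End.mem_eigenspace_iff.1 hu) ?_)
      simp only [Set.mem_insert_iff, Set.mem_singleton_iff] at hc'
      rcases hc' with rfl | rfl <;> norm_num
    have m1 : a ∈ eigenSum mul a ({1, 0} : Set ℝ) :=
      le_iSup₂ (f := fun c _ => eigen mul a c) 1 (by simp) (Module.End.mem_eigenspace_iff.2 (by rw [haa, one_smul]))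
    have m0 : ∀ u ∈ eigen mul a 0, u ∈ eigenSum mul a ({1, 0} : Set ℝ) := fun u hu =>
      le_iSup₂ (f := fun c _ => eigen mul a c) 0 (by simp) hu
    exact hker (Submodule.sub_mem _ (Submodule.sub_mem _ (Submodule.add_mem _ (Submodule.add_mem _
      (Submodule.smul_mem _ _ m1) (m0 _ fz)) fw) (Submodule.smul_mem _ _ m1)) (m0 _ hz))
  have hY0 : Y = 0 := by
    by_contra hne
    have h1 := hpos Y hne
    have h2 : B Y Y = 0 := by
      have h3 : B Y (X + Y) = 0 := by rw [hXY, map_zero]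
      rw [map_add, LinearMap.mem_ker.1 hXmem, zero_add] at h3
      exact h3
    linarith
  have zw : mul z w = (1 / 2 - b / 4) • w := by
    rw [hY] at hY0
    linear_combination (norm := module) (1 / 2 : ℝ) • hY0
  have ez' : b • a + (z + w) + (3 * b) • a - (4 : ℝ) • mul (b • a + (z + w)) a = z := by rw [hva]; module
  have ew' : (4 : ℝ) • mul (b • a + (z + w)) a - (4 * b) • a = w := by rw [hva]; module
  have ew'' : mul (b • a + (z + w)) a - b • a = (1 / 4 : ℝ) • w := by rw [hva]; module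
  rw [ez', ew', ew'', zw]
  module

/-- Let V be a finite-dimensional real vector space with a commutative bilinear product and a positive-definite symmetric bilinear form that associates with the product and satisfies the Norton inequality (the Majorana setting of the definitions). Let μ₀, μ₁ be commuting Majorana involutions with distinct axial vectors a₀ ≠ a₁ of squared length 1, each involution having no other axial vector. Then either a₀ and a₁ are orthogonal with a₀ ∘ a₁ = 0 (type 2B), or their inner product is 1/8 and, with a₂ = a₀ + a₁ − 8 a₀ ∘ a₁, the vector a₂ is an idempotent and a₀ ∘ a₂ = (1/8)(a₀ + a₂ − a₁), a₁ ∘ a₂ = (1/8)(a₁ + a₂ − a₀) (type 2A: the three idempotents span a subalgebra with aᵢ ∘ aⱼ = (1/8)(aᵢ + aⱼ − aₖ)). -/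
theorem result {V : Type*} [AddCommGroup V] [Module ℝ V] [FiniteDimensional ℝ V] (mul : V →ₗ[ℝ] V →ₗ[ℝ] V) (B : LinearMap.BilinForm ℝ V) (hV : Cfsg.Axial.IsMajoranaAmbient mul B) (μ₀ μ₁ : V ≃ₗ[ℝ] V) (a₀ a₁ : V) (h₀ : Cfsg.Axial.IsMajoranaPair mul B μ₀ a₀) (h₁ : Cfsg.Axial.IsMajoranaPair mul B μ₁ a₁) (hu₀ : ∀ a : V, Cfsg.Axial.IsMajoranaPair mul B μ₀ a → a = a₀) (hu₁ : ∀ a : V, Cfsg.Axial.IsMajoranaPair mul B μ₁ a → a = a₁) (hn₀ : B a₀ a₀ = 1) (hn₁ : B a₁ a₁ = 1) (hc : μ₀ * μ₁ = μ₁ * μ₀) (hne : a₀ ≠ a₁) : (B a₀ a₁ = 0 ∧ mul a₀ a₁ = 0) ∨ (B a₀ a₁ = 1 / 8 ∧ mul (a₀ + a₁ - (8 : ℝ) • mul a₀ a₁) (a₀ + a₁ - (8 : ℝ) • mul a₀ a₁) = a₀ + a₁ - (8 : ℝ) • mul a₀ a₁ ∧ mul a₀ (a₀ + a₁ - (8 : ℝ) • mul a₀ a₁) = (1 / 8 : ℝ) • (a₀ + (a₀ + a₁ - (8 : ℝ) • mul a₀ a₁) - a₁) ∧ mul a₁ (a₀ + a₁ - (8 : ℝ) • mul a₀ a₁) = (1 / 8 : ℝ) • (a₁ + (a₀ + a₁ - (8 : ℝ) • mul a₀ a₁) - a₀)) := by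
  obtain ⟨hc', hsy, hpos, hass, -⟩ := hV
  have fix1 : μ₁ a₀ = a₀ := hu₀ _ (transport mul B μ₁ μ₀ a₀ h₁.1 h₁.2.1 hc h₀)
  have fix0 : μ₀ a₁ = a₁ := hu₁ _ (transport mul B μ₀ μ₁ a₁ h₀.1 h₀.2.1 hc.symm h₁)
  obtain ⟨q1, r1⟩ := core mul B hc' hsy hpos hass μ₁ a₁ a₀ h₁ hn₁ h₀.2.2.1.1.2.1 fix1
  obtain ⟨q0, r0⟩ := core mul B hc' hsy hpos hass μ₀ a₀ a₁ h₀ hn₀ h₁.2.2.1.1.2.1 fix0
  rw [hsy a₁ a₀, hc' a₁ a₀] at q0 r0
  set p := mul a₀ a₁ with hp
  set b := B a₀ a₁ with hb
  have id0 := h₀.2.2.1.1.2.1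
  have id1 := h₁.2.2.1.1.2.1
  have expand : ∀ {u v : V}, mul u u = u → mul v v = v → mul u v = p → mul v p = (3 * b / 4) • v + (1 / 4 : ℝ) • p →
      mul u p = (3 * b / 4) • u + (1 / 4 : ℝ) • p →
      mul (u + (3 * b) • v - (4 : ℝ) • p) ((4 : ℝ) • p - (4 * b) • v) = (2 - b) • (p - b • v) →
      (4 : ℝ) • mul p p = (3 * b / 4) • u + (b - 1 / 4) • p + (2 * b ^ 2 + b / 2) • v := by
    intro u v _ iv euv evp eup h
    simp only [map_add, map_sub, map_smul, LinearMap.add_apply, LinearMap.sub_apply, LinearMap.smul_apply,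
      iv, euv, evp, eup, hc' p v] at h
    linear_combination (norm := module) (-(1 / 4 : ℝ)) • h
  have s1 := expand id0 id1 hp.symm q1 q0 r1
  have s0 := expand id1 id0 (by rw [hc', ← hp]) q0 q1 r0
  clear r0 r1
  have r0 := s0
  have r1 := s1
  have hdiff : (b * (1 / 4 - 2 * b)) • (a₀ - a₁) = 0 := by
    have h := r1.symm.trans r0
    linear_combination (norm := module) h
  rcases smul_eq_zero.1 hdiff with h | h
  swap
  · exact absurd (sub_eq_zero.1 h) hne
  rcases mul_eq_zero.1 h with h | h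
  · left
    refine ⟨h, ?_⟩
    by_contra hne'
    have h' := hpos p hne'
    have e : B p p = 3 * b ^ 2 / 4 + b / 4 := by
      have hb' : B a₀ p = b := by rw [hp, hass, h₀.2.2.1.1.2.1]
      calc B p p = B (mul a₀ a₁) p := by rw [← hp]
        _ = B a₀ (mul a₁ p) := (hass _ _ _).symm
        _ = _ := by rw [q1, map_add, map_smul, map_smul, smul_eq_mul, smul_eq_mul, hb', ← hb]; ring
    rw [e, h] at h'
    norm_num at h'
  · right
    have hb8 : b = 1 / 8 := by linarith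
    rw [hb8] at q0 q1 r0 r1
    have hid0 := h₀.2.2.1.1.2.1
    have hid1 := h₁.2.2.1.1.2.1
    refine ⟨hb8, ?_, ?_, ?_⟩
    · simp only [map_add, map_sub, map_smul, LinearMap.add_apply, LinearMap.sub_apply, LinearMap.smul_apply,
        hid0, hid1, hc' p a₀, hc' p a₁, hc' a₁ a₀, ← hp, q0, q1]
      linear_combination (norm := module) (16 : ℝ) • r1
    · simp only [map_add, map_sub, map_smul, hid0, ← hp, q0]
      module
    · simp only [map_add, map_sub, map_smul, hid1, hc' a₁ a₀, ← hp, q1]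
      module

end Cfsg.Agent.S5545
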