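import Cfsg.Statements.S5549
import Cfsg.Agent.Spor.Cosets
import Cfsg.Agent.Spor.M24Simple
import Cfsg.Agent.Spor.M24Modules
import Cfsg.Agent.Spor.HeisenbergTwo
-- import your own Cfsg.Agent.* helpers here

set_option autoImplicit false
open Cfsg

namespace Cfsg.Agent.S5549

open CfsgLib.Spor
open scoped Pointwise

/-- the indicator word of a set -/
def ind (t : Finset GolayPt) : GolayPt → ZMod 2 := fun p => if p ∈ t then 1 else 0

theorem supp_ind (t : Finset GolayPt) : support₂ (ind t) = t := by
  ext p; by_cases h : p ∈ t <;> simp [mem_supp, ind, h]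

theorem ind_sd (s t : Finset GolayPt) : ind (symmDiff s t) = ind s + ind t := by
  apply supp_injective; rw [supp_ind, supp_add, supp_ind, supp_ind]

/-- the functional of a set of points on the code -/
def f (t : Finset GolayPt) (c : ↥golayCode) : ZMod 2 := ∑ p, ind t p * (c : GolayPt → ZMod 2) p

theorem f_sd (s t : Finset GolayPt) (c : ↥golayCode) : f (symmDiff s t) c = f s c + f t c := by
  simp [f, ind_sd, add_mul, Finset.sum_add_distrib]

theorem f_pair {p q : GolayPt} (h : p ≠ q) (c : ↥golayCode) :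
    f {p, q} c = (c : GolayPt → ZMod 2) p + (c : GolayPt → ZMod 2) q := by
  simp only [f, ind, ite_mul, one_mul, zero_mul]
  rw [Finset.sum_ite_mem, Finset.univ_inter, Finset.sum_pair h]

theorem f_card (t : Finset GolayPt) (c : ↥golayCode) :
    f t c = (((t ∩ support₂ (c : GolayPt → ZMod 2)).card : ℕ) : ZMod 2) := by
  have h : ∀ p, ind t p * (c : GolayPt → ZMod 2) p =
      if p ∈ t ∩ support₂ (c : GolayPt → ZMod 2) then 1 else 0 := fun p => by
    simp only [ind, Finset.mem_inter, mem_supp]
    generalize (c : GolayPt → ZMod 2) p = a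
    by_cases hp : p ∈ t <;> simp [hp]
    revert a; decide
  rw [f, Finset.sum_congr rfl (fun p _ => h p), Finset.sum_ite_mem, Finset.univ_inter, Finset.sum_const,
    nsmul_eq_mul, mul_one]

/-- the number of octads meeting a set evenly -/
noncomputable def N (t : Finset GolayPt) : ℕ :=
  {s | s ∈ Code ∧ (s.card = 8 ∧ 2 ∣ (t ∩ s).card)}.ncard

theorem N_eq (t : Finset GolayPt) :
    N t = {c : ↥golayCode | (support₂ (c : GolayPt → ZMod 2)).card = 8 ∧ f t c = 0}.ncard := by
  rw [N, ← Set.ncard_image_of_injective _ (f := fun c : ↥golayCode => support₂ (c : GolayPt → ZMod 2))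
    (fun a b h => Subtype.ext (supp_injective h))]
  congr 1
  ext s
  constructor
  · rintro ⟨hs, h8, h2⟩
    obtain ⟨w, hw, rfl⟩ := hs
    exact ⟨⟨w, hw⟩, ⟨h8, by rw [f_card]; exact (ZMod.natCast_eq_zero_iff_even.2 (even_iff_two_dvd.2 h2))⟩, rfl⟩
  · rintro ⟨c, ⟨h8, h⟩, rfl⟩
    rw [f_card, ZMod.natCast_eq_zero_iff_even, even_iff_two_dvd] at h
    exact ⟨⟨c, c.2, rfl⟩, h8, h⟩

theorem N_smul {π : Equiv.Perm GolayPt} (hπ : π ∈ M24) (t : Finset GolayPt) : N (π • t) = N t := by
  rw [N, N, ← Set.ncard_image_of_injective {s | s ∈ Code ∧ (s.card = 8 ∧ 2 ∣ (t ∩ s).card)} (MulAction.injective π)]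
  congr 1
  ext s
  constructor
  · rintro ⟨hs, h8, h2⟩
    refine ⟨π⁻¹ • s, ⟨smul_mem_code (inv_mem hπ) hs, by rw [card_smul_perm, h8], ?_⟩, smul_inv_smul π s⟩
    rw [← card_smul_perm π, smul_inter_perm, smul_inv_smul]; exact h2
  · rintro ⟨u, ⟨hu, h8, h2⟩, rfl⟩
    refine ⟨smul_mem_code hπ hu, by rw [card_smul_perm, h8], ?_⟩
    rw [← smul_inter_perm, card_smul_perm]; exact h2

theorem N_mask (k : ℕ) : N (ofMask k) = wordList.countP (fun m => pop m == 8 && pop (k &&& m) % 2 == 0) :=
  ncard_filter_code _ _ fun m _ => by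
    rw [← ofMask_and, card_ofMask, card_ofMask, Nat.dvd_iff_mod_eq_zero]
    simp

theorem N_check : wordList.countP (fun m => pop m == 8 && pop (3 &&& m) % 2 == 0) = 407 ∧
    wordList.countP (fun m => pop m == 8 && pop (15 &&& m) % 2 == 0) = 375 := by decide +kernel

theorem inj_fn {a b : GolayPt} (h : a ≠ b) : Function.Injective ![a, b] := by
  intro i j; fin_cases i <;> fin_cases j <;> simp [h, h.symm]

theorem N_two {t : Finset GolayPt} (h : t.card = 2) : N t = 407 := by
  obtain ⟨a, b, hab, rfl⟩ := Finset.card_eq_two.1 h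
  have hm : ofMask 3 = {pt 0, pt 1} := by decide +kernel
  have hne : pt 0 ≠ pt 1 := by decide +kernel
  obtain ⟨g, hg⟩ := M24Simple.m24_move (k := 2) (by norm_num) ![pt 0, pt 1] ![a, b] (inj_fn hne) (inj_fn hab)
  have e : (g : Equiv.Perm GolayPt) • ofMask 3 = {a, b} := by
    rw [hm, Finset.smul_finset_insert, Finset.smul_finset_singleton]
    exact congrArg₂ (fun u v => ({u, v} : Finset GolayPt)) (hg 0) (hg 1)
  rw [← e, N_smul g.2, N_mask, N_check.1]

theorem N_four {t : Finset GolayPt} (h : t.card = 4) : N t = 375 := by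
  obtain ⟨a, b, c, d, hab, hac, had, hbc, hbd, hcd, rfl⟩ := Finset.card_eq_four.1 h
  have hm : ofMask 15 = {pt 0, pt 1, pt 2, pt 3} := by decide +kernel
  have hinj : Function.Injective ![pt 0, pt 1, pt 2, pt 3] := by decide +kernel
  obtain ⟨g, hg⟩ := M24Simple.m24_move (k := 4) (by norm_num) ![pt 0, pt 1, pt 2, pt 3] ![a, b, c, d] hinj
    (M24Simple.inj_four hab hac had hbc hbd hcd)
  have e : (g : Equiv.Perm GolayPt) • ofMask 15 = {a, b, c, d} := by
    rw [hm]
    simp only [Finset.smul_finset_insert, Finset.smul_finset_singleton]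
    rw [show (g : Equiv.Perm GolayPt) • pt 0 = a from hg 0, show (g : Equiv.Perm GolayPt) • pt 1 = b from hg 1,
      show (g : Equiv.Perm GolayPt) • pt 2 = c from hg 2, show (g : Equiv.Perm GolayPt) • pt 3 = d from hg 3]
  rw [← e, N_smul g.2, N_mask, N_check.2]

theorem N_congr {s t : Finset GolayPt} (h : ∀ c, f s c = f t c) : N s = N t := by
  rw [N_eq, N_eq]; simp only [h]

theorem N_empty : N (∅ : Finset GolayPt) = 759 := by
  rw [N, ← ncard_octads]
  congr 1
  ext s
  simp [mem_octads]

theorem pair_unique {s t : Finset GolayPt} (hs : s.card = 2) (ht : t.card = 2) (h : ∀ c, f s c = f t c) : s = t := by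
  have h0 : ∀ c, f (symmDiff s t) c = f ∅ c := fun c => by
    rw [f_sd, h c, CharTwo.add_self_eq_zero, f_card]; simp
  have hN := (N_congr h0).trans N_empty
  have hc := card_symmDiff_add s t
  rcases (show (symmDiff s t).card = 0 ∨ (symmDiff s t).card = 2 ∨ (symmDiff s t).card = 4 by omega) with e | e | e
  · exact symmDiff_eq_bot.1 (Finset.card_eq_zero.1 e)
  · rw [N_two e] at hN; omega
  · rw [N_four e] at hN; omega

/-- every functional killing the all-ones word comes from at most four points -/
theorem exists_f (g : ↥golayCode →ₗ[ZMod 2] ZMod 2)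
    (h1 : ∀ e : ↥golayCode, (e : GolayPt → ZMod 2) = (fun _ => 1) → g e = 0) :
    ∃ t : Finset GolayPt, (t.card = 0 ∨ t.card = 2 ∨ t.card = 4) ∧ ∀ c, g c = f t c := by
  classical
  obtain ⟨G, hG⟩ := g.exists_extend
  set s := Finset.univ.filter (fun p => G (Pi.single p 1) ≠ 0) with hs
  have hsf : ∀ c, g c = f s c := fun c => by
    rw [← hG, LinearMap.comp_apply, Submodule.subtype_apply]
    conv_lhs => rw [← Finset.univ_sum_single (c : GolayPt → ZMod 2)]
    rw [map_sum]
    refine Finset.sum_congr rfl fun p _ => ?_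
    rw [show (Pi.single p ((c : GolayPt → ZMod 2) p) : GolayPt → ZMod 2) = (c : GolayPt → ZMod 2) p • Pi.single p 1 from
      by rw [← Pi.single_smul, smul_eq_mul, mul_one], map_smul, smul_eq_mul, mul_comm]
    congr 1
    simp only [ind, hs, Finset.mem_filter, Finset.mem_univ, true_and]
    generalize G (Pi.single p 1) = a
    revert a; decide
  obtain ⟨t, ht4, -, htC⟩ := exists_leader s
  have hft : ∀ c, g c = f t c := fun c => by
    have h0 : f (symmDiff s t) c = 0 := by
      rw [f_card, ZMod.natCast_eq_zero_iff_even, even_iff_two_dvd]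
      exact even_inter htC ⟨c, c.2, rfl⟩
    rw [f_sd, ← hsf] at h0
    exact CharTwo.add_eq_zero.1 h0
  have hone : (fun _ => 1 : GolayPt → ZMod 2) ∈ golayCode := Submodule.subset_span (Or.inr rfl)
  have he := h1 ⟨_, hone⟩ rfl
  rw [hft, f_card, ZMod.natCast_eq_zero_iff_even,
    show support₂ (fun _ : GolayPt => (1 : ZMod 2)) = Finset.univ by ext; simp [mem_supp], Finset.inter_univ] at he
  obtain ⟨k, hk⟩ := he
  exact ⟨t, by omega, hft⟩

/-- Let X be a group of linear automorphisms of the length-24 binary Golay code of the definitions that fix the all-ones word, containing the coordinate-permutation action of every element of the code's automorphism group (the Mathieu group of degree 24), and such that every element of X sends each codeword into its orbit under that Mathieu group up to adding the all-ones word (X has the same orbits as the Mathieu group on the code modulo the all-ones word). Then every element of X agrees, modulo the all-ones word, with the action of a single element of the Mathieu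 group: X induces exactly the Mathieu group on the code modulo the all-ones word. -/
theorem result (X : Subgroup (↥Cfsg.golayCode ≃ₗ[ZMod 2] ↥Cfsg.golayCode)) (h1 : ∀ x ∈ X, ∀ e : ↥Cfsg.golayCode, (e : (Cfsg.GolayPt → ZMod 2)) = (fun _ => (1 : ZMod 2)) → x e = e) (hM : ∀ σ ∈ Cfsg.M24, ∃ x ∈ X, ∀ c : ↥Cfsg.golayCode, ((x c : ↥Cfsg.golayCode) : (Cfsg.GolayPt → ZMod 2)) = fun p => (c : (Cfsg.GolayPt → ZMod 2)) (σ.symm p)) (horb : ∀ x ∈ X, ∀ c : ↥Cfsg.golayCode, ∃ σ ∈ Cfsg.M24, ((x c : ↥Cfsg.golayCode) : (Cfsg.GolayPt → ZMod 2)) = (fun p => (c : (Cfsg.GolayPt → ZMod 2)) (σ.symm p)) ∨ ((x c : ↥Cfsg.golayCode) : (Cfsg.GolayPt → ZMod 2)) = (fun p => (c : (Cfsg.GolayPt → ZMod 2)) (σ.symm p)) + fun _ => (1 : ZMod 2)) (x : ↥Cfsg.golayCode ≃ₗ[ZMod 2] ↥Cfsg.golayCode) (hx : x ∈ X) : ∃ σ ∈ Cfsg.M24, ∀ c : ↥Cfsg.golayCode, ((x c : ↥Cfsg.golayCode) : (Cfsg.GolayPt → ZMod 2)) = (fun p => (c : (Cfsg.GolayPt → ZMod 2)) (σ.symm p)) ∨ ((x c : ↥Cfsg.golayCode) : (Cfsg.GolayPt → ZMod 2)) = (fun p => (c : (Cfsg.GolayPt →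 ZMod 2)) (σ.symm p)) + fun _ => (1 : ZMod 2) := by
  classical
  have hone : (fun _ => 1 : GolayPt → ZMod 2) ∈ golayCode := Submodule.subset_span (Or.inr rfl)
  set one : ↥golayCode := ⟨_, hone⟩ with hone'
  have hx1 : x one = one := h1 x hx one rfl
  -- the octad representative of an image
  have hrep : ∀ c : ↥golayCode, (support₂ (c : GolayPt → ZMod 2)).card = 8 → ∃ d : ↥golayCode,
      (support₂ (d : GolayPt → ZMod 2)).card = 8 ∧ (x c = d ∨ x c = d + one) := by
    intro c hc
    obtain ⟨σ, hσ, h | h⟩ := horb x hx c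
    · refine ⟨x c, ?_, Or.inl rfl⟩
      rw [h, ← hc]
      refine Finset.card_bij (fun p _ => σ.symm p) (fun p hp => by simpa [mem_supp] using hp)
        (fun _ _ _ _ e => σ.symm.injective e) (fun p hp => ⟨σ p, by simpa [mem_supp] using hp, by simp⟩)
    · refine ⟨x c + one, ?_, Or.inr ?_⟩
      · rw [Submodule.coe_add, h, add_assoc, show ((one : ↥golayCode) : GolayPt → ZMod 2) = fun _ => 1 from rfl,
          show ((fun _ => 1) + fun _ => 1 : GolayPt → ZMod 2) = 0 from funext fun _ => CharTwo.add_self_eq_zero (1 : ZMod 2), add_zero, ← hc]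
        refine Finset.card_bij (fun p _ => σ.symm p) (fun p hp => by simpa [mem_supp] using hp)
          (fun _ _ _ _ e => σ.symm.injective e) (fun p hp => ⟨σ p, by simpa [mem_supp] using hp, by simp⟩)
      · have h2 : one + one = 0 := Subtype.ext (funext fun _ => CharTwo.add_self_eq_zero (1 : ZMod 2))
        rw [add_assoc, h2, add_zero]
  choose! h hh8 hhx using hrep
  set O8 := {c : ↥golayCode | (support₂ (c : GolayPt → ZMod 2)).card = 8} with hO8
  have hone2 : one + one = 0 := Subtype.ext (funext fun _ => CharTwo.add_self_eq_zero (1 : ZMod 2))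
  have hinj : Set.InjOn h O8 := by
    intro a ha b hb e
    have hab : x a = x b ∨ x a = x (b + one) := by
      rw [map_add, hx1]
      rcases hhx a ha with ea | ea <;> rcases hhx b hb with eb | eb <;> rw [ea, eb, e]
      · exact Or.inl rfl
      · right; rw [add_assoc, hone2, add_zero]
      · exact Or.inr rfl
      · exact Or.inl rfl
    rcases hab with e' | e'
    · exact x.injective e'
    · exfalso
      have ha' : (support₂ ((b + one : ↥golayCode) : GolayPt → ZMod 2)).card = 8 := by rw [← x.injective e']; exact ha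
      rw [Submodule.coe_add, supp_add, show support₂ ((one : ↥golayCode) : GolayPt → ZMod 2) = Finset.univ by ext; simp [mem_supp, hone'],
        show symmDiff (support₂ (b : GolayPt → ZMod 2)) Finset.univ = (support₂ (b : GolayPt → ZMod 2))ᶜ from symmDiff_top _,
        Finset.card_compl, show (support₂ (b : GolayPt → ZMod 2)).card = 8 from hb,
        show Fintype.card GolayPt = 24 by decide] at ha'
      omega
  have hsurj : h '' O8 = O8 := by
    refine Set.eq_of_subset_of_ncard_le ?_ (by rw [Set.ncard_image_of_injOn hinj]) (Set.toFinite _)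
    rintro _ ⟨c, hc, rfl⟩; exact hh8 c hc
  have heven : ∀ t : Finset GolayPt, t.card = 2 → f t one = 0 := by
    intro t ht
    rw [f_card, show support₂ ((one : ↥golayCode) : GolayPt → ZMod 2) = Finset.univ by ext; simp [mem_supp, hone'],
      Finset.inter_univ, ht]
    decide
  have fadd : ∀ t a b, f t (a + b) = f t a + f t b := fun t a b => by
    simp [f, mul_add, Finset.sum_add_distrib]
  -- images of pairs
  have hT : ∀ p q : GolayPt, p ≠ q → ∃ T : Finset GolayPt, T.card = 2 ∧ ∀ c, f {p, q} (x c) = f T c := by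
    intro p q hpq
    have hc2 : ({p, q} : Finset GolayPt).card = 2 := Finset.card_pair hpq
    let g : ↥golayCode →ₗ[ZMod 2] ZMod 2 :=
      { toFun := fun c => f {p, q} (x c)
        map_add' := fun a b => by rw [map_add, fadd]
        map_smul' := fun r a => by
          simp only [map_smul, RingHom.id_apply]
          simp only [f, Submodule.coe_smul, Pi.smul_apply, smul_eq_mul, Finset.mul_sum]
          exact Finset.sum_congr rfl fun i _ => mul_left_comm _ _ _ }
    obtain ⟨T, hT, hTf⟩ := exists_f g (fun e he => by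
      show f {p, q} (x e) = 0
      rw [show e = one from Subtype.ext he, hx1]
      exact heven _ hc2)
    refine ⟨T, ?_, hTf⟩
    have hN : N T = N {p, q} := by
      rw [N_eq, N_eq]
      have key : ∀ c ∈ O8, f {p, q} (h c) = f T c := fun c hc => by
        rw [← hTf c]
        show f {p, q} (h c) = f {p, q} (x c)
        rcases hhx c hc with e | e
        · rw [e]
        · rw [e, fadd, heven _ hc2, add_zero]
      rw [← Set.ncard_image_of_injOn (f := h) (s := {c : ↥golayCode | (support₂ (c : GolayPt → ZMod 2)).card = 8 ∧ f T c = 0}) (hinj.mono fun c hc => hc.1)]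
      congr 1
      ext d
      constructor
      · rintro ⟨c, ⟨hc, hc0⟩, rfl⟩
        exact ⟨hh8 c hc, by rw [key c hc, hc0]⟩
      · rintro ⟨hd, hd0⟩
        obtain ⟨c, hc, rfl⟩ : d ∈ h '' O8 := by rw [hsurj]; exact hd
        exact ⟨c, ⟨hc, by rw [← key c hc, hd0]⟩, rfl⟩
    rw [N_two hc2] at hN
    rcases hT with e | e | e
    · rw [Finset.card_eq_zero.1 e, N_empty] at hN; omega
    · exact e
    · rw [N_four e] at hN; omega
  choose! T hT2 hTf using hT
  have hsymm : ∀ p q, p ≠ q → T p q = T q p := fun p q hpq =>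
    pair_unique (hT2 p q hpq) (hT2 q p hpq.symm) fun c => by
      rw [← hTf p q hpq, ← hTf q p hpq.symm, Finset.pair_comm]
  have hTinj : ∀ p q r s, p ≠ q → r ≠ s → T p q = T r s → ({p, q} : Finset GolayPt) = {r, s} :=
    fun p q r s hpq hrs e => pair_unique (Finset.card_pair hpq) (Finset.card_pair hrs) fun c => by
      obtain ⟨c', rfl⟩ := x.surjective c
      rw [hTf p q hpq, hTf r s hrs, e]
  have hsd : ∀ p q r, p ≠ q → p ≠ r → q ≠ r → symmDiff (T p q) (T p r) = T q r := by
    intro p q r hpq hpr hqr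
    have hf : ∀ c, f (symmDiff (T p q) (T p r)) c = f (T q r) c := fun c => by
      rw [f_sd, ← hTf p q hpq, ← hTf p r hpr, ← hTf q r hqr, f_pair hpq, f_pair hpr, f_pair hqr]
      linear_combination (CharTwo.add_self_eq_zero ((x c : GolayPt → ZMod 2) p))
    have hne : T p q ≠ T p r := fun e => by
      have h1 := hTinj p q p r hpq hpr e
      have h2 : q ∈ ({p, r} : Finset GolayPt) := h1 ▸ by simp
      simp [hpq.symm, hqr] at h2
    have hN := N_congr hf
    rw [N_two (hT2 q r hqr)] at hN
    have hc := card_symmDiff_add (T p q) (T p r)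
    have h1 := hT2 p q hpq
    have h2 := hT2 p r hpr
    rcases (show (symmDiff (T p q) (T p r)).card = 0 ∨ (symmDiff (T p q) (T p r)).card = 2 ∨
        (symmDiff (T p q) (T p r)).card = 4 by omega) with e | e | e
    · exact absurd (symmDiff_eq_bot.1 (Finset.card_eq_zero.1 e)) hne
    · exact pair_unique e (hT2 q r hqr) hf
    · rw [N_four e] at hN; omega
  have hmeet : ∀ p q r, p ≠ q → p ≠ r → q ≠ r → (T p q ∩ T p r).card = 1 := by
    intro p q r hpq hpr hqr
    have hc := card_symmDiff_add (T p q) (T p r)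
    rw [hsd p q r hpq hpr hqr, hT2 p q hpq, hT2 p r hpr, hT2 q r hqr] at hc
    omega
  have hstar : ∀ p, ∃ u, ∀ q, p ≠ q → u ∈ T p q := by
    intro p
    obtain ⟨q, hq⟩ : ∃ q, q ≠ p := exists_ne p
    obtain ⟨r, hr⟩ : (Finset.univ \ ({p, q} : Finset GolayPt)).Nonempty := by
      rw [← Finset.card_pos, Finset.card_univ_diff]
      rw [Finset.card_pair hq.symm, show Fintype.card GolayPt = 24 by decide]
      norm_num
    simp only [Finset.mem_sdiff, Finset.mem_univ, true_and, Finset.mem_insert, Finset.mem_singleton, not_or] at hr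
    obtain ⟨u, hu⟩ := Finset.card_eq_one.1 (hmeet p q r hq.symm (Ne.symm hr.1) (Ne.symm hr.2))
    have huq : u ∈ T p q := (Finset.mem_inter.1 (hu ▸ Finset.mem_singleton_self u)).1
    have hur : u ∈ T p r := (Finset.mem_inter.1 (hu ▸ Finset.mem_singleton_self u)).2
    refine ⟨u, fun s hs => ?_⟩
    by_contra hus
    have hsq : q ≠ s := fun e => hus (e ▸ huq)
    have hsr : r ≠ s := fun e => hus (e ▸ hur)
    obtain ⟨v, hv⟩ := Finset.card_eq_one.1 (hmeet p q s hq.symm hs hsq)
    obtain ⟨w, hw⟩ := Finset.card_eq_one.1 (hmeet p r s (Ne.symm hr.1) hs hsr)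
    have hvm := Finset.mem_inter.1 (hv ▸ Finset.mem_singleton_self v)
    have hwm := Finset.mem_inter.1 (hw ▸ Finset.mem_singleton_self w)
    have huv : u ≠ v := fun e => hus (e ▸ hvm.2)
    have huw : u ≠ w := fun e => hus (e ▸ hwm.2)
    have hvw : v ≠ w := fun e => huv (by
      have h1 : v ∈ T p q ∩ T p r := Finset.mem_inter.2 ⟨hvm.1, e ▸ hwm.1⟩
      rw [hu, Finset.mem_singleton] at h1
      exact h1.symm)
    have e1 : ({u, v} : Finset GolayPt) = T p q := Finset.eq_of_subset_of_card_le
      (by simp [Finset.insert_subset_iff, huq, hvm.1]) (by rw [hT2 p q hq.symm, Finset.card_pair huv])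
    have e2 : ({u, w} : Finset GolayPt) = T p r := Finset.eq_of_subset_of_card_le
      (by simp [Finset.insert_subset_iff, hur, hwm.1]) (by rw [hT2 p r (Ne.symm hr.1), Finset.card_pair huw])
    have e3 : ({v, w} : Finset GolayPt) = T p s := Finset.eq_of_subset_of_card_le
      (by simp [Finset.insert_subset_iff, hvm.2, hwm.2]) (by rw [hT2 p s hs, Finset.card_pair hvw])
    have e4 : T q r = T p s := by
      rw [← hsd p q r hq.symm (Ne.symm hr.1) (Ne.symm hr.2), ← e1, ← e2, ← e3]
      ext y
      simp only [Finset.mem_symmDiff, Finset.mem_insert, Finset.mem_singleton]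
      constructor
      · rintro (⟨rfl | rfl, hn⟩ | ⟨rfl | rfl, hn⟩) <;> simp_all
      · rintro (rfl | rfl)
        · exact Or.inl ⟨Or.inr rfl, by simp [huv.symm, hvw]⟩
        · exact Or.inr ⟨Or.inr rfl, by simp [huw.symm, hvw.symm]⟩
    have h5 := hTinj q r p s (Ne.symm hr.2) hs e4
    have h6 : p ∈ ({q, r} : Finset GolayPt) := h5 ▸ by simp
    simp [hq.symm, Ne.symm hr.1] at h6
  choose σ hσ using hstar
  have hσinj : Function.Injective σ := by
    intro p q e
    by_contra hpq
    obtain ⟨r, hr⟩ : (Finset.univ \ ({p, q} : Finset GolayPt)).Nonempty := by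
      rw [← Finset.card_pos, Finset.card_univ_diff]
      rw [Finset.card_pair hpq, show Fintype.card GolayPt = 24 by decide]
      norm_num
    simp only [Finset.mem_sdiff, Finset.mem_univ, true_and, Finset.mem_insert, Finset.mem_singleton, not_or] at hr
    have hm : σ p ∈ T p q := hσ p q hpq
    rw [← hsd r p q hr.1 hr.2 hpq, hsymm r p hr.1, hsymm r q hr.2, Finset.mem_symmDiff] at hm
    rcases hm with ⟨-, h⟩ | ⟨-, h⟩
    · exact h (e ▸ hσ q r (Ne.symm hr.2))
    · exact h (hσ p r (Ne.symm hr.1))
  have hTeq : ∀ p q, p ≠ q → T p q = {σ p, σ q} := fun p q hpq =>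
    (Finset.eq_of_subset_of_card_le (by
      simp only [Finset.insert_subset_iff, Finset.singleton_subset_iff]
      exact ⟨hσ p q hpq, hsymm p q hpq ▸ hσ q p (Ne.symm hpq)⟩)
      (by rw [hT2 p q hpq, Finset.card_pair (fun e => hpq (hσinj e))])).symm
  let π := Equiv.ofBijective σ (Finite.injective_iff_bijective.1 hσinj)
  have hval : ∀ (c : ↥golayCode) (p : GolayPt), (x c : GolayPt → ZMod 2) p =
      (c : GolayPt → ZMod 2) (σ p) + ((x c : GolayPt → ZMod 2) none + (c : GolayPt → ZMod 2) (σ none)) := by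
    intro c p
    by_cases hp : p = none
    · subst hp
      linear_combination -(CharTwo.add_self_eq_zero ((c : GolayPt → ZMod 2) (σ none)))
    · have h1 := hTf p none hp c
      rw [hTeq p none hp, f_pair hp, f_pair (fun e => hp (hσinj e))] at h1
      linear_combination h1 - CharTwo.add_self_eq_zero ((x c : GolayPt → ZMod 2) none)
  refine ⟨π.symm, ?_, fun c => ?_⟩
  · rw [mem_M24_iff]
    rintro _ ⟨w, hw, rfl⟩
    refine ⟨fun p => w (σ p), ?_, ?_⟩
    · rcases (CfsgLib.Spor.HeisenbergTwo.zmod2 ((x ⟨w, hw⟩ : GolayPt → ZMod 2) none + w (σ none))) with e | e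
      · have : (fun p => w (σ p)) = (x ⟨w, hw⟩ : GolayPt → ZMod 2) := funext fun p => by
          rw [hval ⟨w, hw⟩ p, e, add_zero]
        rw [this]; exact (x ⟨w, hw⟩).2
      · have : (fun p => w (σ p)) = ((x ⟨w, hw⟩ + one : ↥golayCode) : GolayPt → ZMod 2) := funext fun p => by
          rw [Submodule.coe_add, Pi.add_apply, hval ⟨w, hw⟩ p, e, add_assoc]
          exact (add_zero _).symm.trans (congrArg _ (CharTwo.add_self_eq_zero (1 : ZMod 2)).symm)
        rw [this]; exact (x ⟨w, hw⟩ + one).2
    · ext p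
      rw [mem_supp]
      constructor
      · intro hp
        have h1 : π p ∈ support₂ w := mem_supp.2 hp
        have := (mem_smul_iff (σ := π.symm)).2 h1
        rwa [Equiv.symm_apply_apply] at this
      · intro hp
        rw [← Equiv.symm_apply_apply π p, mem_smul_iff, mem_supp] at hp
        exact hp
  · rcases (CfsgLib.Spor.HeisenbergTwo.zmod2 ((x c : GolayPt → ZMod 2) none + (c : GolayPt → ZMod 2) (σ none))) with e | e
    · left; funext p; rw [hval c p, e, add_zero]; rfl
    · right; funext p; rw [hval c p, e]; rfl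

end Cfsg.Agent.S5549
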