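import Cfsg.Statements.S5553
import Cfsg.Agent.Spor.LeechFacts
import Mathlib.LinearAlgebra.Dimension.Constructions
import Mathlib.FieldTheory.Finiteness
-- import your own Cfsg.Agent.* helpers here

set_option autoImplicit false
open Cfsg

namespace Cfsg.Agent.S5553

open CfsgLib.Spor CfsgLib.Spor.LeechFacts

/-- doubles of the integer vectors all of whose entries have one parity -/
def sameParity : AddSubgroup (GolayPt → ℤ) :=
  ((Submodule.span (ZMod 2) ({1} : Set (GolayPt → ZMod 2))).toAddSubgroup.comap redTwo).map dbl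

theorem mem_same {x : GolayPt → ℤ} :
    x ∈ sameParity ↔ ∃ y : GolayPt → ℤ, x = (fun i => 2 * y i) ∧ ((∀ i, (2 : ℤ) ∣ y i) ∨ ∀ i, ¬(2 : ℤ) ∣ y i) := by
  have key : ∀ y : GolayPt → ℤ, redTwo y ∈ Submodule.span (ZMod 2) ({1} : Set (GolayPt → ZMod 2)) ↔
      ((∀ i, (2 : ℤ) ∣ y i) ∨ ∀ i, ¬(2 : ℤ) ∣ y i) := by
    intro y
    have hz : ∀ (i : GolayPt), ((y i : ℤ) : ZMod 2) = 0 ↔ (2 : ℤ) ∣ y i := fun i => by
      rw [ZMod.intCast_zmod_eq_zero_iff_dvd]; rfl
    rw [Submodule.mem_span_singleton]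
    constructor
    · rintro ⟨a, ha⟩
      obtain rfl | rfl : a = 0 ∨ a = 1 := (show ∀ a : ZMod 2, a = 0 ∨ a = 1 by decide) a
      · exact Or.inl fun i => (hz i).1 (by simpa [redTwo] using (congrFun ha i).symm)
      · exact Or.inr fun i h => by
          have h1 := congrFun ha i
          simp [redTwo, (hz i).2 h] at h1
    · rintro (h | h)
      · exact ⟨0, funext fun i => by simp [redTwo, (hz i).2 (h i)]⟩
      · refine ⟨1, funext fun i => ?_⟩
        have h1 : ((y i : ℤ) : ZMod 2) ≠ 0 := fun e => h i ((hz i).1 e)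
        show (1 : ZMod 2) • (1 : ZMod 2) = ((y i : ℤ) : ZMod 2)
        revert h1
        generalize ((y i : ℤ) : ZMod 2) = a
        revert a
        decide
  constructor
  · rintro ⟨y, hy, rfl⟩; exact ⟨y, rfl, (key y).1 hy⟩
  · rintro ⟨y, rfl, hy⟩; exact ⟨y, (key y).2 hy, rfl⟩

theorem index_same : sameParity.index = 2 ^ 47 := by
  rw [sameParity, AddSubgroup.index_map_of_injective _ dbl_inj, index_range_dbl,
    AddSubgroup.index_comap_of_surjective _ redTwo_surj]
  have h := (Submodule.span (ZMod 2) ({1} : Set (GolayPt → ZMod 2))).toAddSubgroup.card_mul_index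
  have hc : Nat.card ↥(Submodule.span (ZMod 2) ({1} : Set (GolayPt → ZMod 2))).toAddSubgroup = 2 := by
    have h1 : Nat.card ↥(Submodule.span (ZMod 2) ({1} : Set (GolayPt → ZMod 2))) = 2 := by
      rw [Module.natCard_eq_pow_finrank (K := ZMod 2), finrank_span_singleton (one_ne_zero), Nat.card_zmod]
      norm_num
    exact h1
  rw [hc, Nat.card_eq_fintype_card, Fintype.card_fun, ZMod.card,
    show Fintype.card GolayPt = 24 from rfl] at h
  have e : (Submodule.span (ZMod 2) ({1} : Set (GolayPt → ZMod 2))).toAddSubgroup.index = 2 ^ 23 := by omega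
  rw [e]
  norm_num

theorem same_code {y : GolayPt → ℤ} (h : (∀ i, (2 : ℤ) ∣ y i) ∨ ∀ i, ¬(2 : ℤ) ∣ y i) : oddSupp y ∈ Code := by
  rcases h with h | h
  · rw [show oddSupp y = ∅ by ext i; simp [mem_oddSupp, h i]]
    exact empty_mem_code
  · rw [show oddSupp y = Finset.univ by ext i; simp [mem_oddSupp, h i]]
    exact univ_mem_code

theorem two_mem_iff {b : GolayPt → ℤ} (hb : oddSupp b ∈ Code) :
    (fun i => 2 * b i) ∈ leechLattice ↔ (4 : ℤ) ∣ ∑ i, b i := by
  refine ⟨fun h => ?_, two_mul_mem hb⟩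
  rcases leech_cases h with ⟨b', e, -, h4⟩ | ho
  · have : b = b' := funext fun i => by have := congrFun e i; omega
    rw [this]; exact h4
  · exact absurd (Dvd.intro _ rfl) (ho none)

theorem index_inf : (leechLattice ⊓ sameParity).index = 2 ^ 48 := by
  have hs : ∀ i : GolayPt, (2 : ℤ) ∣ (Pi.single none 2 : GolayPt → ℤ) i := fun i => by
    rw [Pi.single_apply]; split <;> norm_num
  have hR : (leechLattice ⊓ sameParity).relIndex sameParity = 2 := by
    rw [AddSubgroup.relIndex, AddSubgroup.index_eq_two_iff]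
    refine ⟨⟨(fun i => 2 * (Pi.single none 2 : GolayPt → ℤ) i), mem_same.2 ⟨_, rfl, Or.inl hs⟩⟩, fun x => ?_⟩
    obtain ⟨y, hy, hp⟩ := mem_same.1 x.2
    have hp2 : (∀ i, (2 : ℤ) ∣ (y + Pi.single none 2 : GolayPt → ℤ) i) ∨
        ∀ i, ¬(2 : ℤ) ∣ (y + Pi.single none 2 : GolayPt → ℤ) i := by
      rcases hp with h | h
      · exact Or.inl fun i => dvd_add (h i) (hs i)
      · refine Or.inr fun i => ?_
        have := h i
        have := hs i
        simp only [Pi.add_apply]
        omega
    simp only [AddSubgroup.mem_addSubgroupOf, AddSubgroup.coe_add, AddSubgroup.mem_inf, x.2, and_true]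
    have e2 : (x : GolayPt → ℤ) + (fun i => 2 * (Pi.single none 2 : GolayPt → ℤ) i) =
        fun i => 2 * (y + Pi.single none 2 : GolayPt → ℤ) i := by
      funext i
      simp only [hy, Pi.add_apply]
      ring
    have hbig := (mem_same (x := (x : GolayPt → ℤ) + (fun i => 2 * (Pi.single none 2 : GolayPt → ℤ) i))).2 ⟨_, e2, hp2⟩
    have hev := sum_even_of_code (same_code hp)
    simp only [hbig, and_true]
    rw [e2, hy, two_mem_iff (same_code hp), two_mem_iff (same_code hp2)]
    simp only [Pi.add_apply, Finset.sum_add_distrib, Finset.sum_pi_single', Finset.mem_univ, if_true, xor_def]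
    omega
  rw [← AddSubgroup.relIndex_mul_index (inf_le_right : leechLattice ⊓ sameParity ≤ sameParity), hR, index_same]
  norm_num

/-- The Leech lattice of the definitions has an additive subgroup A containing twice the lattice, of index 2^12 in the lattice, all of whose vectors have squared length divisible by 32: the invariant quadratic form 'squared length over 16 modulo 2' on the lattice modulo twice the lattice (a 24-dimensional space over the field with two elements) vanishes on a 12-dimensional subspace, so it is of plus type. -/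
theorem result : ∃ A : AddSubgroup (Cfsg.GolayPt → ℤ), A ≤ Cfsg.leechLattice ∧ (∀ v ∈ Cfsg.leechLattice, (2 : ℤ) • v ∈ A) ∧ (A.addSubgroupOf Cfsg.leechLattice).index = 2 ^ 12 ∧ ∀ v ∈ A, (32 : ℤ) ∣ Cfsg.sqNorm v := by
  refine ⟨Cfsg.leechLattice ⊓ sameParity, inf_le_left, fun v hv => ?_, ?_, fun v hv => ?_⟩
  · refine ⟨Cfsg.leechLattice.zsmul_mem hv 2, mem_same.2 ⟨v, funext fun i => by simp, ?_⟩⟩
    rcases leech_cases hv with ⟨y, rfl, -, -⟩ | h
    · exact Or.inl fun i => Dvd.intro _ rfl
    · exact Or.inr h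
  · have h := AddSubgroup.relIndex_mul_index (inf_le_left : Cfsg.leechLattice ⊓ sameParity ≤ Cfsg.leechLattice)
    rw [index_inf, index_leech, AddSubgroup.relIndex,
      show (2 : ℕ) ^ 48 = 2 ^ 12 * 2 ^ 36 by norm_num] at h
    exact Nat.eq_of_mul_eq_mul_right (by norm_num) h
  · obtain ⟨y, rfl, hp⟩ := mem_same.1 hv.2
    have h4 := (two_mem_iff (same_code hp)).1 hv.1
    rw [norm_two_mul]
    rcases hp with h | h
    · obtain ⟨u, rfl⟩ : ∃ u : GolayPt → ℤ, y = fun i => 2 * u i :=
        ⟨fun i => y i / 2, funext fun i => by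
          have := h i
          show y i = 2 * (y i / 2)
          omega⟩
      rw [← Finset.mul_sum] at h4
      have h2 : (2 : ℤ) ∣ ∑ j, (u j ^ 2 - u j) := Finset.dvd_sum fun j _ => by
        rcases Int.even_or_odd (u j) with ⟨k, hk⟩ | ⟨k, hk⟩
        · exact ⟨2 * k ^ 2 - k, by rw [hk]; ring⟩
        · exact ⟨2 * k ^ 2 + k, by rw [hk]; ring⟩
      rw [Finset.sum_sub_distrib] at h2
      rw [Finset.sum_congr rfl fun j _ => show (2 * u j) ^ 2 = 4 * u j ^ 2 by ring, ← Finset.mul_sum]
      omega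
    · have h8 : (8 : ℤ) ∣ ∑ j, (y j ^ 2 - 1) := Finset.dvd_sum fun j _ => by
        obtain ⟨k, hk⟩ : ∃ k, y j = 2 * k + 1 := ⟨y j / 2, by have := h j; omega⟩
        rcases Int.even_or_odd k with ⟨t, rfl⟩ | ⟨t, rfl⟩
        · exact ⟨2 * t ^ 2 + t, by rw [hk]; ring⟩
        · exact ⟨2 * t ^ 2 + 3 * t + 1, by rw [hk]; ring⟩
      rw [Finset.sum_sub_distrib] at h8
      simp only [Finset.sum_const, Finset.card_univ, show Fintype.card Cfsg.GolayPt = 24 from rfl, nsmul_eq_mul, mul_one, Nat.cast_ofNat] at h8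
      omega

end Cfsg.Agent.S5553
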