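import Cfsg.Statements.S5555
import Cfsg.Agent.Spor.Fischer.SUThreeLift
import Cfsg.Agent.Solv.Basic
-- import your own Cfsg.Agent.* helpers here

set_option autoImplicit false
open Cfsg

namespace Cfsg.Agent.S5555

/-- the involution `a` inverts `a * b` and `a * c` -/
theorem lift {G Q : Type*} [Group G] [Finite G] [Group Q] [Finite Q] (π : G →* Q)
    (hπ : IsPGroup 2 π.ker) (a x y : G) (ha : a * a = 1)
    (hM : IsPGroup 3 ↥(Subgroup.closure ({x, y} : Set G)))
    (hax : a * x * a = x⁻¹) (hay : a * y * a = y⁻¹) (haπ : π a ≠ 1) :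
    π.ker ⊓ (Subgroup.closure ({x, y} : Set G) ⊔ Subgroup.zpowers a) = ⊥ := by
  set M := Subgroup.closure ({x, y} : Set G) with hMdef
  have hai : a⁻¹ = a := inv_eq_of_mul_eq_one_left ha
  have hle : M.map (MulAut.conj a).toMonoidHom ≤ M := by
    rw [hMdef, MonoidHom.map_closure, Subgroup.closure_le]
    rintro _ ⟨t, ht, rfl⟩
    rcases ht with rfl | rfl
    · rw [MulEquiv.coe_toMonoidHom, MulAut.conj_apply, hai, hax]
      exact inv_mem (Subgroup.subset_closure (by simp))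
    · rw [MulEquiv.coe_toMonoidHom, MulAut.conj_apply, hai, hay]
      exact inv_mem (Subgroup.subset_closure (by simp))
  have hn : Subgroup.zpowers a ≤ Subgroup.normalizer (M : Set G) := by
    refine Subgroup.zpowers_le.2 (Subgroup.mem_normalizer_iff.2 fun t => ⟨fun ht => ?_, fun ht => ?_⟩)
    · exact hle ⟨t, ht, rfl⟩
    · have : a * (a * t * a⁻¹) * a⁻¹ = t := by rw [hai, ← mul_assoc, ← mul_assoc, ha, one_mul, mul_assoc, ha, mul_one]
      rw [← this]; exact hle ⟨_, ht, rfl⟩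
  have h23 : ∀ q : Q, q * q = 1 → ∀ k : ℕ, q ^ (3 ^ k) = 1 → q = 1 := by
    intro q h2 k h3
    obtain ⟨r, hr⟩ := (show Odd (3 ^ k) from Odd.pow (by decide))
    rw [hr, pow_succ, pow_mul, pow_two, h2, one_pow, one_mul] at h3
    exact h3
  have hd : ∀ n : ℤ, a ^ n = 1 ∨ a ^ n = a := fun n => by
    have ha2 : a ^ (2 : ℤ) = 1 := by rw [zpow_two, ha]
    rcases Int.even_or_odd' n with ⟨k, rfl | rfl⟩
    · left; rw [zpow_mul, ha2, one_zpow]
    · right; rw [zpow_add, zpow_mul, ha2, one_zpow, one_mul, zpow_one]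
  refine (Subgroup.eq_bot_iff_forall _).2 fun g hg => ?_
  obtain ⟨m, hm, z, hz, rfl⟩ : ∃ m ∈ M, ∃ z ∈ Subgroup.zpowers a, m * z = g := by
    have h : g ∈ ((M ⊔ Subgroup.zpowers a : Subgroup G) : Set G) := hg.2
    rw [Subgroup.coe_mul_of_right_le_normalizer_left M (Subgroup.zpowers a) hn] at h
    exact h
  obtain ⟨k, hk⟩ := hM ⟨m, hm⟩
  have hk' : m ^ (3 ^ k) = 1 := congrArg Subtype.val hk
  obtain ⟨n, rfl⟩ := hz
  have hker : π (m * a ^ n) = 1 := hg.1
  rcases hd n with h | h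
  · show m * a ^ n = 1
    rw [h, mul_one]
    rw [h, mul_one] at hker
    obtain ⟨j, hj⟩ := hπ ⟨m, hker⟩
    have hj' : m ^ (2 ^ j) = 1 := congrArg Subtype.val hj
    refine orderOf_eq_one_iff.1 ?_
    have h1 := orderOf_dvd_iff_pow_eq_one.2 hk'
    have h2 := orderOf_dvd_iff_pow_eq_one.2 hj'
    exact Nat.eq_one_of_dvd_coprimes ((Nat.coprime_primes Nat.prime_three Nat.prime_two).2 (by omega) |>.pow k j) h1 h2
  · exfalso
    rw [h, map_mul] at hker
    have hma : π m = π a := by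
      rw [eq_inv_of_mul_eq_one_left hker, ← map_inv, hai]
    refine haπ (h23 _ (by rw [← map_mul, ha, map_one]) k ?_)
    rw [← hma, ← map_pow, hk', map_one]

theorem split {G Q : Type*} [Group G] [Finite G] [Group Q] [Finite Q] {D : Set G}
    (hord : ∀ d ∈ D, d * d = 1) (hp : ∀ d ∈ D, ∀ e ∈ D, (d * e) ^ 2 = 1 ∨ (d * e) ^ 3 = 1)
    (hconj : ∀ d ∈ D, ∀ g : G, g * d * g⁻¹ ∈ D) (hcl : ∀ d ∈ D, ∀ e ∈ D, IsConj d e)
    (hgen : Subgroup.closure D = ⊤)
    (π : G →* Q) (hsur : Function.Surjective π) (hπ : IsPGroup 2 π.ker)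
    (h9 : Nat.card {q : Q // orderOf q = 2} ≤ 9)
    (hnc : ∀ g h : Q, orderOf g = 2 → orderOf h = 2 → g * h = h * g → g = h) :
    ∃ K : Subgroup G, π.ker ⊓ K = ⊥ ∧ K.map π = ⊤ := by
  classical
  have htop : ∀ K : Subgroup G, (∀ d ∈ D, π d ∈ K.map π) → K.map π = ⊤ := by
    intro K hK
    rw [eq_top_iff, ← Subgroup.map_top_of_surjective π hsur, ← hgen, MonoidHom.map_closure, Subgroup.closure_le]
    rintro _ ⟨d, hd, rfl⟩
    exact hK d hd
  by_cases htriv : ∀ d ∈ D, π d = 1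
  · exact ⟨⊥, inf_bot_eq _, htop _ fun d hd => by rw [htriv d hd]; exact one_mem _⟩
  push Not at htriv
  obtain ⟨a, haD, haπ⟩ := htriv
  have hinv : ∀ d ∈ D, orderOf (π d) = 2 := by
    intro d hd
    refine orderOf_eq_prime (by rw [pow_two, ← map_mul, hord d hd, map_one]) fun h1 => haπ ?_
    obtain ⟨g, hg⟩ := isConj_iff.1 (hcl d hd a haD)
    rw [← hg, map_mul, map_mul, h1, mul_one, map_inv, mul_inv_cancel]
  have hinv' : ∀ d ∈ D, d⁻¹ = d := fun d hd => inv_eq_of_mul_eq_one_left (hord d hd)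
  have h3 : ∀ d ∈ D, ∀ e ∈ D, π d ≠ π e → (d * e) ^ 3 = 1 := by
    intro d hd e he hde
    refine (hp d hd e he).resolve_left fun h => hde (hnc _ _ (hinv d hd) (hinv e he) ?_)
    rw [pow_two] at h
    have h' := eq_inv_of_mul_eq_one_left h
    rw [mul_inv_rev, hinv' d hd, hinv' e he] at h'
    rw [← map_mul, ← map_mul, h']
  have haa := hord a haD
  have hinvert : ∀ b ∈ D, a * (a * b) * a = (a * b)⁻¹ := fun b hb => by
    rw [mul_inv_rev, hinv' b hb, hinv' a haD, ← mul_assoc, haa, one_mul]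
  have hone : ∀ (x : G), x ^ 3 = 1 → IsPGroup 3 ↥(Subgroup.closure ({x, x} : Set G)) := fun x hx =>
    CfsgLib.Spor.SUThreeLift.pgroup_of_cubes x x hx hx (by rw [← pow_two, ← pow_mul, mul_comm, pow_mul, hx, one_pow])
      (by rw [mul_inv_cancel, one_pow])
  by_cases hb : ∀ d ∈ D, π d = π a
  · refine ⟨Subgroup.closure ({1, 1} : Set G) ⊔ Subgroup.zpowers a,
      lift π hπ a 1 1 haa (hone 1 (one_pow 3)) (by rw [mul_one, haa, inv_one]) (by rw [mul_one, haa, inv_one]) haπ,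
      htop _ fun d hd => ?_⟩
    rw [hb d hd]
    exact Subgroup.mem_map_of_mem π (Subgroup.mem_sup_right (Subgroup.mem_zpowers a))
  push Not at hb
  obtain ⟨b, hbD, hab⟩ := hb
  have hx3 := h3 a haD b hbD (fun h => hab h.symm)
  set K₂ := Subgroup.closure ({a * b, a * b} : Set G) ⊔ Subgroup.zpowers a with hK₂
  by_cases hc : ∀ d ∈ D, π d ∈ K₂.map π
  · exact ⟨K₂, lift π hπ a _ _ haa (hone _ hx3) (hinvert b hbD) (hinvert b hbD) haπ, htop _ hc⟩
  push Not at hc
  obtain ⟨c, hcD, hcK⟩ := hc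
  have haK₂ : a ∈ K₂ := Subgroup.mem_sup_right (Subgroup.mem_zpowers a)
  have hxK₂ : a * b ∈ K₂ := Subgroup.mem_sup_left (Subgroup.subset_closure (by simp))
  have hbK₂ : b ∈ K₂ := by
    have h := mul_mem haK₂ hxK₂
    rwa [← mul_assoc, haa, one_mul] at h
  have habaK₂ : a * b * a ∈ K₂ := mul_mem hxK₂ haK₂
  have hca : π c ≠ π a := fun h => hcK (h ▸ Subgroup.mem_map_of_mem π haK₂)
  have hcb : π c ≠ π b := fun h => hcK (h ▸ Subgroup.mem_map_of_mem π hbK₂)
  have hcaba : π c ≠ π (a * b * a) := fun h => hcK (h ▸ Subgroup.mem_map_of_mem π habaK₂)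
  have habaD : a * b * a ∈ D := by
    have h := hconj b hbD a
    rwa [hinv' a haD] at h
  have hy3 := h3 a haD c hcD hca.symm
  have hxy : (a * b * (a * c)) ^ 3 = 1 := by
    rw [← mul_assoc]; exact h3 _ habaD c hcD hcaba.symm
  have hxy' : (a * b * (a * c)⁻¹) ^ 3 = 1 := by
    have h := h3 b hbD c hcD hcb.symm
    rw [mul_inv_rev, hinv' c hcD, hinv' a haD, show a * b * (c * a) = a * (b * c) * a⁻¹ by
      rw [hinv' a haD]; simp only [mul_assoc], ← MulAut.conj_apply, ← map_pow, h, map_one]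
  have hM := CfsgLib.Spor.SUThreeLift.pgroup_of_cubes (a * b) (a * c) hx3 hy3 hxy hxy'
  set M := Subgroup.closure ({a * b, a * c} : Set G) with hMdef
  refine ⟨M ⊔ Subgroup.zpowers a, lift π hπ a _ _ haa hM (hinvert b hbD) (hinvert c hcD) haπ, htop _ fun d hd => ?_⟩
  letI : MulAction ↥M Q := MulAction.compHom Q (MulAut.conj.comp (π.comp M.subtype))
  have hact : ∀ (m : M), m • π a = π ((m : G) * a * (m : G)⁻¹) := fun m => by
    show MulAut.conj (π (m : G)) (π a) = _
    rw [MulAut.conj_apply, map_mul, map_mul, map_inv]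
  have hbr : ∀ e ∈ D, (a * e) ^ 3 = 1 → (a * e) * a * (a * e)⁻¹ = e := by
    intro e he h
    rw [pow_succ, pow_two] at h
    have h' : a * e * a * e * a = e⁻¹ := eq_inv_of_mul_eq_one_left (by simpa only [mul_assoc] using h)
    rw [hinv' e he] at h'
    rw [mul_inv_rev, hinv' e he, hinv' a haD]
    simpa only [mul_assoc] using h'
  have hxM : a * b ∈ M := Subgroup.subset_closure (by simp)
  have hyM : a * c ∈ M := Subgroup.subset_closure (by simp)
  have hsub : ({π a, π b, π (a * b * a), π c} : Set Q) ⊆ MulAction.orbit ↥M (π a) := by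
    rintro q (rfl | rfl | rfl | rfl)
    · exact MulAction.mem_orbit_self _
    · exact ⟨⟨_, hxM⟩, by show (⟨_, hxM⟩ : M) • π a = _; rw [hact]; exact congrArg π (hbr b hbD hx3)⟩
    · refine ⟨⟨_, inv_mem hxM⟩, ?_⟩
      show (⟨_, inv_mem hxM⟩ : M) • π a = _
      rw [hact]
      refine congrArg π ?_
      have h := hx3
      rw [pow_succ, pow_two] at h
      have h' : a * b * a = (b * a * b)⁻¹ := eq_inv_of_mul_eq_one_left (by simpa only [mul_assoc] using h)
      rw [mul_inv_rev, mul_inv_rev, hinv' a haD, hinv' b hbD] at h'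
      show (a * b)⁻¹ * a * (a * b)⁻¹⁻¹ = a * b * a
      rw [inv_inv, mul_inv_rev, hinv' a haD, hinv' b hbD, h', show b * a * a * (a * b) = b * (a * a) * (a * b) by
        simp only [mul_assoc], haa, mul_one]
    · exact ⟨⟨_, hyM⟩, by show (⟨_, hyM⟩ : M) • π a = _; rw [hact]; exact congrArg π (hbr c hcD hy3)⟩
  have h4 : ({π a, π b, π (a * b * a), π c} : Set Q).ncard = 4 := by
    have e1 : π a ≠ π (a * b * a) := by
      intro h
      apply hab
      rw [map_mul, map_mul] at h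
      have h' : π b = (π a)⁻¹ * (π a * π b * π a) * (π a)⁻¹ := by group
      rw [h', ← h, inv_mul_cancel, one_mul, ← map_inv, hinv' a haD]
    have e2 : π b ≠ π (a * b * a) := by
      intro h
      apply hab
      refine hnc _ _ (hinv b hbD) (hinv a haD) ?_
      conv_rhs => rw [h, ← map_mul, ← mul_assoc, ← mul_assoc, haa, one_mul, map_mul]
    rw [Set.ncard_insert_of_notMem, Set.ncard_insert_of_notMem, Set.ncard_pair hcaba.symm]
    · rintro (h | h)
      · exact e2 h
      · exact hcb h.symm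
    · rintro (h | h | h)
      · exact hab h.symm
      · exact e1 h
      · exact hca h.symm
  obtain ⟨n, hn⟩ := hM.card_orbit (π a)
  have hge : 4 ≤ Nat.card (MulAction.orbit ↥M (π a)) := by
    rw [← h4, Nat.card_coe_set_eq]; exact Set.ncard_le_ncard hsub (Set.toFinite _)
  have hge9 : 9 ≤ Nat.card (MulAction.orbit ↥M (π a)) := by
    rw [hn] at hge ⊢
    match n with
    | 0 => simp at hge
    | 1 => simp at hge
    | n + 2 => rw [pow_add]; exact Nat.le_mul_of_pos_left _ (pow_pos (by omega) _)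
  have horb : MulAction.orbit ↥M (π a) ⊆ {q : Q | orderOf q = 2} := by
    rintro q ⟨m, rfl⟩
    show orderOf (m • π a) = 2
    rw [hact]
    exact hinv _ (hconj a haD _)
  have heq : MulAction.orbit ↥M (π a) = {q : Q | orderOf q = 2} := by
    refine Set.eq_of_subset_of_ncard_le horb ?_ (Set.toFinite _)
    rw [← Nat.card_coe_set_eq, ← Nat.card_coe_set_eq]
    exact le_trans h9 hge9
  obtain ⟨m, hm⟩ : π d ∈ MulAction.orbit ↥M (π a) := by rw [heq]; exact hinv d hd
  have hm' : π ((m : G) * a * (m : G)⁻¹) = π d := (hact m).symm.trans hm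
  rw [← hm']
  refine Subgroup.mem_map_of_mem π ?_
  exact mul_mem (mul_mem (Subgroup.mem_sup_left m.2) (Subgroup.mem_sup_right (Subgroup.mem_zpowers a)))
    (inv_mem (Subgroup.mem_sup_left m.2))

/-- Let G be a finite group generated by a conjugacy class D of 3-transpositions, with trivial centre and with generalized Fitting subgroup F*(G) = O₂(G) (so the Fitting subgroup is O₂(G) too). If G/O₂(G) is isomorphic to the derived group of SU₃(2) (the group of order 54 generated by nine 3-transpositions), then O₂(G) has a complement in G. -/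
theorem result {G : Type*} [Group G] [Finite G] {D : Set G} (hD : Cfsg.IsThreeTranspositionClass D)
    (hZ : Subgroup.center G = ⊥) (hF : Cfsg.generalizedFittingSubgroup G = Cfsg.pCore 2 G)
    (hq : ∃ (F : Type) (_ : Field F) (_ : Fintype F), Fintype.card F = 4 ∧ Nonempty (G ⧸ Cfsg.pCore 2 G ≃* ↥(commutator ↥(Cfsg.SU 3 F 2)))) :
    ∃ K : Subgroup G, (Cfsg.pCore 2 G).IsComplement' K := by
  obtain ⟨F, _, _, hF4, ⟨e⟩⟩ := hq
  obtain ⟨h9, hnc⟩ := CfsgLib.Spor.SUThreeLift.involutions_le_nine hF4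
  obtain ⟨⟨hord, hp⟩, ⟨d₀, hd₀, hD₀⟩, hgen⟩ := hD
  haveI : Finite ↥(commutator ↥(Cfsg.SU 3 F 2)) := Finite.of_equiv _ e.toEquiv
  haveI hPn : (Cfsg.pCore 2 G).Normal := inferInstance
  let π : G →* ↥(commutator ↥(Cfsg.SU 3 F 2)) := e.toMonoidHom.comp (QuotientGroup.mk' (Cfsg.pCore 2 G))
  have hker : π.ker = Cfsg.pCore 2 G := by
    ext g
    rw [MonoidHom.mem_ker]
    exact ⟨fun h => (QuotientGroup.eq_one_iff g).1 (e.map_eq_one_iff.1 h),
      fun h => e.map_eq_one_iff.2 ((QuotientGroup.eq_one_iff g).2 h)⟩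
  have hconj : ∀ d ∈ D, ∀ g : G, g * d * g⁻¹ ∈ D := by
    intro d hd g
    rw [hD₀] at hd ⊢
    change IsConj d₀ _ at hd
    show IsConj d₀ _
    exact hd.trans (isConj_iff.2 ⟨g, rfl⟩)
  have hcl : ∀ d ∈ D, ∀ f ∈ D, IsConj d f := by
    intro d hd f hf
    rw [hD₀] at hd hf
    change IsConj d₀ _ at hd hf
    exact hd.symm.trans hf
  haveI : Fact (Nat.Prime 2) := ⟨Nat.prime_two⟩
  obtain ⟨K, hK1, hK2⟩ := split (fun d hd => CfsgLib.Spor.SUThreeLift.sq_of (hord d hd)) hp hconj hcl hgen π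
    (e.surjective.comp (QuotientGroup.mk'_surjective _)) (by rw [hker]; exact CfsgLib.Solv.pCore_isPGroup G 2) h9 hnc
  refine ⟨K, ?_⟩
  rw [← hker]
  refine Subgroup.isComplement'_of_disjoint_and_mul_eq_univ (disjoint_iff.2 hK1) ?_
  refine Set.eq_univ_of_forall fun g => ?_
  obtain ⟨k, hk, hkg⟩ : π g ∈ K.map π := by rw [hK2]; trivial
  refine ⟨g * k⁻¹, ?_, k, hk, inv_mul_cancel_right g k⟩
  show π (g * k⁻¹) = 1
  rw [map_mul, map_inv, hkg, mul_inv_cancel]

end Cfsg.Agent.S5555
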