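import Cfsg.Statements.S5559
import Cfsg.Agent.Spor.Fischer.TwoThreeTwoIso
import Cfsg.Agent.Solv.Basic
import Cfsg.Agent.Inv.Component
import Mathlib.FieldTheory.Finite.GaloisField
-- import your own Cfsg.Agent.* helpers here

set_option autoImplicit false
open Cfsg

namespace Cfsg.Agent.S5559

theorem two_group_class {G : Type*} [Group G] [Finite G] (hG : IsPGroup 2 G) {D : Set G} {d : G}
    (hD : D = conjugatesOf d) (hgen : Subgroup.closure D = ⊤) : ∀ a ∈ D, ∀ b ∈ D, a = b := by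
  haveI : Fact (Nat.Prime 2) := ⟨Nat.prime_two⟩
  haveI := hG.isNilpotent
  have htop : Subgroup.zpowers d = ⊤ := by
    rcases eq_top_or_exists_le_coatom (Subgroup.zpowers d) with h | ⟨M, hM, hle⟩
    · exact h
    · exfalso
      haveI := Subgroup.NormalizerCondition.normal_of_coatom M Group.normalizerCondition_of_isNilpotent hM
      refine hM.1 (eq_top_iff.2 (hgen ▸ (Subgroup.closure_le _).2 fun x hx => ?_))
      rw [hD] at hx
      obtain ⟨g, hg⟩ := isConj_iff.1 (show IsConj d x from hx)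
      rw [← hg]
      exact ‹M.Normal›.conj_mem _ (hle (Subgroup.mem_zpowers d)) g
  have h : ∀ a ∈ D, a = d := by
    intro a ha
    rw [hD] at ha
    obtain ⟨g, hg⟩ := isConj_iff.1 (show IsConj d a from ha)
    obtain ⟨n, hn⟩ : g ∈ Subgroup.zpowers d := htop ▸ Subgroup.mem_top g
    rw [← hg, ← hn]; group
  exact fun a ha b hb => (h a ha).trans (h b hb).symm

/-- Let H be a finite group generated by a conjugacy class E of 3-transpositions with at least two members, with F*(H) = O₂(H), and such that H/O₂(H) has a normal Sylow 3-subgroup of 2-power index (that is, H = O_{2,3,2}(H)). Then H/O₂(H) is isomorphic to the symmetric group of degree 3 or to the derived group of SU₃(2) (of order 54). -/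
theorem result {H : Type*} [Group H] [Finite H] {E : Set H} (hE : Cfsg.IsThreeTranspositionClass E)
    (hE2 : ∃ a ∈ E, ∃ b ∈ E, a ≠ b) (hF : Cfsg.generalizedFittingSubgroup H = Cfsg.pCore 2 H)
    (h232 : ∃ P : Sylow 3 (H ⧸ Cfsg.pCore 2 H), (P : Subgroup (H ⧸ Cfsg.pCore 2 H)).Normal ∧
      ∃ k : ℕ, (P : Subgroup (H ⧸ Cfsg.pCore 2 H)).index = 2 ^ k) :
    Nonempty (H ⧸ Cfsg.pCore 2 H ≃* Equiv.Perm (Fin 3)) ∨
      ∃ (F : Type) (_ : Field F) (_ : Fintype F), Fintype.card F = 4 ∧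
        Nonempty (H ⧸ Cfsg.pCore 2 H ≃* ↥(commutator ↥(Cfsg.SU 3 F 2))) := by
  classical
  haveI : Fact (Nat.Prime 2) := ⟨Nat.prime_two⟩
  haveI : Fact (Nat.Prime 3) := ⟨Nat.prime_three⟩
  obtain ⟨⟨hord, hp⟩, ⟨d₀, hd₀, hD₀⟩, hgen⟩ := hE
  obtain ⟨Pq, hPn, k, hk⟩ := h232
  haveI := hPn
  have hOp : IsPGroup 2 ↥(Cfsg.pCore 2 H) := CfsgLib.Solv.pCore_isPGroup H 2
  have hconj : ∀ d ∈ E, ∀ g : H, g * d * g⁻¹ ∈ E := by
    intro d hd g
    rw [hD₀] at hd ⊢
    change IsConj d₀ _ at hd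
    exact hd.trans (isConj_iff.2 ⟨g, rfl⟩)
  set π := QuotientGroup.mk' (Cfsg.pCore 2 H) with hπdef
  have hsur : Function.Surjective π := QuotientGroup.mk'_surjective _
  have hker : π.ker = Cfsg.pCore 2 H := QuotientGroup.ker_mk' _
  have hsqE : ∀ d ∈ E, d * d = 1 := fun d hd => CfsgLib.Spor.SUThreeLift.sq_of (hord d hd)
  have himg : ∀ d ∈ E, ∃ g : H ⧸ Cfsg.pCore 2 H, g * π d₀ * g⁻¹ = π d := by
    intro d hd
    rw [hD₀] at hd
    obtain ⟨g, hg⟩ := isConj_iff.1 (show IsConj d₀ d from hd)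
    exact ⟨π g, by rw [← hg, map_mul, map_mul, map_inv]⟩
  have hclQ : Subgroup.closure (π '' E) = ⊤ := by
    rw [← MonoidHom.map_closure, hgen, Subgroup.map_top_of_surjective π hsur]
  have hnotTwo : ¬ IsPGroup 2 H := by
    intro h
    obtain ⟨a, ha, b, hb, hab⟩ := hE2
    exact hab (two_group_class h hD₀ hgen a ha b hb)
  have hP3 : IsPGroup 3 ↥(Pq : Subgroup (H ⧸ Cfsg.pCore 2 H)) := Pq.isPGroup'
  have hno : ∀ x : H ⧸ Cfsg.pCore 2 H, x ∈ (Pq : Subgroup (H ⧸ Cfsg.pCore 2 H)) → x * x = 1 → x = 1 := by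
    intro x hx h2
    obtain ⟨j, hj⟩ := hP3 ⟨x, hx⟩
    have h3 : x ^ (3 ^ j) = 1 := congrArg Subtype.val hj
    obtain ⟨r, hr⟩ : Odd (3 ^ j) := Odd.pow (by decide)
    rw [hr, pow_succ, pow_mul, pow_two, h2, one_pow, one_mul] at h3
    exact h3
  have hd0P : π d₀ ∉ (Pq : Subgroup (H ⧸ Cfsg.pCore 2 H)) := by
    intro hmem
    have h1 := hno _ hmem (by rw [← map_mul, hsqE d₀ hd₀, map_one])
    apply hnotTwo
    have hbot : (⊤ : Subgroup H) ≤ Cfsg.pCore 2 H := by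
      rw [← hgen, Subgroup.closure_le]
      intro d hd
      obtain ⟨g, hg⟩ := himg d hd
      rw [h1, mul_one, mul_inv_cancel] at hg
      exact (QuotientGroup.eq_one_iff d).1 hg.symm
    intro x
    obtain ⟨j, hj⟩ := hOp ⟨x, hbot (Subgroup.mem_top x)⟩
    exact ⟨j, congrArg Subtype.val hj⟩
  have hord0 : orderOf (π d₀) = 2 :=
    orderOf_eq_prime (by rw [pow_two, ← map_mul, hsqE d₀ hd₀, map_one]) fun h => hd0P (h ▸ one_mem _)
  -- the quotient by the Sylow three-subgroup has order two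
  let ρ := QuotientGroup.mk' (Pq : Subgroup (H ⧸ Cfsg.pCore 2 H))
  have h2Q : IsPGroup 2 ((H ⧸ Cfsg.pCore 2 H) ⧸ (Pq : Subgroup (H ⧸ Cfsg.pCore 2 H))) :=
    IsPGroup.of_card (n := k) (by rw [← Subgroup.index_eq_card, hk])
  have hcos : ∀ q : H ⧸ Cfsg.pCore 2 H, q ∈ (Pq : Subgroup (H ⧸ Cfsg.pCore 2 H)) ∨
      q * π d₀ ∈ (Pq : Subgroup (H ⧸ Cfsg.pCore 2 H)) := by
    have hρ : Function.Surjective (ρ.comp π) := (QuotientGroup.mk'_surjective _).comp hsur
    have hcg : Subgroup.closure (conjugatesOf (ρ (π d₀))) = ⊤ := by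
      rw [eq_top_iff, ← Subgroup.map_top_of_surjective _ hρ, ← hgen, MonoidHom.map_closure]
      refine Subgroup.closure_mono ?_
      rintro _ ⟨d, hd, rfl⟩
      rw [hD₀] at hd
      obtain ⟨g, hg⟩ := isConj_iff.1 (show IsConj d₀ d from hd)
      refine isConj_iff.2 ⟨(ρ.comp π) g, ?_⟩
      rw [← hg, map_mul, map_mul, map_inv]; rfl
    have hone := two_group_class h2Q rfl hcg
    intro q
    have hz : (⊤ : Subgroup _) ≤ Subgroup.zpowers (ρ (π d₀)) := by
      rw [← hcg, Subgroup.closure_le]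
      intro z hz
      rw [hone z hz (ρ (π d₀)) mem_conjugatesOf_self]
      exact Subgroup.mem_zpowers _
    obtain ⟨n, hn⟩ := hz (Subgroup.mem_top (ρ q))
    have h2 : ρ (π d₀) ^ (2 : ℤ) = 1 := by rw [zpow_two, ← map_mul, ← map_mul, hsqE d₀ hd₀, map_one, map_one]
    rcases Int.even_or_odd' n with ⟨j, rfl | rfl⟩
    · left
      refine (QuotientGroup.eq_one_iff q).1 (?_ : ρ q = 1)
      rw [← hn]; show ρ (π d₀) ^ (2 * j) = 1
      rw [zpow_mul, h2, one_zpow]
    · right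
      refine (QuotientGroup.eq_one_iff _).1 (?_ : ρ (q * π d₀) = 1)
      rw [map_mul, ← hn]; show ρ (π d₀) ^ (2 * j + 1) * _ = 1
      rw [zpow_add, zpow_mul, h2, one_zpow, one_mul, zpow_one, ← zpow_two, h2]
  have hout : ∀ f : H ⧸ Cfsg.pCore 2 H, orderOf f = 2 → f ∉ (Pq : Subgroup (H ⧸ Cfsg.pCore 2 H)) := by
    intro f hf hmem
    rw [hno f hmem (CfsgLib.Spor.SUThreeLift.sq_of hf), orderOf_one] at hf
    omega
  have hin : ∀ f g : H ⧸ Cfsg.pCore 2 H, orderOf f = 2 → orderOf g = 2 →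
      f * g ∈ (Pq : Subgroup (H ⧸ Cfsg.pCore 2 H)) := by
    intro f g hf hg
    have h1 := (hcos f).resolve_left (hout f hf)
    have h2 := (hcos g).resolve_left (hout g hg)
    have hgi : g⁻¹ = g := inv_eq_of_mul_eq_one_left (CfsgLib.Spor.SUThreeLift.sq_of hg)
    have := mul_mem h1 (inv_mem h2)
    rwa [mul_inv_rev, hgi, mul_assoc, mul_inv_cancel_left] at this
  have hlift : ∀ f : H ⧸ Cfsg.pCore 2 H, orderOf f = 2 → ∃ d ∈ E, π d = f := by
    intro f hf
    set m := π d₀ * f with hm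
    have hm' : m ∈ (Pq : Subgroup (H ⧸ Cfsg.pCore 2 H)) := hin _ _ hord0 hf
    obtain ⟨j, hj⟩ := hP3 ⟨m, hm'⟩
    have hj' : m ^ (3 ^ j) = 1 := congrArg Subtype.val hj
    obtain ⟨r, hr⟩ : Odd (3 ^ j) := Odd.pow (by decide)
    obtain ⟨g, hg⟩ := hsur (m ^ r)
    refine ⟨g * d₀ * g⁻¹, hconj d₀ hd₀ g, ?_⟩
    rw [map_mul, map_mul, map_inv, hg]
    have hff := CfsgLib.Spor.SUThreeLift.sq_of hf
    have h00 : π d₀ * π d₀ = 1 := CfsgLib.Spor.SUThreeLift.sq_of hord0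
    have hinv : π d₀ * m * π d₀ = m⁻¹ := by
      rw [hm, mul_inv_rev, inv_eq_of_mul_eq_one_left h00, inv_eq_of_mul_eq_one_left hff, ← mul_assoc, h00, one_mul]
    have h0i : (π d₀)⁻¹ = π d₀ := inv_eq_of_mul_eq_one_left h00
    have hpw : π d₀ * m ^ r * π d₀ = (m ^ r)⁻¹ := by
      have := map_pow (MulAut.conj (π d₀)) m r
      rw [MulAut.conj_apply, MulAut.conj_apply, h0i, hinv, inv_pow] at this
      exact this
    have h2r : m ^ r * m ^ r = m⁻¹ := by
      rw [eq_inv_iff_mul_eq_one, ← pow_add, ← pow_succ, show r + r + 1 = 3 ^ j by omega, hj']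
    calc m ^ r * π d₀ * (m ^ r)⁻¹ = m ^ r * π d₀ * (π d₀ * m ^ r * π d₀) := by rw [hpw]
      _ = m ^ r * (π d₀ * π d₀) * m ^ r * π d₀ := by simp only [mul_assoc]
      _ = f := by
        rw [h00, mul_one, h2r, hm, mul_inv_rev, h0i, inv_eq_of_mul_eq_one_left hff, mul_assoc, h00, mul_one]
  have hordE : ∀ d ∈ E, orderOf (π d) = 2 := by
    intro d hd
    obtain ⟨g, hg⟩ := himg d hd
    rw [← hg, ← MulAut.conj_apply, MulEquiv.orderOf_eq, hord0]
  have hpE : ∀ d ∈ E, ∀ e ∈ E, π d ≠ π e → (d * e) ^ 3 = 1 := by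
    intro d hd e he hne
    refine (hp d hd e he).resolve_left fun h => hne ?_
    have h2 : π d * π e * (π d * π e) = 1 := by rw [← map_mul, ← map_mul, ← pow_two, h, map_one]
    have := hno _ (hin _ _ (hordE d hd) (hordE e he)) h2
    rw [eq_inv_of_mul_eq_one_left this, ← map_inv, inv_eq_of_mul_eq_one_left (hsqE e he)]
  obtain ⟨P₀⟩ : Nonempty (Sylow 3 H) := inferInstance
  have hmap : (P₀ : Subgroup H).map π = (Pq : Subgroup (H ⧸ Cfsg.pCore 2 H)) := by
    haveI := Sylow.unique_of_normal Pq hPn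
    have h : P₀.mapSurjective hsur = Pq := Subsingleton.elim _ _
    rw [← h, Sylow.coe_mapSurjective]
  let ψ : ↥(P₀ : Subgroup H) →* ↥(Pq : Subgroup (H ⧸ Cfsg.pCore 2 H)) :=
    (π.comp (P₀ : Subgroup H).subtype).codRestrict _ fun x => by rw [← hmap]; exact ⟨x, x.2, rfl⟩
  have hψ : Function.Bijective ψ := by
    refine ⟨(injective_iff_map_eq_one ψ).2 fun x hx => Subtype.ext ?_, fun q => ?_⟩
    · have hx' : π x = 1 := congrArg Subtype.val hx
      obtain ⟨j, hj⟩ := P₀.isPGroup' x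
      obtain ⟨i, hi⟩ := hOp ⟨x, (QuotientGroup.eq_one_iff _).1 hx'⟩
      refine orderOf_eq_one_iff.1 (Nat.eq_one_of_dvd_coprimes (Nat.Coprime.pow j i (by decide : Nat.Coprime 3 2)) ?_ ?_)
      · exact orderOf_dvd_iff_pow_eq_one.2 (congrArg Subtype.val hj : (x : H) ^ (3 ^ j) = 1)
      · exact orderOf_dvd_iff_pow_eq_one.2 (congrArg Subtype.val hi : (x : H) ^ (2 ^ i) = 1)
    · obtain ⟨x, hx, hxq⟩ := hmap.ge q.2
      exact ⟨⟨x, hx⟩, Subtype.ext hxq⟩
  let S : CfsgLib.Spor.TwoThreeTwo.Setup H (H ⧸ Cfsg.pCore 2 H) :=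
    { D := E, π := π, P := Pq, s := (P₀ : Subgroup H).subtype.comp (MulEquiv.ofBijective ψ hψ).symm.toMonoidHom
      hπs := fun x => congrArg Subtype.val ((MulEquiv.ofBijective ψ hψ).apply_symm_apply x)
      hker := by rw [hker]; exact hOp
      hC := by rw [hker, ← hF]; exact CfsgLib.Inv.centralizer_genFitting_le
      hD2 := hsqE, hp := hpE, hconj := hconj, hlift := hlift
      hPn := fun p hp g => hPn.conj_mem p hp g
      hP3 := hP3, hout := hout, hin := hin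
      hgen := by
        rw [eq_top_iff, ← hclQ]
        exact Subgroup.closure_mono (by rintro _ ⟨d, hd, rfl⟩; exact hordE d hd) }
  obtain ⟨e₁, he₁, hne⟩ : ∃ d ∈ E, π d₀ ≠ π d := by
    by_contra hc
    push Not at hc
    apply hnotTwo
    have hz : ∀ q : H ⧸ Cfsg.pCore 2 H, q ∈ Subgroup.zpowers (π d₀) := by
      intro q
      have : Subgroup.closure (π '' E) ≤ Subgroup.zpowers (π d₀) := by
        rw [Subgroup.closure_le]
        rintro _ ⟨d, hd, rfl⟩
        rw [← hc d hd]; exact Subgroup.mem_zpowers _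
      exact this (hclQ ▸ Subgroup.mem_top q)
    intro x
    obtain ⟨n, hn⟩ := hz (π x)
    have hx2 : x ^ 2 ∈ Cfsg.pCore 2 H := by
      refine (QuotientGroup.eq_one_iff _).1 (?_ : π (x ^ 2) = 1)
      rw [map_pow, ← hn, ← zpow_natCast, ← zpow_mul, mul_comm, zpow_mul, zpow_natCast, pow_two, ← map_mul,
        hsqE d₀ hd₀, map_one, one_zpow]
    obtain ⟨j, hj⟩ := hOp ⟨_, hx2⟩
    refine ⟨j + 1, ?_⟩
    rw [pow_succ', pow_mul]
    exact congrArg Subtype.val hj
  rcases CfsgLib.Spor.TwoThreeTwo.identify S (π d₀) (π e₁) hord0 (hordE e₁ he₁) hne with h | h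
  · exact Or.inl h
  · let F := GaloisField 2 2
    haveI : Fintype F := Fintype.ofFinite F
    have hF4 : Fintype.card F = 4 := by
      rw [← Nat.card_eq_fintype_card, GaloisField.card 2 2 (by norm_num)]; norm_num
    exact Or.inr ⟨F, inferInstance, inferInstance, hF4, h F hF4⟩

end Cfsg.Agent.S5559
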