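import Cfsg.Statements.S5562
import Mathlib
-- import your own Cfsg.Agent.* helpers here

set_option autoImplicit false
open Cfsg

namespace Cfsg.Agent.S5562

/-- Let G be a finite group, d an involution of G whose conjugates pairwise have products of odd order, and x any involution of G. Then the conjugacy class of d is the disjoint union, over the conjugates a of d commuting with x, of the sets of conjugates of d commuting with ax: every conjugate of d commutes with ax for exactly one conjugate a of d that commutes with x. -/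
theorem result {G : Type*} [Group G] [Finite G] (d : G) (hd : orderOf d = 2)
    (hodd : ∀ a ∈ conjugatesOf d, ∀ b ∈ conjugatesOf d, Odd (orderOf (a * b)))
    (x : G) (hx : orderOf x = 2) :
    ∀ e ∈ conjugatesOf d,
      ∃! a : G, a ∈ conjugatesOf d ∧ Commute a x ∧ Commute e (a * x) := by
  intro e he
  have hconj : ∀ g : G, ∀ a ∈ conjugatesOf d, g * a * g⁻¹ ∈ conjugatesOf d := fun g a ha =>
    IsConj.trans ha (isConj_iff.2 ⟨g, rfl⟩)
  have inv : ∀ a ∈ conjugatesOf d, a * a = 1 ∧ a⁻¹ = a := by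
    intro a ha
    obtain ⟨g, rfl⟩ := isConj_iff.1 (show IsConj d a from ha)
    have h1 : (g * d * g⁻¹) * (g * d * g⁻¹) = 1 := by
      rw [← pow_two, conj_pow, ← hd, pow_orderOf_eq_one]; group
    exact ⟨h1, inv_eq_of_mul_eq_one_right h1⟩
  have hxx : x * x = 1 := by rw [← pow_two, ← hx]; exact pow_orderOf_eq_one x
  have hxi : x⁻¹ = x := inv_eq_of_mul_eq_one_right hxx
  obtain ⟨he2, hei⟩ := inv e he
  set f := x * e * x with hf
  have hfc : f ∈ conjugatesOf d := by
    have := hconj x e he; rwa [hxi] at this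
  obtain ⟨k, hk⟩ := hodd e he f hfc
  set ρ := e * f with hρ
  have hρo : ρ ^ (2 * k + 1) = 1 := by rw [← hk]; exact pow_orderOf_eq_one ρ
  have hxρ : ∀ i : ℕ, x * ρ ^ i * x⁻¹ = (ρ ^ i)⁻¹ := fun i => by
    rw [← conj_pow, ← inv_pow]
    congr 1
    rw [hρ, mul_inv_rev, hei, (inv f hfc).2, hxi, hf]
    calc x * (e * (x * e * x)) * x = (x * e * x) * e * (x * x) := by group
      _ = _ := by rw [hxx, mul_one]
  have heρ : ∀ i : ℕ, e * ρ ^ i * e⁻¹ = (ρ ^ i)⁻¹ := fun i => by
    rw [← conj_pow, ← inv_pow]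
    congr 1
    rw [hρ, mul_inv_rev, hei, (inv f hfc).2, ← mul_assoc e e f, he2, one_mul]
  -- the middle element
  set a := e * ρ ^ (k + 1) with ha
  have hac : a ∈ conjugatesOf d := by
    have h1 : ρ ^ (k * (k + 1)) * e * (ρ ^ (k * (k + 1)))⁻¹ = a := by
      set i := k * (k + 1) with hi
      have h2 : ρ ^ i * e = e * (ρ ^ i)⁻¹ := by
        rw [← heρ i, hei, ← mul_assoc, ← mul_assoc, he2, one_mul]
      have h3 : (ρ ^ i)⁻¹ * (ρ ^ i)⁻¹ = ρ ^ (k + 1) := by
        rw [← mul_inv_rev]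
        refine inv_eq_of_mul_eq_one_right ?_
        rw [← pow_add, ← pow_add, show i + i + (k + 1) = (2 * k + 1) * (k + 1) by rw [hi]; ring, pow_mul,
          hρo, one_pow]
      rw [h2, mul_assoc, h3]
    exact h1 ▸ hconj _ e he
  have haswap : a * e * a = f := by
    rw [ha]
    have h2 : e * ρ ^ (k + 1) * e = (ρ ^ (k + 1))⁻¹ := by rw [← heρ, hei]
    calc e * ρ ^ (k + 1) * e * (e * ρ ^ (k + 1)) = e * ρ ^ (k + 1) * (e * e) * ρ ^ (k + 1) := by group
      _ = e * (ρ ^ (k + 1) * ρ ^ (k + 1)) := by rw [he2]; group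
      _ = e * (ρ * ρ ^ (2 * k + 1)) := by rw [← pow_add, ← pow_succ']; congr 2; omega
      _ = f := by rw [hρo, mul_one, hρ, ← mul_assoc, he2, one_mul]
  have hax : Commute a x := by
    have h1 : x * a * x⁻¹ = a := by
      calc x * a * x⁻¹ = (x * e * x) * (x * ρ ^ (k + 1) * x⁻¹) := by
            rw [ha]; simp only [mul_assoc]; rw [← mul_assoc x x, hxx, one_mul]
        _ = e * ρ * (ρ ^ (k + 1))⁻¹ := by rw [hxρ, hρ, ← hf, ← mul_assoc e e f, he2, one_mul]
        _ = a := by
          rw [ha, mul_assoc]; congr 1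
          rw [mul_inv_eq_iff_eq_mul, ← pow_add, show k + 1 + (k + 1) = (2 * k + 1) + 1 by omega, pow_succ,
            hρo, one_mul]
    rw [mul_inv_eq_iff_eq_mul] at h1
    exact h1.symm
  have hcomm : ∀ b ∈ conjugatesOf d, Commute b x → (Commute e (b * x) ↔ b * e * b = f) := by
    intro b hb hbx
    obtain ⟨hb2, hbi⟩ := inv b hb
    have h1 : (b * x) * e * (b * x)⁻¹ = b * f * b := by rw [mul_inv_rev, hbi, hxi, hf]; group
    constructor
    · intro hc
      rw [← hc.eq, mul_inv_cancel_right] at h1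
      conv_lhs => rw [h1]
      calc b * (b * f * b) * b = (b * b) * f * (b * b) := by group
        _ = f := by rw [hb2, one_mul, mul_one]
    · intro hc
      rw [← hc, show b * (b * e * b) * b = (b * b) * e * (b * b) by group, hb2, one_mul, mul_one,
        mul_inv_eq_iff_eq_mul] at h1
      exact h1.symm
  refine ⟨a, ⟨hac, hax, (hcomm a hac hax).2 haswap⟩, ?_⟩
  rintro b ⟨hb, hbx, hbe⟩
  have hbs := (hcomm b hb hbx).1 hbe
  obtain ⟨hb2, hbi⟩ := inv b hb
  obtain ⟨ha2, hai⟩ := inv a hac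
  set σ := a * b with hσ
  have hσe : Commute σ e := by
    have : σ * e * σ⁻¹ = e := by
      rw [hσ, mul_inv_rev, hai, hbi, show a * b * e * (b * a) = a * (b * e * b) * a by group, hbs, ← haswap,
        show a * (a * e * a) * a = (a * a) * e * (a * a) by group, ha2, one_mul, mul_one]
    rwa [mul_inv_eq_iff_eq_mul] at this
  have hσa : a * σ * a⁻¹ = σ⁻¹ := by
    rw [hσ, hai, mul_inv_rev, hbi, hai, ← mul_assoc a a b, ha2, one_mul]
  -- an odd power gives the inverse
  obtain ⟨m, hm⟩ := hodd a hac e he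
  have hmul : (a * e) * σ * (a * e)⁻¹ = σ⁻¹ := by
    rw [mul_inv_rev, show a * e * σ * (e⁻¹ * a⁻¹) = a * (e * σ * e⁻¹) * a⁻¹ by group, ← hσe.eq,
      mul_inv_cancel_right, hσa]
  have hpow : ∀ w : G, w * σ * w⁻¹ = σ⁻¹ → ∀ i : ℕ, w ^ (2 * i + 1) * σ * (w ^ (2 * i + 1))⁻¹ = σ⁻¹ := by
    intro w hw i
    induction i with
    | zero => simpa using hw
    | succ i ih =>
      rw [show 2 * (i + 1) + 1 = (2 * i + 1) + 1 + 1 by omega, pow_succ', pow_succ']
      generalize w ^ (2 * i + 1) = p at ih ⊢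
      rw [show w * (w * p) * σ * (w * (w * p))⁻¹ = w * (w * (p * σ * p⁻¹) * w⁻¹) * w⁻¹ by group,
        ih, ← conj_inv, hw, inv_inv, hw]
  have h2 : σ = σ⁻¹ := by
    have := hpow _ hmul m
    rwa [← hm, pow_orderOf_eq_one, one_mul, inv_one, mul_one] at this
  have hσ2 : σ ^ 2 = 1 := by rw [pow_two]; exact mul_eq_one_iff_eq_inv.2 h2
  obtain ⟨j, hj⟩ := hodd a hac b hb
  have : σ = 1 := by
    have h4 := pow_orderOf_eq_one σ
    rw [hj, pow_succ, pow_mul, hσ2, one_pow, one_mul] at h4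
    exact h4
  rw [hσ, mul_eq_one_iff_eq_inv, hbi] at this
  exact this.symm

end Cfsg.Agent.S5562
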