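import Cfsg.Statements.S5595
import Cfsg.Agent.Spor.LargeSymm
-- import your own Cfsg.Agent.* helpers here

set_option autoImplicit false
open Cfsg

namespace Cfsg.Agent.S5595

/-- Setting: `z` is an involution of the finite group `G`; for each element `x`, `Q x` denotes the largest normal 2-subgroup of the centralizer of `x`; `Q z` is extraspecial and contains its own centralizer in `G` (a large extraspecial 2-subgroup in this sense). Call the conjugates of `z` singular, and say that singular `x` is orthogonal to singular `y` when `x ∈ Q y`. Then orthogonality is symmetric: if a conjugate `x` of `z` lies in `Q z`, then `z` lies in `Q x`. -/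
theorem result {G : Type*} [Group G] [Finite G]
    (Q : G → Subgroup G)
    (hQ : ∀ x : G, Q x = (Cfsg.pCore 2 ↥(Subgroup.centralizer ({x} : Set G))).map (Subgroup.centralizer ({x} : Set G)).subtype)
    (z : G) (hz : orderOf z = 2) (hE : Cfsg.IsExtraspecial 2 ↥(Q z))
    (hC : Subgroup.centralizer ((Q z : Subgroup G) : Set G) ≤ Q z)
    (g : G) (hx : g * z * g⁻¹ ∈ Q z) : z ∈ Q (g * z * g⁻¹) := by
  classical
  set x := g * z * g⁻¹ with hxdef
  by_cases hne : x = z
  · rw [hne] at hx ⊢; exact hx
  have hQC : Q z ≤ Subgroup.centralizer ({z} : Set G) := by rw [hQ]; exact Subgroup.map_subtype_le _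
  have hN : Subgroup.centralizer ({z} : Set G) ≤ Subgroup.normalizer (Q z : Set G) := by
    intro c hc
    rw [Subgroup.mem_normalizer_iff]
    have hcz : c * z * c⁻¹ = z := mul_inv_eq_iff_eq_mul.2 (Subgroup.mem_centralizer_singleton_iff.1 hc)
    have hcz' : c⁻¹ * z * c⁻¹⁻¹ = z := by rw [inv_inv, mul_assoc, ← Subgroup.mem_centralizer_singleton_iff.1 hc, inv_mul_cancel_left]
    intro w
    constructor
    · intro hw
      rw [hQ] at hw ⊢
      have h := CfsgLib.Spor.LargeSymm.pCoreOf_conj c z hw
      rwa [hcz] at h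
    · intro hw
      rw [hQ] at hw ⊢
      have h := CfsgLib.Spor.LargeSymm.pCoreOf_conj c⁻¹ z hw
      rw [hcz'] at h
      simpa [mul_assoc] using h
  obtain ⟨m, -, -, -, hm1, hm2⟩ := CfsgLib.Spor.LargeSymm.exists_swap (Q z) z x g hE hQC hN hC hz hx hxdef.symm hne
  rw [hQ] at hx ⊢
  have h := CfsgLib.Spor.LargeSymm.pCoreOf_conj m z hx
  rwa [hm1, hm2] at h

end Cfsg.Agent.S5595
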