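import Cfsg.Statements.S5599
import Cfsg.Agent.Spor.M24Simple
-- import your own Cfsg.Agent.* helpers here

set_option autoImplicit false
open scoped Pointwise
open Cfsg

namespace Cfsg.Agent.S5599

open scoped Pointwise

theorem move {k : ℕ} (hk : k ≤ 5) (x y : Fin k → GolayPt) (hx : Function.Injective x) (hy : Function.Injective y) :
    ∃ h ∈ M24, ∀ i, h (x i) = y i := by
  obtain ⟨g, hg⟩ := CfsgLib.Spor.M24Simple.m24_move hk x y hx hy
  exact ⟨g.1, g.2, hg⟩

theorem mem22 {x : Equiv.Perm GolayPt} : x ∈ Spor.M22 ↔ x ∈ M24 ∧ x none = none ∧ x (some 0) = some 0 := by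
  simp [Spor.M22, Spor.M23, MulAction.mem_stabilizer_iff, Equiv.Perm.smul_def, and_assoc]

theorem no_swap {a b : GolayPt} (hab : a ≠ b) : Equiv.swap a b ∉ M24 := by
  intro h
  have htop : M24 = ⊤ := by
    rw [eq_top_iff, ← Equiv.Perm.closure_isSwap, Subgroup.closure_le]
    rintro _ ⟨c, d, hcd, rfl⟩
    obtain ⟨τ, hτ, hx⟩ := move (k := 2) (by norm_num) ![a, b] ![c, d]
      (by intro i j; fin_cases i <;> fin_cases j <;> simp [hab, hab.symm])
      (by intro i j; fin_cases i <;> fin_cases j <;> simp [hcd, hcd.symm])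
    have h1 : τ * Equiv.swap a b * τ⁻¹ = Equiv.swap c d := by
      have e : τ * Equiv.swap a b * τ⁻¹ = Equiv.swap (τ a) (τ b) := by
        rw [Equiv.mul_swap_eq_swap_mul, mul_inv_cancel_right]
      rw [e, show τ a = c from hx 0, show τ b = d from hx 1]
    rw [← h1]
    exact mul_mem (mul_mem hτ h) (inv_mem hτ)
  have h1 := CfsgLib.Spor.card_M24
  rw [htop, Subgroup.card_top, Nat.card_eq_fintype_card, Fintype.card_perm] at h1
  have h24 : Fintype.card GolayPt = 24 := by decide
  rw [h24] at h1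
  norm_num [Nat.factorial] at h1

/-- In the automorphism group of the length-24 code, the two-point Mathieu group (permutations of the code's group fixing the extra point and the residue 0) has index 2 in the setwise stabiliser of that pair of points, and an element of the code's group interchanging the two points normalises the two-point group and induces on it, by conjugation, an automorphism that is not inner. -/
theorem result (g : Equiv.Perm Cfsg.GolayPt) (hg : g ∈ Cfsg.M24) (h₁ : g none = some 0) (h₂ : g (some 0) = none) : Cfsg.Spor.M22.relIndex (Cfsg.M24 ⊓ MulAction.stabilizer (Equiv.Perm Cfsg.GolayPt) ({none, some 0} : Finset Cfsg.GolayPt)) = 2 ∧ (∀ x ∈ Cfsg.Spor.M22, g * x * g⁻¹ ∈ Cfsg.Spor.M22) ∧ ¬ ∃ h ∈ Cfsg.Spor.M22, ∀ x ∈ Cfsg.Spor.M22, g * x * g⁻¹ = h * x * h⁻¹ := by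
  classical
  have hne : (none : GolayPt) ≠ some 0 := by simp
  set P : Finset GolayPt := {none, some 0} with hP
  set S := M24 ⊓ MulAction.stabilizer (Equiv.Perm GolayPt) P with hS
  have hgP : g ∈ MulAction.stabilizer (Equiv.Perm GolayPt) P := by
    rw [MulAction.mem_stabilizer_iff]
    ext y
    simp only [hP, Finset.smul_finset_insert, Finset.smul_finset_singleton, Equiv.Perm.smul_def, h₁, h₂,
      Finset.mem_insert, Finset.mem_singleton]
    exact or_comm
  have hpair : ∀ x ∈ S, (x none = none ∧ x (some 0) = some 0) ∨ (x none = some 0 ∧ x (some 0) = none) := by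
    intro x hx
    have h := MulAction.mem_stabilizer_iff.1 hx.2
    have hn : x none ∈ P := h ▸ Finset.smul_mem_smul_finset (show none ∈ P by simp [hP])
    have hs : x (some 0) ∈ P := h ▸ Finset.smul_mem_smul_finset (show some 0 ∈ P by simp [hP])
    simp only [hP, Finset.mem_insert, Finset.mem_singleton] at hn hs
    rcases hn with e | e <;> rcases hs with e' | e'
    · exact absurd (x.injective (e.trans e'.symm)) hne
    · exact Or.inl ⟨e, e'⟩
    · exact Or.inr ⟨e, e'⟩
    · exact absurd (x.injective (e.trans e'.symm)) hne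
  have h22 : Spor.M22 ≤ S := fun x hx => by
    obtain ⟨h, a, b⟩ := mem22.1 hx
    refine ⟨h, MulAction.mem_stabilizer_iff.2 ?_⟩
    simp only [hP, Finset.smul_finset_insert, Finset.smul_finset_singleton, Equiv.Perm.smul_def, a, b]
  have hginv : g⁻¹ none = some 0 ∧ g⁻¹ (some 0) = none :=
    ⟨Equiv.Perm.inv_eq_iff_eq.2 h₂.symm, Equiv.Perm.inv_eq_iff_eq.2 h₁.symm⟩
  refine ⟨?_, fun x hx => ?_, ?_⟩
  · rw [Subgroup.relIndex, Subgroup.index_eq_two_iff]
    refine ⟨⟨g, hg, hgP⟩, fun x => ?_⟩
    rcases hpair x.1 x.2 with ⟨a, b⟩ | ⟨a, b⟩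
    · refine Or.inr ⟨Subgroup.mem_subgroupOf.2 (mem22.2 ⟨x.2.1, a, b⟩), fun h => ?_⟩
      have h' := (mem22.1 (Subgroup.mem_subgroupOf.1 h)).2.1
      rw [Subgroup.coe_mul, Equiv.Perm.mul_apply, h₁, b] at h'
      exact hne h'.symm
    · refine Or.inl ⟨Subgroup.mem_subgroupOf.2 (mem22.2 ⟨(mul_mem x.2 (⟨hg, hgP⟩ : g ∈ S)).1, ?_, ?_⟩), fun h => ?_⟩
      · rw [Subgroup.coe_mul, Equiv.Perm.mul_apply, h₁, b]
      · rw [Subgroup.coe_mul, Equiv.Perm.mul_apply, h₂, a]
      · have h' := (mem22.1 (Subgroup.mem_subgroupOf.1 h)).2.1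
        rw [a] at h'
        exact hne h'.symm
  · obtain ⟨hx0, a, b⟩ := mem22.1 hx
    refine mem22.2 ⟨mul_mem (mul_mem hg hx0) (inv_mem hg), ?_, ?_⟩
    · rw [Equiv.Perm.mul_apply, Equiv.Perm.mul_apply, hginv.1, b, h₂]
    · rw [Equiv.Perm.mul_apply, Equiv.Perm.mul_apply, hginv.2, a, h₁]
  · rintro ⟨h, hh, hconj⟩
    obtain ⟨hh0, a, b⟩ := mem22.1 hh
    set k := h⁻¹ * g with hk
    have hkn : k none = some 0 := by
      rw [hk, Equiv.Perm.mul_apply, h₁]; exact Equiv.Perm.inv_eq_iff_eq.2 b.symm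
    have hks : k (some 0) = none := by
      rw [hk, Equiv.Perm.mul_apply, h₂]; exact Equiv.Perm.inv_eq_iff_eq.2 a.symm
    have hcomm : ∀ x ∈ Spor.M22, ∀ y, x y = y → x (k y) = k y := by
      intro x hx y hy
      have e : k * x = x * k := by
        rw [hk, mul_assoc, inv_mul_eq_iff_eq_mul]
        calc g * x = g * x * g⁻¹ * g := by group
          _ = h * (x * (h⁻¹ * g)) := by rw [hconj x hx]; group
      have := congrArg (fun p : Equiv.Perm GolayPt => p y) e
      simp only [Equiv.Perm.mul_apply, hy] at this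
      exact this.symm
    refine no_swap hne ?_
    have hkeq : k = Equiv.swap none (some 0) := by
      refine Equiv.ext fun y => ?_
      by_cases hyn : y = none
      · rw [hyn, hkn, Equiv.swap_apply_left]
      by_cases hys : y = some 0
      · rw [hys, hks, Equiv.swap_apply_right]
      rw [Equiv.swap_apply_of_ne_of_ne hyn hys]
      by_contra hmove
      have hc1 : k y ≠ none := fun e => hys (k.injective (e.trans hks.symm))
      have hc2 : k y ≠ some 0 := fun e => hyn (k.injective (e.trans hkn.symm))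
      obtain ⟨c, hc⟩ : (Finset.univ \ ({none, some 0, y, k y} : Finset GolayPt)).Nonempty := by
        rw [← Finset.card_pos, Finset.card_sdiff_of_subset (Finset.subset_univ _), Finset.card_univ]
        have h4 : ({none, some 0, y, k y} : Finset GolayPt).card ≤ 4 := Finset.card_le_four
        have h24 : Fintype.card GolayPt = 24 := by decide
        omega
      simp only [Finset.mem_sdiff, Finset.mem_univ, true_and, Finset.mem_insert, Finset.mem_singleton, not_or] at hc
      obtain ⟨hc3, hc4, hc5, hc6⟩ := hc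
      obtain ⟨x, hx, hxi⟩ := move (k := 4) (by norm_num) ![none, some 0, y, k y] ![none, some 0, y, c]
        (CfsgLib.Spor.M24Simple.inj_four hne (Ne.symm hyn) hc1.symm (Ne.symm hys) hc2.symm (Ne.symm hmove))
        (CfsgLib.Spor.M24Simple.inj_four hne (Ne.symm hyn) (Ne.symm hc3) (Ne.symm hys) (Ne.symm hc4) (Ne.symm hc5))
      have h1 := hcomm x (mem22.2 ⟨hx, hxi 0, hxi 1⟩) y (hxi 2)
      exact hc6 ((hxi 3).symm.trans h1)
    rw [← hkeq, hk]
    exact mul_mem (inv_mem hh0) hg

end Cfsg.Agent.S5599
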