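import Cfsg.Statements.S5600
import Cfsg.Agent.Spor.Six
-- import your own Cfsg.Agent.* helpers here

set_option autoImplicit false
open scoped Pointwise
open Cfsg

namespace Cfsg.Agent.S5600

open CfsgLib.Spor
open scoped Pointwise

/-- Although the group of the length-24 code is only 5-transitive on the 24 points, it induces the full symmetric group on every 6-element subset: every permutation of a 6-set E is the restriction of an element of the group mapping E to itself. The pointwise stabiliser of E has order 16 when E lies in an octad and order 3 otherwise; in the latter case the setwise stabiliser of E has order 2160. -/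
theorem result (E : Finset Cfsg.GolayPt) (hE : E.card = 6) : (∀ σ : Equiv.Perm ↥E, ∃ g ∈ Cfsg.M24, ∀ p : ↥E, g p = σ p) ∧ ((∃ o ∈ Cfsg.octads, E ⊆ o) → Nat.card {g : Equiv.Perm Cfsg.GolayPt // g ∈ Cfsg.M24 ∧ ∀ p ∈ E, g p = p} = 16) ∧ ((¬ ∃ o ∈ Cfsg.octads, E ⊆ o) → Nat.card {g : Equiv.Perm Cfsg.GolayPt // g ∈ Cfsg.M24 ∧ ∀ p ∈ E, g p = p} = 3 ∧ Nat.card ↥(MulAction.stabilizer Cfsg.M24 E) = 2160) := by
  obtain ⟨hin, hout⟩ := six_check
  have conjFix : ∀ (τ : Equiv.Perm Cfsg.GolayPt), τ ∈ Cfsg.M24 → ∀ A : Finset Cfsg.GolayPt,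
      Nat.card {g : Equiv.Perm Cfsg.GolayPt // g ∈ Cfsg.M24 ∧ ∀ p ∈ τ • A, g p = p} = Nat.card ↥(pfix A) := by
    intro τ hτ A
    refine Nat.card_congr
      { toFun := fun g => ⟨τ⁻¹ * g.1 * τ, (octFix_conj hτ).1 (mem_pfix.2 g.2)⟩
        invFun := fun g => ⟨τ * g.1 * τ⁻¹, mem_pfix.1 ((octFix_conj hτ).2 (by simpa [mul_assoc] using g.2))⟩
        left_inv := fun g => Subtype.ext (show τ * (τ⁻¹ * g.1 * τ) * τ⁻¹ = g.1 by group)
        right_inv := fun g => Subtype.ext (show τ⁻¹ * (τ * g.1 * τ⁻¹) * τ = g.1 by group) }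
  have main : ∀ (A n : ℕ) (ls : List Level), pop A = 6 → transOK ls A 6 = true →
      ((chainTop ls).all fun g => inM24 g.P) = true → chainSize ls = 720 * n →
      Nat.card ↥(pfix (ofMask A)) = n → ∀ τ ∈ Cfsg.M24, τ • ofMask A = E →
      (∀ σ : Equiv.Perm ↥E, ∃ g ∈ Cfsg.M24, ∀ p : ↥E, g p = σ p) ∧
      Nat.card {g : Equiv.Perm Cfsg.GolayPt // g ∈ Cfsg.M24 ∧ ∀ p ∈ E, g p = p} = n ∧
      Nat.card ↥(MulAction.stabilizer Cfsg.M24 E) = 720 * n := by
    rintro A n ls hA hok hM hn hfix τ hτ rfl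
    obtain ⟨h1, h2⟩ := six_core hA hok hM hn hfix
    refine ⟨fun σ => ?_, (conjFix τ hτ _).trans hfix, (Nat.card_congr (stabEquiv hτ _).toEquiv).trans h1⟩
    let q : ↥(ofMask A) ≃ ↥(τ • ofMask A) :=
      { toFun := fun x => ⟨τ x, mem_smul_iff.2 x.2⟩
        invFun := fun y => ⟨τ⁻¹ y, (mem_smul_iff (σ := τ)).1 (by
          rw [Equiv.Perm.coe_inv, Equiv.apply_symm_apply]; exact y.2)⟩
        left_inv := fun x => Subtype.ext (by simp)
        right_inv := fun y => Subtype.ext (by simp) }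
    obtain ⟨g, hg, hgp⟩ := h2 ((q.trans σ).trans q.symm)
    refine ⟨τ * g * τ⁻¹, mul_mem (mul_mem hτ hg) (inv_mem hτ), fun p => ?_⟩
    show τ (g (τ⁻¹ p)) = σ p
    have := hgp (q.symm p)
    simp only [Equiv.trans_apply, Equiv.apply_symm_apply] at this
    rw [show (τ⁻¹ (p : Cfsg.GolayPt)) = ((q.symm p : ↥(ofMask A)) : Cfsg.GolayPt) from rfl, this]
    show τ (τ⁻¹ (σ p : Cfsg.GolayPt)) = σ p
    simp
  rcases six_std hE with ⟨hc, τ, hτ, he⟩ | ⟨hc, τ, hτ, he⟩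
  · obtain ⟨a, b, -⟩ := main sixInX 16 sixInC six_pops.1 hin.1 hin.2.1 hin.2.2.1 pfix_sixIn τ hτ he
    exact ⟨a, fun _ => b, fun h => absurd hc h⟩
  · obtain ⟨a, b, c⟩ := main sixOutX 3 sixOutC six_pops.2.1 hout.1 hout.2.1 hout.2.2.1 pfix_sixOut τ hτ he
    exact ⟨a, fun h => absurd h hc, fun _ => ⟨b, c⟩⟩

end Cfsg.Agent.S5600
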