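import Cfsg.Statements.S5610
import Cfsg.Agent.Spor.SubStd
import Cfsg.Agent.Spor.SubOctTrio
import Cfsg.Agent.Spor.SubOctSext
-- import your own Cfsg.Agent.* helpers here

set_option autoImplicit false
open scoped Pointwise
open Cfsg

namespace Cfsg.Agent.S5610

open CfsgLib.Spor
open scoped Pointwise

/-- The stabiliser of an octad in the group of the length-24 code has exactly three orbits on the 3795 trios, of sizes 15, 420 and 3360, and exactly three orbits on the 1771 sextets, of sizes 35, 840 and 896. -/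
theorem result (o : Finset Cfsg.GolayPt) (ho : o ∈ Cfsg.octads) : (∃ X₁ ∈ Cfsg.trios, ∃ X₂ ∈ Cfsg.trios, ∃ X₃ ∈ Cfsg.trios, (MulAction.orbit ↥(MulAction.stabilizer Cfsg.M24 o) X₁).ncard = 15 ∧ (MulAction.orbit ↥(MulAction.stabilizer Cfsg.M24 o) X₂).ncard = 420 ∧ (MulAction.orbit ↥(MulAction.stabilizer Cfsg.M24 o) X₃).ncard = 3360 ∧ Cfsg.trios = MulAction.orbit ↥(MulAction.stabilizer Cfsg.M24 o) X₁ ∪ MulAction.orbit ↥(MulAction.stabilizer Cfsg.M24 o) X₂ ∪ MulAction.orbit ↥(MulAction.stabilizer Cfsg.M24 o) X₃) ∧ (∃ Y₁ ∈ Cfsg.sextets, ∃ Y₂ ∈ Cfsg.sextets, ∃ Y₃ ∈ Cfsg.sextets, (MulAction.orbit ↥(MulAction.stabilizer Cfsg.M24 o) Y₁).ncard = 35 ∧ (MulAction.orbit ↥(MulAction.stabilizer Cfsg.M24 o) Y₂).ncard = 840 ∧ (MulAction.orbit ↥(MulAction.stabilizer Cfsg.M24 o) Y₃).ncard = 896 ∧ Cfsg.sextets = MulAction.orbit ↥(MulAction.stabilizer Cfsg.M24 o) Y₁ ∪ MulAction.orbit ↥(MulAction.stabilizer Cfsg.M24 o)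 Y₂ ∪ MulAction.orbit ↥(MulAction.stabilizer Cfsg.M24 o) Y₃) := by
  obtain ⟨σ, hσ, rfl⟩ := octad_std ho
  refine ⟨?_, ?_⟩
  · refine ⟨σ • famK.dec otX0, trioT.smul_mem σ hσ _ ot_in0, σ • famK.dec otX1, trioT.smul_mem σ hσ _ ot_in1, σ • famK.dec otX2, trioT.smul_mem σ hσ _ ot_in2, ?_, ?_, ?_, ?_⟩
    · rw [ncard_orbit_stab_std hσ stab_O0_eq, ot_exact0.2.2]
    · rw [ncard_orbit_stab_std hσ stab_O0_eq, ot_exact1.2.2]
    · rw [ncard_orbit_stab_std hσ stab_O0_eq, ot_exact2.2.2]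
    · conv_lhs => rw [← show trioT.carrier = Cfsg.trios from rfl, ← smul_carrier trioT hσ, show trioT.carrier = Cfsg.trios from rfl, ot_cover]
      simp only [Set.smul_set_union, ← orbit_stab_std hσ stab_O0_eq]
  · refine ⟨σ • famK.dec osX0, sextT.smul_mem σ hσ _ os_in0, σ • famK.dec osX1, sextT.smul_mem σ hσ _ os_in1, σ • famK.dec osX2, sextT.smul_mem σ hσ _ os_in2, ?_, ?_, ?_, ?_⟩
    · rw [ncard_orbit_stab_std hσ stab_O0_eq, os_exact0.2.2]
    · rw [ncard_orbit_stab_std hσ stab_O0_eq, os_exact1.2.2]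
    · rw [ncard_orbit_stab_std hσ stab_O0_eq, os_exact2.2.2]
    · conv_lhs => rw [← show sextT.carrier = Cfsg.sextets from rfl, ← smul_carrier sextT hσ, show sextT.carrier = Cfsg.sextets from rfl, os_cover]
      simp only [Set.smul_set_union, ← orbit_stab_std hσ stab_O0_eq]

end Cfsg.Agent.S5610
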