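import Cfsg.Statements.S5611
import Cfsg.Agent.Spor.SubStd
import Cfsg.Agent.Spor.SubSextOct
import Cfsg.Agent.Spor.SubSextTrio
-- import your own Cfsg.Agent.* helpers here

set_option autoImplicit false
open scoped Pointwise
open Cfsg

namespace Cfsg.Agent.S5611

open CfsgLib.Spor
open scoped Pointwise

/-- The stabiliser of a sextet in the group of the length-24 code has exactly three orbits on the 759 octads, of sizes 15, 360 and 384, and exactly four orbits on the 3795 trios, of sizes 15, 180, 720 and 2880. -/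
theorem result (S : Finset (Finset Cfsg.GolayPt)) (hS : S ∈ Cfsg.sextets) : (∃ X₁ ∈ Cfsg.octads, ∃ X₂ ∈ Cfsg.octads, ∃ X₃ ∈ Cfsg.octads, (MulAction.orbit ↥(MulAction.stabilizer Cfsg.M24 S) X₁).ncard = 15 ∧ (MulAction.orbit ↥(MulAction.stabilizer Cfsg.M24 S) X₂).ncard = 360 ∧ (MulAction.orbit ↥(MulAction.stabilizer Cfsg.M24 S) X₃).ncard = 384 ∧ Cfsg.octads = MulAction.orbit ↥(MulAction.stabilizer Cfsg.M24 S) X₁ ∪ MulAction.orbit ↥(MulAction.stabilizer Cfsg.M24 S) X₂ ∪ MulAction.orbit ↥(MulAction.stabilizer Cfsg.M24 S) X₃) ∧ (∃ Y₁ ∈ Cfsg.trios, ∃ Y₂ ∈ Cfsg.trios, ∃ Y₃ ∈ Cfsg.trios, ∃ Y₄ ∈ Cfsg.trios, (MulAction.orbit ↥(MulAction.stabilizer Cfsg.M24 S) Y₁).ncard = 15 ∧ (MulAction.orbit ↥(MulAction.stabilizer Cfsg.M24 S) Y₂).ncard = 180 ∧ (MulAction.orbit ↥(MulAction.stabilizer Cfsg.M24 S) Y₃).ncard = 720 ∧ (MulAction.orbit ↥(MulAction.stabilizer Cfsg.M24 S) Y₄).ncard = 2880 ∧ Cfsg.trios = MulAction.orbit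 ↥(MulAction.stabilizer Cfsg.M24 S) Y₁ ∪ MulAction.orbit ↥(MulAction.stabilizer Cfsg.M24 S) Y₂ ∪ MulAction.orbit ↥(MulAction.stabilizer Cfsg.M24 S) Y₃ ∪ MulAction.orbit ↥(MulAction.stabilizer Cfsg.M24 S) Y₄) := by
  obtain ⟨σ, hσ, rfl⟩ := sextet_std hS
  refine ⟨?_, ?_⟩
  · refine ⟨σ • maskK.dec soX0, octT.smul_mem σ hσ _ so_in0, σ • maskK.dec soX1, octT.smul_mem σ hσ _ so_in1, σ • maskK.dec soX2, octT.smul_mem σ hσ _ so_in2, ?_, ?_, ?_, ?_⟩
    · rw [ncard_orbit_stab_std hσ stab_S0_eq, so_exact0.2.2]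
    · rw [ncard_orbit_stab_std hσ stab_S0_eq, so_exact1.2.2]
    · rw [ncard_orbit_stab_std hσ stab_S0_eq, so_exact2.2.2]
    · conv_lhs => rw [← show octT.carrier = Cfsg.octads from rfl, ← smul_carrier octT hσ, show octT.carrier = Cfsg.octads from rfl, so_cover]
      simp only [Set.smul_set_union, ← orbit_stab_std hσ stab_S0_eq]
  · refine ⟨σ • famK.dec stX0, trioT.smul_mem σ hσ _ st_in0, σ • famK.dec stX1, trioT.smul_mem σ hσ _ st_in1, σ • famK.dec stX2, trioT.smul_mem σ hσ _ st_in2, σ • famK.dec stX3, trioT.smul_mem σ hσ _ st_in3, ?_, ?_, ?_, ?_, ?_⟩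
    · rw [ncard_orbit_stab_std hσ stab_S0_eq, st_exact0.2.2]
    · rw [ncard_orbit_stab_std hσ stab_S0_eq, st_exact1.2.2]
    · rw [ncard_orbit_stab_std hσ stab_S0_eq, st_exact2.2.2]
    · rw [ncard_orbit_stab_std hσ stab_S0_eq, st_exact3.2.2]
    · conv_lhs => rw [← show trioT.carrier = Cfsg.trios from rfl, ← smul_carrier trioT hσ, show trioT.carrier = Cfsg.trios from rfl, st_cover]
      simp only [Set.smul_set_union, ← orbit_stab_std hσ stab_S0_eq]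

end Cfsg.Agent.S5611
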