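import Cfsg.Statements.S5612
import Cfsg.Agent.Spor.SubStd
import Cfsg.Agent.Spor.SubTrioOct
import Cfsg.Agent.Spor.SubTrioSext
-- import your own Cfsg.Agent.* helpers here

set_option autoImplicit false
open scoped Pointwise
open Cfsg

namespace Cfsg.Agent.S5612

open CfsgLib.Spor
open scoped Pointwise

/-- The stabiliser of a trio in the group of the length-24 code has exactly three orbits on the 759 octads, of sizes 3, 84 and 672, and exactly four orbits on the 1771 sextets, of sizes 7, 84, 336 and 1344. -/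
theorem result (T : Finset (Finset Cfsg.GolayPt)) (hT : T ∈ Cfsg.trios) : (∃ X₁ ∈ Cfsg.octads, ∃ X₂ ∈ Cfsg.octads, ∃ X₃ ∈ Cfsg.octads, (MulAction.orbit ↥(MulAction.stabilizer Cfsg.M24 T) X₁).ncard = 3 ∧ (MulAction.orbit ↥(MulAction.stabilizer Cfsg.M24 T) X₂).ncard = 84 ∧ (MulAction.orbit ↥(MulAction.stabilizer Cfsg.M24 T) X₃).ncard = 672 ∧ Cfsg.octads = MulAction.orbit ↥(MulAction.stabilizer Cfsg.M24 T) X₁ ∪ MulAction.orbit ↥(MulAction.stabilizer Cfsg.M24 T) X₂ ∪ MulAction.orbit ↥(MulAction.stabilizer Cfsg.M24 T) X₃) ∧ (∃ Y₁ ∈ Cfsg.sextets, ∃ Y₂ ∈ Cfsg.sextets, ∃ Y₃ ∈ Cfsg.sextets, ∃ Y₄ ∈ Cfsg.sextets, (MulAction.orbit ↥(MulAction.stabilizer Cfsg.M24 T) Y₁).ncard = 7 ∧ (MulAction.orbit ↥(MulAction.stabilizer Cfsg.M24 T) Y₂).ncard = 84 ∧ (MulAction.orbit ↥(MulAction.stabilizer Cfsg.M24 T) Y₃).ncard = 336 ∧ (MulAction.orbit ↥(MulAction.stabilizer Cfsg.M24 T) Y₄).ncard = 1344 ∧ Cfsg.sextets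 = MulAction.orbit ↥(MulAction.stabilizer Cfsg.M24 T) Y₁ ∪ MulAction.orbit ↥(MulAction.stabilizer Cfsg.M24 T) Y₂ ∪ MulAction.orbit ↥(MulAction.stabilizer Cfsg.M24 T) Y₃ ∪ MulAction.orbit ↥(MulAction.stabilizer Cfsg.M24 T) Y₄) := by
  obtain ⟨σ, hσ, rfl⟩ := trio_std hT
  refine ⟨?_, ?_⟩
  · refine ⟨σ • maskK.dec toX0, octT.smul_mem σ hσ _ to_in0, σ • maskK.dec toX1, octT.smul_mem σ hσ _ to_in1, σ • maskK.dec toX2, octT.smul_mem σ hσ _ to_in2, ?_, ?_, ?_, ?_⟩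
    · rw [ncard_orbit_stab_std hσ stab_T0_eq, to_exact0.2.2]
    · rw [ncard_orbit_stab_std hσ stab_T0_eq, to_exact1.2.2]
    · rw [ncard_orbit_stab_std hσ stab_T0_eq, to_exact2.2.2]
    · conv_lhs => rw [← show octT.carrier = Cfsg.octads from rfl, ← smul_carrier octT hσ, show octT.carrier = Cfsg.octads from rfl, to_cover]
      simp only [Set.smul_set_union, ← orbit_stab_std hσ stab_T0_eq]
  · refine ⟨σ • famK.dec tsX0, sextT.smul_mem σ hσ _ ts_in0, σ • famK.dec tsX1, sextT.smul_mem σ hσ _ ts_in1, σ • famK.dec tsX2, sextT.smul_mem σ hσ _ ts_in2, σ • famK.dec tsX3, sextT.smul_mem σ hσ _ ts_in3, ?_, ?_, ?_, ?_, ?_⟩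
    · rw [ncard_orbit_stab_std hσ stab_T0_eq, ts_exact0.2.2]
    · rw [ncard_orbit_stab_std hσ stab_T0_eq, ts_exact1.2.2]
    · rw [ncard_orbit_stab_std hσ stab_T0_eq, ts_exact2.2.2]
    · rw [ncard_orbit_stab_std hσ stab_T0_eq, ts_exact3.2.2]
    · conv_lhs => rw [← show sextT.carrier = Cfsg.sextets from rfl, ← smul_carrier sextT hσ, show sextT.carrier = Cfsg.sextets from rfl, ts_cover]
      simp only [Set.smul_set_union, ← orbit_stab_std hσ stab_T0_eq]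

end Cfsg.Agent.S5612
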