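import Cfsg.Statements.S5613
import Cfsg.Agent.Spor.InterFacts
-- import your own Cfsg.Agent.* helpers here

set_option autoImplicit false
open scoped Pointwise
open Cfsg

namespace Cfsg.Agent.S5613

open CfsgLib.Spor
open scoped Pointwise

/-- In the group of the length-24 code, the joint stabiliser of two octads has order 10752, 1152 or 720 according as the octads meet in 0, 4 or 2 points. -/
theorem result (o o' : Finset Cfsg.GolayPt) (ho : o ∈ Cfsg.octads) (ho' : o' ∈ Cfsg.octads) : ((o ∩ o').card = 0 → Nat.card ↥(MulAction.stabilizer Cfsg.M24 o ⊓ MulAction.stabilizer Cfsg.M24 o') = 10752) ∧ ((o ∩ o').card = 4 → Nat.card ↥(MulAction.stabilizer Cfsg.M24 o ⊓ MulAction.stabilizer Cfsg.M24 o') = 1152) ∧ ((o ∩ o').card = 2 → Nat.card ↥(MulAction.stabilizer Cfsg.M24 o ⊓ MulAction.stabilizer Cfsg.M24 o') = 720) := by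
  obtain ⟨σ, hσ, rfl⟩ := octad_std ho
  have hmem : σ⁻¹ • o' ∈ Cfsg.octads := octT.smul_mem _ (inv_mem hσ) o' ho'
  have he : (O0 ∩ σ⁻¹ • o').card = (σ • O0 ∩ o').card := by
    rw [← inter_smul_card σ O0 (σ⁻¹ • o'), smul_inv_smul]
  have key : ∀ (k : ℕ) (z : Finset Cfsg.GolayPt) (n c : ℕ), z ∈ ooReps → (O0 ∩ z).card = k →
      (σ • O0 ∩ o').card = k → (MulAction.orbit (gtGroup (chainTop octStab)) z).ncard = n →
      n * c = 322560 → 0 < n →
      Nat.card ↥(MulAction.stabilizer Cfsg.M24 (σ • O0) ⊓ MulAction.stabilizer Cfsg.M24 o') = c := by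
    intro k z n c hz hk hk' hn hc hpos
    refine card_stab_inf_std stab_O0_eq hσ ?_ hn (card_stab_O0.trans hc.symm) hpos
    exact mem_rep_of_inv ooReps oo_full (fun z => (O0 ∩ z).card) oo_invariant oo_inv_nodup hmem hz
      (by rw [he, hk', hk])
  refine ⟨fun h => ?_, fun h => ?_, fun h => ?_⟩
  · exact key 0 (maskK.dec ooX1) 30 10752 (by simp [ooReps])
      (by simp only [O0, maskK, maskInter_card]; decide +kernel) h oo_exact1.2.2 (by norm_num) (by norm_num)
  · exact key 4 (maskK.dec ooX2) 280 1152 (by simp [ooReps])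
      (by simp only [O0, maskK, maskInter_card]; decide +kernel) h oo_exact2.2.2 (by norm_num) (by norm_num)
  · exact key 2 (maskK.dec ooX3) 448 720 (by simp [ooReps])
      (by simp only [O0, maskK, maskInter_card]; decide +kernel) h oo_exact3.2.2 (by norm_num) (by norm_num)

end Cfsg.Agent.S5613
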