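import Cfsg.Statements.S5614
import Cfsg.Agent.Spor.SmallIso
-- import your own Cfsg.Agent.* helpers here

set_option autoImplicit false
open scoped Pointwise
open Cfsg

namespace Cfsg.Agent.S5614

open CfsgLib.Spor
open scoped Pointwise

/-- In the group of the length-24 code, the joint stabiliser of two octads meeting in exactly two points is isomorphic to the symmetric group of degree 6. -/
theorem result (o o' : Finset Cfsg.GolayPt) (ho : o ∈ Cfsg.octads) (ho' : o' ∈ Cfsg.octads) (h₂ : (o ∩ o').card = 2) : Nonempty (↥(MulAction.stabilizer Cfsg.M24 o ⊓ MulAction.stabilizer Cfsg.M24 o') ≃* Equiv.Perm (Fin 6)) := by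
  obtain ⟨σ, hσ, rfl, rfl⟩ := oct2_flag ho ho' h₂
  rw [stabilizer_pair, show ((σ • O0, σ • ofMask oct2X) : Finset Cfsg.GolayPt × Finset Cfsg.GolayPt)
      = σ • (O0, ofMask oct2X) from rfl]
  have hE : Cfsg.M24 ⊓ MulAction.stabilizer (Equiv.Perm Cfsg.GolayPt) (O0, ofMask oct2X)
      = gtGroup (chainTop oct2Stab) := by
    rw [stab_amb_pair]; exact oct2_exact.1
  exact ⟨((stabEquiv hσ (O0, ofMask oct2X)).trans (MulEquiv.subgroupCongr hE)).trans
    (symEquivOfChain oct2C_sub oct2C_card oct2C_ok.1 (by decide +kernel) oct2C_ok.2.2.2)⟩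

end Cfsg.Agent.S5614
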