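import Cfsg.Statements.S5615
import Cfsg.Agent.Spor.OctTrioChain
import Cfsg.Agent.Spor.OctadKernel
import Cfsg.Agent.Spor.Totals
-- import your own Cfsg.Agent.* helpers here

set_option autoImplicit false
open scoped Pointwise
open Cfsg

namespace Cfsg.Agent.S5615

open CfsgLib.Spor
open scoped Pointwise

theorem otX_check : trioAtOctToks.length + 1 = 15 ∧ famK.orbOK (chainTop octStab) trioX trioAtOctToks = true ∧
    ((famK.orb (chainTop octStab) trioX trioAtOctToks).all fun l =>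
      (chainTop (octC.drop 6)).all fun g => g.ok && famK.fixB g l) = true ∧
    trioVal ot1X = true ∧ trioVal ot2X = true ∧ trioVal ot3X = true ∧ trioVal ot4X = true ∧
    trioX.contains octX = true ∧ ot1X.contains octX = true ∧ ot2X.contains octX = true ∧
    ot3X.contains octX = true ∧ ot4X.contains octX = true := by
  decide +kernel

theorem mem_dec {l : List ℕ} (h : l.contains octX = true) : O0 ∈ famK.dec l := by
  simp only [famK, famDec, List.mem_toFinset, List.mem_map]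
  exact ⟨octX, List.contains_iff_mem.1 h, rfl⟩

/-- trios through the base octad -/
def triosAt : Set (Finset (Finset Cfsg.GolayPt)) := {T | T ∈ Cfsg.trios ∧ O0 ∈ T}

theorem stab_mem (g : gtGroup (chainTop octStab)) :
    (g : Equiv.Perm Cfsg.GolayPt) ∈ Cfsg.M24 ∧ (g : Equiv.Perm Cfsg.GolayPt) • O0 = O0 := by
  have hg : (g : Equiv.Perm Cfsg.GolayPt) ∈ Cfsg.M24 ⊓ MulAction.stabilizer (Equiv.Perm Cfsg.GolayPt) O0 :=
    stab_O0_eq.symm ▸ g.2
  exact ⟨hg.1, MulAction.mem_stabilizer_iff.1 hg.2⟩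

theorem triosAt_eq : triosAt = MulAction.orbit (gtGroup (chainTop octStab)) T0 := by
  apply Set.Subset.antisymm
  · rintro T ⟨hT, h0⟩; exact trio_mem_orbit_octStab hT h0
  · rintro _ ⟨g, rfl⟩
    refine ⟨smul_mem_trios (stab_mem g).1 T0_mem, ?_⟩
    rw [← (stab_mem g).2]
    exact Finset.smul_mem_smul_finset (mem_dec otX_check.2.2.2.2.2.2.2.1)

theorem triosAt_orbit : triosAt = MulAction.orbit (gtGroup (chainTop octStab)) (famK.dec ot1X) := by
  rw [triosAt_eq]
  refine (MulAction.orbit_eq_iff.2 ?_).symm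
  rw [← triosAt_eq]
  exact ⟨mem_of_trioVal otX_check.2.2.2.1, mem_dec otX_check.2.2.2.2.2.2.2.2.1⟩

theorem ncard_triosAt : triosAt.ncard = 15 := triosAt_orbit ▸ ot1_exact.2.2

/-- the trios other than the first through the base octad -/
theorem other_orbit : {T | T ∈ triosAt ∧ T ≠ famK.dec ot1X} =
    MulAction.orbit (gtGroup (chainTop ot1Stab)) (famK.dec ot2X) := by
  have hne : famK.dec ot2X ≠ famK.dec ot1X := by decide +kernel
  have hm2 : famK.dec ot2X ∈ triosAt :=
    ⟨mem_of_trioVal otX_check.2.2.2.2.1, mem_dec otX_check.2.2.2.2.2.2.2.2.2.1⟩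
  refine (Set.eq_of_subset_of_ncard_le ?_ ?_ (Set.toFinite _)).symm
  · rintro _ ⟨g, rfl⟩
    have hg : (g : Equiv.Perm Cfsg.GolayPt) ∈ Cfsg.M24 ⊓ MulAction.stabilizer (Equiv.Perm Cfsg.GolayPt) O0 ⊓
        MulAction.stabilizer (Equiv.Perm Cfsg.GolayPt) (famK.dec ot1X) := ot1_exact.1.symm ▸ g.2
    refine ⟨⟨smul_mem_trios hg.1.1 hm2.1, ?_⟩, fun h => hne ?_⟩
    · rw [← MulAction.mem_stabilizer_iff.1 hg.1.2]; exact Finset.smul_mem_smul_finset hm2.2
    · exact MulAction.injective (g : Equiv.Perm Cfsg.GolayPt)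
        ((show (g : Equiv.Perm Cfsg.GolayPt) • famK.dec ot2X = famK.dec ot1X from h).trans
          (MulAction.mem_stabilizer_iff.1 hg.2).symm)
  · have e : {T | T ∈ triosAt ∧ T ≠ famK.dec ot1X} = triosAt \ {famK.dec ot1X} := rfl
    rw [e, Set.ncard_diff_singleton_of_mem
      (show famK.dec ot1X ∈ triosAt from triosAt_orbit ▸ MulAction.mem_orbit_self _), ncard_triosAt, ot2_exact.2.2]

/-- An octad of the length-24 code lies in exactly 15 trios; the stabiliser of the octad in the code's group acts doubly transitively on these 15 trios, and the kernel of this action is the pointwise stabiliser of the octad. -/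
theorem result (o : Finset Cfsg.GolayPt) (ho : o ∈ Cfsg.octads) : {T : Finset (Finset Cfsg.GolayPt) | T ∈ Cfsg.trios ∧ o ∈ T}.ncard = 15 ∧ (∀ T₁ T₂ T₁' T₂' : Finset (Finset Cfsg.GolayPt), T₁ ∈ Cfsg.trios → T₂ ∈ Cfsg.trios → T₁' ∈ Cfsg.trios → T₂' ∈ Cfsg.trios → o ∈ T₁ → o ∈ T₂ → o ∈ T₁' → o ∈ T₂' → T₁ ≠ T₂ → T₁' ≠ T₂' → ∃ g ∈ Cfsg.M24, g • o = o ∧ g • T₁ = T₁' ∧ g • T₂ = T₂') ∧ ∀ g ∈ Cfsg.M24, g • o = o → ((∀ T ∈ Cfsg.trios, o ∈ T → g • T = T) ↔ ∀ p ∈ o, g p = p) := by
  obtain ⟨σ, hσ, rfl⟩ := octad_std ho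
  have htr : ∀ T, σ • T ∈ Cfsg.trios ↔ T ∈ Cfsg.trios := fun T =>
    ⟨fun h => by simpa using smul_mem_trios (inv_mem hσ) h, fun h => smul_mem_trios hσ h⟩
  have hset : {T : Finset (Finset Cfsg.GolayPt) | T ∈ Cfsg.trios ∧ σ • O0 ∈ T} = σ • triosAt := by
    ext T
    obtain ⟨U, rfl⟩ : ∃ U, σ • U = T := ⟨σ⁻¹ • T, smul_inv_smul σ T⟩
    rw [Set.smul_mem_smul_set_iff]
    simp [triosAt, htr]
  have hback : ∀ T, T ∈ Cfsg.trios → σ • O0 ∈ T → σ⁻¹ • T ∈ triosAt := fun T hT h0 =>
    ⟨smul_mem_trios (inv_mem hσ) hT, by rw [← Finset.smul_mem_smul_finset_iff σ, smul_inv_smul]; exact h0⟩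
  have key : ∀ A B, A ∈ triosAt → B ∈ triosAt → A ≠ B →
      ∃ g ∈ Cfsg.M24, g • O0 = O0 ∧ g • famK.dec ot1X = A ∧ g • famK.dec ot2X = B := by
    intro A B hA hB hne
    rw [triosAt_orbit] at hA
    obtain ⟨a, rfl⟩ := hA
    obtain ⟨haM, haO⟩ := stab_mem a
    have hB' : (a : Equiv.Perm Cfsg.GolayPt)⁻¹ • B ∈ {T | T ∈ triosAt ∧ T ≠ famK.dec ot1X} := by
      refine ⟨⟨smul_mem_trios (inv_mem haM) hB.1, ?_⟩, fun h => hne ?_⟩
      · rw [← Finset.smul_mem_smul_finset_iff (a : Equiv.Perm Cfsg.GolayPt), smul_inv_smul, haO]; exact hB.2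
      · rw [← h]; exact smul_inv_smul (a : Equiv.Perm Cfsg.GolayPt) B
    rw [other_orbit] at hB'
    obtain ⟨c, hc⟩ := hB'
    have hcm : (c : Equiv.Perm Cfsg.GolayPt) ∈ Cfsg.M24 ⊓ MulAction.stabilizer (Equiv.Perm Cfsg.GolayPt) O0 ⊓
        MulAction.stabilizer (Equiv.Perm Cfsg.GolayPt) (famK.dec ot1X) := ot1_exact.1.symm ▸ c.2
    refine ⟨a * c, mul_mem haM hcm.1.1, ?_, ?_, ?_⟩
    · rw [mul_smul, MulAction.mem_stabilizer_iff.1 hcm.1.2, haO]
    · rw [mul_smul, MulAction.mem_stabilizer_iff.1 hcm.2]; rfl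
    · rw [mul_smul, show (c : Equiv.Perm Cfsg.GolayPt) • famK.dec ot2X = (a : Equiv.Perm Cfsg.GolayPt)⁻¹ • B from hc,
        smul_inv_smul]
  refine ⟨by rw [hset, Set.ncard_smul_set, ncard_triosAt], ?_, ?_⟩
  · intro T₁ T₂ T₁' T₂' h1 h2 h3 h4 o1 o2 o3 o4 hne hne'
    obtain ⟨g, hgM, hgO, hg1, hg2⟩ := key _ _ (hback T₁ h1 o1) (hback T₂ h2 o2)
      fun e => hne (MulAction.injective σ⁻¹ e)
    obtain ⟨k, hkM, hkO, hk1, hk2⟩ := key _ _ (hback T₁' h3 o3) (hback T₂' h4 o4)
      fun e => hne' (MulAction.injective σ⁻¹ e)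
    refine ⟨σ * k * g⁻¹ * σ⁻¹, mul_mem (mul_mem (mul_mem hσ hkM) (inv_mem hgM)) (inv_mem hσ), ?_, ?_, ?_⟩
    · simp only [mul_smul, inv_smul_smul]
      rw [show g⁻¹ • O0 = O0 from inv_smul_eq_iff.2 hgO.symm, hkO]
    · rw [mul_smul, mul_smul, mul_smul, ← hg1, inv_smul_smul, hk1, smul_inv_smul]
    · rw [mul_smul, mul_smul, mul_smul, ← hg2, inv_smul_smul, hk2, smul_inv_smul]
  · intro g hg hgO
    obtain ⟨t, rfl⟩ : ∃ t, σ * t * σ⁻¹ = g := ⟨σ⁻¹ * g * σ, by group⟩
    have ht : t ∈ Cfsg.M24 := by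
      have := mul_mem (mul_mem (inv_mem hσ) hg) hσ
      simpa [mul_assoc] using this
    have htO : t • O0 = O0 := by
      simp only [mul_smul, inv_smul_smul] at hgO
      exact MulAction.injective σ hgO
    constructor
    · intro hfix
      have hf : ∀ l : List ℕ, trioVal l = true → l.contains octX = true → t • famK.dec l = famK.dec l := by
        intro l hl hc
        have := hfix (σ • famK.dec l) (smul_mem_trios hσ (mem_of_trioVal hl))
          (Finset.smul_mem_smul_finset (mem_dec hc))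
        simp only [mul_smul, inv_smul_smul] at this
        exact MulAction.injective σ this
      obtain ⟨-, -, -, v1, v2, v3, v4, -, c1, c2, c3, c4⟩ := otX_check
      have hmem : t ∈ gtGroup (chainTop ot4Stab) := by
        rw [← ot4_exact.1]
        exact ⟨⟨⟨⟨⟨ht, htO⟩, hf _ v1 c1⟩, hf _ v2 c2⟩, hf _ v3 c3⟩, hf _ v4 c4⟩
      have hle : octFix O0 ≤ gtGroup (chainTop ot4Stab) := by
        obtain ⟨h0, hok, htail, -⟩ := otX_check
        intro k hk
        obtain ⟨hkM, -⟩ := mem_octFix.1 hk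
        have hkO := (octFix_le_stab O0 hk).2
        have hkfix : ∀ T ∈ triosAt, k • T = T := by
          have hL : ∀ T ∈ triosAt, ∃ l ∈ famK.orb (chainTop octStab) trioX trioAtOctToks, famK.dec l = T := by
            obtain ⟨-, hc, hsub⟩ := famK.orb_facts hok
            have e : (↑((famK.orb (chainTop octStab) trioX trioAtOctToks).map famK.dec).toFinset :
                Set (Finset (Finset Cfsg.GolayPt))) = triosAt := by
              refine Set.eq_of_subset_of_ncard_le ?_ ?_ (Set.toFinite _)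
              · rw [triosAt_eq]; exact hsub
              · rw [ncard_triosAt, Set.ncard_coe_finset, hc, h0]
            intro T hT
            rw [← e] at hT
            simpa using hT
          intro T hT
          obtain ⟨l, hl, rfl⟩ := hL T hT
          rw [octFix_O0] at hk
          refine MulAction.mem_stabilizer_iff.1 (gtGroup_le (gs := chainTop (octC.drop 6)) (fun g hg => ?_) hk)
          have h := List.all_eq_true.1 (List.all_eq_true.1 htail l hl) g hg
          rw [Bool.and_eq_true] at h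
          exact MulAction.mem_stabilizer_iff.2 (famK.hfix g h.1 l h.2)
        rw [← ot4_exact.1]
        obtain ⟨-, -, -, v1, v2, v3, v4, -, c1, c2, c3, c4⟩ := otX_check
        exact ⟨⟨⟨⟨⟨hkM, hkO⟩, hkfix _ ⟨mem_of_trioVal v1, mem_dec c1⟩⟩, hkfix _ ⟨mem_of_trioVal v2, mem_dec c2⟩⟩,
          hkfix _ ⟨mem_of_trioVal v3, mem_dec c3⟩⟩, hkfix _ ⟨mem_of_trioVal v4, mem_dec c4⟩⟩
      have heq : octFix O0 = gtGroup (chainTop ot4Stab) := by
        refine Subgroup.eq_of_le_of_card_ge hle ?_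
        rw [ot4_exact.2.1, (card_octFix O0_mem).1]
      rw [← heq] at hmem
      exact (mem_octFix.1 ((octFix_conj hσ).2 (by simpa [mul_assoc] using hmem))).2
    · intro hfix T hT h0
      have htk : t ∈ octFix O0 := mem_octFix.2 ⟨ht, fun p hp => by
        have := hfix (σ p) (mem_smul_iff.2 hp)
        simpa using this⟩
      obtain ⟨hn, hok, htail, -⟩ := otX_check
      obtain ⟨-, hc, hsub⟩ := famK.orb_facts hok
      have e : (↑((famK.orb (chainTop octStab) trioX trioAtOctToks).map famK.dec).toFinset :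
          Set (Finset (Finset Cfsg.GolayPt))) = triosAt := by
        refine Set.eq_of_subset_of_ncard_le ?_ ?_ (Set.toFinite _)
        · rw [triosAt_eq]; exact hsub
        · rw [ncard_triosAt, Set.ncard_coe_finset, hc, hn]
      have hm := hback T hT h0
      rw [← e] at hm
      simp only [List.coe_toFinset, Set.mem_setOf_eq, List.mem_map] at hm
      obtain ⟨l, hl, hle⟩ := hm
      rw [octFix_O0] at htk
      have hstab : t • famK.dec l = famK.dec l := by
        refine MulAction.mem_stabilizer_iff.1 (gtGroup_le (gs := chainTop (octC.drop 6)) (fun g hg => ?_) htk)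
        have h := List.all_eq_true.1 (List.all_eq_true.1 htail l hl) g hg
        rw [Bool.and_eq_true] at h
        exact MulAction.mem_stabilizer_iff.2 (famK.hfix g h.1 l h.2)
      rw [hle] at hstab
      rw [mul_smul, mul_smul, hstab, smul_inv_smul]

end Cfsg.Agent.S5615
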