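import Cfsg.Statements.S5616
import Cfsg.Agent.Spor.FamilyTools
import Cfsg.Agent.Spor.SubTriSext
-- import your own Cfsg.Agent.* helpers here

set_option autoImplicit false
open scoped Pointwise
open Cfsg

namespace Cfsg.Agent.S5616

open CfsgLib.Spor
open scoped Pointwise

/-- number of tetrads meeting a set -/
def meets (Y : Finset Cfsg.GolayPt) (S : Finset (Finset Cfsg.GolayPt)) : ℕ :=
  (S.filter fun t => (t ∩ Y).Nonempty).card

theorem meets_smul (g : Equiv.Perm Cfsg.GolayPt) (Y : Finset Cfsg.GolayPt) (S : Finset (Finset Cfsg.GolayPt)) :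
    meets (g • Y) (g • S) = meets Y S := by
  unfold meets
  rw [show (g • S).filter (fun t => (t ∩ g • Y).Nonempty) = g • S.filter (fun t => (t ∩ Y).Nonempty) from ?_,
    Finset.card_smul_finset]
  ext t
  rw [Finset.mem_filter, ← Finset.inv_smul_mem_iff, ← Finset.inv_smul_mem_iff, Finset.mem_filter]
  refine and_congr_right fun _ => ?_
  have e : (t ∩ g • Y) = g • (g⁻¹ • t ∩ Y) := by rw [smul_inter_perm, smul_inv_smul]
  rw [e, Finset.smul_finset_nonempty]

theorem triS_inv : ∀ g ∈ Cfsg.M24, g • maskK.dec triX = maskK.dec triX →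
    ∀ x : Finset (Finset Cfsg.GolayPt), (x ∈ Cfsg.sextets → g • x ∈ Cfsg.sextets) ∧
      meets (maskK.dec triX) (g • x) = meets (maskK.dec triX) x := by
  intro g hg hy x
  refine ⟨fun hx => smul_mem_sextets hg hx, ?_⟩
  conv_lhs => rw [← hy]
  exact meets_smul g _ x

theorem triS_vals : ([famK.dec tSX0, famK.dec tSX1, famK.dec tSX2] : List _).map (meets (maskK.dec triX)) =
    [1, 2, 3] := by
  decide +kernel

theorem triS_cover : Cfsg.sextets = {y | ∃ z ∈ ([famK.dec tSX0, famK.dec tSX1, famK.dec tSX2] : List _),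
    y ∈ MulAction.orbit (gtGroup (chainTop triStab)) z} :=
  family_cover tri_exact.1 (Set.toFinite _) _ _ (meets (maskK.dec triX)) triS_inv
    (by rw [triS_vals]; decide) tS_sizes tS_mem (by rw [ncard_sextets]; decide)

/-- Let Y be a set of 3 of the 24 points. The sextets of the length-24 code whose tetrads meeting Y number 1, 2 or 3 are respectively 21, 630 and 1120 in number, and two sextets with the same number of tetrads meeting Y are conjugate under the setwise stabiliser of Y in the code's group. -/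
theorem result (Y : Finset Cfsg.GolayPt) (hY : Y.card = 3) : {S : Finset (Finset Cfsg.GolayPt) | S ∈ Cfsg.sextets ∧ (S.filter fun t => (t ∩ Y).Nonempty).card = 1}.ncard = 21 ∧ {S : Finset (Finset Cfsg.GolayPt) | S ∈ Cfsg.sextets ∧ (S.filter fun t => (t ∩ Y).Nonempty).card = 2}.ncard = 630 ∧ {S : Finset (Finset Cfsg.GolayPt) | S ∈ Cfsg.sextets ∧ (S.filter fun t => (t ∩ Y).Nonempty).card = 3}.ncard = 1120 ∧ ∀ S S' : Finset (Finset Cfsg.GolayPt), S ∈ Cfsg.sextets → S' ∈ Cfsg.sextets → (S.filter fun t => (t ∩ Y).Nonempty).card = (S'.filter fun t => (t ∩ Y).Nonempty).card → ∃ g ∈ Cfsg.M24, g • Y = Y ∧ g • S = S' := by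
  have htr : Y ∈ MulAction.orbit Cfsg.M24 (maskK.dec triX) := triples_eq_orbit ▸ (show Y ∈ triples from hY)
  obtain ⟨⟨σ, hσ⟩, hTe⟩ := htr
  change σ • maskK.dec triX = Y at hTe
  subst hTe
  have hs : ∀ y, σ • y ∈ Cfsg.sextets ↔ y ∈ Cfsg.sextets := fun y =>
    ⟨fun h => by simpa using smul_mem_sextets (inv_mem hσ) h, fun h => smul_mem_sextets hσ h⟩
  have hm : ∀ y, ((σ • y : Finset (Finset Cfsg.GolayPt)).filter fun t => (t ∩ σ • maskK.dec triX).Nonempty).card =
      meets (maskK.dec triX) y := fun y => meets_smul σ _ y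
  have hv := triS_vals
  simp only [List.map_cons, List.map_nil, List.cons.injEq, and_true] at hv
  have hnd : (([famK.dec tSX0, famK.dec tSX1, famK.dec tSX2] : List _).map (meets (maskK.dec triX))).Nodup := by
    rw [triS_vals]; decide
  refine ⟨?_, ?_, ?_, fun S S' hS hS' h => ?_⟩
  · refine family_count tri_exact.1 triS_cover triS_inv hnd (z := famK.dec tSX0) (by simp) tS_exact0.2.2 σ (fun y => ?_)
    rw [hv.1, hs, hm]
  · refine family_count tri_exact.1 triS_cover triS_inv hnd (z := famK.dec tSX1) (by simp) tS_exact1.2.2 σ (fun y => ?_)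
    rw [hv.2.1, hs, hm]
  · refine family_count tri_exact.1 triS_cover triS_inv hnd (z := famK.dec tSX2) (by simp) tS_exact2.2.2 σ (fun y => ?_)
    rw [hv.2.2, hs, hm]
  · obtain ⟨g, hg, hgy, hgx⟩ := family_move tri_exact.1 triS_cover triS_inv hnd hσ (x := S) (y := S')
      (smul_mem_sextets (inv_mem hσ) hS) (smul_mem_sextets (inv_mem hσ) hS') (by
        rw [← hm, ← hm, smul_inv_smul, smul_inv_smul]; exact h)
    exact ⟨g, hg, hgy, hgx⟩

end Cfsg.Agent.S5616
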