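import Cfsg.Statements.S5617
import Cfsg.Agent.Spor.SubDpSext
import Cfsg.Agent.Spor.SubStd
-- import your own Cfsg.Agent.* helpers here

set_option autoImplicit false
open scoped Pointwise
open Cfsg

namespace Cfsg.Agent.S5617

open CfsgLib.Spor
open scoped Pointwise

/-- The setwise stabiliser, in the group of the length-24 code, of a complementary pair of dodecads has exactly three orbits on the 1771 sextets, of sizes 396, 495 and 880. -/
theorem result (d : Finset Cfsg.GolayPt) (hd : d ∈ Cfsg.dodecads) : ∃ X₁ ∈ Cfsg.sextets, ∃ X₂ ∈ Cfsg.sextets, ∃ X₃ ∈ Cfsg.sextets, (MulAction.orbit ↥(MulAction.stabilizer Cfsg.M24 ({d, Finset.univ \ d} : Finset (Finset Cfsg.GolayPt))) X₁).ncard = 396 ∧ (MulAction.orbit ↥(MulAction.stabilizer Cfsg.M24 ({d, Finset.univ \ d} : Finset (Finset Cfsg.GolayPt))) X₂).ncard = 495 ∧ (MulAction.orbit ↥(MulAction.stabilizer Cfsg.M24 ({d, Finset.univ \ d} : Finset (Finset Cfsg.GolayPt))) X₃).ncard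 = 880 ∧ Cfsg.sextets = MulAction.orbit ↥(MulAction.stabilizer Cfsg.M24 ({d, Finset.univ \ d} : Finset (Finset Cfsg.GolayPt))) X₁ ∪ MulAction.orbit ↥(MulAction.stabilizer Cfsg.M24 ({d, Finset.univ \ d} : Finset (Finset Cfsg.GolayPt))) X₂ ∪ MulAction.orbit ↥(MulAction.stabilizer Cfsg.M24 ({d, Finset.univ \ d} : Finset (Finset Cfsg.GolayPt))) X₃ := by
  obtain ⟨⟨σ, hσ⟩, hd'⟩ := dodPairs_eq_orbit ▸ (show {d, dᶜ} ∈ dodPairs from ⟨d, hd, rfl⟩)
  change σ • famK.dec dpX = _ at hd'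
  rw [← Finset.compl_eq_univ_sdiff, ← hd']
  refine ⟨σ • famK.dec psX0, sextT.smul_mem σ hσ _ ps_in0, σ • famK.dec psX1,
    sextT.smul_mem σ hσ _ ps_in1, σ • famK.dec psX2, sextT.smul_mem σ hσ _ ps_in2, ?_, ?_, ?_, ?_⟩
  · rw [ncard_orbit_stab_std hσ dp_exact.1, ps_exact0.2.2]
  · rw [ncard_orbit_stab_std hσ dp_exact.1, ps_exact1.2.2]
  · rw [ncard_orbit_stab_std hσ dp_exact.1, ps_exact2.2.2]
  · conv_lhs => rw [← show sextT.carrier = Cfsg.sextets from rfl, ← smul_carrier sextT hσ, show sextT.carrier = Cfsg.sextets from rfl, ps_cover]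
    simp only [Set.smul_set_union, ← orbit_stab_std hσ dp_exact.1]

end Cfsg.Agent.S5617
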