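import Cfsg.Statements.S5618
import Cfsg.Agent.Spor.SmallIso
-- import your own Cfsg.Agent.* helpers here

set_option autoImplicit false
open scoped Pointwise
open Cfsg

namespace Cfsg.Agent.S5618

open CfsgLib.Spor
open scoped Pointwise

/-- For a dodecad d of the length-24 code and a hexad C on it (a 6-point intersection of d with an octad): the joint stabiliser of d and C in the code's group is isomorphic to the symmetric group of degree 6, and it acts faithfully both on the six points of C and on the six points of d outside C. -/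
theorem result (d : Finset Cfsg.GolayPt) (hd : d ∈ Cfsg.dodecads) (C : Finset Cfsg.GolayPt) (hC : C ∈ Cfsg.hexadsOn d) : Nonempty (↥(MulAction.stabilizer Cfsg.M24 d ⊓ MulAction.stabilizer Cfsg.M24 C) ≃* Equiv.Perm (Fin 6)) ∧ (∀ g ∈ MulAction.stabilizer Cfsg.M24 d ⊓ MulAction.stabilizer Cfsg.M24 C, (∀ p ∈ C, ((g : ↥Cfsg.M24) : Equiv.Perm Cfsg.GolayPt) p = p) → g = 1) ∧ ∀ g ∈ MulAction.stabilizer Cfsg.M24 d ⊓ MulAction.stabilizer Cfsg.M24 C, (∀ p ∈ d \ C, ((g : ↥Cfsg.M24) : Equiv.Perm Cfsg.GolayPt) p = p) → g = 1 := by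
  obtain ⟨σ, hσ, rfl, rfl⟩ := hexad_flag hd hC
  rw [stabilizer_pair, show ((σ • D0, σ • ofMask hexdX) : Finset Cfsg.GolayPt × Finset Cfsg.GolayPt)
      = σ • (D0, ofMask hexdX) from rfl]
  have hE : Cfsg.M24 ⊓ MulAction.stabilizer (Equiv.Perm Cfsg.GolayPt) (D0, ofMask hexdX)
      = gtGroup (chainTop hexdStab) := by
    rw [stab_amb_pair]; exact hexd_exact.1
  let E := (stabEquiv hσ (D0, ofMask hexdX)).trans (MulEquiv.subgroupCongr hE)
  refine ⟨⟨E.trans (symEquivOfChain hexdC_sub hexdC_card hexdC_ok.1 (by decide +kernel) hexdC_ok.2.2.2)⟩, ?_, ?_⟩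
  · intro g hg hfix
    have h1 : E ⟨g, hg⟩ = 1 := by
      apply (permEquivOfChain hexdC_sub hexdC_card hexdC_ok.1 (by decide +kernel) hexdC_ok.2.2.2).injective
      rw [map_one]
      refine Equiv.ext fun p => Subtype.ext ?_
      show (σ⁻¹ * ((g : Cfsg.M24) : Equiv.Perm Cfsg.GolayPt) * σ) (p : Cfsg.GolayPt) = p
      have hp : σ (p : Cfsg.GolayPt) ∈ σ • ofMask hexdX := by
        exact mem_smul_iff.2 p.2
      simp only [Equiv.Perm.mul_apply, hfix _ hp]
      simp
    exact congrArg Subtype.val (E.injective (h1.trans E.map_one.symm))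
  · intro g hg hfix
    have h1 : E ⟨g, hg⟩ = 1 := by
      apply (permEquivOfChain hexdC2_sub hexdC2_card hexdC2_ok.1 (by decide +kernel) hexdC2_ok.2.2.2).injective
      rw [map_one]
      refine Equiv.ext fun p => Subtype.ext ?_
      show (σ⁻¹ * ((g : Cfsg.M24) : Equiv.Perm Cfsg.GolayPt) * σ) (p : Cfsg.GolayPt) = p
      have hp : σ (p : Cfsg.GolayPt) ∈ σ • D0 \ σ • ofMask hexdX := by
        refine Finset.mem_sdiff.2 ⟨mem_smul_iff.2 ?_, fun h => ?_⟩
        · refine ofMask_subset ?_ p.2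
          decide +kernel
        · have hh := Finset.mem_inter.2 ⟨p.2, mem_smul_iff.1 h⟩
          rw [← ofMask_and] at hh
          have e0 : ofMask (78593 &&& hexdX) = ∅ := by decide +kernel
          rw [e0] at hh
          exact absurd hh (Finset.notMem_empty _)
      simp only [Equiv.Perm.mul_apply, hfix _ hp]
      simp
    exact congrArg Subtype.val (E.injective (h1.trans E.map_one.symm))

end Cfsg.Agent.S5618
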