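import Cfsg.Statements.S5619
import Cfsg.Agent.Spor.StabConj
import Cfsg.Agent.Spor.M24Elems
-- import your own Cfsg.Agent.* helpers here

set_option autoImplicit false
open scoped Pointwise
open Cfsg

namespace Cfsg.Agent.S5619

open CfsgLib.Spor CfsgLib.Spor.M24Elems
open scoped Pointwise

/-- the elements of the base group -/
def els : List ℕ :=
  [984818244535754528103549039458486304,
   425260589770023667920228681599158304,
   609271311764373893382231684089481248,
   227578386318009578406903204956702752,
   970254902120350598020240965873371168,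
   233054687951835244750033064009402400,
   899214583888558003150069357295700000,
   648154481660236051385864952584734752,
   970499966350631336865513127433832480,
   715872302521680643580706198532491296,
   858934107515357207598970770041374752,
   719923664328491199848526586197411872,
   437673696385666828435562741295908896,
   891385682027558266148352467872712736,
   809127892823755776035426641505355808,
   849887890532701421127722391426172960,
   438084364835391119001047119775926304,
   928952864966028496604741530750814240,
   648045425277649902928402440926824480,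
   944293816565412651426207388111472672,
   608460305594945736333983948957190176,
   719360590536681843314903822610073632,
   486073779993727295785104656607348768,
   304382488815307602047787978285647904,
   608405391266436187982588441666881568,
   232652365823391711183829569059784736,
   929000492124499343650182431580424224,
   984534996141977609297800625156032544,
   424698032726113400716592269113985056,
   486317894067777385906476470720956448,
   796025918939784314627536738561984544,
   629994123837064240816195434993748000,
   984769902586367543974814854303385632,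
   313451266620471430272303061907212320,
   849414919297944031155053626894092320,
   303972014349329906305369256209090592,
   944569772236290697579231267829188640,
   715461294005770680473893921775552544,
   487607080158395075740321133224921120,
   227468939079694360949178429167896608,
   890954976140709938678640932563453984,
   313626468097149398198142802389895200,
   970531819526550031117983620406741024,
   630264916018297267747726081680246816,
   487655643029606470073469406179395616,
   425085878865583144827023905643726880,
   629863500390412654982178157189269536,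
   899189355044933402820830013086107680,
   304527279934878073638008567181674528,
   891440084380668137666183104591693856,
   227866200190482962309748417481934880,
   858988336336270505570052787752405024,
   808997782816701570676445371466909728,
   898742143189044893377746329054414880,
   609744425604512129277147896769742880,
   648441755269428208718993426702993440,
   313063593285160742836699179059316768,
   486349973926430203268823274221996064,
   809399594410595785774724965859756064,
   719748774308089385568610015441717280,
   796422664143520048046740322637776928,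
   438228640608320839931147656307705888,
   858502712789113075489201924125100064,
   487373122709212905255923294881187872,
   796134455581813252778404696041064480,
   607974513007959930786473204517505056,
   232783362388564428185213343297439776,
   849862808090484735685470734032308256,
   716016777081418520089506884598499360,
   609718671646466476278175549440296992,
   944538627742660781242037951888164896,
   928718206277989008510816407558424608]

/-- the quaternion subgroup -/
def qA : List ℕ := [984818244535754528103549039458486304, 425260589770023667920228681599158304, 970254902120350598020240965873371168, 437673696385666828435562741295908896]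

/-- the quaternion subgroup, second half -/
def qB : List ℕ := [629863500390412654982178157189269536, 849862808090484735685470734032308256, 648441755269428208718993426702993440, 858502712789113075489201924125100064]

/-- the coordinates of the quaternion group -/
def qf : QuaternionGroup 2 → ℕ
  | .a i => qA.getD i.val 0
  | .xa i => qB.getD i.val 0

/-- iterated images -/
def powB (P k : ℕ) : Bool := (List.range 24).all fun i => Nat.iterate (app P) k i == i

theorem els_check : (els.all fun a => okP a && (chainTop dpqrStab).all fun g => els.any fun b => compB a g.P b) = true ∧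
    els.any (fun a => (List.range 24).all fun i => app a i == i) = true ∧
    (els.countP fun a => powB a 9) = 9 ∧ (els.all fun a => !powB a 9 || powB a 3) = true := by decide +kernel

theorem q_check : (∀ x y : QuaternionGroup 2, compB (qf x) (qf y) (qf (x * y)) = true) ∧
    (∀ x : QuaternionGroup 2, (List.range 24).all (fun i => app (qf x) i == i) = true → x = 1) ∧
    ∀ x : QuaternionGroup 2, (inM24 (qf x) && (imgP (qf x) dodX == dodX) && (app (qf x) m11X == m11X) &&
      (app (qf x) dpqX == dpqX) && (app (qf x) dpqrX == dpqrX)) = true := by decide +kernel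

theorem pow_img {P : ℕ} (h : okP P = true) (k : ℕ) {i : ℕ} (hi : i < 24) :
    img (mkPerm P ^ k) i = Nat.iterate (app P) k i ∧ Nat.iterate (app P) k i < 24 := by
  induction k with
  | zero => rw [pow_zero, img_one hi]; exact ⟨rfl, hi⟩
  | succ k ih =>
    rw [Function.iterate_succ_apply', pow_succ', img_mul, ih.1, img_mkPerm h ih.2]
    exact ⟨rfl, app_lt h ih.2⟩

theorem powB_iff {P : ℕ} (h : okP P = true) (k : ℕ) : powB P k = true ↔ mkPerm P ^ k = 1 := by
  simp only [powB, List.all_eq_true, List.mem_range, beq_iff_eq]
  constructor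
  · intro hh; exact perm_ext fun i hi => by rw [(pow_img h k hi).1, hh i hi, img_one hi]
  · intro hh i hi; rw [← (pow_img h k hi).1, hh, img_one hi]

theorem base_stab :
    M24 ⊓ MulAction.stabilizer (Equiv.Perm GolayPt) (D0, p0, pt dpqX, pt dpqrX) = gtGroup (chainTop dpqrStab) := by
  rw [← dpqr_exact.1, stab_amb_pair]
  ext g
  simp only [Subgroup.mem_inf, MulAction.mem_stabilizer_iff, Prod.smul_def, Prod.mk.injEq]
  exact ⟨fun h => ⟨⟨⟨⟨h.1.1, h.1.2⟩, h.2.1⟩, h.2.2.1⟩, h.2.2.2⟩,
    fun h => ⟨⟨h.1.1.1.1, h.1.1.1.2⟩, h.1.1.2, h.1.2, h.2⟩⟩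

/-- In the group of the length-24 code, the subgroup fixing a dodecad setwise and three of its points individually (a group of order 72) has a normal Sylow 3-subgroup that is elementary abelian of order 9, and its Sylow 2-subgroups are quaternion of order 8. -/
theorem result (d : Finset Cfsg.GolayPt) (hd : d ∈ Cfsg.dodecads) (p q r : Cfsg.GolayPt) (hp : p ∈ d) (hq : q ∈ d) (hr : r ∈ d) (hpq : p ≠ q) (hpr : p ≠ r) (hqr : q ≠ r) : (∀ Q : Sylow 3 ↥(MulAction.stabilizer Cfsg.M24 d ⊓ MulAction.stabilizer Cfsg.M24 p ⊓ MulAction.stabilizer Cfsg.M24 q ⊓ MulAction.stabilizer Cfsg.M24 r), (Q : Subgroup ↥(MulAction.stabilizer Cfsg.M24 d ⊓ MulAction.stabilizer Cfsg.M24 p ⊓ MulAction.stabilizer Cfsg.M24 q ⊓ MulAction.stabilizer Cfsg.M24 r)).Normal ∧ Nat.card ↥Q = 9 ∧ ∀ x ∈ (Q : Subgroup ↥(MulAction.stabilizer Cfsg.M24 d ⊓ MulAction.stabilizer Cfsg.M24 p ⊓ MulAction.stabilizer Cfsg.M24 q ⊓ MulAction.stabilizer Cfsg.M24 r)), x ^ 3 = 1) ∧ ∀ P : Sylow 2 ↥(MulAction.stabilizer Cfsg.M24 d ⊓ MulAction.stabilizer Cfsg.M24 p ⊓ MulAction.stabilizer Cfsg.M24 q ⊓ MulAction.stabilizer Cfsg.M24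 r), Nonempty (↥P ≃* QuaternionGroup 2) := by
  classical
  obtain ⟨σ, hσ, hσd, hσp, hσq, hσr⟩ := dod_flag3 hd hp hq hr hpq hpr hqr
  set H0 := M24 ⊓ MulAction.stabilizer (Equiv.Perm GolayPt) (D0, p0, pt dpqX, pt dpqrX) with hH0
  set H := MulAction.stabilizer Cfsg.M24 d ⊓ MulAction.stabilizer Cfsg.M24 p ⊓ MulAction.stabilizer Cfsg.M24 q ⊓ MulAction.stabilizer Cfsg.M24 r with hH
  have hHeq : H = MulAction.stabilizer M24 (σ • (D0, p0, pt dpqX, pt dpqrX)) := by
    rw [hH, show σ • (D0, p0, pt dpqX, pt dpqrX) = (σ • D0, σ • p0, σ • pt dpqX, σ • pt dpqrX) from rfl, hσd,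
      show σ • p0 = p from hσp, show σ • pt dpqX = q from hσq, show σ • pt dpqrX = r from hσr]
    ext g
    simp only [Subgroup.mem_inf, MulAction.mem_stabilizer_iff, Prod.smul_def, Prod.mk.injEq]
    exact ⟨fun h => ⟨h.1.1.1, h.1.1.2, h.1.2, h.2⟩, fun h => ⟨⟨⟨h.1, h.2.1⟩, h.2.2.1⟩, h.2.2.2⟩⟩
  let e : H ≃* H0 := (MulEquiv.subgroupCongr hHeq).trans (stabEquiv hσ (D0, p0, pt dpqX, pt dpqrX))
  have hcard : Nat.card H = 72 := by
    rw [Nat.card_congr e.toEquiv, hH0, base_stab, dpqr_exact.2.1]
  obtain ⟨hc1, hid, hcount, hexp⟩ := els_check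
  simp only [List.all_eq_true, Bool.and_eq_true, List.any_eq_true] at hc1 hid
  have hels : ∀ g : H, ∃ a ∈ els, ((e g : H0) : Equiv.Perm GolayPt) = mkPerm a := by
    intro g
    have h1 : (1 : Equiv.Perm GolayPt) ∈ (els.map mkPerm).toFinset := by
      obtain ⟨a, ha, hai⟩ := hid
      rw [List.mem_toFinset, List.mem_map]
      refine ⟨a, ha, perm_ext fun i hi => ?_⟩
      rw [img_mkPerm (hc1 a ha).1 hi, img_one hi]
      exact beq_iff_eq.1 (hai i (List.mem_range.2 hi))
    have hT := closure_mem {τ | ∃ g ∈ chainTop dpqrStab, g.perm = τ} _ h1 (fun a ha s hs => by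
      rw [List.mem_toFinset, List.mem_map] at ha ⊢
      obtain ⟨a', ha', rfl⟩ := ha
      obtain ⟨g, hg, rfl⟩ := hs
      obtain ⟨b, hb', hcomp⟩ := (hc1 a' ha').2 g hg
      exact ⟨b, hb', mkPerm_comp hcomp⟩) (by
        exact (hH0.trans base_stab).le (e g).2)
    rw [List.mem_toFinset, List.mem_map] at hT
    obtain ⟨a, ha, hae⟩ := hT
    exact ⟨a, ha, hae.symm⟩
  have hpow : ∀ (g : H) (k : ℕ), g ^ k = 1 ↔ ((e g : H0) : Equiv.Perm GolayPt) ^ k = 1 := fun g k => by
    rw [← SubgroupClass.coe_pow, ← map_pow]
    exact ⟨fun h => by rw [h, map_one]; rfl, fun h => e.injective (Subtype.ext (h.trans (by rw [map_one]; rfl)))⟩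
  have h3 : ∀ g : H, g ^ 9 = 1 → g ^ 3 = 1 := by
    intro g hg
    obtain ⟨a, ha, hae⟩ := hels g
    rw [hpow, hae, ← powB_iff (hc1 a ha).1] at hg ⊢
    have := List.all_eq_true.1 hexp a ha
    simpa [hg] using this
  have h9 : {g : H | g ^ 9 = 1}.ncard ≤ 9 := by
    calc {g : H | g ^ 9 = 1}.ncard
        = ((fun g : H => ((e g : H0) : Equiv.Perm GolayPt)) '' {g : H | g ^ 9 = 1}).ncard :=
          (Set.ncard_image_of_injective _ (fun x y h => e.injective (Subtype.ext h))).symm
      _ ≤ (↑((els.filter fun a => powB a 9).map mkPerm).toFinset : Set (Equiv.Perm GolayPt)).ncard := by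
          refine Set.ncard_le_ncard ?_ (Finset.finite_toSet _)
          rintro _ ⟨g, hg, rfl⟩
          obtain ⟨a, ha, hae⟩ := hels g
          rw [Finset.mem_coe, List.mem_toFinset, List.mem_map]
          refine ⟨a, List.mem_filter.2 ⟨ha, (powB_iff (hc1 a ha).1 9).2 ?_⟩, hae.symm⟩
          rw [← hae, ← hpow]; exact hg
      _ ≤ 9 := by
          rw [Set.ncard_coe_finset]
          refine (List.toFinset_card_le _).trans ?_
          rw [List.length_map, ← List.countP_eq_length_filter, hcount]
  haveI : Fact (Nat.Prime 3) := ⟨Nat.prime_three⟩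
  haveI : Fact (Nat.Prime 2) := ⟨Nat.prime_two⟩
  refine ⟨fun Q => ?_, fun P => ?_⟩
  · have hQc : Nat.card Q = 9 := by
      rw [Q.card_eq_multiplicity, hcard, show (72 : ℕ) = 3 ^ 2 * 8 by norm_num,
        Nat.factorization_mul (by norm_num) (by norm_num), Nat.Prime.factorization_pow Nat.prime_three,
        Finsupp.add_apply, Finsupp.single_eq_same, Nat.factorization_eq_zero_of_not_dvd (by norm_num)]
      norm_num
    have hQpow : ∀ x ∈ (Q : Subgroup H), x ^ 9 = 1 := fun x hx => by
      have h := pow_card_eq_one' (G := Q) (x := ⟨x, hx⟩)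
      rw [hQc] at h
      exact congrArg Subtype.val h
    have hset : ((Q : Subgroup H) : Set H) = {g : H | g ^ 9 = 1} :=
      Set.eq_of_subset_of_ncard_le hQpow (by rw [← Nat.card_coe_set_eq ((Q : Subgroup H) : Set H)]; exact h9.trans hQc.ge)
        (Set.toFinite _)
    refine ⟨⟨fun x hx g => ?_⟩, hQc, fun x hx => h3 x (hQpow x hx)⟩
    rw [← SetLike.mem_coe, hset] at hx ⊢
    show (g * x * g⁻¹) ^ 9 = 1
    rw [conj_pow, show x ^ 9 = 1 from hx, mul_one, mul_inv_cancel]
  · obtain ⟨qm, qinj, qmem⟩ := q_check
    have hqH : ∀ x, mkPerm (qf x) ∈ H0 := fun x => by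
      have h := qmem x
      simp only [Bool.and_eq_true, beq_iff_eq] at h
      obtain ⟨⟨⟨⟨h1, h2⟩, h3'⟩, h4⟩, h5⟩ := h
      have hfix : ∀ a : ℕ, a < 24 → app (qf x) a = a → mkPerm (qf x) (pt a) = pt a := fun a ha h =>
        num_injective (by rw [num_mkPerm (inM24_ok h1), num_pt ha, h])
      refine Subgroup.mem_inf.2 ⟨mkPerm_mem_M24 h1, MulAction.mem_stabilizer_iff.2 ?_⟩
      refine Prod.ext ?_ (Prod.ext ?_ (Prod.ext ?_ ?_))
      · show mkPerm (qf x) • D0 = D0
        rw [D0, smul_ofMask (inM24_ok h1), h2]
      · exact hfix _ (by decide) h3'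
      · exact hfix _ (by decide) h4
      · exact hfix _ (by decide) h5
    let ψ : QuaternionGroup 2 →* H := MonoidHom.mk' (fun x => e.symm ⟨mkPerm (qf x), hqH x⟩) fun x y => by
      rw [← map_mul]
      exact congrArg e.symm (Subtype.ext (mkPerm_comp (qm x y)))
    have hψ : Function.Injective ψ := by
      refine (injective_iff_map_eq_one ψ).2 fun x hx => qinj x ?_
      have h1 : mkPerm (qf x) = 1 := congrArg Subtype.val ((e.symm.map_eq_one_iff).1 hx)
      rw [List.all_eq_true]
      intro i hi
      rw [List.mem_range] at hi
      have hok := inM24_ok (Bool.and_eq_true_iff.1 (Bool.and_eq_true_iff.1 (Bool.and_eq_true_iff.1 (Bool.and_eq_true_iff.1 (qmem x)).1).1).1).1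
      rw [beq_iff_eq, ← img_mkPerm hok hi, h1, img_one hi]
    have hR : IsPGroup 2 ψ.range := (IsPGroup.of_card (p := 2) (n := 3) (by
      rw [Nat.card_eq_fintype_card, QuaternionGroup.card]; norm_num)).of_equiv (MonoidHom.ofInjective hψ)
    obtain ⟨P', hP'⟩ := hR.exists_le_sylow
    have hP'eq : (P' : Subgroup H) = ψ.range := by
      refine (Subgroup.eq_of_le_of_card_ge hP' ?_).symm
      rw [P'.card_eq_multiplicity, hcard, ← Nat.card_congr (MonoidHom.ofInjective hψ).toEquiv,
        Nat.card_eq_fintype_card (α := QuaternionGroup 2), QuaternionGroup.card,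
        show (72 : ℕ) = 2 ^ 3 * 9 by norm_num, Nat.factorization_mul (by norm_num) (by norm_num),
        Nat.Prime.factorization_pow Nat.prime_two, Finsupp.add_apply, Finsupp.single_eq_same,
        Nat.factorization_eq_zero_of_not_dvd (by norm_num)]
      norm_num
    exact ⟨(P.equiv P').trans ((MulEquiv.subgroupCongr hP'eq).trans (MonoidHom.ofInjective hψ).symm)⟩

end Cfsg.Agent.S5619
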