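import Cfsg.Statements.S5620
import Cfsg.Agent.Spor.SquareDod
import Cfsg.Agent.Spor.M24Simple
import Cfsg.Agent.Spor.M24Order
import Cfsg.Agent.S0389
-- import your own Cfsg.Agent.* helpers here

set_option autoImplicit false
open scoped Pointwise
open Cfsg

namespace Cfsg.Agent.S5620

open scoped Pointwise

/-- Inside the stabiliser of the dodecad of squares (a Mathieu group of degree 12), the stabiliser of the residue 0 (a point of the dodecad) and the stabiliser of the extra point (a point outside the dodecad) are isomorphic but not conjugate; conjugation by a suitable element of the code's group that maps the dodecad of squares onto its complement carries the first onto the second. -/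
theorem result : Nonempty (↥(Cfsg.Spor.M12 ⊓ MulAction.stabilizer (Equiv.Perm Cfsg.GolayPt) (none : Cfsg.GolayPt)) ≃* ↥Cfsg.Spor.M11) ∧ (¬ ∃ k ∈ Cfsg.Spor.M12, MulAut.conj k • Cfsg.Spor.M11 = Cfsg.Spor.M12 ⊓ MulAction.stabilizer (Equiv.Perm Cfsg.GolayPt) (none : Cfsg.GolayPt)) ∧ ∃ g ∈ Cfsg.M24, g • Cfsg.Spor.squareDodecad = Finset.univ \ Cfsg.Spor.squareDodecad ∧ MulAut.conj g • Cfsg.Spor.M11 = Cfsg.Spor.M12 ⊓ MulAction.stabilizer (Equiv.Perm Cfsg.GolayPt) (none : Cfsg.GolayPt) := by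
  classical
  set D := Spor.squareDodecad with hD
  set D' := (Finset.univ : Finset GolayPt) \ D with hD'
  have hDd := CfsgLib.Spor.SquareDod.sq_mem
  have hD'd := CfsgLib.Spor.SquareDod.compl_dod hDd
  have h0 := CfsgLib.Spor.SquareDod.zero_mem
  have hn : (none : GolayPt) ∈ D' := by simp [hD', hD, CfsgLib.Spor.SquareDod.none_notMem]
  obtain ⟨τ, hτ, hτD, hτ0⟩ := CfsgLib.Spor.dod_flag1 hDd h0
  obtain ⟨σ, hσ, hσD, hσ0⟩ := CfsgLib.Spor.dod_flag1 hD'd hn
  set g := σ * τ⁻¹ with hg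
  have hgM : g ∈ M24 := mul_mem hσ (inv_mem hτ)
  have hgD : g • D = D' := by rw [hg, hD, ← hτD, mul_smul, inv_smul_smul, hσD]
  have hg0 : g (some 0) = none := by
    rw [hg, Equiv.Perm.mul_apply, ← hτ0, ← Equiv.Perm.mul_apply τ⁻¹ τ, inv_mul_cancel, Equiv.Perm.one_apply, hσ0]
  have hcompl : ∀ k : Equiv.Perm GolayPt, k • D' = D' ↔ k • D = D := fun k => by
    rw [hD', ← Finset.compl_eq_univ_sdiff, show k • Dᶜ = (k • D)ᶜ from CfsgLib.Spor.smul_compl_perm k D,
      compl_inj_iff]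
  have hN : ∀ x, x ∈ Spor.M12 ⊓ MulAction.stabilizer (Equiv.Perm GolayPt) (none : GolayPt) ↔
      x ∈ M24 ∧ x • D = D ∧ x none = none := fun x => by
    simp [Spor.M12, MulAction.mem_stabilizer_iff, and_assoc, hD]
  have hconj : ∀ k ∈ M24, ∀ (E : Finset GolayPt) (a : GolayPt), k • D = E → k (some 0) = a →
      ∀ x, x ∈ MulAut.conj k • Spor.M11 ↔ x ∈ M24 ∧ x • E = E ∧ x a = a := by
    intro k hk E a hE ha x
    rw [Subgroup.mem_pointwise_smul_iff_inv_smul_mem, MulAut.smul_def, MulAut.conj_inv_apply,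
      CfsgLib.Spor.SquareDod.mem_M11, ← hE, ← ha]
    refine and_congr ⟨fun h => ?_, fun h => mul_mem (mul_mem (inv_mem hk) h) hk⟩ (and_congr ?_ ?_)
    · have := mul_mem (mul_mem hk h) (inv_mem hk)
      simpa [mul_assoc] using this
    · rw [mul_smul, mul_smul, inv_smul_eq_iff]
    · rw [Equiv.Perm.mul_apply, Equiv.Perm.mul_apply, Equiv.Perm.inv_eq_iff_eq]
  have hgeq : MulAut.conj g • Spor.M11 = Spor.M12 ⊓ MulAction.stabilizer (Equiv.Perm GolayPt) (none : GolayPt) := by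
    ext x
    rw [hconj g hgM D' none hgD hg0, hN, hcompl]
  refine ⟨⟨?_⟩, ?_, g, hgM, hgD, hgeq⟩
  · rw [← hgeq]
    exact (Subgroup.equivSMul (MulAut.conj g) Spor.M11).symm
  · rintro ⟨k, hk, hkeq⟩
    have hk' : k ∈ M24 ∧ k • D = D := by simpa [Spor.M12, MulAction.mem_stabilizer_iff, hD] using hk
    set a := k (some 0) with ha
    have haD : a ∈ D := by rw [ha, ← hk'.2]; exact CfsgLib.Spor.mem_smul_iff.2 h0
    obtain ⟨u, v, w, hu, hv, hw, huv, huw, hvw⟩ : ∃ u v w, u ∈ D.erase a ∧ v ∈ D.erase a ∧ w ∈ D.erase a ∧ u ≠ v ∧ u ≠ w ∧ v ≠ w := by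
      have h3 : 2 < (D.erase a).card := by rw [Finset.card_erase_of_mem haD, hDd.2]; norm_num
      obtain ⟨u, hu, v, hv, w, hw, h⟩ := Finset.two_lt_card.1 h3
      exact ⟨u, v, w, hu, hv, hw, h⟩
    rw [Finset.mem_erase] at hu hv hw
    have hout : ∀ z ∈ D, z ∉ D' := fun z hz h => (Finset.mem_sdiff.1 h).2 hz
    obtain ⟨h, hh, hhi⟩ := Cfsg.Agent.S0389.result D' hD'd none hn
      ⟨![a, v, w], CfsgLib.Spor.M24Simple.inj_three hv.1.symm hw.1.symm hvw⟩
      ⟨![u, v, w], CfsgLib.Spor.M24Simple.inj_three huv huw hvw⟩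
      (fun i => hout _ (by fin_cases i; exacts [haD, hv.2, hw.2]))
      (fun i => hout _ (by fin_cases i; exacts [hu.2, hv.2, hw.2]))
    have hmem : (h : Equiv.Perm GolayPt) ∈ MulAut.conj k • Spor.M11 := by
      rw [hkeq, hN]
      refine ⟨h.2, (hcompl _).1 ?_, ?_⟩
      · exact MulAction.mem_stabilizer_iff.1 (Subgroup.mem_inf.1 hh).1
      · exact MulAction.mem_stabilizer_iff.1 (Subgroup.mem_inf.1 hh).2
    have hfix := ((hconj k hk'.1 D a hk'.2 rfl _).1 hmem).2.2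
    exact hu.1 ((hhi 0).symm.trans hfix)

end Cfsg.Agent.S5620
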