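import Cfsg.Statements.S5625
import Cfsg.Agent.Spor.SteinerCount
import Mathlib
-- import your own Cfsg.Agent.* helpers here

set_option autoImplicit false
open Cfsg

namespace Cfsg.Agent.S5625

open CfsgLib.Spor.SteinerCount Finset

/-- In any Steiner system S(5, 8, 24) and for any set Y of three points, the blocks meeting Y in exactly 3, 2, 1 and 0 points number 21, 168, 360 and 210 respectively (so there are 759 blocks in all). -/
theorem result (α : Type*) [Fintype α] [DecidableEq α] (hα : Fintype.card α = 24) (B : Set (Finset α)) (hB : Cfsg.IsSteinerSystem 5 8 B) (Y : Finset α) (hY : Y.card = 3) : {b : Finset α | b ∈ B ∧ (b ∩ Y).card = 3}.ncard = 21 ∧ {b : Finset α | b ∈ B ∧ (b ∩ Y).card = 2}.ncard = 168 ∧ {b : Finset α | b ∈ B ∧ (b ∩ Y).card = 1}.ncard = 360 ∧ {b : Finset α | b ∈ B ∧ (b ∩ Y).card = 0}.ncard = 210 := by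
  have e0 := count_meet hB Y (j := 0) (lam := 759) (N := 4) (by norm_num) (by norm_num) (by rw [hα]; decide) (by omega)
  have e1 := count_meet hB Y (j := 1) (lam := 253) (N := 4) (by norm_num) (by norm_num) (by rw [hα]; decide) (by omega)
  have e2 := count_meet hB Y (j := 2) (lam := 77) (N := 4) (by norm_num) (by norm_num) (by rw [hα]; decide) (by omega)
  have e3 := count_meet hB Y (j := 3) (lam := 21) (N := 4) (by norm_num) (by norm_num) (by rw [hα]; decide) (by omega)
  simp only [sum_range_succ, sum_range_zero, Nat.choose, hY] at e0 e1 e2 e3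
  simp only [ncard_eq (fun b => (b ∩ Y).card = _)]
  simp only [meet] at e0 e1 e2 e3
  omega

end Cfsg.Agent.S5625
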