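import Cfsg.Statements.S5632
import Cfsg.Agent.Lie.StabPair

set_option autoImplicit false
open Cfsg

namespace Cfsg.Agent.S5632

/-- For a finite field F and subspaces 0 < W < U of F^n with dim W + dim U = n, the elements of SL_n(F) stabilising both W and U form a subgroup that is not maximal in SL_n(F): some subgroup lies strictly between it and SL_n(F). -/
theorem result {F : Type*} [Field F] [Fintype F] (n : ℕ) (W U : Submodule F (Fin n → F)) (hW0 : W ≠ ⊥) (hWU : W < U) (hdim : Module.finrank F W + Module.finrank F U = n) : ∃ K : Subgroup (Matrix.GeneralLinearGroup (Fin n) F), Cfsg.Geo.subspaceStabilizer W ⊓ Cfsg.Geo.subspaceStabilizer U ⊓ Cfsg.Geo.specialLinear (Fin n) F < K ∧ K < Cfsg.Geo.specialLinear (Fin n) F := by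
  have h1 : 0 < Module.finrank F W := Submodule.one_le_finrank_iff.2 hW0
  have hUtop : U ≠ ⊤ := fun h => by
    rw [h, finrank_top, Module.finrank_fin_fun] at hdim
    omega
  obtain ⟨v, hv⟩ : ∃ v, v ∉ U := by
    by_contra hc
    push_neg at hc
    exact hUtop (Submodule.eq_top_iff'.2 hc)
  obtain ⟨u0, hu0, hu0'⟩ := SetLike.exists_of_lt hWU
  obtain ⟨g, hg, hgW, hgU⟩ := CfsgLib.Lie.StabPair.exists_sep W U hu0 hv (fun hc => by
    obtain ⟨w, hw, y, hy, he⟩ := Submodule.mem_sup.1 hc
    obtain ⟨c, rfl⟩ := Submodule.mem_span_singleton.1 hy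
    have : c • v ∈ U := by
      rw [show c • v = u0 - w by rw [← he]; abel]
      exact U.sub_mem hu0 (hWU.le hw)
    by_cases hc0 : c = 0
    · rw [hc0, zero_smul, add_zero] at he; exact hu0' (he ▸ hw)
    · exact hv (by simpa [smul_smul, hc0] using U.smul_mem c⁻¹ this))
  exact CfsgLib.Lie.StabPair.intermediate W U hg hgW hgU hW0 (fun h => not_lt_top_iff.2 rfl (h ▸ hWU.trans_le le_top))

end Cfsg.Agent.S5632
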