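import Cfsg.Statements.S5633
import Cfsg.Agent.Lie.StabPair

set_option autoImplicit false
open Cfsg

namespace Cfsg.Agent.S5633

/-- For a finite field F and complementary non-zero subspaces W ⊕ U = F^n with dim W < dim U, the elements of SL_n(F) stabilising both W and U form a subgroup that is not maximal in SL_n(F): some subgroup lies strictly between it and SL_n(F). -/
theorem result {F : Type*} [Field F] [Fintype F] (n : ℕ) (W U : Submodule F (Fin n → F)) (hW0 : W ≠ ⊥) (hWU : W ⊓ U = ⊥) (hWU' : W ⊔ U = ⊤) (hdim : Module.finrank F W < Module.finrank F U) : ∃ K : Subgroup (Matrix.GeneralLinearGroup (Fin n) F), Cfsg.Geo.subspaceStabilizer W ⊓ Cfsg.Geo.subspaceStabilizer U ⊓ Cfsg.Geo.specialLinear (Fin n) F < K ∧ K < Cfsg.Geo.specialLinear (Fin n) F := by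
  have hW1 : W ≠ ⊤ := fun h => by
    rw [h, top_inf_eq] at hWU
    rw [hWU, finrank_bot] at hdim
    omega
  obtain ⟨v, hv, hv0⟩ := Submodule.exists_mem_ne_zero_of_ne_bot hW0
  have hU0 : U ≠ ⊥ := fun h => by rw [h, finrank_bot] at hdim; omega
  obtain ⟨u0, hu0, hu00⟩ := Submodule.exists_mem_ne_zero_of_ne_bot hU0
  obtain ⟨g, hg, hgW, hgU⟩ := CfsgLib.Lie.StabPair.exists_sep W U hu0
    (fun h => hv0 ((Submodule.mem_bot F).1 (hWU ▸ Submodule.mem_inf.2 ⟨hv, h⟩)))
    (fun h => hu00 ((Submodule.mem_bot F).1 (hWU ▸ Submodule.mem_inf.2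
      ⟨(sup_le le_rfl ((Submodule.span_singleton_le_iff_mem _ _).2 hv)) h, hu0⟩)))
  exact CfsgLib.Lie.StabPair.intermediate W U hg hgW hgU hW0 hW1

end Cfsg.Agent.S5633
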