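import Cfsg.Statements.S5634
import Cfsg.Agent.Lie.MonomialSL

set_option autoImplicit false
open Cfsg

namespace Cfsg.Agent.S5634

open Matrix
open CfsgLib.Lie.FormMaxSL
open CfsgLib.Lie.MonomialGL (Mon monGL)

theorem line_case {F : Type*} [Field F] [Fintype F] {n : ℕ} (hn : 13 ≤ n) (hq : 5 ≤ Fintype.card F)
    {D : Fin n → Submodule F (Fin n → F)} (hD : Cfsg.Geo.IsMDecomposition 1 D) :
    Cfsg.Geo.IsMaximalIn (Cfsg.Geo.specialLinear (Fin n) F)
      (Cfsg.Geo.decompositionStabilizer D ⊓ Cfsg.Geo.specialLinear (Fin n) F) := by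
  classical
  choose v hv hv0 using fun i => CfsgLib.Lie.DecompSL.nontriv hD i
  have hspan : ∀ i, ∀ x ∈ D i, ∃ a : F, x = a • v i := by
    intro i x hx
    obtain ⟨a, ha⟩ := exists_smul_eq_of_finrank_eq_one (hD.finrank_eq i)
      (x := (⟨v i, hv i⟩ : D i)) (fun h => hv0 i (congrArg Subtype.val h)) ⟨x, hx⟩
    exact ⟨a, (congrArg Subtype.val ha).symm⟩
  -- the change of basis
  let L : (Fin n → F) →ₗ[F] (Fin n → F) :=
    ∑ i, (LinearMap.proj i : (Fin n → F) →ₗ[F] F).smulRight (v i)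
  have hL : ∀ k, L (Pi.single k 1) = v k := by
    intro k
    simp only [L, LinearMap.sum_apply, LinearMap.smulRight_apply, LinearMap.proj_apply]
    rw [Finset.sum_eq_single k]
    · simp
    · intro i _ hi; simp [hi]
    · simp
  have hLx : ∀ x k, CfsgLib.Lie.DecompSL.pr hD k (L x) = x k • v k := by
    intro x k
    simp only [L, LinearMap.sum_apply, LinearMap.smulRight_apply, LinearMap.proj_apply, map_sum,
      map_smul]
    rw [Finset.sum_eq_single k]
    · rw [CfsgLib.Lie.DecompSL.pr_self hD (hv k)]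
    · intro i _ hi; rw [CfsgLib.Lie.DecompSL.pr_other hD (Ne.symm hi) (hv i), smul_zero]
    · simp
  have hinj : Function.Injective L := by
    intro x y hxy
    funext k
    have h1 := hLx x k
    rw [hxy, hLx y k] at h1
    exact smul_left_injective F (hv0 k) h1.symm
  obtain ⟨P, hP⟩ : ∃ P : GL (Fin n) F, ∀ x, (P : Matrix (Fin n) (Fin n) F) *ᵥ x = L x := by
    obtain ⟨e, he⟩ : ∃ e : (Fin n → F) ≃ₗ[F] (Fin n → F), e.toLinearMap = L :=
      ⟨LinearEquiv.ofInjectiveEndo L hinj, by ext x; rfl⟩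
    refine ⟨⟨LinearMap.toMatrix' e.toLinearMap, LinearMap.toMatrix' e.symm.toLinearMap, ?_, ?_⟩,
      fun x => by rw [← he]; exact LinearMap.toMatrix'_mulVec _ _⟩
    · rw [← LinearMap.toMatrix'_comp, e.comp_symm, LinearMap.toMatrix'_id]
    · rw [← LinearMap.toMatrix'_comp, e.symm_comp, LinearMap.toMatrix'_id]
  have hPk : ∀ k, (P : Matrix (Fin n) (Fin n) F) *ᵥ Pi.single k 1 = v k := fun k => by rw [hP, hL]
  -- monomial elements correspond to the stabiliser
  have hmon : ∀ g : GL (Fin n) F, Mon (P⁻¹ * g * P) ↔ g ∈ Cfsg.Geo.decompositionStabilizer D := by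
    intro g
    constructor
    · intro h
      obtain ⟨σ, c, hσ⟩ := CfsgLib.Lie.MonomialGL.eq_monGL h
      refine CfsgLib.Lie.DecompSL.mem_stab_of_maps hD (σ := σ) fun i x hx => ?_
      obtain ⟨a, rfl⟩ := hspan i x hx
      have h1 : (g : Matrix (Fin n) (Fin n) F) *ᵥ v i = (c i : F) • v (σ i) := by
        have h2 := congrArg (fun y : GL (Fin n) F =>
          (P : Matrix (Fin n) (Fin n) F) *ᵥ ((y : Matrix (Fin n) (Fin n) F) *ᵥ Pi.single i 1)) hσ
        simp only [Units.val_mul, ← Matrix.mulVec_mulVec, mulVec_inv_mulVec,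
          CfsgLib.Lie.MonomialGL.monGL_single, Matrix.mulVec_smul, hPk] at h2
        exact h2
      rw [Matrix.mulVec_smul, h1]
      exact Submodule.smul_mem _ _ (Submodule.smul_mem _ _ (hv _))
    · rintro ⟨σ, hσ⟩ k
      refine ⟨σ k, fun i hi => ?_⟩
      have hmem : (g : Matrix (Fin n) (Fin n) F) *ᵥ v k ∈ D (σ k) := by
        rw [← hσ k]; exact ⟨v k, hv k, Matrix.toLin'_apply _ _⟩
      obtain ⟨a, ha⟩ := hspan _ _ hmem
      have h1 : ((P⁻¹ * g * P : GL (Fin n) F) : Matrix (Fin n) (Fin n) F) *ᵥ Pi.single k 1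
          = a • Pi.single (σ k) 1 := by
        rw [Units.val_mul, Units.val_mul, ← Matrix.mulVec_mulVec, ← Matrix.mulVec_mulVec, hPk, ha,
          ← hPk, Matrix.mulVec_smul, inv_mulVec_mulVec]
      have h2 := congrFun h1 i
      rw [Matrix.mulVec_single_one, Matrix.col_apply] at h2
      rw [h2]; simp [hi]
  have hdet : ∀ g : GL (Fin n) F, ((P⁻¹ * g * P : GL (Fin n) F) : Matrix (Fin n) (Fin n) F).det
      = (g : Matrix (Fin n) (Fin n) F).det := by
    intro g
    have h1 : ((P⁻¹ : GL (Fin n) F) : Matrix (Fin n) (Fin n) F).det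
        * (P : Matrix (Fin n) (Fin n) F).det = 1 := by
      rw [← Matrix.det_mul, ← Units.val_mul, inv_mul_cancel, Units.val_one, Matrix.det_one]
    rw [Units.val_mul, Units.val_mul, Matrix.det_mul, Matrix.det_mul]
    linear_combination (g : Matrix (Fin n) (Fin n) F).det * h1
  refine ⟨lt_of_le_of_ne inf_le_right ?_, ?_⟩
  · intro heq
    obtain ⟨i, j, hij⟩ : ∃ i j : Fin n, i ≠ j := ⟨⟨0, by omega⟩, ⟨1, by omega⟩, by simp⟩
    obtain ⟨E, hE⟩ : ∃ E : GL (Fin n) F,
        E = tv (Pi.single i 1) ((1 : F) • (LinearMap.proj j : (Fin n → F) →ₗ[F] F)) := ⟨_, rfl⟩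
    have hS : P * E * P⁻¹ ∈ Cfsg.Geo.decompositionStabilizer D ⊓ Cfsg.Geo.specialLinear (Fin n) F := by
      rw [heq]
      refine CfsgLib.Lie.DecompSL.mem_SL ?_
      rw [← hdet, show P⁻¹ * (P * E * P⁻¹) * P = E by group, hE]
      exact tv_det _ _
    have hm := (hmon _).2 hS.1
    rw [show P⁻¹ * (P * E * P⁻¹) * P = E by group, hE] at hm
    obtain ⟨l, hl⟩ := hm j
    by_cases h : l = i
    · have := hl j (h ▸ hij.symm)
      rw [CfsgLib.Lie.MonomialSL.tv_single_apply hij] at this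
      simp [hij.symm] at this
    · have := hl i (Ne.symm h)
      rw [CfsgLib.Lie.MonomialSL.tv_single_apply hij] at this
      simp [hij] at this
  intro M hHM hMSL
  by_cases hMH : M ≤ Cfsg.Geo.decompositionStabilizer D ⊓ Cfsg.Geo.specialLinear (Fin n) F
  · exact Or.inl (le_antisymm hMH hHM)
  right
  obtain ⟨g, hgM, hgH⟩ := SetLike.not_le_iff_exists.1 hMH
  obtain ⟨M', hM'⟩ : ∃ M' : Subgroup (GL (Fin n) F), M' = M.comap (MulAut.conj P).toMonoidHom :=
    ⟨_, rfl⟩
  have hmem : ∀ y, y ∈ M' ↔ P * y * P⁻¹ ∈ M := fun y => by rw [hM']; rfl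
  have hmain : Cfsg.Geo.specialLinear (Fin n) F ≤ M' := by
    refine CfsgLib.Lie.MonomialSL.SL_le (g := P⁻¹ * g * P) hq (by simp; omega) ?_ ?_ ?_ ?_
    · intro σ c hc
      rw [hmem]
      refine hHM ⟨(hmon _).1 ?_, CfsgLib.Lie.DecompSL.mem_SL ?_⟩
      · rw [show P⁻¹ * (P * monGL σ c * P⁻¹) * P = monGL σ c by group]
        exact CfsgLib.Lie.MonomialGL.monGL_mon σ c
      · rw [← hdet, show P⁻¹ * (P * monGL σ c * P⁻¹) * P = monGL σ c by group, hc]
    · intro y hy
      have := CfsgLib.Lie.DecompSL.det_eq_one (hMSL ((hmem y).1 hy))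
      rw [← hdet, show P⁻¹ * (P * y * P⁻¹) * P = y by group] at this
      exact this
    · rw [hmem, show P * (P⁻¹ * g * P) * P⁻¹ = g by group]; exact hgM
    · exact fun h => hgH ⟨(hmon g).1 h, hMSL hgM⟩
  refine le_antisymm hMSL fun y hy => ?_
  have h1 : P⁻¹ * y * P ∈ M' :=
    hmain (CfsgLib.Lie.DecompSL.mem_SL (by rw [hdet]; exact CfsgLib.Lie.DecompSL.det_eq_one hy))
  rwa [hmem, show P * (P⁻¹ * y * P) * P⁻¹ = y by group] at h1

/-- For a finite field F with q elements and n ≥ 13, let D be a decomposition of F^n into t ≥ 2 independent subspaces of equal dimension m ≥ 1 spanning F^n. Unless m = 1 and q ≤ 4, or m = 2 and q = 2, the elements of SL_n(F) permuting the members of D form a maximal subgroup of SL_n(F). -/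
theorem result {F : Type*} [Field F] [Fintype F] (n : ℕ) (hn : 13 ≤ n) {t : ℕ} (m : ℕ) (D : Fin t → Submodule F (Fin n → F)) (hD : Cfsg.Geo.IsMDecomposition m D) (h1 : ¬ (m = 1 ∧ Fintype.card F ≤ 4)) (h2 : ¬ (m = 2 ∧ Fintype.card F = 2)) : Cfsg.Geo.IsMaximalIn (Cfsg.Geo.specialLinear (Fin n) F) (Cfsg.Geo.decompositionStabilizer D ⊓ Cfsg.Geo.specialLinear (Fin n) F) := by
  have htm : t * m = n := by
    have hd := LinearEquiv.finrank_eq (CfsgLib.Lie.NonMax.cmp hD.indep hD.iSup_eq_top)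
    rw [Module.finrank_fintype_fun_eq_card, Fintype.card_fin, Module.finrank_pi_fintype,
      Finset.sum_congr rfl (fun i _ => hD.finrank_eq i), Finset.sum_const, Finset.card_univ,
      Fintype.card_fin, smul_eq_mul] at hd
    exact hd.symm
  by_cases hm : m = 1
  · subst hm
    obtain rfl : t = n := by omega
    exact line_case hn (by simp at h1; omega) hD
  · refine CfsgLib.Lie.DecompSL.maximal hD (by have := hD.pos; omega) fun h => ⟨?_, ?_⟩
    · have := Fintype.one_lt_card (α := F)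
      simp [h] at h2
      omega
    · subst h; omega

end Cfsg.Agent.S5634
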