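import Cfsg.Statements.S5644
import Cfsg.Agent.Lie.OrthMaxSL

set_option autoImplicit false
open Cfsg

namespace Cfsg.Agent.S5644

/-- For a finite field F of odd order and n ≥ 13, let Q be a non-degenerate quadratic form on F^n (its polar form is non-degenerate). Then the elements of SL_n(F) that are similarities of Q (Q(gv) = c Q(v) for a non-zero scalar c depending on g) form a maximal subgroup of SL_n(F). -/
theorem result {F : Type*} [Field F] [Fintype F] (n : ℕ) (hn : 13 ≤ n) (hodd : Odd (Fintype.card F)) (Q : (Fin n → F) → F) (hQ : Cfsg.Geo.IsNondegenerateQuadraticForm Q) : Cfsg.Geo.IsMaximalIn (Cfsg.Geo.specialLinear (Fin n) F) (Cfsg.Geo.quadSimilarityGroup Q ⊓ Cfsg.Geo.specialLinear (Fin n) F) := by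
  let B : LinearMap.BilinForm F (Fin n → F) := LinearMap.mk₂ F (QuadraticMap.polar Q)
    hQ.polar_bilinear.add_left (fun c x v => hQ.polar_bilinear.smul_left c x v)
    hQ.polar_bilinear.add_right (fun c v x => hQ.polar_bilinear.smul_right c v x)
  have hBa : ∀ x y, B x y = QuadraticMap.polar Q x y := fun x y => rfl
  have h2 : (2 : F) ≠ 0 := by
    intro h
    have hc : ringChar F = 2 :=
      ((Nat.prime_dvd_prime_iff_eq (CharP.char_is_prime F (ringChar F)) Nat.prime_two).1
        ((CharP.cast_eq_zero_iff F (ringChar F) 2).1 (by exact_mod_cast h)))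
    have := FiniteField.even_card_iff_char_two.1 hc
    rw [Nat.odd_iff] at hodd
    omega
  have hself : ∀ v, B v v = 2 * Q v := fun v => by
    rw [hBa, QuadraticMap.polar, ← two_smul F v, hQ.smul]
    ring
  refine CfsgLib.Lie.OrthMaxSL.maximal B h2 (fun x y => by rw [hBa, hBa, QuadraticMap.polar_comm])
    (fun x hx => ?_) _ (fun g => ?_) (by rw [Fintype.card_fin]; exact hn)
  · by_contra h0
    obtain ⟨y, hy⟩ := (hQ.nondegenerate x h0).2
    exact hy (hx y)
  · refine and_congr ⟨?_, ?_⟩ Iff.rfl
    · rintro ⟨c, hc⟩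
      refine ⟨c, c.ne_zero, fun u v => ?_⟩
      rw [hBa, hBa, QuadraticMap.polar, QuadraticMap.polar, ← Matrix.mulVec_add, hc, hc, hc]
      ring
    · rintro ⟨c, hc0, hc⟩
      refine ⟨Units.mk0 c hc0, fun v => mul_left_cancel₀ h2 ?_⟩
      have h1 := hc v v
      rw [hself, hself] at h1
      rw [Units.val_mk0, h1]
      ring

end Cfsg.Agent.S5644
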