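import Cfsg.Statements.S5652
import Cfsg.Agent.Lie.OrthMaxSp

set_option autoImplicit false
open Cfsg

namespace Cfsg.Agent.S5652

/-- For a finite field F of characteristic two and m ≥ 7, let Q be a non-degenerate quadratic form on F^(2m) whose polar form is the standard alternating form. Then the elements of Sp_2m(F) that are similarities of Q (they are exactly the isometries of Q) form a maximal subgroup of Sp_2m(F). -/
theorem result {F : Type*} [Field F] [Fintype F] (m : ℕ) (hm : 7 ≤ m) (heven : ¬ Odd (Fintype.card F)) (Q : (Fin m ⊕ Fin m → F) → F) (hQ : Cfsg.Geo.IsNondegenerateQuadraticForm Q) (hpol : ∀ u v, QuadraticMap.polar Q u v = Cfsg.sympForm m F u v) : Cfsg.Geo.IsMaximalIn (Cfsg.spGL m F) (Cfsg.Geo.quadSimilarityGroup Q ⊓ Cfsg.spGL m F) := by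
  haveI : CharP F 2 := by
    obtain ⟨p, hp⟩ := CharP.exists F
    obtain ⟨n, hpn, hcard⟩ := FiniteField.card F p
    rcases hpn.eq_two_or_odd' with rfl | hodd
    · exact hp
    · exact absurd (hcard ▸ hodd.pow) heven
  let Qf : QuadraticForm F (Fin m ⊕ Fin m → F) :=
    QuadraticMap.ofPolar Q (fun a x => by rw [hQ.smul, smul_eq_mul, sq])
      hQ.polar_bilinear.add_left (fun a x y => hQ.polar_bilinear.smul_left a x y)
  have hpol' : ∀ u v, QuadraticMap.polar Qf u v = CfsgLib.Lie.Sp.bf m F u v := fun u v => by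
    rw [CfsgLib.Lie.Sp.bf_eq]; exact hpol u v
  refine CfsgLib.Lie.OrthMaxSp.maximal (by omega) Qf hpol'
    (Cfsg.Geo.quadSimilarityGroup Q ⊓ Cfsg.spGL m F) (fun g => ⟨?_, ?_⟩)
  · rintro ⟨⟨c, hc⟩, hsp⟩ x
    have hc1 : (c : F) = 1 := by
      have h0 : (Pi.single (Sum.inl (⟨0, by omega⟩ : Fin m)) 1 : Fin m ⊕ Fin m → F) ≠ 0 := by
        intro h
        have := congrFun h (Sum.inl ⟨0, by omega⟩)
        simp at this
      obtain ⟨v, hv⟩ := CfsgLib.Lie.Sp.exists_bf_eq_one h0
      have h1 := CfsgLib.Lie.OrthMaxSp.mem_spGL.1 hsp (Pi.single (Sum.inl (⟨0, by omega⟩ : Fin m)) 1) v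
      rw [← hpol', ← hpol', QuadraticMap.polar, QuadraticMap.polar, ← Matrix.mulVec_add] at h1
      change Q _ - Q _ - Q _ = Q _ - Q _ - Q _ at h1
      rw [hc, hc, hc, ← mul_sub, ← mul_sub] at h1
      have hv' := hv
      rw [← hpol', QuadraticMap.polar] at hv'
      change Q _ - Q _ - Q _ = 1 at hv'
      rw [hv', mul_one] at h1
      exact h1
    change Q _ = Q x
    rw [hc, hc1, one_mul]
  · intro h
    refine ⟨⟨1, fun x => by rw [Units.val_one, one_mul]; exact h x⟩,
      CfsgLib.Lie.OrthMaxSp.mem_spGL.2 fun u v => ?_⟩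
    rw [← hpol', ← hpol', QuadraticMap.polar, QuadraticMap.polar, ← Matrix.mulVec_add, h, h, h]

end Cfsg.Agent.S5652
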