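import Cfsg.Statements.S5659
import Cfsg.Agent.Lie.OrthSubfieldSU2

set_option autoImplicit false
open Cfsg

namespace Cfsg.Agent.S5659

/-- Let F be the field with q² elements, q odd, n ≥ 13, and F₀ the subfield with q elements. Let P be an invertible matrix such that the standard unitary form takes values in F₀ on the F₀-span of the columns of P (so it restricts to a non-degenerate symmetric bilinear form there). Then the elements of SU_n(q) lying in the subfield group of P form a maximal subgroup of SU_n(q). -/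
theorem result {F : Type*} [Field F] [Fintype F] (n q : ℕ) (hF : Fintype.card F = q ^ 2) (hn : 13 ≤ n) (hodd : Odd q) (F₀ : Subfield F) (hcard : Fintype.card F = Nat.card F₀ ^ 2) (P : Matrix.GeneralLinearGroup (Fin n) F) (hP : Cfsg.Geo.IsFormRationalStructure (Cfsg.hermForm n F q) F₀ 1 P) : Cfsg.Geo.IsMaximalIn (Cfsg.GU n F q ⊓ Cfsg.Geo.specialLinear (Fin n) F) (Cfsg.Geo.subfieldSubgroup F₀ P ⊓ (Cfsg.GU n F q ⊓ Cfsg.Geo.specialLinear (Fin n) F)) := by
  obtain ⟨θ, hθ, hθ0⟩ := CfsgLib.Lie.SUGen.exists_tz (q := q) hF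
  have hq := CfsgLib.Lie.SubfieldSU.card_sub hF hcard
  have hd : θ * θ ∈ F₀ := by
    rw [CfsgLib.Lie.SubfieldSU.mem_iff_fixed hF hq, mul_pow]
    have h1 : θ ^ q = -θ := eq_neg_of_add_eq_zero_left hθ
    rw [h1]; ring
  have h2 : (2 : F) ≠ 0 := by
    intro h
    have hc : ringChar F = 2 :=
      ((Nat.prime_dvd_prime_iff_eq (CharP.char_is_prime F (ringChar F)) Nat.prime_two).1
        ((CharP.cast_eq_zero_iff F (ringChar F) 2).1 (by exact_mod_cast h)))
    have := FiniteField.even_card_iff_char_two.1 hc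
    have hodd2 : Odd (q ^ 2) := hodd.pow
    rw [Nat.odd_iff] at hodd2
    omega
  exact CfsgLib.Lie.OrthSubfieldSU.Ctx.maximal (d := ⟨θ * θ, hd⟩) ⟨hF, hq, h2, hn, hP, hθ, hθ0, rfl⟩

end Cfsg.Agent.S5659
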