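import Cfsg.Statements.S5665
import Cfsg.Agent.Lie.SpUnit

set_option autoImplicit false
open Cfsg

namespace Cfsg.Agent.S5665

open Matrix in
/-- conjugates of members of the subalgebra -/
theorem mem_norm {F : Type*} [Field F] [Fintype F] {ι : Type} [Fintype ι] [DecidableEq ι] (S : Subalgebra F (Matrix ι ι F))
    (g : GL ι F)
    (h : ∀ x ∈ S, (g : Matrix ι ι F) * x * ((g⁻¹ : GL ι F) : Matrix ι ι F) ∈ S) :
    g ∈ Cfsg.Geo.subalgebraNormalizer S := by
  intro x
  refine ⟨h x, fun hx => ?_⟩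
  let f : S → S := fun y => ⟨_, h y y.2⟩
  have hinj : Function.Injective f := fun a b hab =>
    Subtype.ext ((Units.mul_right_inj g).1 ((Units.mul_left_inj g⁻¹).1 (congrArg Subtype.val hab)))
  obtain ⟨y, hy⟩ := Finite.surjective_of_injective hinj ⟨_, hx⟩
  rw [← (Units.mul_right_inj g).1 ((Units.mul_left_inj g⁻¹).1 (congrArg Subtype.val hy))]
  exact y.2

/-- For a finite field F of odd order and m ≥ 7, let K be a subfield of the algebra of 2m × 2m matrices over F containing the scalars, of degree 2 over F, that is closed under adjoints for the standard alternating form on F^(2m) but whose elements are not all self-adjoint (so the adjoint map induces the automorphism of order two of K). Then the elements of Sp_2m(F) normalising K form a maximal subgroup of Sp_2m(F). -/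
theorem result {F : Type*} [Field F] [Fintype F] (m : ℕ) (hm : 7 ≤ m) (hodd : Odd (Fintype.card F)) (K : Subalgebra F (Matrix (Fin m ⊕ Fin m) (Fin m ⊕ Fin m) F)) (hK : Cfsg.Geo.IsFieldSubalgebra 2 K) (hac : Cfsg.Geo.IsAdjointClosedFor (Cfsg.sympForm m F) K) (hnsa : ¬ Cfsg.Geo.IsSelfAdjointFor (Cfsg.sympForm m F) K) : Cfsg.Geo.IsMaximalIn (Cfsg.spGL m F) (Cfsg.Geo.subalgebraNormalizer K ⊓ Cfsg.spGL m F) := by
  have h2 : (2 : F) ≠ 0 := Ring.two_ne_zero fun h => by
    have := FiniteField.even_card_iff_char_two.1 h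
    have := Nat.odd_iff.1 hodd
    omega
  haveI : Nonempty (Fin m ⊕ Fin m) := ⟨.inl ⟨0, by omega⟩⟩
  -- a generator
  obtain ⟨θ, hθK, hθ⟩ : ∃ θ ∈ K, ∀ c : F, θ ≠ c • (1 : Matrix (Fin m ⊕ Fin m) (Fin m ⊕ Fin m) F) := by
    by_contra hc
    push Not at hc
    have hle : Subalgebra.toSubmodule K ≤ Submodule.span F {(1 : Matrix (Fin m ⊕ Fin m) (Fin m ⊕ Fin m) F)} := fun x hx => by
      obtain ⟨c, rfl⟩ := hc x hx
      exact Submodule.smul_mem _ _ (Submodule.mem_span_singleton_self _)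
    have h1 := Submodule.finrank_mono hle
    rw [finrank_span_singleton (one_ne_zero), show Module.finrank F (Subalgebra.toSubmodule K) = 2 from hK.finrank_eq] at h1
    omega
  have hli : LinearIndependent F ![(1 : Matrix (Fin m ⊕ Fin m) (Fin m ⊕ Fin m) F), θ] := by
    refine LinearIndependent.pair_iff.2 fun s t hst => ?_
    by_cases ht : t = 0
    · rw [ht, zero_smul, add_zero, smul_eq_zero] at hst
      exact ⟨hst.resolve_right one_ne_zero, ht⟩
    · refine absurd ?_ (hθ (-(t⁻¹ * s)))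
      have h1 : t • θ = -(s • 1) := eq_neg_of_add_eq_zero_right hst
      rw [neg_smul, ← smul_smul, ← smul_neg, ← h1, smul_smul, inv_mul_cancel₀ ht, one_smul]
  have hKspan : ∀ k ∈ K, ∃ a b : F, k = a • (1 : Matrix (Fin m ⊕ Fin m) (Fin m ⊕ Fin m) F) + b • θ := by
    have heq : Submodule.span F (Set.range ![(1 : Matrix (Fin m ⊕ Fin m) (Fin m ⊕ Fin m) F), θ]) = Subalgebra.toSubmodule K := by
      refine Submodule.eq_of_le_of_finrank_eq (Submodule.span_le.2 ?_) ?_
      · rintro _ ⟨i, rfl⟩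
        fin_cases i
        · exact K.one_mem
        · exact hθK
      · rw [finrank_span_eq_card hli, Fintype.card_fin,
          show Module.finrank F (Subalgebra.toSubmodule K) = 2 from hK.finrank_eq]
    intro k hk
    have hk' : k ∈ Submodule.span F (Set.range ![(1 : Matrix (Fin m ⊕ Fin m) (Fin m ⊕ Fin m) F), θ]) := heq ▸ hk
    obtain ⟨c, hc⟩ := (Submodule.mem_span_range_iff_exists_fun F).1 hk'
    exact ⟨c 0, c 1, by rw [← hc, Fin.sum_univ_two]; simp⟩
  obtain ⟨J, hJ⟩ : ∃ J, J = Matrix.toLin' θ := ⟨_, rfl⟩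
  have hJv : ∀ v, J v = Matrix.mulVec θ v := fun v => by rw [hJ, Matrix.toLin'_apply]
  have hcomb : ∀ (a b : F) v, Matrix.mulVec (a • (1 : Matrix (Fin m ⊕ Fin m) (Fin m ⊕ Fin m) F) + b • θ) v = a • v + b • J v :=
    fun a b v => by rw [Matrix.add_mulVec, Matrix.smul_mulVec, Matrix.smul_mulVec, Matrix.one_mulVec, hJv]
  obtain ⟨δ', τ, hsq0⟩ := hKspan (θ * θ) (K.mul_mem hθK hθK)
  have hsq : ∀ v, J (J v) = δ' • v + τ • J v := fun v => by
    rw [hJv (J v), hJv v, Matrix.mulVec_mulVec, hsq0, hcomb, hJv]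
  have hind : ∀ a b : F, (∀ v, a • v + b • J v = 0) → a = 0 ∧ b = 0 := fun a b h => by
    refine LinearIndependent.pair_iff.1 hli a b (Matrix.ext_of_mulVec_single fun i => ?_)
    rw [hcomb, h, Matrix.zero_mulVec]
  have hnoeig : ∀ (x : Fin m ⊕ Fin m → F) (c : F), J x = c • x → x = 0 := by
    intro x c hx
    obtain ⟨y, -, hy⟩ := hK.inv (θ - c • 1) (K.sub_mem hθK (K.smul_mem K.one_mem c)) (sub_ne_zero.2 (hθ c))
    have h0 : Matrix.mulVec (θ - c • 1) x = 0 := by
      rw [Matrix.sub_mulVec, Matrix.smul_mulVec, Matrix.one_mulVec, ← hJv, hx, sub_self]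
    have hy' : y * (θ - c • 1) = 1 := mul_eq_one_comm.1 hy
    rw [← Matrix.one_mulVec x, ← hy', ← Matrix.mulVec_mulVec, h0, Matrix.mulVec_zero]
  -- the adjoint
  obtain ⟨θ', hθ'K, hθ'⟩ := hac θ hθK
  obtain ⟨a, b, rfl⟩ := hKspan θ' hθ'K
  have hA : ∀ u v, CfsgLib.Lie.Sp.bf m F (J u) v =
      a * CfsgLib.Lie.Sp.bf m F u v + b * CfsgLib.Lie.Sp.bf m F u (J v) := by
    intro u v
    have h1 := hθ' u v
    rw [← hJv, hcomb, ← CfsgLib.Lie.Sp.bf_eq, ← CfsgLib.Lie.Sp.bf_eq] at h1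
    rw [h1, map_add, map_smul, map_smul, smul_eq_mul, smul_eq_mul]
  have hnd' : ∀ x : Fin m ⊕ Fin m → F, (∀ u, CfsgLib.Lie.Sp.bf m F u x = 0) → x = 0 := fun x hx => by
    by_contra h0
    obtain ⟨z, hz⟩ := CfsgLib.Lie.Sp.exists_bf_eq_one h0
    rw [CfsgLib.Lie.Sp.bf_swap z x, hx, neg_zero] at hz
    exact zero_ne_one hz
  have htwice : ∀ v, (a * (1 + b)) • v + (b * b - 1) • J v = 0 := fun v => hnd' _ fun w => by
    have h1 := hA w v
    have h2 := hA v w
    rw [CfsgLib.Lie.Sp.bf_swap w (J v), CfsgLib.Lie.Sp.bf_swap w v, CfsgLib.Lie.Sp.bf_swap (J w) v, h1] at h2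
    rw [map_add, map_smul, map_smul, smul_eq_mul, smul_eq_mul]
    linear_combination h2
  obtain ⟨hab1, hbb⟩ := hind _ _ htwice
  have hb : b = -1 := by
    have h1 : (b - 1) * (b + 1) = 0 := by linear_combination hbb
    rcases mul_eq_zero.1 h1 with h | h
    · exfalso
      have hb1 : b = 1 := sub_eq_zero.1 h
      rw [hb1] at hab1
      have ha : a = 0 := (mul_eq_zero.1 hab1).resolve_right (by rwa [one_add_one_eq_two])
      refine hnsa fun k hk u v => ?_
      obtain ⟨p, q, rfl⟩ := hKspan k hk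
      rw [hcomb, hcomb, ← CfsgLib.Lie.Sp.bf_eq, ← CfsgLib.Lie.Sp.bf_eq, map_add, map_add, map_smul, map_smul,
        map_smul, map_smul, LinearMap.add_apply, LinearMap.smul_apply, LinearMap.smul_apply, hA u v, hb1, ha,
        zero_mul, zero_add, one_mul]
    · exact eq_neg_of_add_eq_zero_left h
  subst hb
  have hτ : τ = a := by
    have hall : ∀ v, (a * a - a * τ) • v + (2 * τ - 2 * a) • J v = 0 := fun v => hnd' _ fun w => by
      have h1 := hA (J w) v
      rw [hsq, map_add, map_smul, map_smul, LinearMap.add_apply, LinearMap.smul_apply, LinearMap.smul_apply,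
        hA w v, hA w (J v), hsq, map_add, map_smul, map_smul] at h1
      simp only [smul_eq_mul] at h1
      rw [map_add, map_smul, map_smul, smul_eq_mul, smul_eq_mul]
      linear_combination -h1
    have h1 := (hind _ _ hall).2
    exact mul_left_cancel₀ h2 (sub_eq_zero.1 h1)
  rw [hτ] at hsq
  obtain ⟨h, hh⟩ : ∃ h, h = a / 2 := ⟨_, rfl⟩
  have h2h : a = 2 * h := by rw [hh]; field_simp
  obtain ⟨J0, hJ0⟩ : ∃ J0 : (Fin m ⊕ Fin m → F) →ₗ[F] (Fin m ⊕ Fin m → F), ∀ v, J0 v = J v - h • v :=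
    ⟨J - h • LinearMap.id, fun v => rfl⟩
  have C : CfsgLib.Lie.SpUnit.SCtx J0 (δ' + h * h) := by
    refine ⟨fun x => ?_, fun x y => ?_, fun x c hx => hnoeig x (c + h) ?_, h2, hm⟩
    · rw [hJ0, hJ0, map_sub, map_smul, hsq, h2h]
      match_scalars <;> ring
    · rw [hJ0, hJ0, map_sub, map_sub, map_smul, map_smul, LinearMap.sub_apply, LinearMap.smul_apply, hA,
        smul_eq_mul, h2h]
      ring
    · rw [add_smul, ← hx, hJ0, sub_add_cancel]
  -- the normaliser
  have hnorm : ∀ g : GL (Fin m ⊕ Fin m) F, g ∈ Cfsg.Geo.subalgebraNormalizer K ↔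
      ∃ a b : F, ∀ x, Matrix.mulVec (g : Matrix (Fin m ⊕ Fin m) (Fin m ⊕ Fin m) F) (J0 (Matrix.mulVec
        ((g⁻¹ : GL (Fin m ⊕ Fin m) F) : Matrix (Fin m ⊕ Fin m) (Fin m ⊕ Fin m) F) x)) = a • x + b • J0 x := by
    intro g
    have hconj : ∀ x, Matrix.mulVec ((g : Matrix (Fin m ⊕ Fin m) (Fin m ⊕ Fin m) F) * θ *
        ((g⁻¹ : GL (Fin m ⊕ Fin m) F) : Matrix (Fin m ⊕ Fin m) (Fin m ⊕ Fin m) F)) x =
        Matrix.mulVec (g : Matrix (Fin m ⊕ Fin m) (Fin m ⊕ Fin m) F) (J0 (Matrix.mulVec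
        ((g⁻¹ : GL (Fin m ⊕ Fin m) F) : Matrix (Fin m ⊕ Fin m) (Fin m ⊕ Fin m) F) x)) + h • x := fun x => by
      rw [hJ0, Matrix.mulVec_sub, Matrix.mulVec_smul, Matrix.mulVec_mulVec x, Units.mul_inv,
        Matrix.one_mulVec, sub_add_cancel, hJv, Matrix.mulVec_mulVec, Matrix.mulVec_mulVec, mul_assoc]
    constructor
    · intro hg
      obtain ⟨a, b, hab⟩ := hKspan _ ((hg θ).1 hθK)
      refine ⟨a + b * h - h, b, fun x => ?_⟩
      have h1 := hconj x
      rw [hab, hcomb] at h1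
      rw [eq_sub_iff_add_eq.2 h1.symm, hJ0]
      match_scalars <;> ring
    · rintro ⟨a, b, hab⟩
      have hgθ : (g : Matrix (Fin m ⊕ Fin m) (Fin m ⊕ Fin m) F) * θ *
          ((g⁻¹ : GL (Fin m ⊕ Fin m) F) : Matrix (Fin m ⊕ Fin m) (Fin m ⊕ Fin m) F) =
            (a - b * h + h) • 1 + b • θ :=
        Matrix.ext_of_mulVec_single fun i => by
          rw [hconj, hab, hcomb, hJ0]
          match_scalars <;> ring
      refine mem_norm K g fun x hx => ?_
      obtain ⟨p, q, rfl⟩ := hKspan x hx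
      rw [mul_add, add_mul, Matrix.mul_smul, Matrix.smul_mul, mul_one, Units.mul_inv, Matrix.mul_smul,
        Matrix.smul_mul, hgθ]
      exact K.add_mem (K.smul_mem K.one_mem _) (K.smul_mem
        (K.add_mem (K.smul_mem K.one_mem _) (K.smul_mem hθK _)) _)
  refine ⟨lt_of_le_of_ne inf_le_right fun heq => ?_, fun M hHM hMS => ?_⟩
  · obtain ⟨g, hg, hgn⟩ := CfsgLib.Lie.SpUnit.exists_not_norm C
    exact hgn ((hnorm g).1 (inf_eq_right.1 heq hg))
  by_cases hall : M ≤ Cfsg.Geo.subalgebraNormalizer K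
  · exact Or.inl (le_antisymm (le_inf hall hMS) hHM)
  right
  obtain ⟨g, hgM, hgK⟩ := SetLike.not_le_iff_exists.1 hall
  have hR : CfsgLib.Lie.SpUnit.HasRoots J0 (δ' + h * h) M := by
    intro u hu c
    refine hHM ⟨(hnorm _).2 ⟨0, 1, fun x => ?_⟩, CfsgLib.Lie.SpUnit.gv_mem u c⟩
    rw [zero_smul, zero_add, one_smul, CfsgLib.Lie.SpUnit.gv_comm C hu, Matrix.mulVec_mulVec, ← Units.val_mul,
      mul_inv_cancel, Units.val_one, Matrix.one_mulVec]
  exact le_antisymm hMS (CfsgLib.Lie.SpUnit.sp_unit_full C M hR hMS hgM fun h => hgK ((hnorm g).2 h))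

end Cfsg.Agent.S5665
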