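import Cfsg.Statements.S5675
import Cfsg.Agent.Lie.OrthFullND
import Cfsg.Agent.Lie.OrthStd

set_option autoImplicit false
open Cfsg

namespace Cfsg.Agent.S5675

/-- Let F be a finite field of odd order q, m ≥ 6, Q the standard quadratic form on F^(2m+1) and Ω the commutator subgroup of its isometry group. Let W be a non-zero subspace of even dimension on which the polar form of Q is non-degenerate; exclude the case q = 3, dim W = 2 with Q vanishing on some line of W (a plus-type plane). Then the elements of Ω stabilising W (equivalently, stabilising its orthogonal complement, of odd dimension) form a maximal subgroup of Ω. -/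
theorem result {F : Type*} [Field F] [Fintype F] (hodd : Odd (Fintype.card F)) (m : ℕ) (hm : 6 ≤ m) (W : Submodule F (Unit ⊕ (Fin m ⊕ Fin m) → F)) (hW0 : W ≠ ⊥) (hev : Even (Module.finrank F W)) (hW : Cfsg.Geo.IsNondegenerateOn (QuadraticMap.polar (Cfsg.quadFormOdd m F)) W) (hex : ¬ (Fintype.card F = 3 ∧ Module.finrank F W = 2 ∧ Cfsg.Geo.IsPlusTypeOn (Cfsg.quadFormOdd m F) W)) : Cfsg.Geo.IsMaximalIn (Cfsg.Geo.omegaGL (Cfsg.quadFormOdd m F)) (Cfsg.Geo.subspaceStabilizer W ⊓ Cfsg.Geo.omegaGL (Cfsg.quadFormOdd m F)) := by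
  have e : Cfsg.quadFormOdd m F = ⇑(CfsgLib.Lie.OrthStd.oddQ m F) := funext fun x => (CfsgLib.Lie.OrthStd.oddQ_apply m x).symm
  rw [e] at hW hex ⊢
  have hι : Fintype.card (Unit ⊕ (Fin m ⊕ Fin m)) = 2 * m + 1 := by
    rw [Fintype.card_sum, Fintype.card_sum, Fintype.card_unit, Fintype.card_fin]; omega
  have hQ := CfsgLib.Lie.OrthStd.odd_nondeg (CfsgLib.Lie.OrthOrder.two_ne_zero_of_odd rfl hodd) m
  refine CfsgLib.Lie.OrthFullND.nd_maximal hQ (by omega) W (by omega) hW0 ?_ hW (Or.inl (by omega)) ?_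
  · rintro rfl
    rw [finrank_top, Module.finrank_fintype_fun_eq_card, hι] at hev
    obtain ⟨k, hk⟩ := hev
    omega
  rintro U hU ⟨hq, h2, hs⟩
  rcases hU with rfl | rfl
  · refine hex ⟨?_, h2, CfsgLib.Lie.OrthFullND.plane_plus h2 hs⟩
    have h1 := Fintype.one_lt_card (α := F)
    obtain ⟨k, hk⟩ := hodd
    omega
  · have h3 := CfsgLib.Lie.OrthFull.finrank_perpW hQ W
    obtain ⟨k, hk⟩ := hev
    omega

end Cfsg.Agent.S5675
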