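import Cfsg.Statements.S5697
import Cfsg.Agent.Lie.OrthPair
-- import your own Cfsg.Agent.* helpers here

set_option autoImplicit false
open Cfsg

namespace Cfsg.Agent.S5697

/-- Let F be a finite field with q elements, n ≥ 13 even, Q a non-degenerate quadratic form on F^n of plus type (some subspace of dimension n/2 is totally singular), and Ω the commutator subgroup of the isometry group of Q, viewed inside GL_n(F). Suppose n/2 is even and let D be a decomposition of F^n into two complementary subspaces of dimension n/2 on each of which Q vanishes. Then the elements of Ω preserving or interchanging the two subspaces form a maximal subgroup of Ω. -/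
theorem result {F : Type*} [Field F] [Fintype F] {n : ℕ} (hn : 13 ≤ n) (heven : Even n) (Q : (Fin n → F) → F) (hQ : Cfsg.Geo.IsNondegenerateQuadraticForm Q) (hplus : Cfsg.Geo.IsPlusTypeOn Q ⊤) (k : ℕ) (hk : 2 * k = n) (hke : Even k) (D : Fin 2 → Submodule F (Fin n → F)) (hD : Cfsg.Geo.IsMDecomposition k D) (hts : ∀ i, Cfsg.Geo.IsTotallySingularQuad Q (D i)) : Cfsg.Geo.IsMaximalIn (Cfsg.Geo.omegaGL Q) (Cfsg.Geo.decompositionStabilizer D ⊓ Cfsg.Geo.omegaGL Q) := by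
  obtain ⟨Q', rfl⟩ : ∃ Q' : QuadraticForm F (Fin n → F), ⇑Q' = Q := ⟨CfsgLib.Lie.OrthFull.ofFun Q hQ, rfl⟩
  have hnd : (QuadraticMap.polarBilin Q').Nondegenerate := by
    have h := CfsgLib.Lie.OrthFull.ofFun_nondeg ⇑Q' hQ
    rwa [show CfsgLib.Lie.OrthFull.ofFun (⇑Q') hQ = Q' from QuadraticMap.ext fun _ => rfl] at h
  have h5 : 5 ≤ Fintype.card (Fin n) := by rw [Fintype.card_fin]; omega
  have hU : ∀ x ∈ D 0, Q' x = 0 := hts 0
  have hW : ∀ x ∈ D 1, Q' x = 0 := hts 1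
  have h0 := hD.finrank_eq 0
  have h1 := hD.finrank_eq 1
  have hc : IsCompl (D 0) (D 1) := by
    refine ⟨hD.indep.pairwiseDisjoint (by decide : (0 : Fin 2) ≠ 1), codisjoint_iff.2 ?_⟩
    rw [← hD.iSup_eq_top]
    refine le_antisymm (sup_le (le_iSup D 0) (le_iSup D 1)) (iSup_le fun i => ?_)
    fin_cases i
    · exact le_sup_left
    · exact le_sup_right
  have P : CfsgLib.Lie.OrthPair.SPair Q' (D 0) (D 1) := ⟨hU, hW, hc, by omega, by omega⟩
  -- membership in the stabiliser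
  have hinj : ∀ g : Cfsg.isometryGroup F ⇑Q', Function.Injective
      (Matrix.toLin' ((g : GL (Fin n) F) : Matrix (Fin n) (Fin n) F)) := fun g x y h => by
    rw [Matrix.toLin'_apply, Matrix.toLin'_apply] at h
    exact CfsgLib.Lie.Refl.act_inj g h
  have hmap : ∀ (g : Cfsg.isometryGroup F ⇑Q') (i j : Fin 2),
      (∀ x ∈ D i, CfsgLib.Lie.Refl.act Q' g x ∈ D j) →
      (D i).map (Matrix.toLin' ((g : GL (Fin n) F) : Matrix (Fin n) (Fin n) F)) = D j := by
    intro g i j h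
    refine Submodule.eq_of_le_of_finrank_eq ?_ ?_
    · rintro _ ⟨x, hx, rfl⟩; rw [Matrix.toLin'_apply]; exact h x hx
    · rw [← (Submodule.equivMapOfInjective _ (hinj g) (D i)).finrank_eq, hD.finrank_eq, hD.finrank_eq]
  have hmem : ∀ (g : Cfsg.isometryGroup F ⇑Q'),
      ((∀ x ∈ D 0, CfsgLib.Lie.Refl.act Q' g x ∈ D 0) ∧ (∀ x ∈ D 1, CfsgLib.Lie.Refl.act Q' g x ∈ D 1)) ∨
      ((∀ x ∈ D 0, CfsgLib.Lie.Refl.act Q' g x ∈ D 1) ∧ (∀ x ∈ D 1, CfsgLib.Lie.Refl.act Q' g x ∈ D 0)) →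
      (g : GL (Fin n) F) ∈ Cfsg.Geo.decompositionStabilizer D := by
    rintro g (⟨ha, hb⟩ | ⟨ha, hb⟩)
    · refine ⟨1, fun i => ?_⟩
      fin_cases i
      · exact hmap g 0 0 ha
      · exact hmap g 1 1 hb
    · refine ⟨Equiv.swap 0 1, fun i => ?_⟩
      fin_cases i
      · exact hmap g 0 1 ha
      · exact hmap g 1 0 hb
  obtain ⟨s, hsO, hsU, hsW⟩ := CfsgLib.Lie.OrthPair.exists_swap hnd h5 hU hW hc hke h0 h1
  refine ⟨lt_of_le_of_ne inf_le_right fun heq => ?_, fun M hHM hMO => ?_⟩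
  · -- a root element moving the pair
    obtain ⟨a, ha, ha0⟩ := CfsgLib.Lie.OrthRoot.exists_ne_zero (D 0) (by omega)
    obtain ⟨c, hc', hca⟩ := CfsgLib.Lie.OrthRoot.exists_notMem_span (D 0) (by omega) a
    obtain ⟨w, hw, hcw, haw⟩ := P.symm.repU hnd (b := c) (d := a) hc' ha (fun t h => by
      rcases eq_or_ne t 0 with rfl | ht
      · exact ha0 (by rw [h, zero_smul])
      · exact hca t⁻¹ (by rw [h, smul_smul, inv_mul_cancel₀ ht, one_smul]))
    have hac : QuadraticMap.polar ⇑Q' a c = 0 := CfsgLib.Lie.OrthPair.ts_polar hU ha hc'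
    have hmemE : ((CfsgLib.Lie.OrthRoot.E Q' a c : Cfsg.isometryGroup F ⇑Q') : GL (Fin n) F) ∈
        Cfsg.Geo.decompositionStabilizer D ⊓ Cfsg.Geo.omegaGL ⇑Q' := by
      rw [heq]; exact ⟨_, CfsgLib.Lie.OrthSimple.E_omega hnd h5 (hU a ha) hac, rfl⟩
    obtain ⟨σ, hσ⟩ := hmemE.1
    have hwim : w + c ∈ D (σ 1) := by
      rw [← hσ 1]
      refine ⟨w, hw, ?_⟩
      rw [Matrix.toLin'_apply]
      refine (CfsgLib.Lie.OrthRoot.E_act (hU a ha) hac w).trans ?_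
      rw [haw, hcw, hU c hc']
      simp
    have hw0 : w ≠ 0 := fun h => by rw [h, QuadraticMap.polar_zero_right] at haw; exact zero_ne_one haw
    have hc0 : c ≠ 0 := fun h => hca 0 (by rw [h, zero_smul])
    generalize σ 1 = j at hwim
    fin_cases j
    · exact hw0 (P.inj (by simpa using sub_mem hwim hc') hw)
    · exact hc0 (P.inj hc' (by simpa using sub_mem hwim hw))
  by_cases hall : M ≤ Cfsg.Geo.decompositionStabilizer D
  · exact Or.inl (le_antisymm (le_inf hall hMO) hHM)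
  right
  obtain ⟨m, hm, hmD⟩ := SetLike.not_le_iff_exists.1 hall
  obtain ⟨g, hgO, rfl⟩ := hMO hm
  obtain ⟨M', hM'⟩ : ∃ M', M' = M.comap (Cfsg.isometryGroup F ⇑Q').subtype := ⟨_, rfl⟩
  have hin : ∀ h ∈ Cfsg.Omega F ⇑Q', (h : GL (Fin n) F) ∈ Cfsg.Geo.decompositionStabilizer D → h ∈ M' :=
    fun h hO hst => hM' ▸ hHM ⟨hst, h, hO, rfl⟩
  have hL : CfsgLib.Lie.OrthPair.Levi M' (D 0) (D 1) := fun u hu w hw huw =>
    hin _ (CfsgLib.Lie.OrthSimple.E_omega hnd h5 (hU u hu) huw) (hmem _ (Or.inl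
      ⟨fun x hx => (P.stab_U hu hw huw x).1 hx, fun x hx => (P.stab_W hu hw huw x).1 hx⟩))
  have hgm : ∃ U' W', ((U' = D 0 ∧ W' = D 1) ∨ (U' = D 1 ∧ W' = D 0)) ∧
      ∃ u ∈ U', CfsgLib.Lie.Refl.act Q' g u ∉ U' ∧ CfsgLib.Lie.Refl.act Q' g u ∉ W' := by
    by_contra hcon
    push Not at hcon
    -- each member is sent into a member
    have hone : ∀ i : Fin 2, ∃ j, ∀ x ∈ D i, CfsgLib.Lie.Refl.act Q' g x ∈ D j := by
      intro i
      have hor : ∀ x ∈ D i, CfsgLib.Lie.Refl.act Q' g x ∈ D 0 ∨ CfsgLib.Lie.Refl.act Q' g x ∈ D 1 := by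
        intro x hx
        by_contra hx'
        push Not at hx'
        fin_cases i
        · exact hx'.2 (hcon _ _ (Or.inl ⟨rfl, rfl⟩) x hx hx'.1)
        · exact hx'.1 (hcon _ _ (Or.inr ⟨rfl, rfl⟩) x hx hx'.2)
      by_contra hcj
      push Not at hcj
      obtain ⟨x, hx, hx0⟩ := hcj 0
      obtain ⟨y, hy, hy1⟩ := hcj 1
      have hx1 := (hor x hx).resolve_left hx0
      have hy0 := (hor y hy).resolve_right hy1
      have hadd : CfsgLib.Lie.Refl.act Q' g (x + y) = CfsgLib.Lie.Refl.act Q' g x + CfsgLib.Lie.Refl.act Q' g y :=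
        CfsgLib.Lie.OrthRoot.act_add g x y
      rcases hor (x + y) (add_mem hx hy) with h | h
      · rw [hadd] at h; exact hx0 (by simpa using sub_mem h hy0)
      · rw [hadd] at h; exact hy1 (by simpa using sub_mem h hx1)
    choose j hj using hone
    have hne : j 0 ≠ j 1 := by
      intro h
      obtain ⟨a, ha, ha0⟩ := CfsgLib.Lie.OrthRoot.exists_ne_zero (D 0) (by omega)
      have hm0 : a ∈ D 1 := Submodule.map_injective_of_injective (hinj g)
        ((hmap g 0 (j 0) (hj 0)).trans ((hmap g 1 (j 1) (hj 1)).trans (by rw [h])).symm) ▸ ha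
      exact ha0 (P.inj ha hm0)
    refine hmD (hmem g ?_)
    rcases (show (j 0 = 0 ∧ j 1 = 1) ∨ (j 0 = 1 ∧ j 1 = 0) by omega) with ⟨e0, e1⟩ | ⟨e0, e1⟩
    · exact Or.inl ⟨fun x hx => (congrArg D e0) ▸ hj 0 x hx, fun x hx => (congrArg D e1) ▸ hj 1 x hx⟩
    · exact Or.inr ⟨fun x hx => (congrArg D e0) ▸ hj 0 x hx, fun x hx => (congrArg D e1) ▸ hj 1 x hx⟩
  have hgM' : g ∈ M' := hM' ▸ hm
  have hsM : s ∈ M' := hin s hsO (hmem s (Or.inr ⟨hsU, hsW⟩))
  have hfull : Cfsg.Omega F ⇑Q' ≤ M' := by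
    obtain ⟨U', W', hUW, hu⟩ := hgm
    rcases hUW with ⟨rfl, rfl⟩ | ⟨rfl, rfl⟩
    · exact CfsgLib.Lie.OrthPair.pair_full hnd h5 P hL ⟨s, hsM, hsU⟩ ⟨s, hsM, hsW⟩ hgM' hu
    · exact CfsgLib.Lie.OrthPair.pair_full hnd h5 P.symm (CfsgLib.Lie.OrthPair.Levi.symm P hL)
        ⟨s, hsM, hsW⟩ ⟨s, hsM, hsU⟩ hgM' hu
  refine le_antisymm hMO ?_
  rintro _ ⟨h, hh, rfl⟩
  have := hfull hh
  rwa [hM'] at this

end Cfsg.Agent.S5697
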