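import Cfsg.Statements.S5699
import Cfsg.Agent.Lie.OrthFullND
-- import your own Cfsg.Agent.* helpers here

set_option autoImplicit false
open Cfsg

namespace Cfsg.Agent.S5699

/-- Let F be a finite field with q elements, n ≥ 13 even, Q a non-degenerate quadratic form on F^n (of either type), and Ω the commutator subgroup of the isometry group of Q, viewed inside GL_n(F). Let D be a decomposition of F^n into two orthogonal subspaces of odd dimension n/2 on which the polar form is non-degenerate and which are not Q-isometric to each other. Then the elements of Ω permuting (necessarily fixing) the two subspaces form a maximal subgroup of Ω. -/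
theorem result {F : Type*} [Field F] [Fintype F] {n : ℕ} (hn : 13 ≤ n) (heven : Even n) (Q : (Fin n → F) → F) (hQ : Cfsg.Geo.IsNondegenerateQuadraticForm Q) (k : ℕ) (hk : 2 * k = n) (hko : Odd k) (D : Fin 2 → Submodule F (Fin n → F)) (hD : Cfsg.Geo.IsNondegenerateMDecomposition (QuadraticMap.polar Q) k D) (hni : ¬ Cfsg.Geo.AreIsometricFor Q (D 0) (D 1)) : Cfsg.Geo.IsMaximalIn (Cfsg.Geo.omegaGL Q) (Cfsg.Geo.decompositionStabilizer D ⊓ Cfsg.Geo.omegaGL Q) := by
  obtain ⟨Q', rfl⟩ : ∃ Q' : QuadraticForm F (Fin n → F), ⇑Q' = Q := ⟨CfsgLib.Lie.OrthFull.ofFun Q hQ, rfl⟩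
  have hnd : (QuadraticMap.polarBilin Q').Nondegenerate := by
    have h := CfsgLib.Lie.OrthFull.ofFun_nondeg ⇑Q' hQ
    rwa [show CfsgLib.Lie.OrthFull.ofFun (⇑Q') hQ = Q' from QuadraticMap.ext fun _ => rfl] at h
  have hc : Fintype.card (Fin n) = n := Fintype.card_fin n
  have h0 := hD.decomp.finrank_eq 0
  have h1 := hD.decomp.finrank_eq 1
  have hperp : D 1 = CfsgLib.Lie.OrthFull.perpW Q' (D 0) := by
    refine Submodule.eq_of_le_of_finrank_eq (fun x hx => ?_) ?_
    · exact fun w hw => hD.orthogonal 0 1 (by decide) w hw x hx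
    · have := CfsgLib.Lie.OrthFull.finrank_perpW hnd (D 0)
      omega
  have hswap : ∀ g : Cfsg.isometryGroup F ⇑Q', ¬ ∀ x ∈ D 0, CfsgLib.Lie.Refl.act Q' g x ∈ D 1 := by
    intro g hg
    obtain ⟨L, hL⟩ : ∃ L, L = Matrix.toLin' (((g : GL (Fin n) F)) : Matrix (Fin n) (Fin n) F) := ⟨_, rfl⟩
    have hLx : ∀ x, L x = CfsgLib.Lie.Refl.act Q' g x := fun x => by rw [hL, Matrix.toLin'_apply]; rfl
    have hinj : Function.Injective L := fun x y h => CfsgLib.Lie.Refl.act_inj g (by rw [← hLx, ← hLx, h])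
    have hmap : (D 0).map L = D 1 := by
      refine Submodule.eq_of_le_of_finrank_eq ?_ ?_
      · rintro _ ⟨x, hx, rfl⟩; rw [hLx]; exact hg x hx
      · rw [← (Submodule.equivMapOfInjective L hinj (D 0)).finrank_eq, h0, h1]
    refine hni ⟨(Submodule.equivMapOfInjective L hinj (D 0)).trans (LinearEquiv.ofEq _ _ hmap), fun w => ?_⟩
    change Q' (L w.1) = _
    rw [hLx, CfsgLib.Lie.Refl.act_Q]
  have heq : Cfsg.Geo.decompositionStabilizer D ⊓ Cfsg.Geo.omegaGL ⇑Q' =
      Cfsg.Geo.subspaceStabilizer (D 0) ⊓ Cfsg.Geo.omegaGL ⇑Q' := by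
    ext x
    constructor
    · rintro ⟨⟨σ, hσ⟩, hx⟩
      obtain ⟨g, hgO, rfl⟩ := hx
      refine ⟨?_, g, hgO, rfl⟩
      have hs : σ 0 = 0 := by
        by_contra h
        have h' : σ 0 = 1 := by omega
        refine hswap g fun x hx => ?_
        rw [← h', ← hσ 0]
        exact ⟨x, hx, by rw [Matrix.toLin'_apply]; rfl⟩
      refine CfsgLib.Lie.OrthFull.subspaceStab_iff.2 (CfsgLib.Lie.OrthFull.stab_of_fwd fun x hx => ?_)
      have h2 : (D 0).map (Matrix.toLin' ((g : GL (Fin n) F) : Matrix (Fin n) (Fin n) F)) = D 0 :=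
        (hσ 0).trans (by rw [hs])
      rw [← h2]
      exact ⟨x, hx, by rw [Matrix.toLin'_apply]; rfl⟩
    · rintro ⟨hst, g, hgO, rfl⟩
      have hst' : CfsgLib.Lie.OrthFull.Stab (Q := Q') (D 0) g := CfsgLib.Lie.OrthFull.subspaceStab_iff.1 hst
      refine ⟨⟨1, fun i => ?_⟩, g, hgO, rfl⟩
      have hfwd : ∀ x ∈ D i, CfsgLib.Lie.Refl.act Q' g x ∈ D i := by
        intro x hx
        fin_cases i
        · exact (hst' x).1 hx
        · have hx' : x ∈ CfsgLib.Lie.OrthFull.perpW Q' (D 0) := hperp ▸ hx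
          show _ ∈ D 1
          rw [hperp]
          intro w hw
          obtain ⟨u, rfl⟩ : ∃ u, CfsgLib.Lie.Refl.act Q' g u = w :=
            ⟨_, CfsgLib.Lie.OrthFull.act_inv' g w⟩
          rw [CfsgLib.Lie.Refl.act_polar]
          exact hx' u ((hst' u).2 hw)
      refine Submodule.eq_of_le_of_finrank_eq ?_ ?_
      · rintro _ ⟨x, hx, rfl⟩
        rw [Matrix.toLin'_apply]
        exact hfwd x hx
      · rw [← (Submodule.equivMapOfInjective _ (fun x y h => CfsgLib.Lie.Refl.act_inj g (by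
          rw [Matrix.toLin'_apply, Matrix.toLin'_apply] at h
          exact h)) (D i)).finrank_eq]
        rfl
  rw [heq]
  refine CfsgLib.Lie.OrthFullND.nd_maximal' hnd (by omega) (D 0) (by omega) ?_ ?_ (hD.nondegenerate 0)
    (Or.inr fun g => hperp ▸ hswap g) ?_
  · intro h; rw [h, finrank_bot] at h0; omega
  · intro h; rw [h, finrank_top, Module.finrank_fintype_fun_eq_card] at h0; omega
  · rintro U (rfl | rfl) ⟨-, h2, -⟩
    · omega
    · rw [← hperp, h1] at h2; omega

end Cfsg.Agent.S5699
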