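import Cfsg.Statements.S5700
import Cfsg.Agent.Lie.OrthUnit
-- import your own Cfsg.Agent.* helpers here

set_option autoImplicit false
open Cfsg

namespace Cfsg.Agent.S5700

open Matrix in
/-- conjugates of members of the subalgebra -/
theorem mem_norm {F : Type*} [Field F] [Fintype F] {n : ℕ} (S : Subalgebra F (Matrix (Fin n) (Fin n) F))
    (g : GL (Fin n) F)
    (h : ∀ x ∈ S, (g : Matrix (Fin n) (Fin n) F) * x * ((g⁻¹ : GL (Fin n) F) : Matrix (Fin n) (Fin n) F) ∈ S) :
    g ∈ Cfsg.Geo.subalgebraNormalizer S := by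
  intro x
  refine ⟨h x, fun hx => ?_⟩
  let f : S → S := fun y => ⟨_, h y y.2⟩
  have hinj : Function.Injective f := fun a b hab =>
    Subtype.ext ((Units.mul_right_inj g).1 ((Units.mul_left_inj g⁻¹).1 (congrArg Subtype.val hab)))
  obtain ⟨y, hy⟩ := Finite.surjective_of_injective hinj ⟨_, hx⟩
  rw [← (Units.mul_right_inj g).1 ((Units.mul_left_inj g⁻¹).1 (congrArg Subtype.val hy))]
  exact y.2

/-- Let F be a finite field with q elements, n ≥ 13 even, Q a non-degenerate quadratic form on F^n (of either type), and Ω the commutator subgroup of the isometry group of Q, viewed inside GL_n(F). Let K be a subfield of the algebra of n × n matrices over F containing the scalars, of degree 2 over F, closed under adjoints for the polar form of Q but not consisting of self-adjoint elements, and such that every k in K rescales Q (Q(k v) = c Q(v) for a constant c depending on k). Then the elements of Ω normalising K form a maximal subgroup of Ω. -/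
theorem result {F : Type*} [Field F] [Fintype F] {n : ℕ} (hn : 13 ≤ n) (heven : Even n) (Q : (Fin n → F) → F) (hQ : Cfsg.Geo.IsNondegenerateQuadraticForm Q) (K : Subalgebra F (Matrix (Fin n) (Fin n) F)) (hK : Cfsg.Geo.IsFieldSubalgebra 2 K) (hac : Cfsg.Geo.IsAdjointClosedFor (QuadraticMap.polar Q) K) (hnsa : ¬ Cfsg.Geo.IsSelfAdjointFor (QuadraticMap.polar Q) K) (hsc : ∀ k ∈ K, ∃ c : F, ∀ v : (Fin n → F), Q (Matrix.mulVec k v) = c * Q v) : Cfsg.Geo.IsMaximalIn (Cfsg.Geo.omegaGL Q) (Cfsg.Geo.subalgebraNormalizer K ⊓ Cfsg.Geo.omegaGL Q) := by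
  obtain ⟨Q', rfl⟩ : ∃ Q' : QuadraticForm F (Fin n → F), ⇑Q' = Q := ⟨CfsgLib.Lie.OrthFull.ofFun Q hQ, rfl⟩
  have hnd : (QuadraticMap.polarBilin Q').Nondegenerate := by
    have h := CfsgLib.Lie.OrthFull.ofFun_nondeg ⇑Q' hQ
    rwa [show CfsgLib.Lie.OrthFull.ofFun (⇑Q') hQ = Q' from QuadraticMap.ext fun _ => rfl] at h
  have h5 : 5 ≤ Fintype.card (Fin n) := by rw [Fintype.card_fin]; omega
  haveI : Nonempty (Fin n) := ⟨⟨0, by omega⟩⟩
  -- a generator
  obtain ⟨θ, hθK, hθ⟩ : ∃ θ ∈ K, ∀ c : F, θ ≠ c • (1 : Matrix (Fin n) (Fin n) F) := by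
    by_contra hc
    push Not at hc
    have hle : Subalgebra.toSubmodule K ≤ Submodule.span F {(1 : Matrix (Fin n) (Fin n) F)} := fun x hx => by
      obtain ⟨c, rfl⟩ := hc x hx
      exact Submodule.smul_mem _ _ (Submodule.mem_span_singleton_self _)
    have h1 := Submodule.finrank_mono hle
    rw [finrank_span_singleton (one_ne_zero), show Module.finrank F (Subalgebra.toSubmodule K) = 2 from hK.finrank_eq] at h1
    omega
  have hli : LinearIndependent F ![(1 : Matrix (Fin n) (Fin n) F), θ] := by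
    refine LinearIndependent.pair_iff.2 fun s t hst => ?_
    by_cases ht : t = 0
    · rw [ht, zero_smul, add_zero, smul_eq_zero] at hst
      exact ⟨hst.resolve_right one_ne_zero, ht⟩
    · refine absurd ?_ (hθ (-(t⁻¹ * s)))
      have h1 : t • θ = -(s • 1) := eq_neg_of_add_eq_zero_right hst
      rw [neg_smul, ← smul_smul, ← smul_neg, ← h1, smul_smul, inv_mul_cancel₀ ht, one_smul]
  have hKspan : ∀ k ∈ K, ∃ a b : F, k = a • (1 : Matrix (Fin n) (Fin n) F) + b • θ := by
    have heq : Submodule.span F (Set.range ![(1 : Matrix (Fin n) (Fin n) F), θ]) = Subalgebra.toSubmodule K := by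
      refine Submodule.eq_of_le_of_finrank_eq (Submodule.span_le.2 ?_) ?_
      · rintro _ ⟨i, rfl⟩
        fin_cases i
        · exact K.one_mem
        · exact hθK
      · rw [finrank_span_eq_card hli, Fintype.card_fin,
          show Module.finrank F (Subalgebra.toSubmodule K) = 2 from hK.finrank_eq]
    intro k hk
    have hk' : k ∈ Submodule.span F (Set.range ![(1 : Matrix (Fin n) (Fin n) F), θ]) := heq ▸ hk
    obtain ⟨c, hc⟩ := (Submodule.mem_span_range_iff_exists_fun F).1 hk'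
    exact ⟨c 0, c 1, by rw [← hc, Fin.sum_univ_two]; simp⟩
  obtain ⟨J, hJ⟩ : ∃ J, J = Matrix.toLin' θ := ⟨_, rfl⟩
  have hJv : ∀ v, J v = Matrix.mulVec θ v := fun v => by rw [hJ, Matrix.toLin'_apply]
  have hcomb : ∀ (a b : F) v, Matrix.mulVec (a • (1 : Matrix (Fin n) (Fin n) F) + b • θ) v = a • v + b • J v :=
    fun a b v => by rw [Matrix.add_mulVec, Matrix.smul_mulVec, Matrix.smul_mulVec, Matrix.one_mulVec, hJv]
  obtain ⟨δ', τ, hsq0⟩ := hKspan (θ * θ) (K.mul_mem hθK hθK)
  have hsq : ∀ v, J (J v) = τ • J v - (-δ') • v := fun v => by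
    rw [hJv (J v), hJv v, Matrix.mulVec_mulVec, hsq0, hcomb, hJv, neg_smul, sub_neg_eq_add, add_comm]
  have hind : ∀ a b : F, (∀ v, a • v + b • J v = 0) → a = 0 ∧ b = 0 := fun a b h => by
    refine LinearIndependent.pair_iff.1 hli a b (Matrix.ext_of_mulVec_single fun i => ?_)
    rw [hcomb, h, Matrix.zero_mulVec]
  have hnoeig : ∀ (x : Fin n → F) (c : F), J x = c • x → x = 0 := by
    intro x c hx
    obtain ⟨y, -, hy⟩ := hK.inv (θ - c • 1) (K.sub_mem hθK (K.smul_mem K.one_mem c)) (sub_ne_zero.2 (hθ c))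
    have h0 : Matrix.mulVec (θ - c • 1) x = 0 := by
      rw [Matrix.sub_mulVec, Matrix.smul_mulVec, Matrix.one_mulVec, ← hJv, hx, sub_self]
    have hy' : y * (θ - c • 1) = 1 := mul_eq_one_comm.1 hy
    rw [← Matrix.one_mulVec x, ← hy', ← Matrix.mulVec_mulVec, h0, Matrix.mulVec_zero]
  -- the adjoint
  obtain ⟨θ', hθ'K, hθ'⟩ := hac θ hθK
  obtain ⟨a, b, rfl⟩ := hKspan θ' hθ'K
  have hA : ∀ u v, QuadraticMap.polar ⇑Q' (J u) v = a * QuadraticMap.polar ⇑Q' u v + b * QuadraticMap.polar ⇑Q' u (J v) := by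
    intro u v
    rw [hJv u, hθ' u v, hcomb, QuadraticMap.polar_add_right, QuadraticMap.polar_smul_right,
      QuadraticMap.polar_smul_right]
    rfl
  obtain ⟨c, hc⟩ := hsc θ hθK
  obtain ⟨c1, hc1⟩ := hsc (1 • (1 : Matrix (Fin n) (Fin n) F) + (1 : F) • θ)
    (K.add_mem (by simpa using K.one_mem) (K.smul_mem hθK _))
  have hcJ : ∀ v, Q' (J v) = c * Q' v := fun v => by rw [hJv, hc]
  have hnd' : ∀ x : Fin n → F, (∀ u, QuadraticMap.polar ⇑Q' u x = 0) → x = 0 := fun x hx => by
    refine hnd.1 x fun u => ?_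
    rw [QuadraticMap.polarBilin_apply_apply, QuadraticMap.polar_comm]
    exact hx u
  have hzero : ∀ v, (b * δ' - c) • v + (a + b * τ) • J v = 0 := fun v => hnd' _ fun w => by
    have h1 : QuadraticMap.polar ⇑Q' (J w) (J v) = c * QuadraticMap.polar ⇑Q' w v := by
      simp only [QuadraticMap.polar, ← map_add, hcJ]; ring
    rw [hA, hsq, QuadraticMap.polar_sub_right, QuadraticMap.polar_smul_right, QuadraticMap.polar_smul_right,
      smul_eq_mul, smul_eq_mul] at h1
    rw [QuadraticMap.polar_add_right, QuadraticMap.polar_smul_right, QuadraticMap.polar_smul_right,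
      smul_eq_mul, smul_eq_mul]
    linear_combination h1
  obtain ⟨hbc, hab⟩ := hind _ _ hzero
  -- applying the adjoint twice
  have htwice : ∀ v, (a * (1 + b)) • v + (b * b - 1) • J v = 0 := fun v => hnd' _ fun w => by
    have h1 := hA w v
    have h2 := hA v w
    rw [QuadraticMap.polar_comm (f := ⇑Q') (J v) w, QuadraticMap.polar_comm (f := ⇑Q') v w,
      QuadraticMap.polar_comm (f := ⇑Q') v (J w), h1] at h2
    rw [QuadraticMap.polar_add_right, QuadraticMap.polar_smul_right, QuadraticMap.polar_smul_right,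
      smul_eq_mul, smul_eq_mul]
    linear_combination -h2
  obtain ⟨hab1, hbb⟩ := hind _ _ htwice
  have hb : b = -1 := by
    have h1 : (b - 1) * (b + 1) = 0 := by linear_combination hbb
    rcases mul_eq_zero.1 h1 with h | h
    · by_contra hne
      have hb1 : b = 1 := sub_eq_zero.1 h
      have h2 : (2 : F) ≠ 0 := fun h2 => hne (by rw [hb1]; linear_combination h2)
      rw [hb1] at hab1
      have ha : a = 0 := (mul_eq_zero.1 hab1).resolve_right (by rwa [one_add_one_eq_two])
      refine hnsa fun k hk u v => ?_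
      obtain ⟨p, q, rfl⟩ := hKspan k hk
      rw [hcomb, hcomb, QuadraticMap.polar_add_left, QuadraticMap.polar_add_right, QuadraticMap.polar_smul_left,
        QuadraticMap.polar_smul_left, QuadraticMap.polar_smul_right, QuadraticMap.polar_smul_right, hA u v, hb1, ha,
        zero_mul, zero_add, one_mul]
    · exact eq_neg_of_add_eq_zero_left h
  subst hb
  have ha : a = τ := by linear_combination hab
  have hcδ : c = -δ' := by linear_combination -hbc
  have hadj : ∀ x y, QuadraticMap.polar ⇑Q' (J x) y = τ * QuadraticMap.polar ⇑Q' x y - QuadraticMap.polar ⇑Q' x (J y) := by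
    intro x y; rw [hA, ha]; ring
  have hone : ∀ v, Q' (v + J v) = c1 * Q' v := fun v => by
    rw [← hc1 v]
    congr 1
    rw [Matrix.add_mulVec, Matrix.smul_mulVec, Matrix.smul_mulVec, Matrix.one_mulVec, ← hJv]
    simp
  have hc1' : c1 = 1 + τ + c := by
    have hall : ∀ v : Fin n → F, (c1 - (1 + τ + c)) • v = 0 := fun v => hnd' _ fun w => by
      have h1 : QuadraticMap.polar ⇑Q' (w + J w) (v + J v) = c1 * QuadraticMap.polar ⇑Q' w v := by
        simp only [QuadraticMap.polar, show w + J w + (v + J v) = w + v + J (w + v) by rw [map_add]; abel, hone]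
        ring
      have h2 : QuadraticMap.polar ⇑Q' (J w) (J v) = c * QuadraticMap.polar ⇑Q' w v := by
        simp only [QuadraticMap.polar, ← map_add, hcJ]; ring
      rw [QuadraticMap.polar_add_left, QuadraticMap.polar_add_right, QuadraticMap.polar_add_right, h2, hadj] at h1
      rw [QuadraticMap.polar_smul_right, smul_eq_mul]
      linear_combination -h1
    exact sub_eq_zero.1 (hind _ 0 fun v => by rw [hall v, zero_smul, add_zero]).1
  have C : CfsgLib.Lie.OrthUnit.Ctx Q' J τ c := by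
    refine ⟨fun x => by rw [hsq, hcδ], hadj, hcJ, fun x => ?_, hnoeig, ?_⟩
    · have h1 := hone x
      rw [CfsgLib.Lie.OrthChar.map_add', hcJ, hc1'] at h1
      linear_combination h1
    · rw [Fintype.card_fin]
      obtain ⟨k, hk⟩ := heven
      omega
  -- the normaliser
  have hnorm : ∀ g : Cfsg.isometryGroup F ⇑Q', (g : GL (Fin n) F) ∈ Cfsg.Geo.subalgebraNormalizer K ↔
      ∃ a b : F, ∀ x, CfsgLib.Lie.Refl.act Q' g (J (CfsgLib.Lie.Refl.act Q' g⁻¹ x)) = a • x + b • J x := by
    intro g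
    have hconj : ∀ x, Matrix.mulVec (((g : GL (Fin n) F) : Matrix (Fin n) (Fin n) F) * θ *
        (((g : GL (Fin n) F)⁻¹ : GL (Fin n) F) : Matrix (Fin n) (Fin n) F)) x =
        CfsgLib.Lie.Refl.act Q' g (J (CfsgLib.Lie.Refl.act Q' g⁻¹ x)) := fun x => by
      rw [← Matrix.mulVec_mulVec, ← Matrix.mulVec_mulVec, ← hJv]
      rfl
    constructor
    · intro hg
      obtain ⟨a, b, hab⟩ := hKspan _ ((hg θ).1 hθK)
      exact ⟨a, b, fun x => by rw [← hconj, hab, hcomb]⟩
    · rintro ⟨a, b, hab⟩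
      have hgθ : ((g : GL (Fin n) F) : Matrix (Fin n) (Fin n) F) * θ *
          (((g : GL (Fin n) F)⁻¹ : GL (Fin n) F) : Matrix (Fin n) (Fin n) F) = a • 1 + b • θ :=
        Matrix.ext_of_mulVec_single fun i => by rw [hconj, hab, hcomb]
      refine mem_norm K _ fun x hx => ?_
      obtain ⟨p, q, rfl⟩ := hKspan x hx
      rw [mul_add, add_mul, Matrix.mul_smul, Matrix.smul_mul, mul_one, Units.mul_inv, Matrix.mul_smul,
        Matrix.smul_mul, hgθ]
      exact K.add_mem (K.smul_mem K.one_mem _) (K.smul_mem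
        (K.add_mem (K.smul_mem K.one_mem _) (K.smul_mem hθK _)) _)
  refine ⟨lt_of_le_of_ne inf_le_right fun heq => ?_, fun M hHM hMO => ?_⟩
  · obtain ⟨g, hg, hgn⟩ := CfsgLib.Lie.OrthUnit.exists_not_norm hnd C
    refine hgn ((hnorm g).1 ?_)
    have h1 : (g : GL (Fin n) F) ∈ Cfsg.Geo.subalgebraNormalizer K ⊓ Cfsg.Geo.omegaGL ⇑Q' := by
      rw [heq]; exact ⟨g, hg, rfl⟩
    exact h1.1
  by_cases hall : M ≤ Cfsg.Geo.subalgebraNormalizer K
  · exact Or.inl (le_antisymm (le_inf hall hMO) hHM)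
  right
  obtain ⟨m, hm, hmK⟩ := SetLike.not_le_iff_exists.1 hall
  obtain ⟨g, hgO, rfl⟩ := hMO hm
  obtain ⟨M', hM'⟩ : ∃ M', M' = M.comap (Cfsg.isometryGroup F ⇑Q').subtype := ⟨_, rfl⟩
  have hR : CfsgLib.Lie.OrthUnit.HasRoots Q' J M' := by
    intro u hu s
    rw [hM']
    refine hHM ⟨(hnorm _).2 ⟨0, 1, fun x => ?_⟩,
      _, CfsgLib.Lie.OrthSimple.E_omega hnd h5 hu (C.polar_self_root hu s), rfl⟩
    rw [zero_smul, zero_add, one_smul, C.root_comm hu, CfsgLib.Lie.OrthFull.act_inv']
  have hgM' : g ∈ M' := hM' ▸ hm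
  have hfull := CfsgLib.Lie.OrthUnit.unit_full hnd C M' hR hgM' fun h => hmK ((hnorm g).2 h)
  refine le_antisymm hMO ?_
  rintro _ ⟨h, hh, rfl⟩
  have := hfull hh
  rwa [hM'] at this

end Cfsg.Agent.S5700
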