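import Cfsg.Statements.S5722
import Cfsg.Agent.Perm.LengthBound

set_option autoImplicit false
open Cfsg

namespace Cfsg.Agent.S5722

/-- If a finite group G acts faithfully on a finite set with n points and r orbits, then the composition length of G is at most 4(n − r)/3. Here the composition length is expressed through chains: the conclusion bounds the length l of every chain of subgroups 1 = H₀ < H₁ < ⋯ < H_l = G in which each term is normal in the next (the longest such chains are exactly the composition series). -/
theorem result {G Ω : Type*} [Group G] [Finite G] [MulAction G Ω] [FaithfulSMul G Ω] [Fintype Ω]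
    (l : ℕ) (H : Fin (l + 1) → Subgroup G) (h0 : H 0 = ⊥) (hl : H (Fin.last l) = ⊤)
    (hchain : ∀ i : Fin l, H i.castSucc < H i.succ ∧ ((H i.castSucc).subgroupOf (H i.succ)).Normal) :
    3 * l ≤ 4 * (Fintype.card Ω - Nat.card (Quotient (MulAction.orbitRel G Ω))) := by
  classical
  have key := CfsgLib.Perm.LengthBound.of_good (G := G) (Ω := Ω) (CfsgLib.Perm.LengthBound.good _)
  let K : ℕ → Subgroup G := fun i => if h : i < l + 1 then H ⟨i, h⟩ else ⊤
  have hK : CfsgLib.Perm.SubnormalLength.IsChain l K := by
    refine ⟨by simp only [K, dif_pos (Nat.lt_succ_self l)]; exact hl, fun i hi => ?_⟩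
    obtain ⟨h1, h2⟩ := hchain ⟨i, hi⟩
    simp only [K, dif_pos (show i < l + 1 by omega), dif_pos (show i + 1 < l + 1 by omega)]
    exact ⟨h1.le, fun g hg x hx => h2.conj_mem ⟨x, h1.le hx⟩ hx ⟨g, hg⟩⟩
  have hs : CfsgLib.Perm.SubnormalLength.strict l K = l := by
    unfold CfsgLib.Perm.SubnormalLength.strict
    rw [Finset.filter_true_of_mem, Finset.card_range]
    intro i hi
    have hi := Finset.mem_range.1 hi
    simp only [K, dif_pos (show i < l + 1 by omega), dif_pos (show i + 1 < l + 1 by omega)]
    exact (hchain ⟨i, hi⟩).1.ne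
  have := key l K hK
  rw [hs, CfsgLib.Perm.LengthBound.orbs, Nat.card_eq_fintype_card (α := Ω)] at this
  omega

end Cfsg.Agent.S5722
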