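import Cfsg.Statements.S5728


set_option autoImplicit false
open Cfsg

namespace Cfsg.Agent.S5728

/-- An elusive transitive action. Let p = 2^s − 1 be a prime and let F be the field with p² elements. Inside the group of affine maps x ↦ a·x + b of F (a ≠ 0), consider the subgroup of maps with both coefficients in the prime field. Then every element of prime order of the affine group is conjugate, within the affine group, to an element of that subgroup; equivalently, in the transitive action of the affine group on the cosets of that subgroup (of degree p(p + 1)) every element of prime order fixes a point. -/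
theorem result (p s : ℕ) [Fact p.Prime] (hs : p = 2 ^ s - 1)
    (g : Equiv.Perm (GaloisField p 2)) (hg : g ∈ Cfsg.affineGroup (GaloisField p 2)) (hord : (orderOf g).Prime) :
    ∃ x ∈ Cfsg.affineGroup (GaloisField p 2), ∃ a b : ZMod p, a ≠ 0 ∧
      ∀ y : GaloisField p 2, (x * g * x⁻¹) y = algebraMap (ZMod p) (GaloisField p 2) a * y + algebraMap (ZMod p) (GaloisField p 2) b := by
  classical
  have hp : p.Prime := Fact.out
  have : Fintype (GaloisField p 2) := Fintype.ofFinite (GaloisField p 2)
  have hK : Fintype.card (GaloisField p 2) = p ^ 2 := by rw [← Nat.card_eq_fintype_card, GaloisField.card p 2 (by norm_num)]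
  obtain ⟨a, b, hab⟩ := hg
  have hpow : ∀ n : ℕ, ∃ c : (GaloisField p 2), ∀ y, (g ^ n) y = (a : (GaloisField p 2)) ^ n * y + c := by
    intro n
    induction n with
    | zero => exact ⟨0, fun y => by simp⟩
    | succ n ih =>
      obtain ⟨c, hc⟩ := ih
      refine ⟨(a : (GaloisField p 2)) * c + b, fun y => ?_⟩
      rw [pow_succ', Equiv.Perm.mul_apply, hc, hab]
      ring
  have har : (a : (GaloisField p 2)) ^ orderOf g = 1 := by
    obtain ⟨c, hc⟩ := hpow (orderOf g)
    have h0 := hc 0
    have h1 := hc 1
    simp only [pow_orderOf_eq_one, Equiv.Perm.one_apply] at h0 h1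
    linear_combination h0 - h1
  by_cases ha1 : (a : (GaloisField p 2)) = 1
  · have hb : b ≠ 0 := fun hb => by
      have : g = 1 := Equiv.ext fun y => by simp [hab, ha1, hb]
      rw [this, orderOf_one] at hord
      exact Nat.not_prime_one hord
    let x : Equiv.Perm (GaloisField p 2) := Equiv.mulLeft₀ b⁻¹ (inv_ne_zero hb)
    refine ⟨x, ⟨(Units.mk0 b hb)⁻¹, 0, fun y => by simp [x]⟩, 1, 1, one_ne_zero, fun y => ?_⟩
    have hxi : x⁻¹ y = b * y := by
      apply x.injective
      rw [Equiv.Perm.inv_def, Equiv.apply_symm_apply]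
      simp [x, hb]
    rw [Equiv.Perm.mul_apply, Equiv.Perm.mul_apply, hxi, hab, ha1]
    simp [x, hb, mul_add]
  · have hord' : orderOf (a : (GaloisField p 2)) = orderOf g := by
      rcases hord.eq_one_or_self_of_dvd _ (orderOf_dvd_of_pow_eq_one har) with h | h
      · exact absurd (orderOf_eq_one_iff.1 h) ha1
      · exact h
    have h2 : orderOf g ∣ p ^ 2 - 1 := by
      rw [← hord', ← hK]
      exact orderOf_dvd_of_pow_eq_one (FiniteField.pow_card_sub_one_eq_one _ a.ne_zero)
    have h3 : orderOf g ∣ p - 1 := by
      have hfac : p ^ 2 - 1 = (p + 1) * (p - 1) := by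
        simpa using Nat.sq_sub_sq p 1
      rw [hfac] at h2
      rcases hord.dvd_mul.1 h2 with h | h
      · have hs1 : p + 1 = 2 ^ s := by
          have := hp.pos
          omega
        rw [hs1] at h
        rw [(Nat.prime_dvd_prime_iff_eq hord Nat.prime_two).1 (hord.dvd_of_dvd_pow h)]
        have hs0 : s ≠ 0 := fun h0 => by
          rw [h0] at hs1; have := hp.two_le; omega
        obtain ⟨u, rfl⟩ : ∃ u, s = u + 1 := ⟨s - 1, by omega⟩
        rw [pow_succ] at hs1
        have := hp.two_le
        omega
      · exact h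
    have hap : (a : (GaloisField p 2)) ^ p = a := by
      obtain ⟨k, hk⟩ := h3
      have h4 : (a : (GaloisField p 2)) ^ (p - 1) = 1 := by rw [hk, pow_mul, har, one_pow]
      calc (a : (GaloisField p 2)) ^ p = (a : (GaloisField p 2)) ^ (p - 1 + 1) := by rw [Nat.sub_add_cancel hp.one_le]
        _ = a := by rw [pow_succ, h4, one_mul]
    obtain ⟨z, hz⟩ : ∃ z : ZMod p, algebraMap (ZMod p) (GaloisField p 2) z = a := by
      have h5 := (Subfield.mem_bot_iff_pow_eq_self (F := (GaloisField p 2)) (p := p)).2 hap
      obtain ⟨z, hz⟩ := (mem_bot_iff_intCast p _).1 h5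
      exact ⟨z, by rw [map_intCast, hz]⟩
    let c : (GaloisField p 2) := b / ((a : (GaloisField p 2)) - 1)
    refine ⟨Equiv.addRight c, ⟨1, c, fun y => by simp⟩, z, 0, fun h => a.ne_zero (by rw [← hz, h, map_zero]),
      fun y => ?_⟩
    rw [Equiv.Perm.mul_apply, Equiv.Perm.mul_apply, hab, hz, map_zero, add_zero, Equiv.Perm.inv_def]
    have hne : (a : (GaloisField p 2)) - 1 ≠ 0 := sub_ne_zero.2 ha1
    simp [c]
    field_simp
    ring

end Cfsg.Agent.S5728
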