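import Cfsg.Statements.S5729


set_option autoImplicit false
open Cfsg

namespace Cfsg.Agent.S5729

/-- Let a finite group G act faithfully and transitively on a set with n ≥ 3 points. Then either G is a Frobenius permutation group (Frobenius as a permutation group: transitive, some non-identity element fixes a point, and no non-identity element fixes two points) of order n(n − 1) and exactly |G|/n of its elements are derangements (fix no point), or the number of derangements is greater than |G|/n. -/
theorem result {G Ω : Type*} [Group G] [Finite G] [MulAction G Ω] [FaithfulSMul G Ω] [Fintype Ω] (htr : MulAction.IsPretransitive G Ω) (hn : 3 ≤ Fintype.card Ω) :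
    ((MulAction.IsPretransitive G Ω ∧ (∃ g : G, g ≠ 1 ∧ ∃ ω : Ω, g • ω = ω) ∧ ∀ g : G, g ≠ 1 → Nat.card (MulAction.fixedBy Ω g) ≤ 1) ∧ Nat.card G = Fintype.card Ω * (Fintype.card Ω - 1) ∧ Fintype.card Ω * Nat.card {g : G // ∀ ω : Ω, g • ω ≠ ω} = Nat.card G) ∨
    Nat.card G < Fintype.card Ω * Nat.card {g : G // ∀ ω : Ω, g • ω ≠ ω} := by
  classical
  have : Fintype G := Fintype.ofFinite G
  set n := Fintype.card Ω with hn'
  let fx : G → ℕ := fun g => Nat.card (MulAction.fixedBy Ω g)
  have hle : ∀ g, fx g ≤ n := fun g => by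
    rw [hn', ← Nat.card_eq_fintype_card]
    exact Nat.card_le_card_of_injective Subtype.val Subtype.val_injective
  have h1 : ∑ g : G, fx g = Nat.card G := by
    have hsub : Subsingleton (Quotient (MulAction.orbitRel G Ω)) :=
      ⟨fun a b => Quotient.inductionOn₂ a b fun x y => Quotient.sound (MulAction.exists_smul_eq G y x)⟩
    obtain ⟨ω⟩ : Nonempty Ω := Fintype.card_pos_iff.1 (by omega)
    have : Fintype (Quotient (MulAction.orbitRel G Ω)) := Fintype.ofFinite _
    have hq : Fintype.card (Quotient (MulAction.orbitRel G Ω)) = 1 :=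
      le_antisymm (Fintype.card_le_one_iff_subsingleton.2 hsub) (Fintype.card_pos_iff.2 ⟨⟦ω⟧⟩)
    simp only [fx, Nat.card_eq_fintype_card]
    rw [MulAction.sum_card_fixedBy_eq_card_orbits_mul_card_group, hq, one_mul]
  obtain ⟨r, hr, h2⟩ : ∃ r, 2 ≤ r ∧ ∑ g : G, fx g * fx g = r * Nat.card G := by
    have : Fintype (Quotient (MulAction.orbitRel G (Ω × Ω))) := Fintype.ofFinite _
    refine ⟨Fintype.card (Quotient (MulAction.orbitRel G (Ω × Ω))), ?_, ?_⟩
    · obtain ⟨a, b, hab⟩ := Fintype.exists_pair_of_one_lt_card (α := Ω) (by omega)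
      refine Fintype.one_lt_card_iff.2 ⟨⟦(a, a)⟧, ⟦(a, b)⟧, fun h => ?_⟩
      obtain ⟨g, hg⟩ := Quotient.exact h
      have e1 : g • a = a := congrArg Prod.fst hg
      have e2 : g • b = a := congrArg Prod.snd hg
      exact hab (MulAction.injective g (e1.trans e2.symm))
    · rw [Nat.card_eq_fintype_card (α := G),
        ← MulAction.sum_card_fixedBy_eq_card_orbits_mul_card_group]
      refine Finset.sum_congr rfl fun g _ => ?_
      rw [← Nat.card_eq_fintype_card, ← Nat.card_prod]
      exact Nat.card_congr
        { toFun := fun p => ⟨(p.1.1, p.2.1), Prod.ext p.1.2 p.2.2⟩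
          invFun := fun p => (⟨p.1.1, congrArg Prod.fst p.2⟩, ⟨p.1.2, congrArg Prod.snd p.2⟩)
          left_inv := fun _ => rfl
          right_inv := fun _ => rfl }
  let S : Finset G := Finset.univ.filter (fun g => fx g = 0)
  have hD : Nat.card {g : G // ∀ ω : Ω, g • ω ≠ ω} = S.card := by
    rw [Nat.card_eq_fintype_card, Fintype.card_subtype]
    congr 1
    ext g
    simp only [S, Finset.mem_filter, Finset.mem_univ, true_and, fx, Nat.card_eq_zero,
      isEmpty_subtype, MulAction.mem_fixedBy]
    exact ⟨fun h => Or.inl h, fun h => h.resolve_right (not_infinite_iff_finite.2 inferInstance)⟩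
  let φ : G → ℤ := fun g => (n : ℤ) * (if fx g = 0 then 1 else 0) - ((fx g : ℤ) - 1) * ((fx g : ℤ) - n)
  have hφ : ∀ g, 0 ≤ φ g := by
    intro g
    simp only [φ]
    split_ifs with h
    · rw [h]; simp
    · have a1 : (0 : ℤ) ≤ (fx g : ℤ) - 1 := by omega
      have a2 : (fx g : ℤ) - n ≤ 0 := by have := hle g; omega
      nlinarith [mul_nonpos_of_nonneg_of_nonpos a1 a2]
  have hsum : ∑ g : G, φ g = (n : ℤ) * S.card - ((r : ℤ) - 1) * Nat.card G := by
    have h1' : ∑ g : G, (fx g : ℤ) = Nat.card G := by exact_mod_cast h1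
    have h2' : ∑ g : G, (fx g : ℤ) * fx g = r * Nat.card G := by exact_mod_cast h2
    have e : ∀ g, φ g = (n : ℤ) * (if fx g = 0 then 1 else 0) -
        (fx g : ℤ) * fx g + ((n : ℤ) + 1) * fx g - n := fun g => by simp only [φ]; ring
    rw [Finset.sum_congr rfl (fun g _ => e g), Finset.sum_sub_distrib, Finset.sum_add_distrib,
      Finset.sum_sub_distrib, ← Finset.mul_sum, ← Finset.mul_sum, Finset.sum_boole, h1', h2',
      Finset.sum_const, Finset.card_univ, nsmul_eq_mul, ← Nat.card_eq_fintype_card]
    simp only [S]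
    ring
  have hpos : 0 ≤ ∑ g : G, φ g := Finset.sum_nonneg fun g _ => hφ g
  rw [hsum] at hpos
  have hG : 0 < Nat.card G := Nat.card_pos
  by_cases hlt : Nat.card G < n * Nat.card {g : G // ∀ ω : Ω, g • ω ≠ ω}
  · exact Or.inr hlt
  left
  rw [hD] at hlt ⊢
  have hle' : (n : ℤ) * S.card ≤ Nat.card G := by exact_mod_cast Nat.le_of_not_lt hlt
  have hr2 : (r : ℤ) = 2 := by
    have : ((r : ℤ) - 1) * Nat.card G ≤ 1 * Nat.card G := by linarith
    have := le_of_mul_le_mul_right this (by exact_mod_cast hG)
    omega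
  have heq : (n : ℤ) * S.card = Nat.card G := by
    rw [hr2] at hpos; linarith
  have hzero : ∀ g, φ g = 0 := fun g => by
    have h0 : ∑ g : G, φ g = 0 := by rw [hsum, hr2, heq]; ring
    exact (Finset.sum_eq_zero_iff_of_nonneg fun g _ => hφ g).1 h0 g (Finset.mem_univ g)
  have hcases : ∀ g, fx g = 0 ∨ fx g = 1 ∨ g = 1 := by
    intro g
    by_cases h : fx g = 0
    · exact Or.inl h
    right
    have := hzero g
    simp only [φ, if_neg h, mul_zero, zero_sub, neg_eq_zero, mul_eq_zero] at this
    rcases this with h' | h'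
    · left; omega
    · right
      have hfull : Nat.card (MulAction.fixedBy Ω g) = Nat.card Ω := by
        rw [Nat.card_eq_fintype_card (α := Ω)]
        change fx g = n
        omega
      rw [Nat.card_coe_set_eq, ← Set.ncard_univ] at hfull
      have := Set.eq_of_subset_of_ncard_le (Set.subset_univ _) hfull.ge (Set.toFinite _)
      refine eq_of_smul_eq_smul (α := Ω) fun ω => ?_
      rw [one_smul]
      exact (this ▸ Set.mem_univ ω : ω ∈ MulAction.fixedBy Ω g)
  have hone : fx 1 = n := by
    simp [fx, MulAction.fixedBy_one_eq_univ, hn']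
  have hcard : Nat.card G = n * (n - 1) := by
    have key : ∀ g : G, (fx g : ℤ) * fx g - fx g = if g = 1 then (n : ℤ) * n - n else 0 := by
      intro g
      by_cases hg : g = 1
      · subst hg; rw [if_pos rfl, hone]
      · rw [if_neg hg]
        rcases hcases g with h | h | h
        · simp [h]
        · simp [h]
        · exact absurd h hg
    have hs := Finset.sum_congr (rfl : (Finset.univ : Finset G) = Finset.univ) fun g _ => key g
    have h1' : ∑ g : G, (fx g : ℤ) = Nat.card G := by exact_mod_cast h1
    have h2' : ∑ g : G, (fx g : ℤ) * fx g = r * Nat.card G := by exact_mod_cast h2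
    rw [Finset.sum_sub_distrib, h1', h2', hr2, Finset.sum_ite_eq' Finset.univ (1 : G)] at hs
    simp only [Finset.mem_univ, if_true] at hs
    have h1n : 1 ≤ n := by omega
    zify [h1n]
    linarith
  refine ⟨⟨htr, ?_, fun g hg => ?_⟩, hcard, by exact_mod_cast heq⟩
  · by_contra hc
    push_neg at hc
    have hb : ∀ g : G, fx g = if g = 1 then n else 0 := by
      intro g
      by_cases hg : g = 1
      · subst hg; rw [if_pos rfl, hone]
      · rw [if_neg hg]
        simp only [fx, Nat.card_eq_zero, isEmpty_subtype, MulAction.mem_fixedBy]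
        exact Or.inl (hc g hg)
    rw [Finset.sum_congr rfl (fun g _ => hb g), Finset.sum_ite_eq' Finset.univ (1 : G)] at h1
    simp at h1
    have : n * 2 ≤ n * (n - 1) := Nat.mul_le_mul_left n (by omega)
    rw [Nat.card_eq_fintype_card] at hcard
    omega
  · rcases hcases g with h | h | h
    · exact h.le.trans zero_le_one
    · exact h.le
    · exact absurd h hg

end Cfsg.Agent.S5729
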