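import Cfsg.Statements.S5738


set_option autoImplicit false
open Cfsg

namespace Cfsg.Agent.S5738

/-- Let F ⊆ K be finite fields with |F| = q and [K : F] = n ≥ 2, so |K| = q^n. Regard K as an n-dimensional F-vector space; the multiplications by non-zero elements of K form a cyclic subgroup of GL_F(K) of order q^n − 1 acting regularly on the non-zero vectors (a Singer group). Its normaliser in GL_F(K) has order n·(q^n − 1). -/
theorem result {F K : Type*} [Field F] [Fintype F] [Field K] [Fintype K] [Algebra F K] (n : ℕ) (hn : 2 ≤ n) (hdim : Module.finrank F K = n) :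
    Nat.card (Subgroup.normalizer (((Units.map ((Algebra.lmul F K : K →ₐ[F] Module.End F K) : K →* Module.End F K)).range : Subgroup (Module.End F K)ˣ) : Set (Module.End F K)ˣ)) = n * (Fintype.card K - 1) := by
  classical
  set φ : Kˣ →* (Module.End F K)ˣ :=
    Units.map ((Algebra.lmul F K : K →ₐ[F] Module.End F K) : K →* Module.End F K) with hφ
  have hval : ∀ (u : Kˣ) (x : K), ((φ u : (Module.End F K)ˣ) : Module.End F K) x = u * x :=
    fun _ _ => rfl
  let aut : (K ≃ₐ[F] K) → (Module.End F K)ˣ := fun σ =>
    ⟨σ.toLinearMap, σ.symm.toLinearMap, LinearMap.ext σ.apply_symm_apply,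
      LinearMap.ext σ.symm_apply_apply⟩
  have hautv : ∀ σ x, ((aut σ : (Module.End F K)ˣ) : Module.End F K) x = σ x := fun _ _ => rfl
  let ψ : Kˣ × (K ≃ₐ[F] K) → (Module.End F K)ˣ := fun p => φ p.1 * aut p.2
  have hψ : ∀ p x, ((ψ p : (Module.End F K)ˣ) : Module.End F K) x = p.1 * p.2 x := fun _ _ => rfl
  have hmem : ∀ p, ψ p ∈ Subgroup.normalizer (φ.range : Set (Module.End F K)ˣ) := by
    intro p
    refine mul_mem (Subgroup.le_normalizer ⟨p.1, rfl⟩) ?_
    rw [Subgroup.mem_normalizer_iff]
    have hc : ∀ (σ : K ≃ₐ[F] K) (u : Kˣ), aut σ * φ u * (aut σ)⁻¹ = φ (Units.map (σ : K →* K) u) := by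
      intro σ u
      rw [mul_inv_eq_iff_eq_mul]
      exact Units.ext (LinearMap.ext fun x => map_mul σ (u : K) x)
    intro y
    refine ⟨?_, ?_⟩
    · rintro ⟨u, rfl⟩; exact ⟨_, (hc p.2 u).symm⟩
    · rintro ⟨u, hu⟩
      refine ⟨Units.map (p.2.symm : K →* K) u, ?_⟩
      have h := hc p.2 (Units.map (p.2.symm : K →* K) u)
      rw [show Units.map (p.2 : K →* K) (Units.map (p.2.symm : K →* K) u) = u from
        Units.ext (p.2.apply_symm_apply u), hu] at h
      simpa using h
  have hbij : Function.Bijective (fun p => (⟨ψ p, hmem p⟩ :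
      Subgroup.normalizer (φ.range : Set (Module.End F K)ˣ))) := by
    refine ⟨fun p p' h => ?_, fun g => ?_⟩
    · have h' : ∀ x, (p.1 : K) * p.2 x = p'.1 * p'.2 x := fun x => by
        rw [← hψ, ← hψ, show ψ p = ψ p' from congrArg Subtype.val h]
      have h1 : p.1 = p'.1 := Units.ext (by simpa using h' 1)
      refine Prod.ext h1 (AlgEquiv.ext fun x => ?_)
      have h2 := h' x
      rw [h1] at h2
      exact mul_left_cancel₀ p'.1.ne_zero h2
    · obtain ⟨f, hf⟩ := g
      have h1 : (f : Module.End F K) 1 ≠ 0 := by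
        intro h
        have := congrArg (((f⁻¹ : (Module.End F K)ˣ) : Module.End F K)) h
        rw [map_zero, ← Module.End.mul_apply, ← Units.val_mul, inv_mul_cancel, Units.val_one,
          Module.End.one_apply] at this
        exact one_ne_zero this
      have hstep : ∀ a : K, ∃ b : K, ∀ x, (f : Module.End F K) (a * x) = b * (f : Module.End F K) x := by
        intro a
        by_cases ha : a = 0
        · exact ⟨0, fun x => by simp [ha]⟩
        · obtain ⟨v, hv⟩ := (Subgroup.mem_normalizer_iff.1 hf (φ (Units.mk0 a ha))).1 ⟨_, rfl⟩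
          refine ⟨v, fun x => ?_⟩
          have h := congrArg (fun g : (Module.End F K)ˣ =>
            (g : Module.End F K) ((f : Module.End F K) x)) hv
          simp only [Units.val_mul, Module.End.mul_apply, hval] at h
          rw [← Module.End.mul_apply ((f⁻¹ : (Module.End F K)ˣ) : Module.End F K), ← Units.val_mul,
            inv_mul_cancel, Units.val_one, Module.End.one_apply, Units.val_mk0] at h
          exact h.symm
      choose b hb using hstep
      have hb1 : ∀ a, (f : Module.End F K) a = b a * (f : Module.End F K) 1 := fun a => by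
        rw [← hb a 1, mul_one]
      have hlin : ∀ a a', b (a * a') = b a * b a' := fun a a' => mul_right_cancel₀ h1 (by
        rw [← hb1, hb a a', hb1 a', mul_assoc])
      let τ : K →ₐ[F] K :=
        { toFun := b
          map_one' := mul_right_cancel₀ h1 (by rw [← hb1, one_mul])
          map_mul' := hlin
          map_zero' := mul_right_cancel₀ h1 (by rw [← hb1, map_zero, zero_mul])
          map_add' := fun a a' => mul_right_cancel₀ h1 (by rw [← hb1, add_mul, ← hb1, ← hb1, map_add])
          commutes' := fun c => mul_right_cancel₀ h1 (by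
            rw [← hb1, Algebra.algebraMap_eq_smul_one, map_smul, smul_mul_assoc, one_mul]) }
      let σ : K ≃ₐ[F] K := AlgEquiv.ofBijective τ (Finite.injective_iff_bijective.1 τ.injective)
      refine ⟨(Units.mk0 _ h1, σ), Subtype.ext (Units.ext (LinearMap.ext fun x => ?_))⟩
      change (f : Module.End F K) 1 * b x = (f : Module.End F K) x
      rw [hb1 x, mul_comm]
  rw [← Nat.card_eq_of_bijective _ hbij, Nat.card_prod, IsGalois.card_aut_eq_finrank, hdim,
    Nat.card_units, Nat.card_eq_fintype_card, mul_comm]

end Cfsg.Agent.S5738
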