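import Cfsg.Statements.S5754


set_option autoImplicit false
open Cfsg

namespace Cfsg.Agent.S5754

/-- Let V be a finite-dimensional vector space over a finite field F carrying an anisotropic quadratic form Q (Q(v) = 0 only for v = 0). Then the group of all maps v ↦ φ(v) + c, with φ an isometry of Q and c ∈ V, acts on V as a binary permutation group: given n ≥ 2 and two n-tuples u, u' of vectors such that every pair of corresponding entries of u is carried to that of u' by such a map, one such map carries u to u'. -/
theorem result {F V : Type*} [Field F] [Finite F] [AddCommGroup V] [Module F V] [Module.Finite F V]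
    (Q : QuadraticForm F V) (hQ : Q.Anisotropic) (n : ℕ) (hn : 2 ≤ n) (u u' : Fin n → V)
    (h2 : ∀ i j : Fin n, i ≠ j → ∃ (φ : Q.IsometryEquiv Q) (c : V), φ (u i) + c = u' i ∧ φ (u j) + c = u' j) :
    ∃ (φ : Q.IsometryEquiv Q) (c : V), ∀ i, φ (u i) + c = u' i := by
  classical
  have hrefl : ∀ u : V, u ≠ 0 → ∃ r : Q.IsometryEquiv Q, ∀ x, r x = x - ((Q u)⁻¹ * QuadraticMap.polar Q x u) • u := by
    intro u hu
    have hQu : Q u ≠ 0 := fun h => hu (hQ u h)
    let L : V →ₗ[F] V :=
      LinearMap.id - (LinearMap.toSpanSingleton F V u).comp ((Q u)⁻¹ • Q.polarBilin.flip u)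
    have hL : ∀ x, L x = x - ((Q u)⁻¹ * QuadraticMap.polar Q x u) • u := fun x => rfl
    have hinv : ∀ x, L (L x) = x := fun x => by
      simp only [hL, QuadraticMap.polar_sub_left, QuadraticMap.polar_smul_left, QuadraticMap.polar_self,
        smul_eq_mul]
      match_scalars <;> field_simp <;> ring
    refine ⟨⟨LinearEquiv.ofLinear L L (LinearMap.ext hinv) (LinearMap.ext hinv), fun x => ?_⟩, fun x => hL x⟩
    change Q (L x) = Q x
    rw [hL, sub_eq_add_neg, ← neg_smul, QuadraticMap.map_add (f := Q),
      QuadraticMap.map_smul, QuadraticMap.polar_smul_right, smul_eq_mul, smul_eq_mul]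
    field_simp
    ring
  have hex : ∀ (k : ℕ) (v w : Fin k → V), (∀ i, Q (v i) = Q (w i)) →
      (∀ i j, i ≠ j → QuadraticMap.polar Q (v i) (v j) = QuadraticMap.polar Q (w i) (w j)) →
      ∃ φ : Q.IsometryEquiv Q, ∀ i, φ (v i) = w i := by
    intro k
    induction k with
    | zero => exact fun v w _ _ => ⟨QuadraticMap.IsometryEquiv.refl Q, fun i => i.elim0⟩
    | succ k ih =>
      intro v w hq hp
      obtain ⟨φ, hφ⟩ := ih (fun i => v i.castSucc) (fun i => w i.castSucc) (fun i => hq _)
        (fun i j h => hp _ _ (fun he => h (Fin.castSucc_injective _ he)))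
      set a := φ (v (Fin.last k)) with ha
      set b := w (Fin.last k) with hb
      by_cases hab : a = b
      · exact ⟨φ, Fin.lastCases hab hφ⟩
      obtain ⟨r, hr⟩ := hrefl (a - b) (sub_ne_zero.2 hab)
      have hQab : Q a = Q b := by rw [ha, φ.map_app, hb, hq]
      have hpol : ∀ j : Fin k, QuadraticMap.polar Q (w j.castSucc) (a - b) = 0 := by
        intro j
        rw [QuadraticMap.polar_sub_right, sub_eq_zero, hb, ← hp _ _ (Fin.castSucc_lt_last j).ne]
        conv_lhs => rw [← hφ j, ha]
        simp only [QuadraticMap.polar, ← map_add, φ.map_app]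
      refine ⟨φ.trans r, Fin.lastCases ?_ fun j => ?_⟩
      · change r a = b
        rw [hr]
        have hne : Q (a - b) ≠ 0 := fun h => hab (sub_eq_zero.1 (hQ _ h))
        have hval : QuadraticMap.polar Q a (a - b) = Q (a - b) := by
          rw [QuadraticMap.polar_sub_right, QuadraticMap.polar_self, sub_eq_add_neg a b,
            QuadraticMap.map_add (f := Q), QuadraticMap.map_neg,
            QuadraticMap.polar_neg_right, ← hQab, two_smul]
          ring
        rw [hval, inv_mul_cancel₀ hne, one_smul, sub_sub_cancel]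
      · change r (φ (v j.castSucc)) = w j.castSucc
        rw [hr, hφ j, hpol j, mul_zero, zero_smul, sub_zero]
  let z : Fin n := ⟨0, by omega⟩
  have hd : ∀ i j : Fin n, Q (u i - u j) = Q (u' i - u' j) := by
    intro i j
    by_cases hij : i = j
    · subst hij; simp
    obtain ⟨φ, c, h1, h2'⟩ := h2 i j hij
    have h3 : u' i - u' j = φ (u i - u j) := by
      rw [← h1, ← h2', add_sub_add_right_eq_sub, map_sub]
    rw [h3, φ.map_app]
  obtain ⟨φ, hφ⟩ := hex n (fun i => u i - u z) (fun i => u' i - u' z) (fun i => hd i z) (fun i j _ => by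
    have e : ∀ x y : V, QuadraticMap.polar Q x y = Q x + Q y - Q (x - y) := fun x y => by
      have h := QuadraticMap.map_add (f := Q) x (-y)
      rw [QuadraticMap.map_neg, QuadraticMap.polar_neg_right, ← sub_eq_add_neg] at h
      rw [h]; ring
    rw [e, e, sub_sub_sub_cancel_right, sub_sub_sub_cancel_right, hd, hd, hd])
  refine ⟨φ, u' z - φ (u z), fun i => ?_⟩
  have := hφ i
  rw [map_sub] at this
  rw [← sub_add_cancel (u' i) (u' z), ← this]
  abel

end Cfsg.Agent.S5754
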