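import Cfsg.Statements.S5763
-- import your own Cfsg.Agent.* helpers here

set_option autoImplicit false
open Cfsg

namespace Cfsg.Agent.S5763

/-- the level at which two leaves split -/
def c (a b : Fin 8) : Nat := if a.1 / 2 = b.1 / 2 then 2 else if a.1 / 4 = b.1 / 4 then 1 else 0

/-- candidate involutions -/
def cand : List (List (Fin 8)) := [[1, 0, 3, 2, 5, 4, 7, 6], [1, 0, 3, 2, 6, 7, 4, 5], [1, 0, 3, 2, 7, 6, 5, 4], [0, 1, 2, 3, 4, 5, 7, 6], [0, 1, 2, 3, 5, 4, 6, 7], [0, 1, 3, 2, 4, 5, 6, 7], [1, 0, 2, 3, 4, 5, 6, 7], [4, 5, 6, 7, 0, 1, 2, 3], [4, 5, 7, 6, 0, 1, 3, 2], [5, 4, 6, 7, 1, 0, 2, 3], [5, 4, 7, 6, 1, 0, 3, 2], [6, 7, 4, 5, 2, 3, 0, 1], [6, 7, 5, 4, 3, 2, 0, 1], [7, 6, 4, 5, 2, 3, 1, 0], [7, 6, 5, 4, 3, 2, 1, 0]]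

/-- the tree with leaves `l` is preserved by some candidate -/
def ok (l : List (Fin 8)) : Bool :=
  cand.any fun g => (List.finRange 8).all fun a => (List.finRange 8).all fun b =>
    c (Fin.ofNat 8 (l.idxOf (g.getD (l.getD a.1 0).1 0))) (Fin.ofNat 8 (l.idxOf (g.getD (l.getD b.1 0).1 0))) == c a b

set_option maxRecDepth 10000 in
set_option synthInstance.maxSize 2000 in
set_option synthInstance.maxHeartbeats 400000 in
theorem all_ok : ∀ a1 : Fin 8, a1 ≠ 0 → ∀ a2 : Fin 8, a2 ≠ 0 ∧ a2 ≠ a1 → ∀ a3 : Fin 8, a2 < a3 ∧ a3 ≠ 0 ∧ a3 ≠ a1 →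
    ∀ a4 : Fin 8, a4 ≠ 0 ∧ a4 ≠ a1 ∧ a4 ≠ a2 ∧ a4 ≠ a3 →
    ∀ a5 : Fin 8, a4 < a5 ∧ a5 ≠ 0 ∧ a5 ≠ a1 ∧ a5 ≠ a2 ∧ a5 ≠ a3 →
    ∀ a6 : Fin 8, a4 < a6 ∧ a6 ≠ 0 ∧ a6 ≠ a1 ∧ a6 ≠ a2 ∧ a6 ≠ a3 ∧ a6 ≠ a5 →
    ∀ a7 : Fin 8, a6 < a7 ∧ a7 ≠ 0 ∧ a7 ≠ a1 ∧ a7 ≠ a2 ∧ a7 ≠ a3 ∧ a7 ≠ a5 →
    ok [0, a1, a2, a3, a4, a5, a6, a7] = true := by decide +kernel

theorem cand_ok : ∀ g ∈ cand, (∀ a b : Fin 8, c (g.getD a.1 0) (g.getD b.1 0) = c a b) ∧
    (∀ a : Fin 8, g.getD (g.getD a.1 0).1 0 = a) ∧ ∃ a : Fin 8, g.getD a.1 0 ≠ a := by decide +kernel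

/-- the tree automorphisms -/
def W : Subgroup (Equiv.Perm (Fin 8)) where
  carrier := {g | ∀ a b, c (g a) (g b) = c a b}
  one_mem' := fun _ _ => rfl
  mul_mem' := fun {g h} hg hh a b => by rw [Equiv.Perm.mul_apply, Equiv.Perm.mul_apply, hg, hh]
  inv_mem' := fun {g} hg a b => by
    conv_rhs => rw [← Equiv.apply_symm_apply g a, ← Equiv.apply_symm_apply g b, hg]
    rfl

theorem step1 : ∀ x y z : Fin 8, (c x y = 0 ↔ c y z = 0) → c x z ≠ 0 := by decide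
theorem step2 : ∀ x y z : Fin 8, c x y ≠ 0 → (c x y = 2 ↔ c y z = 2) → c y z ≠ 0 → c x z = 2 := by decide
theorem step3 : ∀ x y z : Fin 8, c x y = 2 → c y z = 2 → (x = y ↔ y = z) → x = z := by decide

theorem pow_eight {g : Equiv.Perm (Fin 8)} (hg : g ∈ W) : g ^ 2 ^ 3 = 1 := by
  have h1 : ∀ a, c a (g (g a)) ≠ 0 := fun a => step1 a (g a) (g (g a)) (by rw [hg])
  obtain ⟨h, hh⟩ : ∃ h, h = g * g := ⟨_, rfl⟩
  have hW : h ∈ W := hh ▸ W.mul_mem hg hg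
  have h1' : ∀ a, c a (h a) ≠ 0 := fun a => hh ▸ h1 a
  have h2 : ∀ a, c a (h (h a)) = 2 := fun a => step2 a (h a) (h (h a)) (h1' a) (by rw [hW]) (h1' _)
  obtain ⟨k, hk⟩ : ∃ k, k = h * h := ⟨_, rfl⟩
  have h2' : ∀ a, c a (k a) = 2 := fun a => hk ▸ h2 a
  have h3 : k * k = 1 := Equiv.ext fun a =>
    (step3 a (k a) (k (k a)) (h2' a) (h2' _) k.injective.eq_iff.symm).symm
  rw [← h3, hk, hh]
  simp only [← pow_two, ← pow_mul]
  norm_num

/-- swapping upper leaves -/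
def sw (k : Fin 8) : Equiv.Perm (Fin 8) :=
  if k = 1 then Equiv.swap 4 5 * Equiv.swap 6 7 else if k = 2 then Equiv.swap 4 6 * Equiv.swap 5 7
  else if k = 3 then Equiv.swap 4 7 * Equiv.swap 5 6 else 1

theorem sw_spec : ∀ k : Fin 8, k < 4 → (∀ a b, c (sw k a) (sw k b) = c a b) ∧
    (∀ a : Fin 8, a < 4 → sw k a = a) ∧ (∀ a : Fin 8, 4 ≤ a → 4 ≤ sw k a) ∧ (sw k 4).1 = 4 + k.1 := by decide +kernel

/-- moving the first leaf -/
def mv (k : Fin 8) : Equiv.Perm (Fin 8) :=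
  (if 4 ≤ k.1 then Equiv.swap 0 4 * Equiv.swap 1 5 * Equiv.swap 2 6 * Equiv.swap 3 7 else 1) *
  (if k.1 % 4 / 2 = 1 then Equiv.swap 0 2 * Equiv.swap 1 3 else 1) * (if k.1 % 2 = 1 then Equiv.swap 0 1 else 1)

theorem mv_spec : ∀ k : Fin 8, (∀ a b, c (mv k a) (mv k b) = c a b) ∧ mv k 0 = k := by decide +kernel

theorem swap_spec : (∀ a b : Fin 8, c (Equiv.swap 2 3 a) (Equiv.swap 2 3 b) = c a b) ∧
    (∀ a b : Fin 8, c (Equiv.swap 6 7 a) (Equiv.swap 6 7 b) = c a b) := by decide +kernel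

/-- every conjugate of the tree group meets it -/
theorem exists_common (x : Equiv.Perm (Fin 8)) : ∃ g ∈ W, g ≠ 1 ∧ x⁻¹ * g * x ∈ W := by
  suffices h : ∃ w ∈ W, ∃ g ∈ W, g ≠ 1 ∧ (x * w)⁻¹ * g * (x * w) ∈ W by
    obtain ⟨w, hw, g, hg, hg1, hgw⟩ := h
    refine ⟨g, hg, hg1, ?_⟩
    rw [show x⁻¹ * g * x = w * ((x * w)⁻¹ * g * (x * w)) * w⁻¹ by group]
    exact W.mul_mem (W.mul_mem hw hgw) (W.inv_mem hw)
  obtain ⟨w1, hw1, h0⟩ : ∃ w ∈ W, (x * w) 0 = 0 := ⟨mv (x⁻¹ 0), (mv_spec _).1, by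
    rw [Equiv.Perm.mul_apply, (mv_spec _).2]; exact Equiv.apply_symm_apply x 0⟩
  obtain ⟨w2, hw2, h0', h23⟩ : ∃ w ∈ W, (x * w) 0 = 0 ∧ (x * w) 2 < (x * w) 3 := by
    rcases lt_or_gt_of_ne ((x * w1).injective.ne (show (2 : Fin 8) ≠ 3 by decide)) with h | h
    · exact ⟨w1, hw1, h0, h⟩
    · refine ⟨w1 * Equiv.swap 2 3, W.mul_mem hw1 swap_spec.1, ?_, ?_⟩
      · rw [← mul_assoc, Equiv.Perm.mul_apply, Equiv.swap_apply_of_ne_of_ne (by decide) (by decide), h0]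
      · simp only [← mul_assoc, Equiv.Perm.mul_apply (x * w1), Equiv.swap_apply_left, Equiv.swap_apply_right]
        exact h
  obtain ⟨w3, hw3, h0'', h23', hmin⟩ : ∃ w ∈ W, (x * w) 0 = 0 ∧ (x * w) 2 < (x * w) 3 ∧
      ∀ a : Fin 8, 4 < a → (x * w) 4 < (x * w) a := by
    obtain ⟨j, hj, hjmin⟩ := Finset.exists_min_image (Finset.univ.filter fun a : Fin 8 => 4 ≤ a) (fun a => (x * w2) a)
      ⟨4, by decide⟩
    have hj4 : 4 ≤ j := (Finset.mem_filter.1 hj).2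
    obtain ⟨k, hk, hkj⟩ : ∃ k : Fin 8, k < 4 ∧ sw k 4 = j := by
      revert hj4; clear hjmin hj; revert j; decide +kernel
    refine ⟨w2 * sw k, W.mul_mem hw2 (sw_spec k hk).1, ?_, ?_, fun a ha => ?_⟩ <;>
      simp only [← mul_assoc, Equiv.Perm.mul_apply (x * w2)]
    · rw [(sw_spec k hk).2.1 0 (by decide), h0']
    · rw [(sw_spec k hk).2.1 2 (by decide), (sw_spec k hk).2.1 3 (by decide)]; exact h23
    · rw [hkj]
      refine lt_of_le_of_ne (hjmin _ (Finset.mem_filter.2 ⟨Finset.mem_univ _, (sw_spec k hk).2.2.1 a ha.le⟩)) ?_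
      rw [← hkj]
      exact fun e => ha.ne ((sw k).injective ((x * w2).injective e))
  obtain ⟨w4, hw4, e0, e23, emin, e67⟩ : ∃ w ∈ W, (x * w) 0 = 0 ∧ (x * w) 2 < (x * w) 3 ∧
      (∀ a : Fin 8, 4 < a → (x * w) 4 < (x * w) a) ∧ (x * w) 6 < (x * w) 7 := by
    rcases lt_or_gt_of_ne ((x * w3).injective.ne (show (6 : Fin 8) ≠ 7 by decide)) with h | h
    · exact ⟨w3, hw3, h0'', h23', hmin, h⟩
    · refine ⟨w3 * Equiv.swap 6 7, W.mul_mem hw3 swap_spec.2, ?_, ?_, fun a ha => ?_, ?_⟩ <;>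
        simp only [← mul_assoc, Equiv.Perm.mul_apply (x * w3)]
      · rw [Equiv.swap_apply_of_ne_of_ne (by decide) (by decide), h0'']
      · rw [Equiv.swap_apply_of_ne_of_ne (by decide) (by decide), Equiv.swap_apply_of_ne_of_ne (by decide) (by decide)]
        exact h23'
      · rw [Equiv.swap_apply_of_ne_of_ne (a := (6 : Fin 8)) (b := 7) (x := 4) (by decide) (by decide)]
        exact hmin _ (by revert ha; revert a; decide +kernel)
      · rw [Equiv.swap_apply_left, Equiv.swap_apply_right]; exact h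
  refine ⟨w4, hw4, ?_⟩
  obtain ⟨y, hy⟩ : ∃ y, y = x * w4 := ⟨_, rfl⟩
  rw [← hy] at e0 e23 emin e67 ⊢
  have ne : ∀ {a b : Fin 8}, a ≠ b → y a ≠ y b := fun h => y.injective.ne h
  have z : ∀ {a : Fin 8}, a ≠ 0 → y a ≠ 0 := fun h e => h (y.injective (e.trans e0.symm))
  have h := all_ok (y 1) (z (by decide)) (y 2) ⟨z (by decide), ne (by decide)⟩
    (y 3) ⟨e23, z (by decide), ne (by decide)⟩
    (y 4) ⟨z (by decide), ne (by decide), ne (by decide), ne (by decide)⟩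
    (y 5) ⟨emin 5 (by decide), z (by decide), ne (by decide), ne (by decide), ne (by decide)⟩
    (y 6) ⟨emin 6 (by decide), z (by decide), ne (by decide), ne (by decide), ne (by decide), ne (by decide)⟩
    (y 7) ⟨e67, z (by decide), ne (by decide), ne (by decide), ne (by decide), ne (by decide)⟩
  have hl : [0, y 1, y 2, y 3, y 4, y 5, y 6, y 7] = List.ofFn y := by
    rw [show List.ofFn y = [y 0, y 1, y 2, y 3, y 4, y 5, y 6, y 7] from by simp [List.ofFn_succ], e0]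
  rw [hl] at h
  simp only [ok, List.any_eq_true, List.all_eq_true, beq_iff_eq, List.mem_finRange, true_implies] at h
  obtain ⟨g, hgc, hg⟩ := h
  obtain ⟨g1, g2, a, ha⟩ := cand_ok g hgc
  have hidx : ∀ b : Fin 8, Fin.ofNat 8 ((List.ofFn y).idxOf b) = y⁻¹ b := by
    intro b
    obtain ⟨i, rfl⟩ := y.surjective b
    rw [show y⁻¹ (y i) = i from y.symm_apply_apply i]
    have hn : (List.ofFn y).Nodup := List.nodup_ofFn.2 y.injective
    have := hn.idxOf_getElem i.1 (by simp)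
    simp only [List.getElem_ofFn] at this
    rw [this]; exact Fin.ext (Nat.mod_eq_of_lt i.2)
  have hget : ∀ i : Fin 8, (List.ofFn y).getD i.1 0 = y i := fun i => by
    rw [List.getD_eq_getElem _ _ (by simp), List.getElem_ofFn]
  refine ⟨Function.Involutive.toPerm (fun b : Fin 8 => g.getD b.1 0) g2, g1,
    fun e => ha (congrArg (fun p : Equiv.Perm (Fin 8) => p a) e), fun a b => ?_⟩
  have h' := hg a b
  rw [hidx, hidx, hget, hget] at h'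
  exact h'

/-- In the symmetric group on 8 letters any two Sylow 2-subgroups have non-trivial intersection: for a Sylow 2-subgroup H and every element x, H ∩ xHx⁻¹ ≠ 1. -/
theorem result (H : Sylow 2 (Equiv.Perm (Fin 8))) (x : Equiv.Perm (Fin 8)) :
    (H : Subgroup (Equiv.Perm (Fin 8))) ⊓ (H : Subgroup (Equiv.Perm (Fin 8))).map (MulAut.conj x).toMonoidHom ≠ ⊥ := by
  obtain ⟨P, hP⟩ := IsPGroup.exists_le_sylow (show IsPGroup 2 W from fun g => ⟨3, Subtype.ext (pow_eight g.2)⟩)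
  obtain ⟨y, hy⟩ := MulAction.exists_smul_eq (Equiv.Perm (Fin 8)) P H
  obtain ⟨g, hg, hg1, hgx⟩ := exists_common (y⁻¹ * x * y)
  have hmem : ∀ w ∈ W, y * w * y⁻¹ ∈ (H : Subgroup (Equiv.Perm (Fin 8))) := fun w hw => by
    rw [← hy]
    exact Subgroup.smul_mem_pointwise_smul _ (MulAut.conj y) _ (hP hw)
  intro hbot
  have h : y * g * y⁻¹ ∈ (⊥ : Subgroup (Equiv.Perm (Fin 8))) := by
    rw [← hbot]
    refine ⟨hmem g hg, y * ((y⁻¹ * x * y)⁻¹ * g * (y⁻¹ * x * y)) * y⁻¹, hmem _ hgx, ?_⟩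
    show x * _ * x⁻¹ = _
    group
  rw [Subgroup.mem_bot, mul_inv_eq_one, mul_eq_left] at h
  exact hg1 h

end Cfsg.Agent.S5763
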