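import Cfsg.Statements.S5885
import Mathlib

set_option autoImplicit false
open Cfsg
open scoped Pointwise

namespace Cfsg.Agent.S5885

/-- A primitive coset action on `n` points realises every even permutation, under the hypothesis
that the only primitive groups of degree `n` contain the alternating group. -/
private theorem even_realised {G : Type*} [Group G] [Finite G] (n : ℕ)
    (hA : ∀ P : Subgroup (Equiv.Perm (Fin n)), MulAction.IsPreprimitive P (Fin n) →
      alternatingGroup (Fin n) ≤ P)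
    (M : Subgroup G) (hM : IsCoatom M) (hn : M.index = n)
    [Fintype (G ⧸ M)] [DecidableEq (G ⧸ M)]
    (σ : Equiv.Perm (G ⧸ M)) (hσ : Equiv.Perm.sign σ = 1) :
    ∃ g : G, ∀ x : G ⧸ M, g • x = σ x := by
  have hne : M ≠ ⊤ := hM.1
  haveI : Nontrivial (G ⧸ M) := by
    rw [← Fintype.one_lt_card_iff_nontrivial, ← Nat.card_eq_fintype_card]
    have h1 : M.index ≠ 1 := fun h => hne (Subgroup.index_eq_one.1 h)
    have h0 : M.index ≠ 0 := Subgroup.index_ne_zero_of_finite
    show 1 < M.index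
    omega
  have hprim : MulAction.IsPreprimitive G (G ⧸ M) := by
    rw [← MulAction.isCoatom_stabilizer_iff_preprimitive G ((1 : G) : G ⧸ M),
      MulAction.stabilizer_quotient]
    exact hM
  let e : (G ⧸ M) ≃ Fin n := Fintype.equivFinOfCardEq (by
    rw [← Nat.card_eq_fintype_card]; exact hn)
  let ψ : G →* Equiv.Perm (Fin n) :=
    (e.permCongrHom.toMonoidHom).comp (MulAction.toPermHom G (G ⧸ M))
  let φ : G → ψ.range := fun g => ⟨ψ g, g, rfl⟩
  let f : (G ⧸ M) →ₑ[φ] Fin n :=
    { toFun := e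
      map_smul' := fun g x => by
        show e (g • x) = ψ g (e x)
        simp [ψ] }
  have hP : MulAction.IsPreprimitive ψ.range (Fin n) :=
    MulAction.IsPreprimitive.of_surjective (f := f) e.surjective
  have hmem : e.permCongr σ ∈ ψ.range :=
    hA _ hP (by rw [Equiv.Perm.mem_alternatingGroup, Equiv.Perm.sign_permCongr, hσ])
  obtain ⟨g, hg⟩ := hmem
  refine ⟨g, fun x => ?_⟩
  have := congrArg (fun p : Equiv.Perm (Fin n) => p (e x)) hg
  simpa [ψ] using this

/-- Let n be an odd positive integer such that every primitive permutation group of degree n contains the alternating group (so the symmetric and alternating groups are the only primitive groups of degree n). Let G be a finite group, M a maximal subgroup of G of index n, and H a maximal subgroup of M. Then H is a second maximal subgroup of G: H is maximal in every maximal subgroup K of G containing H. -/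
theorem result {G : Type*} [Group G]
    [Finite G] (n : ℕ) (hodd : Odd n)
    (hA : ∀ P : Subgroup (Equiv.Perm (Fin n)), MulAction.IsPreprimitive P (Fin n) → alternatingGroup (Fin n) ≤ P)
    (M : Subgroup G) (hM : IsCoatom M) (hn : M.index = n) (H : Subgroup G) (hHM : H ≤ M)
    (hmax : IsCoatom (H.subgroupOf M)) (K : Subgroup G) (hK : IsCoatom K) (hHK : H ≤ K) :
    IsCoatom (H.subgroupOf K) := by
  classical
  haveI : Fintype (G ⧸ M) := Fintype.ofFinite _
  have hlt : H.subgroupOf M ≠ ⊤ := hmax.1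
  have hnotMH : ¬ M ≤ H := fun h => hlt (Subgroup.subgroupOf_eq_top.2 h)
  -- subgroups between H and M
  have hbetween : ∀ L : Subgroup G, H ≤ L → L ≤ M → L = H ∨ L = M := by
    intro L h1 h2
    by_cases hL : L ≤ H
    · exact Or.inl (le_antisymm hL h1)
    · right
      have hlt' : H.subgroupOf M < L.subgroupOf M := by
        refine lt_of_le_not_ge (fun x hx => h1 hx) (fun h => hL ?_)
        intro x hx
        exact h (show (⟨x, h2 hx⟩ : M) ∈ L.subgroupOf M from hx)
      exact le_antisymm h2 (Subgroup.subgroupOf_eq_top.1 (hmax.2 _ hlt'))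
  by_cases hKM : K = M
  · subst hKM; exact hmax
  have hKMinf : K ⊓ M = H := by
    rcases hbetween (K ⊓ M) (le_inf hHK hHM) inf_le_right with h | h
    · exact h
    · exfalso
      have hle : M ≤ K := h ▸ inf_le_left
      rcases hle.eq_or_lt with h' | h'
      · exact hKM h'.symm
      · exact hK.1 (hM.2 _ h')
  have hKH : ¬ K ≤ H := by
    intro h
    have hle : K ≤ M := h.trans hHM
    rcases hle.eq_or_lt with h' | h'
    · exact hKM h'
    · exact hM.1 (hK.2 _ h')
  refine ⟨fun h => hKH (Subgroup.subgroupOf_eq_top.1 h), fun Y hY => ?_⟩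
  -- the subgroup between
  obtain ⟨X, hXdef⟩ : ∃ X : Subgroup G, X = Y.map K.subtype := ⟨_, rfl⟩
  have hXK : X ≤ K := by rw [hXdef]; exact Subgroup.map_subtype_le Y
  have hHX : H ≤ X := by
    intro h hh
    rw [hXdef]
    exact ⟨⟨h, hHK hh⟩, hY.le hh, rfl⟩
  have hXH : ¬ X ≤ H := by
    intro hle
    apply not_le_of_gt hY
    intro y hy
    have : (y : G) ∈ X := by rw [hXdef]; exact ⟨y, hy, rfl⟩
    exact hle this
  suffices hKX : K ≤ X by
    rw [eq_top_iff]
    rintro ⟨k, hk⟩ -
    have := hKX hk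
    rw [hXdef] at this
    obtain ⟨y, hy, hyk⟩ := this
    have e : y = ⟨k, hk⟩ := Subtype.ext hyk
    rwa [e] at hy
  obtain ⟨a, ha⟩ : ∃ a : G ⧸ M, a = ((1 : G) : G ⧸ M) := ⟨_, rfl⟩
  have hfixa : ∀ g : G, g • a = a ↔ g ∈ M := by
    intro g
    subst ha
    rw [← MulAction.mem_stabilizer_iff, MulAction.stabilizer_quotient]
  -- the orbit of a
  let O : Set (G ⧸ M) := {p | ∃ x ∈ X, x • a = p}
  have haO : a ∈ O := ⟨1, X.one_mem, one_smul _ _⟩
  have hblock : ∀ k ∈ K, ∀ p ∈ O, k • p ∈ O → k ∈ X := by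
    rintro k hk p ⟨x, hx, rfl⟩ ⟨x', hx', hx'e⟩
    have hM' : x'⁻¹ * k * x ∈ M := by
      rw [← hfixa, mul_smul, mul_smul, ← hx'e, inv_smul_smul]
    have hK' : x'⁻¹ * k * x ∈ K :=
      K.mul_mem (K.mul_mem (K.inv_mem (hXK hx')) hk) (hXK hx)
    have hX' : x'⁻¹ * k * x ∈ X := hHX (hKMinf ▸ Subgroup.mem_inf.2 ⟨hK', hM'⟩)
    have := X.mul_mem (X.mul_mem hx' hX') (X.inv_mem hx)
    simpa [mul_assoc] using this
  intro k0 hk0
  by_contra hk0X
  -- points
  have hc0 : k0 • a ∉ O := fun h => hk0X (hblock k0 hk0 a haO h)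
  obtain ⟨b, hbO, hba⟩ : ∃ b ∈ O, b ≠ a := by
    by_contra h
    push Not at h
    apply hXH
    intro x hx
    have hxM : x ∈ M := (hfixa x).1 (h _ ⟨x, hx, rfl⟩)
    exact hKMinf ▸ Subgroup.mem_inf.2 ⟨hXK hx, hxM⟩
  have hdisj : ∀ p ∈ O, k0 • p ∉ O := fun p hp h => hk0X (hblock k0 hk0 p hp h)
  obtain ⟨c2, hc2O, hc2O'⟩ : ∃ c2 : G ⧸ M, c2 ∉ O ∧ ∀ p ∈ O, k0 • p ≠ c2 := by
    by_contra h
    push Not at h
    -- then the action splits into O and its translate
    have hcompl : Oᶜ = (fun p => k0 • p) '' O := by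
      ext q
      constructor
      · intro hq
        obtain ⟨p, hp, hpq⟩ := h q hq
        exact ⟨p, hp, hpq⟩
      · rintro ⟨p, hp, rfl⟩
        exact hdisj p hp
    have hcard : O.ncard + Oᶜ.ncard = Nat.card (G ⧸ M) := Set.ncard_add_ncard_compl O
    rw [hcompl, Set.ncard_image_of_injective _ (MulAction.injective k0)] at hcard
    have : M.index = O.ncard + O.ncard := hcard.symm
    obtain ⟨r, hr⟩ := hodd
    omega
  set c0 : G ⧸ M := k0 • a with hc0def
  set c1 : G ⧸ M := k0 • b with hc1def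
  have hc1 : c1 ∉ O := hdisj b hbO
  have h01 : c0 ≠ c1 := fun h => hba (MulAction.injective k0 h).symm
  have h02 : c2 ≠ c0 := fun h => hc2O' a haO h.symm
  have h12 : c2 ≠ c1 := fun h => hc2O' b hbO h.symm
  -- the stabiliser of O in M is H
  have hne : ∀ p ∈ O, ∀ q, q ∉ O → p ≠ q := fun p hp q hq h => hq (h ▸ hp)
  have hMO : ∀ g ∈ M, (∀ p ∈ O, g • p ∈ O) → g ∈ H := by
    intro g hg hgO
    have hL : M ⊓ MulAction.stabilizer G O = H := by
      refine (hbetween _ (le_inf hHM ?_) inf_le_left).resolve_right ?_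
      · intro h hh
        rw [MulAction.mem_stabilizer_set_iff_smul_set_subset O.toFinite]
        rintro q ⟨p, ⟨x, hx, rfl⟩, rfl⟩
        exact ⟨h * x, X.mul_mem (hHX hh) hx, mul_smul _ _ _⟩
      · intro h
        obtain ⟨g', hg'⟩ := even_realised n hA M hM hn
          (Equiv.swap b c0 * Equiv.swap b c1) (by
            rw [map_mul, Equiv.Perm.sign_swap (hne b hbO c0 hc0),
              Equiv.Perm.sign_swap (hne b hbO c1 hc1)]
            simp)
        have hg'M : g' ∈ M := by
          rw [← hfixa, hg', Equiv.Perm.mul_apply,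
            Equiv.swap_apply_of_ne_of_ne hba.symm (hne a haO c1 hc1),
            Equiv.swap_apply_of_ne_of_ne hba.symm (hne a haO c0 hc0)]
        rw [← h, Subgroup.mem_inf, MulAction.mem_stabilizer_iff] at hg'M
        have hmem : g' • b ∈ g' • O := Set.smul_mem_smul_set hbO
        rw [hg'M.2, hg', Equiv.Perm.mul_apply, Equiv.swap_apply_left,
          Equiv.swap_apply_of_ne_of_ne (hne b hbO c1 hc1).symm h01.symm] at hmem
        exact hc1 hmem
    rw [← hL]
    refine Subgroup.mem_inf.2 ⟨hg, ?_⟩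
    rw [MulAction.mem_stabilizer_set_iff_smul_set_subset O.toFinite]
    rintro q ⟨p, hp, rfl⟩
    exact hgO p hp
  obtain ⟨g, hg⟩ := even_realised n hA M hM hn
    (Equiv.swap c0 c2 * Equiv.swap c0 c1) (by
      rw [map_mul, Equiv.Perm.sign_swap h02.symm, Equiv.Perm.sign_swap h01]
      simp)
  have hgfix : ∀ p ∈ O, g • p = p := by
    intro p hp
    rw [hg, Equiv.Perm.mul_apply,
      Equiv.swap_apply_of_ne_of_ne (hne p hp c0 hc0) (hne p hp c1 hc1),
      Equiv.swap_apply_of_ne_of_ne (hne p hp c0 hc0) (hne p hp c2 hc2O)]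
  have hgH : g ∈ H := hMO g ((hfixa g).1 (hgfix a haO)) (fun p hp => by rwa [hgfix p hp])
  have hgc1 : g • c1 = c2 := by
    rw [hg, Equiv.Perm.mul_apply, Equiv.swap_apply_right, Equiv.swap_apply_left]
  have hgc0 : g • c0 = c1 := by
    rw [hg, Equiv.Perm.mul_apply, Equiv.swap_apply_left,
      Equiv.swap_apply_of_ne_of_ne h01.symm h12.symm]
  have hk : k0⁻¹ * g * k0 ∈ X := by
    refine hblock _ (K.mul_mem (K.mul_mem (K.inv_mem hk0) (hHK hgH)) hk0) a haO ?_
    rw [mul_smul, mul_smul, ← hc0def, hgc0, hc1def, inv_smul_smul]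
    exact hbO
  obtain ⟨x, hx, hxb⟩ := hbO
  have : (k0⁻¹ * g * k0) • b ∈ O :=
    ⟨k0⁻¹ * g * k0 * x, X.mul_mem hk hx, by rw [mul_smul, hxb]⟩
  rw [mul_smul, mul_smul, ← hc1def, hgc1] at this
  exact hc2O' _ this (smul_inv_smul k0 c2)

end Cfsg.Agent.S5885
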