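import Cfsg.Statements.S5886
import Cfsg.Agent.Lie.ExtFieldSmall

set_option autoImplicit false
open Cfsg

namespace Cfsg.Agent.S5886

open Matrix
open CfsgLib.Lie.ExtField
open CfsgLib.Lie.ExtAlg (μ μ_apply)

section Abstract

variable {F : Type*} [Field F] [Fintype F] {ι : Type} [Fintype ι] [DecidableEq ι]
variable {E : Type*} [Field E] [Algebra F E] [Module E (ι → F)] [IsScalarTower F E (ι → F)]
variable [FiniteDimensional F E] [Module.Finite E (ι → F)]

theorem exists_not_semi (hm : 2 ≤ Module.finrank E (ι → F)) (hr : (Module.finrank F E).Prime) :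
    ∃ g : GL ι F, g ∈ Cfsg.Geo.specialLinear ι F ∧ ¬ Semi E g := by
  obtain ⟨v, hv⟩ : ∃ v : ι → F, v ∉ Submodule.span E ({0} : Set (ι → F)) := out1 (E := E) hm 0
  have hv0 : v ≠ 0 := fun h => hv (by rw [h]; exact zero_mem _)
  obtain ⟨k, hk⟩ : ∃ k : E, k ∉ Set.range (algebraMap F E) := by
    by_contra hc
    push Not at hc
    have hb : (⊥ : Subalgebra F E) = ⊤ := eq_top_iff.2 fun x _ => Algebra.mem_bot.2 (hc x)
    have h1 : Module.finrank F E = 1 := by
      rw [← Algebra.toSubmodule_eq_top (R := F)] at hb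
      exact (Subalgebra.bot_eq_top_iff_finrank_eq_one (F := F) (E := E)).1 (Algebra.toSubmodule_eq_top.1 hb)
    exact hr.one_lt.ne' h1
  obtain ⟨c, hc⟩ := out1 (E := E) hm v
  have hcS : c ∉ Submodule.span F ({v} : Set (ι → F)) := by
    intro h
    obtain ⟨a, rfl⟩ := Submodule.mem_span_singleton.1 h
    exact hc (by rw [← algebraMap_smul E a v]; exact Submodule.smul_mem _ _ (Submodule.mem_span_singleton_self v))
  have hkv : k • v ∉ Submodule.span F ({v, c} : Set (ι → F)) := by
    intro h
    obtain ⟨a, b, hab⟩ := Submodule.mem_span_pair.1 h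
    rw [← algebraMap_smul E a v, ← algebraMap_smul E b c] at hab
    by_cases hb : algebraMap F E b = 0
    · rw [hb, zero_smul, add_zero] at hab
      exact hk ⟨a, smul_left_injective E hv0 hab⟩
    · refine hc (Submodule.mem_span_singleton.2 ⟨(algebraMap F E b)⁻¹ * (k - algebraMap F E a), ?_⟩)
      rw [mul_smul, sub_smul, ← eq_sub_of_add_eq' hab, smul_smul, inv_mul_cancel₀ hb, one_smul]
  obtain ⟨φ, hφ1, hφ⟩ := CfsgLib.Lie.DecompSL.sep hkv
  have hφv : φ v = 0 := hφ v (Submodule.subset_span (by simp))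
  have hφc : φ c = 0 := hφ c (Submodule.subset_span (by simp))
  refine ⟨CfsgLib.Lie.FormMaxSL.tv c φ, CfsgLib.Lie.FormMaxSL.tv_mem_SL _ _, fun hs => ?_⟩
  obtain ⟨k', hk'⟩ := hs k
  have e := hk' v
  simp only [act, CfsgLib.Lie.FormMaxSL.tv_mulVec hφc, hφ1, hφv, zero_smul, add_zero, one_smul] at e
  apply hc
  refine Submodule.mem_span_singleton.2 ⟨k' - k, ?_⟩
  rw [sub_smul, ← e, add_sub_cancel_left]

theorem main (hm : 2 ≤ Module.finrank E (ι → F)) (hr : (Module.finrank F E).Prime)
    (N : Subgroup (GL ι F)) (hN : ∀ g, g ∈ N ↔ Semi E g) :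
    IsCoatom N ∧ Cfsg.Geo.IsMaximalIn (Cfsg.Geo.specialLinear ι F)
      (N ⊓ Cfsg.Geo.specialLinear ι F) := by
  classical
  obtain ⟨g0, hg0, hg0N⟩ := exists_not_semi hm hr
  have hlin : ∀ g : GL ι F, Lin E g → g ∈ N := fun g hg => (hN g).2 fun k => ⟨k, hg k⟩
  have hle : ∀ M : Subgroup (GL ι F), N ⊓ Cfsg.Geo.specialLinear ι F ≤ M →
      (∃ g ∈ M, ¬ Semi E g) → Cfsg.Geo.specialLinear ι F ≤ M := by
    intro M hM hex
    have hH : ∀ g : GL ι F, Lin E g → (g : Matrix ι ι F).det = 1 → g ∈ M := fun g hg hd =>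
      hM ⟨hlin g hg, CfsgLib.Lie.DecompSL.mem_SL hd⟩
    by_cases hq : Nat.card F = 2 ∧ Module.finrank F E = 2
    · by_cases h3 : 3 ≤ Module.finrank E (ι → F)
      · exact SL_le_of_full hm hH (full_of_not_semi_two hm hH hr hq.1 hq.2 h3 hex)
      · rw [small_top (by rw [← Nat.card_eq_fintype_card]; exact hq.1) hq.2 (by omega) hH hex]
        exact le_top
    · exact SL_le_of_full hm hH (full_of_not_semi hm hH hr hq hex)
  -- the determinant is onto
  have hdet : ∀ g : GL ι F, ∃ n ∈ N, n⁻¹ * g ∈ Cfsg.Geo.specialLinear ι F := by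
    intro g
    haveI : Finite E := Module.finite_of_finite F
    obtain ⟨lam, hlam⟩ := FiniteField.norm_surjective F E (g : Matrix ι ι F).det
    have hlam0 : lam ≠ 0 := by
      intro h
      rw [h, Algebra.norm_zero] at hlam
      exact ((Matrix.isUnit_iff_isUnit_det _).1 g.isUnit).ne_zero hlam.symm
    obtain ⟨u, hu⟩ : ∃ u : ι → F, u ∉ Submodule.span E ({0} : Set (ι → F)) := out1 (E := E) hm 0
    obtain ⟨φ, hφ, -⟩ := sepE hu
    obtain ⟨T, hT⟩ : ∃ T, T = LinearMap.transvection φ ((lam - 1) • u) := ⟨_, rfl⟩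
    obtain ⟨T', hT'⟩ : ∃ T', T' = LinearMap.transvection φ ((lam⁻¹ - 1) • u) := ⟨_, rfl⟩
    have hTx : ∀ x, T x = x + φ x • (lam - 1) • u := fun x => by
      rw [hT]; simp [LinearMap.transvection.apply]
    have hT'x : ∀ x, T' x = x + φ x • (lam⁻¹ - 1) • u := fun x => by
      rw [hT']; simp [LinearMap.transvection.apply]
    have hTT : T ∘ₗ T' = LinearMap.id := LinearMap.ext fun x => by
      rw [LinearMap.comp_apply, hTx, hT'x, map_add, map_smul, map_smul, hφ, LinearMap.id_apply]
      match_scalars <;> (simp; try field_simp; try ring)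
    have hTT' : T' ∘ₗ T = LinearMap.id := LinearMap.ext fun x => by
      rw [LinearMap.comp_apply, hT'x, hTx, map_add, map_smul, map_smul, hφ, LinearMap.id_apply]
      match_scalars <;> (simp; try field_simp; try ring)
    let h : GL ι F := ⟨LinearMap.toMatrix' (T.restrictScalars F), LinearMap.toMatrix' (T'.restrictScalars F),
      by rw [← LinearMap.toMatrix'_comp, ← LinearMap.toMatrix'_id]
         exact congrArg _ (LinearMap.ext fun x => DFunLike.congr_fun hTT x),
      by rw [← LinearMap.toMatrix'_comp, ← LinearMap.toMatrix'_id]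
         exact congrArg _ (LinearMap.ext fun x => DFunLike.congr_fun hTT' x)⟩
    have hh : ∀ x, act h x = T x := fun x => LinearMap.toMatrix'_mulVec _ _
    refine ⟨h, hlin h (fun k x => by rw [hh, hh, map_smul]), ?_⟩
    have e : Matrix.toLin' (h : Matrix ι ι F) = T.restrictScalars F :=
      LinearMap.ext fun x => by rw [Matrix.toLin'_apply]; exact hh x
    have hhd : (h : Matrix ι ι F).det = (g : Matrix ι ι F).det := by
      rw [← LinearMap.det_toLin', e, LinearMap.det_restrictScalars, hT, LinearMap.transvection.det,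
        map_smul, hφ, smul_eq_mul, mul_one, add_sub_cancel, hlam]
    refine MonoidHom.mem_ker.2 ?_
    rw [map_mul, map_inv, inv_mul_eq_one]
    exact Units.ext hhd
  refine ⟨⟨fun h => hg0N ((hN g0).1 (h ▸ Subgroup.mem_top g0)), fun M hM => ?_⟩, ?_, ?_⟩
  · obtain ⟨g, hgM, hgN⟩ := SetLike.exists_of_lt hM
    obtain ⟨n, hn, hng⟩ := hdet g
    have hSL : Cfsg.Geo.specialLinear ι F ≤ M := hle M (inf_le_left.trans hM.le)
      ⟨g, hgM, fun h => hgN ((hN g).2 h)⟩
    refine eq_top_iff.2 fun x _ => ?_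
    obtain ⟨n', hn', hnx⟩ := hdet x
    have := M.mul_mem (hM.le hn') (hSL hnx)
    rwa [mul_inv_cancel_left] at this
  · exact lt_of_le_of_ne inf_le_right fun h => hg0N ((hN g0).1 (h.ge hg0).1)
  · intro M hHM hMSL
    by_cases hex : ∃ g ∈ M, ¬ Semi E g
    · exact Or.inr (le_antisymm hMSL (hle M hHM hex))
    · push Not at hex
      exact Or.inl (le_antisymm (fun g hg => ⟨(hN g).2 (hex g hg), hMSL hg⟩) hHM)

end Abstract

theorem of_emb {F : Type*} [Field F] [Fintype F] (n r : ℕ) (hlt : r < n) {K : Type*} [Field K]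
    [Algebra F K] [FiniteDimensional F K] (j : K →ₐ[F] Matrix (Fin n) (Fin n) F)
    (hj : Function.Injective j) (hr : r.Prime) (hrF : Module.finrank F K = r)
    (S : Subalgebra F (Matrix (Fin n) (Fin n) F)) (hS : Set.range j = (S : Set (Matrix (Fin n) (Fin n) F))) :
    IsCoatom (Cfsg.Geo.subalgebraNormalizer S) ∧
      Cfsg.Geo.IsMaximalIn (Cfsg.Geo.specialLinear (Fin n) F)
        (Cfsg.Geo.subalgebraNormalizer S ⊓ Cfsg.Geo.specialLinear (Fin n) F) := by
  classical
  letI : Module K (Fin n → F) := Module.compHom (Fin n → F)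
    ((Matrix.toLinAlgEquiv'.toAlgHom.comp j).toRingHom :
      K →+* Module.End F (Fin n → F))
  have hsmul : ∀ (k : K) (x : Fin n → F), k • x = j k *ᵥ x :=
    fun k x => rfl
  haveI : IsScalarTower F K (Fin n → F) := IsScalarTower.of_algebraMap_smul fun a x => by
    rw [hsmul]
    rw [AlgHom.commutes]
    rw [Algebra.algebraMap_eq_smul_one, Matrix.smul_mulVec, Matrix.one_mulVec]
  haveI : Module.Finite K (Fin n → F) := Module.Finite.of_restrictScalars_finite F K (Fin n → F)
  have hm : 2 ≤ Module.finrank K (Fin n → F) := by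
    have h1 := Module.finrank_mul_finrank F K (Fin n → F)
    rw [hrF, Module.finrank_fintype_fun_eq_card, Fintype.card_fin] at h1
    by_contra h
    push Not at h
    nlinarith
  have hjK : ∀ x, x ∈ S ↔ ∃ k, j k = x := fun x => by
    rw [← SetLike.mem_coe, ← hS]; rfl
  refine main hm (hrF ▸ hr) _ fun g => ⟨fun hg k => ?_, fun hs => ?_⟩
  · obtain ⟨k', hk'⟩ := (hjK _).1 ((hg (j k)).1 ((hjK _).2 ⟨k, rfl⟩))
    refine ⟨k', fun x => ?_⟩
    rw [hsmul, hsmul, hk']
    simp only [act, Matrix.mulVec_mulVec, mul_assoc, Units.inv_mul, mul_one]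
  · choose f hf using hs
    have hfe : ∀ k : K, j (f k) =
        (g : Matrix (Fin n) (Fin n) F) * j k * ((g⁻¹ : GL (Fin n) F) : Matrix (Fin n) (Fin n) F) := by
      intro k
      refine Matrix.toLin'.injective (LinearMap.ext fun x => ?_)
      simp only [Matrix.toLin'_apply]
      rw [← Matrix.mulVec_mulVec, ← Matrix.mulVec_mulVec, ← hsmul k, ← hsmul (f k)]
      have := hf k (act g⁻¹ x)
      rw [act_inv'] at this
      exact this.symm
    have hinj : Function.Injective f := by
      intro a b hab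
      have h1 := hfe a
      rw [hab, hfe b] at h1
      exact hj ((Units.mul_right_inj g).1 ((Units.mul_left_inj g⁻¹).1 h1.symm))
    intro y
    refine ⟨fun hy => ?_, fun hy => ?_⟩
    · obtain ⟨k, rfl⟩ := (hjK y).1 hy
      exact (hjK _).2 ⟨f k, hfe k⟩
    · obtain ⟨k, hk⟩ := (hjK _).1 hy
      haveI : Finite K := Module.finite_of_finite F
      obtain ⟨k', hk'⟩ := Finite.surjective_of_injective hinj k
      have h1 := hfe k'
      rw [hk', hk] at h1
      exact (hjK y).2 ⟨k', ((Units.mul_right_inj g).1 ((Units.mul_left_inj g⁻¹).1 h1)).symm⟩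

/-- Let F be a finite field, n a positive integer and r a prime that divides n with r < n. Let K be a subalgebra of the algebra of n × n matrices over F which is a field of degree r over F (commutative, every non-zero element invertible, of dimension r over F; it contains the scalars). Then the normaliser N of K in GL_n(F) — the invertible F-linear maps that are semilinear over the field K, a group of type ΓL_{n/r}(F_{q^r}) for |F| = q — is a maximal subgroup of GL_n(F), and N ∩ SL_n(F) is a maximal subgroup of SL_n(F). No lower bound on n is assumed. -/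
theorem result {F : Type*} [Field F]
    [Fintype F] (n r : ℕ) (hr : r.Prime) (hrn : r ∣ n) (hlt : r < n) (K : Subalgebra F (Matrix (Fin n) (Fin n) F))
    (hK : Cfsg.Geo.IsFieldSubalgebra r K) :
    IsCoatom (Cfsg.Geo.subalgebraNormalizer K) ∧
      Cfsg.Geo.IsMaximalIn (Cfsg.Geo.specialLinear (Fin n) F)
        (Cfsg.Geo.subalgebraNormalizer K ⊓ Cfsg.Geo.specialLinear (Fin n) F) := by
  classical
  haveI : Fintype K := Fintype.ofFinite K
  letI : CommRing K :=
    { (inferInstance : Ring K) with mul_comm := fun a b => Subtype.ext (hK.comm a a.2 b b.2) }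
  haveI : Nontrivial K := Module.nontrivial_of_finrank_pos (R := F) (by rw [hK.finrank_eq]; exact hr.pos)
  haveI : IsDomain K := by
    haveI : NoZeroDivisors K := ⟨fun {a b} hab => by
      by_cases ha : a = 0
      · exact Or.inl ha
      · obtain ⟨y, hy, hay⟩ := hK.inv a a.2 (fun h => ha (Subtype.ext h))
        refine Or.inr (Subtype.ext ?_)
        have h1 : (b : Matrix (Fin n) (Fin n) F) = y * ((a : Matrix (Fin n) (Fin n) F) * b) := by
          rw [← mul_assoc, ← hK.comm a a.2 y hy, hay, one_mul]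
        have h2 : (a : Matrix (Fin n) (Fin n) F) * b = 0 := congrArg Subtype.val hab
        rw [h1, h2, mul_zero]
        rfl⟩
    exact NoZeroDivisors.to_isDomain K
  letI : Field K := Fintype.fieldOfDomain K
  exact of_emb n r hlt K.val (fun a b h => Subtype.ext h) hr hK.finrank_eq K (Set.ext fun x => by
    constructor
    · rintro ⟨k, rfl⟩; exact k.2
    · intro hx; exact ⟨⟨x, hx⟩, rfl⟩)

end Cfsg.Agent.S5886
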