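import Cfsg.Statements.S5887
import Cfsg.Agent.Lie.ExtField

set_option autoImplicit false
open Cfsg

namespace Cfsg.Agent.S5887

open Matrix
open CfsgLib.Lie.ExtField
open CfsgLib.Lie.FormMaxSL (tv tv_mulVec tv_mem_SL)

variable {F : Type*} [Field F] [Fintype F] {n : ℕ}

/-- conjugates of members of the subalgebra -/
theorem mem_norm (S : Subalgebra F (Matrix (Fin n) (Fin n) F)) (g : GL (Fin n) F)
    (h : ∀ x ∈ S, (g : Matrix (Fin n) (Fin n) F) * x * ((g⁻¹ : GL (Fin n) F) : Matrix (Fin n) (Fin n) F) ∈ S) :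
    g ∈ Cfsg.Geo.subalgebraNormalizer S := by
  intro x
  refine ⟨h x, fun hx => ?_⟩
  let f : S → S := fun y => ⟨_, h y y.2⟩
  have hinj : Function.Injective f := fun a b hab =>
    Subtype.ext ((Units.mul_right_inj g).1 ((Units.mul_left_inj g⁻¹).1 (congrArg Subtype.val hab)))
  obtain ⟨y, hy⟩ := Finite.surjective_of_injective hinj ⟨_, hx⟩
  rw [← (Units.mul_right_inj g).1 ((Units.mul_left_inj g⁻¹).1 (congrArg Subtype.val hy))]
  exact y.2

theorem of_emb (r : ℕ) (hlt : r < n) {K : Type*} [Field K] [Algebra F K] [FiniteDimensional F K]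
    (j : K →ₐ[F] Matrix (Fin n) (Fin n) F) (hj : Function.Injective j) (hr1 : 1 < r) (hrp : ¬ r.Prime)
    (hrF : Module.finrank F K = r) :
    ∃ S₀ : Subalgebra F (Matrix (Fin n) (Fin n) F),
      Cfsg.Geo.subalgebraNormalizer j.range ≤ Cfsg.Geo.subalgebraNormalizer S₀ ∧
      (∃ g ∈ Cfsg.Geo.specialLinear (Fin n) F, g ∈ Cfsg.Geo.subalgebraNormalizer S₀ ∧
        g ∉ Cfsg.Geo.subalgebraNormalizer j.range) ∧
      ∃ g ∈ Cfsg.Geo.specialLinear (Fin n) F, g ∉ Cfsg.Geo.subalgebraNormalizer S₀ := by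
  classical
  haveI : Finite K := Module.finite_of_finite F
  haveI : Fintype K := Fintype.ofFinite K
  -- an intermediate field
  obtain ⟨K0, hbot, htop⟩ : ∃ K0 : IntermediateField F K, K0 ≠ ⊥ ∧ K0 ≠ ⊤ := by
    obtain ⟨p, hp, hpd⟩ := Nat.exists_prime_and_dvd (show r ≠ 1 by omega)
    haveI := Fact.mk hp
    obtain ⟨σ, hσ⟩ := exists_prime_orderOf_dvd_card' (G := K ≃ₐ[F] K) p
      (by rw [IsGalois.card_aut_eq_finrank, hrF]; exact hpd)
    refine ⟨IntermediateField.fixedField (Subgroup.zpowers σ), fun h => ?_, fun h => ?_⟩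
    · have h1 := IntermediateField.finrank_fixedField_eq_card (Subgroup.zpowers σ)
      rw [h, IntermediateField.finrank_bot', hrF, Nat.card_zpowers, hσ] at h1
      exact hrp (h1 ▸ hp)
    · have h1 := IntermediateField.finrank_fixedField_eq_card (Subgroup.zpowers σ)
      rw [h, IntermediateField.finrank_top, Nat.card_zpowers, hσ] at h1
      exact hp.one_lt.ne h1
  obtain ⟨k1, hk1, hk1F⟩ : ∃ k, k ∈ K0 ∧ k ∉ Set.range (algebraMap F K) := by
    by_contra hc
    push Not at hc
    exact hbot (le_antisymm (fun x hx => IntermediateField.mem_bot.2 (hc x hx)) bot_le)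
  obtain ⟨k2, hk2⟩ : ∃ k, k ∉ K0 := by
    by_contra hc
    push Not at hc
    exact htop (eq_top_iff.2 fun x _ => hc x)
  -- modules
  letI : Module K (Fin n → F) := Module.compHom (Fin n → F)
    ((Matrix.toLinAlgEquiv'.toAlgHom.comp j).toRingHom : K →+* Module.End F (Fin n → F))
  have hsmul : ∀ (k : K) (x : Fin n → F), k • x = j k *ᵥ x := fun k x => rfl
  haveI : IsScalarTower F K (Fin n → F) := IsScalarTower.of_algebraMap_smul fun a x => by
    rw [hsmul, AlgHom.commutes, Algebra.algebraMap_eq_smul_one, Matrix.smul_mulVec, Matrix.one_mulVec]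
  haveI : Module.Finite K (Fin n → F) := Module.Finite.of_restrictScalars_finite F K (Fin n → F)
  have hm : 2 ≤ Module.finrank K (Fin n → F) := by
    have h1 := Module.finrank_mul_finrank F K (Fin n → F)
    rw [hrF, Module.finrank_fintype_fun_eq_card, Fintype.card_fin] at h1
    by_contra h
    push Not at h
    nlinarith
  obtain ⟨v, hv⟩ : ∃ v : Fin n → F, v ∉ Submodule.span K ({0} : Set (Fin n → F)) := out1 (E := K) hm 0
  have hv0 : v ≠ 0 := fun h => hv (by rw [h]; exact zero_mem _)
  obtain ⟨c, hc⟩ := out1 (E := K) hm v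
  have hact : ∀ (g : GL (Fin n) F) (k k' : K),
      (g : Matrix (Fin n) (Fin n) F) * j k * ((g⁻¹ : GL (Fin n) F) : Matrix (Fin n) (Fin n) F) = j k' →
      ∀ x, act g (k • x) = k' • act g x := by
    intro g k k' h x
    rw [hsmul, hsmul, ← h]
    simp only [act, Matrix.mulVec_mulVec, mul_assoc, Units.inv_mul, mul_one]
  -- a subgroup escaping the normaliser
  have escape : ∀ (g : GL (Fin n) F) (S : Subalgebra F (Matrix (Fin n) (Fin n) F)) (k : K),
      g ∈ Cfsg.Geo.subalgebraNormalizer S → j k ∈ S → S ≤ j.range → act g v = v →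
      act g (k • v) = k • v + c → False := by
    intro g S k hg hkS hS hgv hgk
    obtain ⟨k', hk'⟩ := hS ((hg (j k)).1 hkS)
    have e := hact g k k' hk'.symm v
    rw [hgk, hgv] at e
    exact hc (Submodule.mem_span_singleton.2 ⟨k' - k, by rw [sub_smul, ← e, add_sub_cancel_left]⟩)
  let S₀ : Subalgebra F (Matrix (Fin n) (Fin n) F) := K0.toSubalgebra.map j
  have hS₀le : S₀ ≤ j.range := by
    rintro _ ⟨k, -, rfl⟩; exact ⟨k, rfl⟩
  refine ⟨S₀, fun g hg => ?_, ?_, ?_⟩
  · -- invariance of the subfield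
    refine mem_norm _ _ ?_
    rintro _ ⟨x, hx, rfl⟩
    obtain ⟨y, hy⟩ := (hg (j x)).1 ⟨x, rfl⟩
    obtain ⟨N, hN⟩ : ∃ N, N = Fintype.card K0 := ⟨_, rfl⟩
    have hpow : ∀ z ∈ K0, z ^ N = z := fun z hz => by
      have := FiniteField.pow_card (⟨z, hz⟩ : K0)
      rw [← hN] at this
      exact congrArg Subtype.val this
    have hyN : y ^ N = y := by
      apply hj
      change j y = _ at hy
      rw [map_pow, hy, Units.conj_pow, ← map_pow, hpow x hx]
    have hfix : ∀ z : K, z ^ N = z → z ∈ K0 := by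
      have hN1 : 1 < N := hN ▸ Fintype.one_lt_card
      let P : Polynomial K := Polynomial.X ^ N - Polynomial.X
      have hP : P ≠ 0 := FiniteField.X_pow_card_sub_X_ne_zero K hN1
      have hsub : Finset.univ.image (fun z : K0 => (z : K)) ⊆ P.roots.toFinset := by
        intro z hz
        obtain ⟨w, -, rfl⟩ := Finset.mem_image.1 hz
        simp [P, Polynomial.mem_roots', hP, hpow _ w.2]
      have heq : Finset.univ.image (fun z : K0 => (z : K)) = P.roots.toFinset := by
        refine Finset.eq_of_subset_of_card_le hsub ?_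
        rw [Finset.card_image_of_injective _ Subtype.val_injective, Finset.card_univ, ← hN]
        refine le_trans (Multiset.toFinset_card_le _) (le_trans (Polynomial.card_roots' P) ?_)
        simp [P, FiniteField.X_pow_card_sub_X_natDegree_eq K hN1]
      intro z hz
      have : z ∈ P.roots.toFinset := by
        simp [P, Polynomial.mem_roots', hP, hz]
      rw [← heq] at this
      obtain ⟨w, -, rfl⟩ := Finset.mem_image.1 this
      exact w.2
    exact ⟨y, hfix y hyN, hy⟩
  · -- linear over the subfield, not over `K`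
    have hsm0 : ∀ (k : K0) (x : Fin n → F), k • x = (k : K) • x := fun k x => rfl
    haveI : IsScalarTower F K0 (Fin n → F) := IsScalarTower.of_algebraMap_smul fun a x => by
      rw [hsm0, show ((algebraMap F K0 a : K0) : K) = algebraMap F K a from rfl, algebraMap_smul]
    haveI : Module.Finite K0 (Fin n → F) := Module.Finite.of_restrictScalars_finite F K0 (Fin n → F)
    have hkv : k2 • v ∉ Submodule.span K0 ({v, c} : Set (Fin n → F)) := by
      intro h
      obtain ⟨a, b, hab⟩ := Submodule.mem_span_pair.1 h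
      rw [hsm0, hsm0] at hab
      by_cases hb : (b : K) = 0
      · rw [hb, zero_smul, add_zero] at hab
        exact hk2 ((smul_left_injective K hv0 hab : (a : K) = k2) ▸ a.2)
      · refine hc (Submodule.mem_span_singleton.2 ⟨(b : K)⁻¹ * (k2 - a), ?_⟩)
        rw [mul_smul, sub_smul, ← eq_sub_of_add_eq' hab, smul_smul, inv_mul_cancel₀ hb, one_smul]
    obtain ⟨φ, hφ1, hφ⟩ := sepE hkv
    have hφv : φ v = 0 := hφ v (Submodule.subset_span (by simp))
    have hφc : φ c = 0 := hφ c (Submodule.subset_span (by simp))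
    refine ⟨uni (rtMap c φ (CfsgLib.Lie.ExtAlg.μ 1)), CfsgLib.Lie.DecompSL.mem_SL (uni_det _), ?_, ?_⟩
    · refine mem_norm _ _ ?_
      rintro _ ⟨x, hx, rfl⟩
      refine ⟨x, hx, ?_⟩
      refine Matrix.toLin'.injective (LinearMap.ext fun z => ?_)
      simp only [Matrix.toLin'_apply]
      rw [← Matrix.mulVec_mulVec, ← Matrix.mulVec_mulVec]
      have := lin_rt hφc 1 (⟨x, hx⟩ : K0) (act (uni (rtMap c φ (CfsgLib.Lie.ExtAlg.μ 1)))⁻¹ z)
      rw [hsm0, hsm0, act_inv'] at this
      exact this.symm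
    · intro hg
      refine escape _ _ k2 hg ⟨k2, rfl⟩ le_rfl ?_ ?_
      · rw [uni_act (rtMap_sq hφc _), rtMap_apply, hφv, map_zero, zero_smul, add_zero]
      · rw [uni_act (rtMap_sq hφc _), rtMap_apply, hφ1, CfsgLib.Lie.ExtAlg.μ_apply, one_mul, one_smul]
  · -- escaping the subfield
    have hkv : k1 • v ∉ Submodule.span F ({v, c} : Set (Fin n → F)) := by
      intro h
      obtain ⟨a, b, hab⟩ := Submodule.mem_span_pair.1 h
      rw [← algebraMap_smul K a v, ← algebraMap_smul K b c] at hab
      by_cases hb : algebraMap F K b = 0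
      · rw [hb, zero_smul, add_zero] at hab
        exact hk1F ⟨a, smul_left_injective K hv0 hab⟩
      · refine hc (Submodule.mem_span_singleton.2 ⟨(algebraMap F K b)⁻¹ * (k1 - algebraMap F K a), ?_⟩)
        rw [mul_smul, sub_smul, ← eq_sub_of_add_eq' hab, smul_smul, inv_mul_cancel₀ hb, one_smul]
    obtain ⟨φ, hφ1, hφ⟩ := CfsgLib.Lie.DecompSL.sep hkv
    have hφv : φ v = 0 := hφ v (Submodule.subset_span (by simp))
    have hφc : φ c = 0 := hφ c (Submodule.subset_span (by simp))
    refine ⟨tv c φ, tv_mem_SL _ _, fun hg => escape _ _ k1 hg ⟨k1, hk1, rfl⟩ hS₀le ?_ ?_⟩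
    · simp [act, tv_mulVec hφc, hφv]
    · simp [act, tv_mulVec hφc, hφ1]

/-- Let F be a finite field, n a positive integer and r a composite number (r > 1, not prime) that divides n with r < n. Let K be a subalgebra of the algebra of n × n matrices over F which is a field of degree r over F (commutative, every non-zero element invertible, of dimension r over F). Then the normaliser N of K in GL_n(F) (a group of type ΓL_{n/r}(F_{q^r})) is not a maximal subgroup of GL_n(F), and N ∩ SL_n(F) is not a maximal subgroup of SL_n(F): both lie properly inside the normaliser of an intermediate subfield of prime degree over F. -/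
theorem result {F : Type*} [Field F]
    [Fintype F] (n r : ℕ) (hr1 : 1 < r) (hrp : ¬ r.Prime) (hrn : r ∣ n) (hlt : r < n)
    (K : Subalgebra F (Matrix (Fin n) (Fin n) F)) (hK : Cfsg.Geo.IsFieldSubalgebra r K) :
    ¬ IsCoatom (Cfsg.Geo.subalgebraNormalizer K) ∧
      ¬ Cfsg.Geo.IsMaximalIn (Cfsg.Geo.specialLinear (Fin n) F)
        (Cfsg.Geo.subalgebraNormalizer K ⊓ Cfsg.Geo.specialLinear (Fin n) F) := by
  classical
  haveI : Fintype K := Fintype.ofFinite K
  letI : CommRing K :=
    { (inferInstance : Ring K) with mul_comm := fun a b => Subtype.ext (hK.comm a a.2 b b.2) }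
  haveI : Nontrivial K := Module.nontrivial_of_finrank_pos (R := F) (by rw [hK.finrank_eq]; omega)
  haveI : IsDomain K := by
    haveI : NoZeroDivisors K := ⟨fun {a b} hab => by
      by_cases ha : a = 0
      · exact Or.inl ha
      · obtain ⟨y, hy, hay⟩ := hK.inv a a.2 (fun h => ha (Subtype.ext h))
        refine Or.inr (Subtype.ext ?_)
        have h1 : (b : Matrix (Fin n) (Fin n) F) = y * ((a : Matrix (Fin n) (Fin n) F) * b) := by
          rw [← mul_assoc, ← hK.comm a a.2 y hy, hay, one_mul]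
        have h2 : (a : Matrix (Fin n) (Fin n) F) * b = 0 := congrArg Subtype.val hab
        rw [h1, h2, mul_zero]
        rfl⟩
    exact NoZeroDivisors.to_isDomain K
  letI : Field K := Fintype.fieldOfDomain K
  obtain ⟨S₀, hle, ⟨g, hgSL, hgS, hgK⟩, g', hg'SL, hg'S⟩ :=
    of_emb r hlt K.val (fun a b h => Subtype.ext h) hr1 hrp hK.finrank_eq
  rw [Subalgebra.range_val] at hle hgK
  constructor
  · intro h
    have := h.2 _ (lt_of_le_of_ne hle fun e => hgK (e ▸ hgS))
    exact hg'S (this ▸ Subgroup.mem_top g')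
  · rintro ⟨-, h⟩
    rcases h (Cfsg.Geo.subalgebraNormalizer S₀ ⊓ Cfsg.Geo.specialLinear (Fin n) F)
      (inf_le_inf_right _ hle) inf_le_right with h1 | h1
    · exact hgK (h1.le ⟨hgS, hgSL⟩).1
    · exact hg'S (h1.ge hg'SL).1

end Cfsg.Agent.S5887
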