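import Cfsg.Statements.S5891
import Cfsg.Agent.Lie.DicksonPGLMax
-- import your own Cfsg.Agent.* helpers here

set_option autoImplicit false
open Cfsg

namespace Cfsg.Agent.S5891

/-- Let F be a finite field of odd order q > 3 and characteristic p, and let M be a maximal subgroup of PGL₂(F) not containing the image L of SL₂(F) (a copy of PSL₂(F) of index 2). Then one of the following holds: |M| = q(q − 1) (M is the stabiliser of a point of the projective line); q ≠ 5 and M is dihedral of order 2(q − 1); M is dihedral of order 2(q + 1); q = p ≡ ±3 (mod 8) and M ≅ S₄; or q = q₀^r for an odd prime r and M ≅ PGL₂(F₀) with |F₀| = q₀. -/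
theorem result {F : Type*} [Field F] [Fintype F]
    (hodd : Odd (Fintype.card F)) (h3 : 3 < Fintype.card F) (M : Subgroup (Matrix.ProjGenLinGroup (Fin 2) F)) (hM : IsCoatom M)
    (hML : ¬ (Matrix.ProjGenLinGroup.mk.comp Matrix.SpecialLinearGroup.toGL).range ≤ M) :
    Nat.card M = Fintype.card F * (Fintype.card F - 1) ∨
    (Fintype.card F ≠ 5 ∧ Nonempty (M ≃* DihedralGroup (Fintype.card F - 1))) ∨
    Nonempty (M ≃* DihedralGroup (Fintype.card F + 1)) ∨
    ((Fintype.card F).Prime ∧ (Fintype.card F % 8 = 3 ∨ Fintype.card F % 8 = 5) ∧ Nonempty (M ≃* Equiv.Perm (Fin 4))) ∨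
    (∃ (F₀ : Type) (_ : Field F₀) (_ : Fintype F₀) (r : ℕ), r.Prime ∧ Odd r ∧ Fintype.card F = Fintype.card F₀ ^ r ∧
        Nonempty (M ≃* Matrix.ProjGenLinGroup (Fin 2) F₀)) := by
  have h5 : 5 ≤ Fintype.card F := by
    rcases Nat.lt_or_ge (Fintype.card F) 5 with h | h
    · rw [Nat.odd_iff] at hodd; omega
    · exact h
  have ho : Fintype.card F % 2 = 1 := Nat.odd_iff.1 hodd
  obtain ⟨p, hpc⟩ := CharP.exists F
  haveI : Fact p.Prime := ⟨CharP.char_is_prime F p⟩
  obtain ⟨n, -, hq⟩ := FiniteField.card F p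
  have hr : (Matrix.ProjectiveSpecialLinearGroup.toPGL (n := Fin 2) (R := F)).range =
      (Matrix.ProjGenLinGroup.mk.comp Matrix.SpecialLinearGroup.toGL).range := by
    ext g
    constructor
    · rintro ⟨x, rfl⟩
      induction x using QuotientGroup.induction_on with
      | H A => exact ⟨A, rfl⟩
    · rintro ⟨A, rfl⟩
      exact ⟨QuotientGroup.mk A, rfl⟩
  rw [← hr] at hML
  haveI : Finite (Matrix.ProjGenLinGroup (Fin 2) F) :=
    Finite.of_surjective _ Matrix.ProjGenLinGroup.mk_surjective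
  have hidx := CfsgLib.Lie.DicksonPGLMax.index_range (F := F) ho
  have h2 := CfsgLib.Lie.DicksonPGLMax.subgroupOf_index_two _ M hidx
    (CfsgLib.Lie.DicksonPGLMax.not_le_range h5 ho M hM hML)
  rcases CfsgLib.Lie.DicksonPGL.dickson p M.subtype M.subtype_injective with
    ⟨y, hy, -, -, -⟩ | ⟨hc, hk, -⟩ | ⟨k, hk2, ⟨hk, -⟩, ⟨t⟩⟩ | ⟨-, ⟨t⟩⟩ | ⟨-, ⟨t⟩⟩ | ⟨-, ⟨t⟩⟩ |
    ⟨K, iK, iF, m, hm, h3K, κ, k, hrange, e⟩
  · left
    rcases hM.le_iff.1 (show M ≤ MulAction.stabilizer _ y from fun g hg => hy ⟨g, hg⟩) with e | e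
    · exfalso
      have h := CfsgLib.Lie.DicksonPGLMax.card_borelP y
      rw [e, Subgroup.card_top, CfsgLib.Lie.DicksonCor.card_PGL, CfsgLib.Lie.DicksonCor.sq_sub_one] at h
      have h6 : Fintype.card F * (2 * (Fintype.card F - 1)) ≤
          Fintype.card F * ((Fintype.card F + 1) * (Fintype.card F - 1)) :=
        Nat.mul_le_mul_left _ (Nat.mul_le_mul_right _ (by omega))
      rw [h, mul_left_comm] at h6
      have h7 : 0 < Fintype.card F * (Fintype.card F - 1) := Nat.mul_pos (by omega) (by omega)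
      omega
    · rw [← e]; exact CfsgLib.Lie.DicksonPGLMax.card_borelP y
  · exfalso
    refine CfsgLib.Lie.DicksonPGLMax.not_cyclic h5 ho M hM hML hc ?_
    rcases hk with h | h
    · exact (Nat.le_of_dvd (by omega) h).trans (by omega)
    · exact Nat.le_of_dvd (by omega) h
  · rcases CfsgLib.Lie.DicksonPGLMax.dihedral_k h5 ho M hM hML hk2 hk t with ⟨e, h⟩ | e
    · exact Or.inr (Or.inl ⟨h, ⟨e ▸ t⟩⟩)
    · exact Or.inr (Or.inr (Or.inl ⟨e ▸ t⟩))
  · exact absurd h2 (CfsgLib.Lie.DicksonPGLMax.alt_no_index_two (Or.inl ⟨t⟩) _)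
  · rcases CfsgLib.Lie.DicksonPGLMax.sym_four_case h5 ho M hM hML hq t with ⟨h, h'⟩ | ⟨h, h', -, he⟩
    · exact Or.inr (Or.inr (Or.inr (Or.inl ⟨h, h', ⟨t⟩⟩)))
    · exact Or.inr (Or.inr (Or.inr (Or.inr ⟨ZMod p, inferInstance, ZMod.fintype p, (n : ℕ), h, h', by rw [ZMod.card, hq], he⟩)))
  · exact absurd h2 (CfsgLib.Lie.DicksonPGLMax.alt_no_index_two (Or.inr ⟨t⟩) _)
  · by_cases hm2 : 2 ≤ m
    · obtain ⟨h, h', he⟩ := CfsgLib.Lie.DicksonPGLMax.subfield_case h5 ho M hM hML κ k hm hm2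
        (fun g hg => CfsgLib.Lie.DicksonPGLMax.mem_subP.2 (hrange ⟨g, hg⟩))
      exact Or.inr (Or.inr (Or.inr (Or.inr ⟨K, iK, iF, m, h, h', hm.symm, he⟩)))
    exfalso
    have hm1 : m = 1 := by
      rcases Nat.eq_zero_or_pos m with rfl | h0
      · rw [pow_zero] at hm; omega
      · omega
    rw [hm1, pow_one] at hm
    rcases e with ⟨⟨t⟩⟩ | ⟨⟨t⟩⟩
    · haveI := CfsgLib.Lie.DicksonMinSimple.isSimple (F := K) (by omega)
      have hi : (((Matrix.ProjectiveSpecialLinearGroup.toPGL (n := Fin 2) (R := F)).range.subgroupOf M).map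
          t.toMonoidHom).index = 2 := by rw [Subgroup.index_map_of_bijective t.bijective]; exact h2
      rcases (Subgroup.normal_of_index_eq_two hi).eq_bot_or_eq_top with e' | e'
      · rw [e', Subgroup.index_bot] at hi
        have h' := CfsgLib.Lie.DicksonCor.card_PSL K
        rw [hi, hm, Nat.gcd_eq_left (show 2 ∣ Fintype.card F - 1 by omega)] at h'
        have h6 : 5 * 2 ≤ Fintype.card F * (Fintype.card F ^ 2 - 1) :=
          Nat.mul_le_mul h5 (by have := Nat.pow_le_pow_left h5 2; omega)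
        omega
      · rw [e', Subgroup.index_top] at hi; omega
    · refine hM.1 (Subgroup.eq_top_of_card_eq _ ?_)
      rw [Nat.card_congr t.toEquiv, CfsgLib.Lie.DicksonCor.card_PGL, CfsgLib.Lie.DicksonCor.card_PGL, hm]

end Cfsg.Agent.S5891
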