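import Cfsg.Statements.S5890
import Cfsg.Agent.S5891
import Cfsg.Agent.S5892
-- import your own Cfsg.Agent.* helpers here

set_option autoImplicit false
open Cfsg

namespace Cfsg.Agent.S5890

/-- M ∩ PSL₂ has half the order of M -/
theorem card_comap {F : Type*} [Field F] [Fintype F] (M : Subgroup (Matrix.ProjGenLinGroup (Fin 2) F))
    (h2 : ((Matrix.ProjectiveSpecialLinearGroup.toPGL (n := Fin 2) (R := F)).range.subgroupOf M).index = 2) :
    Nat.card (M.comap (Matrix.ProjectiveSpecialLinearGroup.toPGL (n := Fin 2) (R := F))) * 2 = Nat.card M := by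
  obtain ⟨R, hR⟩ : ∃ R, R = M.comap (Matrix.ProjectiveSpecialLinearGroup.toPGL (n := Fin 2) (R := F)) := ⟨_, rfl⟩
  rw [← hR, ← ((Matrix.ProjectiveSpecialLinearGroup.toPGL (n := Fin 2) (R := F)).range.subgroupOf M).card_mul_index, h2]
  congr 1
  refine Nat.card_congr (Equiv.ofBijective (fun r : R =>
    (⟨⟨Matrix.ProjectiveSpecialLinearGroup.toPGL r.1, (hR ▸ r.2 : r.1 ∈ M.comap _)⟩, ⟨r.1, rfl⟩⟩ :
      (Matrix.ProjectiveSpecialLinearGroup.toPGL (n := Fin 2) (R := F)).range.subgroupOf M)) ⟨?_, ?_⟩)
  · intro a b e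
    exact Subtype.ext (Matrix.ProjectiveSpecialLinearGroup.toPGL_injective
      (congrArg (fun z : (Matrix.ProjectiveSpecialLinearGroup.toPGL (n := Fin 2) (R := F)).range.subgroupOf M =>
        ((z : M) : Matrix.ProjGenLinGroup (Fin 2) F)) e))
  · rintro ⟨⟨z, hz⟩, ⟨r, hr⟩⟩
    have hr' : Matrix.ProjectiveSpecialLinearGroup.toPGL r = z := hr
    exact ⟨⟨r, hR ▸ (show Matrix.ProjectiveSpecialLinearGroup.toPGL r ∈ M from hr' ▸ hz)⟩, Subtype.ext (Subtype.ext hr')⟩

/-- M ∩ PSL₂ for M the symmetric group -/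
theorem comap_alt {F : Type*} [Field F] [Fintype F] (M : Subgroup (Matrix.ProjGenLinGroup (Fin 2) F))
    (h2 : ((Matrix.ProjectiveSpecialLinearGroup.toPGL (n := Fin 2) (R := F)).range.subgroupOf M).index = 2)
    (t : M ≃* Equiv.Perm (Fin 4)) :
    Nonempty (M.comap (Matrix.ProjectiveSpecialLinearGroup.toPGL (n := Fin 2) (R := F)) ≃* alternatingGroup (Fin 4)) := by
  let R := M.comap (Matrix.ProjectiveSpecialLinearGroup.toPGL (n := Fin 2) (R := F))
  let θ : R →* Equiv.Perm (Fin 4) := t.toMonoidHom.comp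
    ({ toFun := fun r => ⟨Matrix.ProjectiveSpecialLinearGroup.toPGL r.1, r.2⟩
       map_one' := Subtype.ext (map_one _)
       map_mul' := fun a b => Subtype.ext (map_mul _ _ _) } : R →* M)
  have hθ : Function.Injective θ := fun a b e =>
    Subtype.ext (Matrix.ProjectiveSpecialLinearGroup.toPGL_injective (congrArg Subtype.val (t.injective e)))
  have hr : θ.range = ((Matrix.ProjectiveSpecialLinearGroup.toPGL (n := Fin 2) (R := F)).range.subgroupOf M).map
      t.toMonoidHom := by
    ext σ
    constructor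
    · rintro ⟨a, rfl⟩
      exact ⟨⟨_, a.2⟩, ⟨a.1, rfl⟩, rfl⟩
    · rintro ⟨⟨z, hz⟩, ⟨r, hr⟩, rfl⟩
      have hr' : Matrix.ProjectiveSpecialLinearGroup.toPGL r = z := hr
      refine ⟨⟨r, (show Matrix.ProjectiveSpecialLinearGroup.toPGL r ∈ M from hr' ▸ hz)⟩, ?_⟩
      show t _ = t _
      congr 1
      exact Subtype.ext hr'
  have hA : θ.range = alternatingGroup (Fin 4) := Equiv.Perm.eq_alternatingGroup_of_index_eq_two (by
    rw [hr, Subgroup.index_map_of_bijective t.bijective]; exact h2)
  exact ⟨(MonoidHom.ofInjective hθ).trans (MulEquiv.subgroupCongr hA)⟩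

theorem alt4_noncomm : ¬ ∀ a b : alternatingGroup (Fin 4), a * b = b * a := by decide +kernel

theorem alt5_orders : ∀ x : alternatingGroup (Fin 5), x ^ 2 = 1 ∨ x ^ 3 = 1 ∨ x ^ 5 = 1 := by decide +kernel

theorem alt4_orders : ∀ x : alternatingGroup (Fin 4), x ^ 2 = 1 ∨ x ^ 3 = 1 := by decide +kernel

theorem sym4_orders : ∀ x : Equiv.Perm (Fin 4), x ^ 3 = 1 ∨ x ^ 4 = 1 := by decide +kernel

/-- the alternating group of degree four is no subgroup of a dihedral group -/
theorem alt4_not_dihedral {G : Type*} [Group G] (R M₀ : Subgroup G) (hle : R ≤ M₀) {k : ℕ}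
    (t : M₀ ≃* DihedralGroup k) (u : R ≃* alternatingGroup (Fin 4)) : False := by
  obtain ⟨ψ, hψ⟩ : ∃ ψ : R →* DihedralGroup k, Function.Injective ψ :=
    ⟨t.toMonoidHom.comp (Subgroup.inclusion hle), t.injective.comp (Subgroup.inclusion_injective hle)⟩
  have hall : ∀ r : R, ψ r ∈ Subgroup.zpowers (DihedralGroup.r 1 : DihedralGroup k) := by
    have hpar : ∀ x : DihedralGroup k, (∀ j, x ≠ DihedralGroup.sr j) →
        x ∈ Subgroup.zpowers (DihedralGroup.r 1 : DihedralGroup k) := by
      rintro (j | j) h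
      · exact ⟨(j.cast : ℤ), by
          show (DihedralGroup.r 1 : DihedralGroup k) ^ (j.cast : ℤ) = _
          rw [DihedralGroup.r_one_zpow, ZMod.intCast_zmod_cast]⟩
      · exact absurd rfl (h j)
    intro r
    by_contra hr
    obtain ⟨j, hj⟩ : ∃ j, ψ r = DihedralGroup.sr j := by
      by_contra h
      push Not at h
      exact hr (hpar _ h)
    let sgn : DihedralGroup k →* Multiplicative (ZMod 2) :=
      { toFun := fun x => match x with
          | DihedralGroup.r _ => 1
          | DihedralGroup.sr _ => Multiplicative.ofAdd 1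
        map_one' := rfl
        map_mul' := by
          rintro (a | a) (b | b) <;> first | rfl |
            (show (1 : Multiplicative (ZMod 2)) = Multiplicative.ofAdd 1 * Multiplicative.ofAdd 1; decide) }
    have hi : (sgn.comp ψ).ker.index = 2 := by
      rw [Subgroup.index_ker]
      have htop : (sgn.comp ψ).range = ⊤ := by
        rw [eq_top_iff]
        intro z _
        obtain ⟨z, rfl⟩ := Multiplicative.ofAdd.surjective z
        fin_cases z
        · exact one_mem _
        · exact ⟨r, by show sgn (ψ r) = _; rw [hj]; rfl⟩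
      rw [htop, Subgroup.card_top]
      simp
    exact CfsgLib.Lie.DicksonPGLMax.alt_no_index_two (Or.inl ⟨u⟩) _ hi
  refine alt4_noncomm fun a b => ?_
  obtain ⟨a, rfl⟩ := u.surjective a
  obtain ⟨b, rfl⟩ := u.surjective b
  rw [← map_mul, ← map_mul]
  congr 1
  apply hψ
  rw [map_mul, map_mul]
  obtain ⟨i, hi⟩ := hall a
  obtain ⟨j, hj⟩ := hall b
  rw [← hi, ← hj, ← zpow_add, ← zpow_add, add_comm]

/-- element orders of the two-dimensional linear groups -/
theorem order_le {K : Type} [Field K] [Fintype K] {G : Type*} [Group G] (φ : G →* Matrix.ProjGenLinGroup (Fin 2) K)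
    (hφ : Function.Injective φ) (g : G) : orderOf g ≤ Fintype.card K + 1 := by
  obtain ⟨p, hpc⟩ := CharP.exists K
  haveI : Fact p.Prime := ⟨CharP.char_is_prime K p⟩
  by_cases hg : g ^ p = 1
  · obtain ⟨n, -, hn⟩ := FiniteField.card K p
    have h1 := Nat.le_of_dvd (Fact.out : p.Prime).pos (orderOf_dvd_of_pow_eq_one hg)
    have h2 : p ≤ Fintype.card K := hn ▸ Nat.le_self_pow n.ne_zero p
    omega
  · have h2 : 2 ≤ Fintype.card K := Fintype.one_lt_card
    rcases (CfsgLib.Lie.DicksonPGL.ordOK_of p φ hφ hg).1 with h | h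
    · exact (Nat.le_of_dvd (by omega) h).trans (by omega)
    · exact Nat.le_of_dvd (by omega) h

theorem prime_pow_no {q s r : ℕ} (hq : q.Prime) (hs : q = s ^ r) (hr : 2 ≤ r) : False := by
  rw [hs] at hq
  have := Nat.Prime.eq_one_of_pow hq
  omega

/-- the even case is trivial -/
theorem range_top_of_even {F : Type*} [Field F] [Fintype F] (he : Fintype.card F % 2 = 0) :
    (Matrix.ProjectiveSpecialLinearGroup.toPGL (n := Fin 2) (R := F)).range = ⊤ := by
  haveI : Finite (Matrix.ProjGenLinGroup (Fin 2) F) := Finite.of_surjective _ Matrix.ProjGenLinGroup.mk_surjective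
  refine Subgroup.eq_top_of_card_eq _ ?_
  rw [← Nat.card_congr (MonoidHom.ofInjective Matrix.ProjectiveSpecialLinearGroup.toPGL_injective).toEquiv,
    CfsgLib.Lie.DicksonCor.card_PGL]
  have h := CfsgLib.Lie.DicksonCor.card_PSL F
  rcases CfsgLib.Lie.DicksonCor.gcd_cases (Fintype.card F) with e | e
  · rwa [e, one_mul] at h
  · have := Nat.gcd_dvd_right 2 (Fintype.card F - 1)
    rw [e] at this
    have := Fintype.one_lt_card (α := F)
    omega


/-- Let F be a finite field with q ≥ 4 elements, let L ≤ PGL₂(F) be the image of SL₂(F) (a copy of PSL₂(F), of index gcd(2, q − 1)), and let M be a maximal subgroup of PGL₂(F) that does not contain L. Suppose q ∉ {7, 9, 11} and that q is not a prime congruent to ±11 or ±19 modulo 40. Then M ∩ L is a maximal subgroup of L. (For the excluded q there are maximal subgroups of PGL₂(q) — dihedral groups of order 12 and 16 at q = 7, of order 20 and 16 at q = 9, of order 20 at q = 11, and S₄ at the excluded primes — whose intersection with L is not maximal in L.) -/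
theorem result {F : Type*} [Field F]
    [Fintype F] (h4 : 4 ≤ Fintype.card F) (h7 : Fintype.card F ≠ 7) (h9 : Fintype.card F ≠ 9) (h11 : Fintype.card F ≠ 11)
    (h40 : (Fintype.card F).Prime → Fintype.card F % 40 ∉ ({11, 19, 21, 29} : Finset ℕ))
    (M : Subgroup (Matrix.ProjGenLinGroup (Fin 2) F)) (hM : IsCoatom M)
    (hML : ¬ (Matrix.ProjGenLinGroup.mk.comp Matrix.SpecialLinearGroup.toGL).range ≤ M) :
    IsCoatom ((M ⊓ (Matrix.ProjGenLinGroup.mk.comp Matrix.SpecialLinearGroup.toGL).range).subgroupOf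
      (Matrix.ProjGenLinGroup.mk.comp Matrix.SpecialLinearGroup.toGL).range) := by
  haveI : Finite (Matrix.ProjGenLinGroup (Fin 2) F) := Finite.of_surjective _ Matrix.ProjGenLinGroup.mk_surjective
  have hr : (Matrix.ProjectiveSpecialLinearGroup.toPGL (n := Fin 2) (R := F)).range =
      (Matrix.ProjGenLinGroup.mk.comp Matrix.SpecialLinearGroup.toGL).range := by
    ext g
    constructor
    · rintro ⟨x, rfl⟩
      induction x using QuotientGroup.induction_on with
      | H A => exact ⟨A, rfl⟩
    · rintro ⟨A, rfl⟩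
      exact ⟨QuotientGroup.mk A, rfl⟩
  rw [← hr] at hML ⊢
  obtain ⟨R, hR⟩ : ∃ R, R = M.comap (Matrix.ProjectiveSpecialLinearGroup.toPGL (n := Fin 2) (R := F)) := ⟨_, rfl⟩
  have hkey : IsCoatom R := by
    rcases Nat.mod_two_eq_zero_or_one (Fintype.card F) with he | ho
    · have htop := range_top_of_even (F := F) he
      have hsur := MonoidHom.range_eq_top.1 htop
      exact hR ▸ ((MulEquiv.ofBijective _
        ⟨Matrix.ProjectiveSpecialLinearGroup.toPGL_injective, hsur⟩).comapSubgroup.isCoatom_iff M).2 hM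
    have h5 : 5 ≤ Fintype.card F := by omega
    have hodd : Odd (Fintype.card F) := Nat.odd_iff.2 ho
    obtain ⟨p, hpc⟩ := CharP.exists F
    haveI hp : Fact p.Prime := ⟨CharP.char_is_prime F p⟩
    obtain ⟨n, -, hq⟩ := FiniteField.card F p
    have hRtop : R ≠ ⊤ := fun e => hML (by
      rintro _ ⟨x, rfl⟩
      exact (hR ▸ (e ▸ Subgroup.mem_top x : x ∈ R) : x ∈ M.comap _))
    obtain ⟨N, hN, hRN⟩ := (IsCoatomic.eq_top_or_exists_le_coatom R).resolve_left hRtop
    suffices h : Nat.card N ≤ Nat.card R by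
      rw [Subgroup.eq_of_le_of_card_ge hRN h]; exact hN
    have hd := Subgroup.card_dvd_of_le hRN
    have hidx := CfsgLib.Lie.DicksonPGLMax.index_range (F := F) ho
    have hnle := CfsgLib.Lie.DicksonPGLMax.not_le_range h5 ho M hM hML
    have h2 := CfsgLib.Lie.DicksonPGLMax.subgroupOf_index_two _ M hidx hnle
    have hc2 : Nat.card R * 2 = Nat.card M := hR ▸ card_comap M h2
    have hNs := S5892.result p hodd h5 N hN
    have hNcard : ∀ j, Nonempty (N ≃* DihedralGroup j) → Nat.card N = 2 * j := fun j ⟨t⟩ => by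
      rw [Nat.card_congr t.toEquiv, DihedralGroup.nat_card]
    rcases S5891.result hodd (by omega) M hM (hr ▸ hML) with
      hb | ⟨h5', ⟨t⟩⟩ | ⟨⟨t⟩⟩ | ⟨hqp, h8, ⟨t⟩⟩ | ⟨K, iK, iF, r, hrp, hro, hqr, ⟨t⟩⟩
    rotate_left 1
    rotate_left 1
    rotate_left 1
    · -- the symmetric group
      obtain ⟨u⟩ : Nonempty (R ≃* alternatingGroup (Fin 4)) := hR ▸ comap_alt M h2 t
      have hRc : Nat.card R = 12 := by
        rw [Nat.card_congr u.toEquiv, nat_card_alternatingGroup, Nat.card_fin]; rfl
      rcases hNs with h | ⟨-, j, -, ⟨s⟩⟩ | ⟨-, -, j, -, ⟨s⟩⟩ | ⟨K, _, _, h, -⟩ | ⟨K, _, _, r, hr', -, h, -⟩ |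
        ⟨h10, -, -⟩ | ⟨-, -, -, ⟨s⟩⟩ | ⟨hF, h, -⟩
      · exfalso
        obtain ⟨c, hc⟩ := hd
        rw [hc, hRc] at h
        rcases h8 with e | e <;>
          · have h' : (Fintype.card F - 1) % 8 = Fintype.card F % 8 - 1 := by omega
            have := congrArg (· % 8) h
            simp only [Nat.mul_mod (Fintype.card F), h', e] at this
            norm_num at this
            omega
      · exact (alt4_not_dihedral R N hRN s u).elim
      · exact (alt4_not_dihedral R N hRN s u).elim
      · exact (prime_pow_no hqp h le_rfl).elim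
      · exact (prime_pow_no hqp h hr'.two_le).elim
      · exfalso
        have := h40 hqp
        simp only [Finset.mem_insert, Finset.mem_singleton, not_or] at this
        omega
      · rw [Nat.card_congr s.toEquiv, ← Nat.card_congr u.toEquiv]
      · omega
    · -- the subfield groups
      have hK3 : 3 ≤ Fintype.card K := by
        have h2 := Fintype.one_lt_card (α := K)
        rcases (show Fintype.card K = 2 ∨ 3 ≤ Fintype.card K by omega) with e | e
        · rw [hqr, e, Nat.pow_mod, show 2 % 2 = 0 from rfl, zero_pow hrp.ne_zero] at ho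
          simp at ho
        · exact e
      obtain ⟨s, hs⟩ : ∃ s, s = Fintype.card K := ⟨_, rfl⟩
      rw [← hs] at hqr hK3
      have hr3 : 3 ≤ r := by
        obtain ⟨j, hj⟩ := hro; have := hrp.two_le; omega
      have hRc : Nat.card R * 2 = s * (s ^ 2 - 1) := by
        rw [hc2, Nat.card_congr t.toEquiv, CfsgLib.Lie.DicksonCor.card_PGL, hs]
      have hso : s % 2 = 1 := by
        rcases Nat.mod_two_eq_zero_or_one s with e | e
        · rw [hqr, Nat.pow_mod, e, zero_pow hrp.ne_zero] at ho; simp at ho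
        · exact e
      have hs1 : s + 1 ∣ Fintype.card F + 1 := by
        have := hro.nat_add_dvd_pow_add_pow s 1
        rwa [one_pow, ← hqr] at this
      have hsd : s + 1 ∣ Nat.card N * 2 := by
        refine Dvd.dvd.trans ?_ (Nat.mul_dvd_mul_right hd 2)
        rw [hRc, CfsgLib.Lie.DicksonCor.sq_sub_one]
        exact dvd_mul_of_dvd_right (dvd_mul_right _ _) _
      have hsN : s ∣ Nat.card N := by
        have h : s ∣ Nat.card R * 2 := ⟨_, hRc⟩
        exact ((Nat.Coprime.dvd_mul_right (Nat.coprime_two_right.2 (Nat.odd_iff.2 hso))).1 h).trans hd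
      have hsq : s ∣ Fintype.card F := by rw [hqr]; exact dvd_pow_self s hrp.ne_zero
      have hq2 : ∀ {a : ℕ}, a ∣ Fintype.card F * (Fintype.card F - 1) → a ∣ Fintype.card F + 1 → a ∣ 2 := by
        intro a h1 h2
        have e : Fintype.card F * (Fintype.card F - 1) = (Fintype.card F + 1) * (Fintype.card F - 2) + 2 := by
          obtain ⟨z, hz⟩ : ∃ z, Fintype.card F = z + 2 := ⟨Fintype.card F - 2, by omega⟩
          rw [hz, show z + 2 - 1 = z + 1 by omega, show z + 2 - 2 = z by omega]; ring
        rw [e] at h1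
        exact (Nat.dvd_add_right (dvd_mul_of_dvd_left h2 _)).1 h1
      have hnot1 : ¬ s ∣ 1 := fun h => by have := Nat.le_of_dvd one_pos h; omega
      obtain ⟨a, -, ha⟩ : ∃ a ≤ (n : ℕ), s = p ^ a := (Nat.dvd_prime_pow hp.out).1 (hq ▸ hsq)
      have har : a * r = n := by
        have := hq.symm.trans hqr
        rw [ha, ← pow_mul] at this
        exact (Nat.pow_right_injective hp.out.two_le this).symm
      have ha1 : 1 ≤ a := by
        by_contra h
        rw [show a = 0 by omega, pow_zero] at ha; omega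
      have hbig : ∀ j, j ≤ 2 → Fintype.card F ≠ p ^ j := fun j hj e => by
        have := Nat.pow_right_injective hp.out.two_le (e.symm.trans hq)
        have := Nat.mul_le_mul ha1 hr3
        omega
      rcases hNs with h | ⟨-, j, hj, e⟩ | ⟨-, -, j, hj, e⟩ | ⟨L, _, _, hL, ⟨e⟩⟩ | ⟨L, _, _, r', hr', -, hL, ⟨e⟩⟩ |
        ⟨-, h | ⟨h, -⟩, -⟩ | ⟨h, -, -, -⟩ | ⟨h, -, -⟩
      · exfalso
        rw [← h, mul_comm 2] at hq2
        have := Nat.le_of_dvd two_pos (hq2 hsd hs1)
        omega
      · rw [hNcard j e, hj] at hsN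
        exact absurd ((Nat.dvd_sub hsq hsN).trans (dvd_of_eq (by omega))) hnot1
      · rw [hNcard j e, hj] at hsN
        exact absurd ((Nat.dvd_add_right hsq).1 hsN) hnot1
      · exfalso
        have hNc : Nat.card N = Fintype.card L * (Fintype.card F - 1) := by
          rw [Nat.card_congr e.toEquiv, CfsgLib.Lie.DicksonCor.card_PGL, ← hL]
        have h4 : s + 1 ∣ 4 := by
          have h1 : s + 1 ∣ Fintype.card L * (Nat.card N * 2) := dvd_mul_of_dvd_right hsd _
          rw [hNc, show Fintype.card L * (Fintype.card L * (Fintype.card F - 1) * 2) =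
            2 * (Fintype.card L ^ 2 * (Fintype.card F - 1)) by ring, ← hL] at h1
          obtain ⟨c, hc⟩ := hs1
          obtain ⟨z, hz⟩ : ∃ z, Fintype.card F = z + 2 := ⟨Fintype.card F - 2, by omega⟩
          rw [hz, show z + 2 - 1 = z + 1 by omega,
            show 2 * ((z + 2) * (z + 1)) = (z + 2 + 1) * (2 * z) + 4 by ring, ← hz, hc] at h1
          exact (Nat.dvd_add_right (dvd_mul_of_dvd_left (dvd_mul_right _ _) _)).1 h1
        have := Nat.le_of_dvd (by norm_num) h4
        have hs3 : s = 3 := by omega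
        have h34 : Fintype.card F % 4 = 3 := by
          obtain ⟨j, rfl⟩ := hro
          rw [hqr, hs3, pow_succ, pow_mul, Nat.mul_mod, Nat.pow_mod]
          simp
        have hsq4 : ∀ x : ℕ, x ^ 2 % 4 ≠ 3 := fun x => by
          rw [Nat.pow_mod]
          rcases (show x % 4 = 0 ∨ x % 4 = 1 ∨ x % 4 = 2 ∨ x % 4 = 3 by omega) with e | e | e | e <;> rw [e] <;> norm_num
        exact hsq4 _ (hL ▸ h34)
      · obtain ⟨b, -, hb⟩ : ∃ b ≤ (n : ℕ), Fintype.card L = p ^ b :=
          (Nat.dvd_prime_pow hp.out).1 (hq ▸ hL ▸ dvd_pow_self _ hr'.ne_zero)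
        have hbr : b * r' = n := by
          have := hq.symm.trans hL
          rw [hb, ← pow_mul] at this
          exact (Nat.pow_right_injective hp.out.two_le this).symm
        have hLo : Fintype.card L % 2 = 1 := by
          rcases Nat.mod_two_eq_zero_or_one (Fintype.card L) with e | e
          · rw [hL, Nat.pow_mod, e, zero_pow hr'.ne_zero] at ho; simp at ho
          · exact e
        have hNc : Nat.card N * 2 = Fintype.card L * (Fintype.card L ^ 2 - 1) := by
          have h := CfsgLib.Lie.DicksonCor.card_PSL L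
          rw [Nat.gcd_eq_left (show 2 ∣ Fintype.card L - 1 by omega), ← Nat.card_congr e.toEquiv] at h
          rw [mul_comm]; exact h
        have hdd : s ^ 2 - 1 ∣ Fintype.card L * (Fintype.card L ^ 2 - 1) :=
          hNc ▸ (dvd_mul_left _ s).trans (hRc ▸ Nat.mul_dvd_mul_right hd 2)
        have hcop : Nat.Coprime (s ^ 2 - 1) (Fintype.card L) := by
          rw [hb]
          refine Nat.Coprime.pow_right _ (Nat.Coprime.symm ((hp.out.coprime_iff_not_dvd).2 fun h => ?_))
          have h1 : p ∣ s ^ 2 := dvd_pow (ha ▸ dvd_pow_self p (by omega)) two_ne_zero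
          have h2 := Nat.dvd_sub h1 h
          have : 9 ≤ s ^ 2 := Nat.pow_le_pow_left hK3 2
          rw [show s ^ 2 - (s ^ 2 - 1) = 1 by omega] at h2
          exact hp.out.not_dvd_one h2
        have hdd' := hcop.dvd_of_dvd_mul_left hdd
        rw [ha, hb, ← pow_mul, ← pow_mul] at hdd'
        have hg := Nat.pow_sub_one_gcd_pow_sub_one p (a * 2) (b * 2)
        rw [Nat.gcd_eq_left hdd'] at hg
        have hab : a * 2 ∣ b * 2 := by
          have h1 : p ^ (a * 2) = p ^ Nat.gcd (a * 2) (b * 2) := by
            have := Nat.one_le_pow (a * 2) p hp.out.pos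
            have := Nat.one_le_pow (Nat.gcd (a * 2) (b * 2)) p hp.out.pos
            omega
          rw [Nat.pow_right_injective hp.out.two_le h1]
          exact Nat.gcd_dvd_right _ _
        obtain ⟨c, rfl⟩ : a ∣ b := Nat.dvd_of_mul_dvd_mul_right two_pos hab
        have hcr : r = c * r' := Nat.eq_of_mul_eq_mul_left ha1 (by rw [har, ← mul_assoc, hbr])
        have hc1 : c = 1 := by
          rcases hrp.eq_one_or_self_of_dvd r' ⟨c, by rw [hcr, mul_comm]⟩ with e | e
          · exact absurd e hr'.ne_one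
          · rw [e] at hcr
            exact (Nat.eq_of_mul_eq_mul_right hrp.pos (by rw [one_mul, ← hcr])).symm
        rw [hc1, mul_one] at hb
        rw [← ha] at hb
        have : Nat.card N * 2 = Nat.card R * 2 := by rw [hNc, hRc, hb]
        omega
      · exact (hbig 1 one_le_two (by rw [pow_one]; exact h)).elim
      · exact (hbig 2 le_rfl h).elim
      · exact (hbig 1 one_le_two (by rw [pow_one]; exact h)).elim
      · exact (hbig 1 one_le_two (by rw [pow_one]; exact h)).elim
    · -- the point stabilisers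
      have hRc : 2 * Nat.card R = Fintype.card F * (Fintype.card F - 1) := by rw [mul_comm, hc2, hb]
      have h20 : 5 * (Fintype.card F - 1) ≤ 2 * Nat.card R := hRc ▸ Nat.mul_le_mul_right _ h5
      have hle : Nat.card R ≤ Nat.card N := Subgroup.card_le_of_le hRN
      have hbigq : ∀ x, x ≤ Fintype.card F → x * (x - 1) ≤ 2 * Nat.card N := fun x hx =>
        (Nat.mul_le_mul hx (Nat.sub_le_sub_right hx 1)).trans (hRc ▸ Nat.mul_le_mul_left 2 hle)
      rcases hNs with h | ⟨-, j, hj, e⟩ | ⟨-, -, j, hj, e⟩ | ⟨L, _, _, hL, ⟨e⟩⟩ | ⟨L, _, _, r', hr', hr'o, hL, ⟨e⟩⟩ |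
        ⟨h10, -, ⟨e⟩⟩ | ⟨hF, -, -, ⟨e⟩⟩ | ⟨hF, hF8, ⟨e⟩⟩
      · omega
      · have := hNcard j e; omega
      · have := hNcard j e; omega
      · exfalso
        have hNc : Nat.card N = Fintype.card L * (Fintype.card F - 1) := by
          rw [Nat.card_congr e.toEquiv, CfsgLib.Lie.DicksonCor.card_PGL, ← hL]
        have hL3 : 3 ≤ Fintype.card L := by
          by_contra h
          have := Nat.pow_le_pow_left (show Fintype.card L ≤ 2 by omega) 2
          omega
        have h' : 2 * Fintype.card L < Fintype.card F := by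
          rw [hL, pow_two]; exact Nat.mul_lt_mul_of_pos_right (by omega) (by omega)
        have := Nat.mul_lt_mul_of_pos_right h' (show 0 < Fintype.card F - 1 by omega)
        rw [mul_assoc, ← hNc, ← hRc] at this
        omega
      · exfalso
        have hr3 : 3 ≤ r' := by obtain ⟨j, hj⟩ := hr'o; have := hr'.two_le; omega
        have hL3 : Fintype.card L ^ 3 ≤ Fintype.card F := hL ▸ Nat.pow_le_pow_right Fintype.card_pos hr3
        have hNc : Nat.card N ≤ Fintype.card L ^ 3 := by
          rw [Nat.card_congr e.toEquiv]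
          have h1 := CfsgLib.Lie.DicksonCor.card_PSL L
          have h2 : Fintype.card L * (Fintype.card L ^ 2 - 1) ≤ Fintype.card L ^ 3 := by
            rw [pow_succ' _ 2]; exact Nat.mul_le_mul_left _ (Nat.sub_le _ _)
          have h3 := Nat.le_mul_of_pos_left (Nat.card (Matrix.ProjectiveSpecialLinearGroup (Fin 2) L))
            (Nat.gcd_pos_of_pos_left (Fintype.card L - 1) two_pos)
          omega
        omega
      · exfalso
        rw [Nat.card_congr e.toEquiv, nat_card_alternatingGroup, Nat.card_fin, show Nat.factorial 5 = 120 from rfl] at hbigq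
        have := hbigq 19 (by omega)
        omega
      · rw [Nat.card_congr e.toEquiv, nat_card_alternatingGroup, Nat.card_fin, show Nat.factorial 4 = 24 from rfl] at hd hbigq ⊢
        by_cases h13 : 13 ≤ Fintype.card F
        · have := hbigq 13 h13; omega
        · exfalso
          have hF5 : Fintype.card F = 5 := by omega
          rw [hF5] at hRc
          rw [show Nat.card R = 10 by omega] at hd
          norm_num at hd
      · exfalso
        rw [Nat.card_congr e.toEquiv, Nat.card_perm, Nat.card_fin, show Nat.factorial 4 = 24 from rfl] at hbigq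
        have : p ≠ 15 := fun h => absurd (h ▸ hp.out) (by norm_num)
        have := hbigq 17 (by omega)
        omega
    all_goals
      -- the dihedral groups
      obtain ⟨k, hk⟩ : ∃ k, Nonempty (M ≃* DihedralGroup k) ∧
          ((k = Fintype.card F - 1 ∧ Fintype.card F ≠ 5) ∨ k = Fintype.card F + 1) := by
        first
          | exact ⟨_, ⟨t⟩, Or.inl ⟨rfl, h5'⟩⟩
          | exact ⟨_, ⟨t⟩, Or.inr rfl⟩
      obtain ⟨⟨t'⟩, hk⟩ := hk
      obtain ⟨g, hg⟩ : ∃ g : M, g = t'.symm (DihedralGroup.r 1) := ⟨_, rfl⟩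
      have hgo : orderOf g = k := by rw [hg, MulEquiv.orderOf_eq, DihedralGroup.orderOf_r_one]
      have hRk : Nat.card R = k := by
        have h := hc2
        rw [Nat.card_congr t'.toEquiv, DihedralGroup.nat_card] at h
        omega
      obtain ⟨x, hx⟩ : ((g * g : M) : Matrix.ProjGenLinGroup (Fin 2) F) ∈
          (Matrix.ProjectiveSpecialLinearGroup.toPGL (n := Fin 2) (R := F)).range :=
        Subgroup.mul_self_mem_of_index_two hidx _
      have hxR : x ∈ R := by rw [hR, Subgroup.mem_comap, hx]; exact (g * g).2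
      have hxo : orderOf (⟨x, hRN hxR⟩ : N) = k / 2 := by
        rw [Subgroup.orderOf_mk, ← orderOf_injective _ Matrix.ProjectiveSpecialLinearGroup.toPGL_injective x, hx,
          Subgroup.orderOf_coe, ← pow_two, orderOf_pow' g two_ne_zero, hgo, Nat.gcd_eq_right (by omega)]
      have hbound : ∀ {G : Type} [Group G] (e : N ≃* G) (B : ℕ), (∀ y : G, orderOf y ≤ B) → k / 2 ≤ B := by
        intro G _ e B hB
        rw [← hxo, ← MulEquiv.orderOf_eq e]
        exact hB _
      rcases hNs with h | ⟨-, j, hj, e⟩ | ⟨-, -, j, hj, e⟩ | ⟨L, _, _, hL, ⟨e⟩⟩ | ⟨L, _, _, r', hr', hr'o, hL, ⟨e⟩⟩ |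
        ⟨h10, -, ⟨e⟩⟩ | ⟨hF, hF8, -, ⟨e⟩⟩ | ⟨hF, hF8, ⟨e⟩⟩
      · exfalso
        obtain ⟨c, hc⟩ := hd
        rw [hc, hRk] at h
        rcases hk with ⟨rfl, -⟩ | rfl
        · have := Nat.eq_of_mul_eq_mul_right (show 0 < Fintype.card F - 1 by omega)
            (show 2 * c * (Fintype.card F - 1) = Fintype.card F * (Fintype.card F - 1) by rw [← h]; ring)
          omega
        · obtain ⟨z, hz⟩ : ∃ z, Fintype.card F = z + 2 := ⟨Fintype.card F - 2, by omega⟩
          rw [hz, show z + 2 - 1 = z + 1 by omega, show (z + 2) * (z + 1) = (z + 2 + 1) * z + 2 by ring] at h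
          have h2d : z + 2 + 1 ∣ 2 := (Nat.dvd_add_right (dvd_mul_right _ z)).1 ⟨2 * c, by rw [← h]; ring⟩
          have := Nat.le_of_dvd two_pos h2d
          omega
      · rw [hRk] at hd ⊢
        rw [hNcard j e, hj] at hd ⊢
        rcases hk with ⟨rfl, -⟩ | rfl
        · exact le_rfl
        · omega
      · rw [hRk] at hd ⊢
        rw [hNcard j e, hj] at hd ⊢
        rcases hk with ⟨rfl, -⟩ | rfl
        · exfalso
          have := Nat.dvd_sub hd (dvd_refl _)
          have := Nat.le_of_dvd (by omega) this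
          omega
        · exact le_rfl
      · exfalso
        have hB := hbound e _ (fun y => order_le (MonoidHom.id _) Function.injective_id y)
        rcases Nat.lt_or_ge (Fintype.card L) 4 with h | h
        · interval_cases hc : Fintype.card L <;> simp at hL <;> omega
        · have := Nat.mul_le_mul_right (Fintype.card L) h
          rw [hL, pow_two] at hk
          omega
      · exfalso
        have hB := hbound e _ (fun y => order_le _ Matrix.ProjectiveSpecialLinearGroup.toPGL_injective y)
        have hr3 : 3 ≤ r' := by obtain ⟨j, hj⟩ := hr'o; have := hr'.two_le; omega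
        have hL2 : 2 ≤ Fintype.card L := Fintype.one_lt_card
        rcases (show Fintype.card L = 2 ∨ 3 ≤ Fintype.card L by omega) with h | h
        · rw [hL, h, Nat.pow_mod, show 2 % 2 = 0 from rfl, zero_pow hr'.ne_zero] at ho
          simp at ho
        · have h1 : Fintype.card L ^ 3 ≤ Fintype.card F := hL ▸ Nat.pow_le_pow_right (by omega) hr3
          have h2 : 3 * 3 * Fintype.card L ≤ Fintype.card L ^ 3 := by
            rw [pow_three]; rw [← mul_assoc]; exact Nat.mul_le_mul_right _ (Nat.mul_le_mul h h)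
          omega
      · exfalso
        have hB := hbound e 5 (fun y => by
          rcases alt5_orders y with h | h | h <;>
            exact (Nat.le_of_dvd (by norm_num) (orderOf_dvd_of_pow_eq_one h)).trans (by norm_num))
        omega
      · have hB := hbound e 3 (fun y => by
          rcases alt4_orders y with h | h <;>
            exact (Nat.le_of_dvd (by norm_num) (orderOf_dvd_of_pow_eq_one h)).trans (by norm_num))
        exfalso
        have hF5 : Fintype.card F = 5 := by omega
        refine CfsgLib.Lie.DicksonPGLMax.alt_no_index_two (Or.inl ⟨e⟩) (R.subgroupOf N) ?_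
        have h := (R.subgroupOf N).card_mul_index
        rw [Nat.card_congr (Subgroup.subgroupOfEquivOfLe hRN).toEquiv, hRk, Nat.card_congr e.toEquiv,
          nat_card_alternatingGroup, Nat.card_fin, show Nat.factorial 4 = 24 from rfl] at h
        rw [show k = 6 by omega] at h
        omega
      · exfalso
        have hB := hbound e 4 (fun y => by
          rcases sym4_orders y with h | h <;>
            exact (Nat.le_of_dvd (by norm_num) (orderOf_dvd_of_pow_eq_one h)).trans (by norm_num))
        omega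
  have hmap : (M ⊓ (Matrix.ProjectiveSpecialLinearGroup.toPGL (n := Fin 2) (R := F)).range).subgroupOf
      (Matrix.ProjectiveSpecialLinearGroup.toPGL (n := Fin 2) (R := F)).range =
      (MonoidHom.ofInjective (f := Matrix.ProjectiveSpecialLinearGroup.toPGL (n := Fin 2) (R := F))
        Matrix.ProjectiveSpecialLinearGroup.toPGL_injective).mapSubgroup R := by
    ext ⟨z, r, rfl⟩
    constructor
    · intro hz
      exact ⟨r, hR ▸ (Subgroup.mem_inf.1 hz).1, rfl⟩
    · rintro ⟨r', hr', h⟩
      have h' : Matrix.ProjectiveSpecialLinearGroup.toPGL r' = Matrix.ProjectiveSpecialLinearGroup.toPGL r :=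
        congrArg Subtype.val h
      exact Subgroup.mem_inf.2 ⟨h' ▸ (hR ▸ hr' : r' ∈ M.comap _), r, rfl⟩
  rw [hmap]
  exact (OrderIso.isCoatom_iff _ R).2 hkey

end Cfsg.Agent.S5890
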