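import Cfsg.Statements.S5893
import Cfsg.Agent.Lie.DicksonMaximal
-- import your own Cfsg.Agent.* helpers here

set_option autoImplicit false
open Cfsg

namespace Cfsg.Agent.S5893

/-- Let F be a finite field of even order q ≥ 4 and let M be a maximal subgroup of PSL₂(F) (= SL₂(F) = PGL₂(F)). Then one of the following holds: |M| = q(q − 1) (the stabiliser of a point of the projective line, elementary abelian of order q extended by a cyclic group of order q − 1); M is dihedral of order 2(q − 1); M is dihedral of order 2(q + 1); or q = q₀^r for a prime r with q₀ ≠ 2 and M ≅ PSL₂(F₀) with |F₀| = q₀. -/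
theorem result {F : Type*} [Field F] [Fintype F]
    (heven : Even (Fintype.card F)) (h4 : 4 ≤ Fintype.card F) (M : Subgroup (Matrix.ProjectiveSpecialLinearGroup (Fin 2) F)) (hM : IsCoatom M) :
    Nat.card M = Fintype.card F * (Fintype.card F - 1) ∨
    Nonempty (M ≃* DihedralGroup (Fintype.card F - 1)) ∨
    Nonempty (M ≃* DihedralGroup (Fintype.card F + 1)) ∨
    (∃ (F₀ : Type) (_ : Field F₀) (_ : Fintype F₀) (r : ℕ), r.Prime ∧ Fintype.card F₀ ≠ 2 ∧
        Fintype.card F = Fintype.card F₀ ^ r ∧ Nonempty (M ≃* Matrix.ProjectiveSpecialLinearGroup (Fin 2) F₀)) := by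
  obtain ⟨p, hp⟩ := CharP.exists F
  haveI : Fact p.Prime := ⟨CharP.char_is_prime F p⟩
  obtain ⟨n, hp', hq⟩ := FiniteField.card F p
  have hp2 : p = 2 := by
    have h : 2 ∣ p ^ (n : ℕ) := hq ▸ even_iff_two_dvd.1 heven
    exact ((Nat.prime_dvd_prime_iff_eq Nat.prime_two hp').1 (Nat.prime_two.dvd_of_dvd_pow h)).symm
  have hg : Nat.gcd 2 (Fintype.card F - 1) = 1 := by
    rw [← Nat.coprime_iff_gcd_eq_one, Nat.prime_two.coprime_iff_not_dvd]
    have := even_iff_two_dvd.1 heven
    omega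
  rcases CfsgLib.Lie.DicksonMaximal.max_shape h4 p M hM with
    ⟨y, e⟩ | ⟨k, -, he, e⟩ | ⟨k, -, he, e⟩ | ⟨hp', -⟩ | ⟨hp', -⟩ | ⟨hp', -⟩ | ⟨K, iK, iF, m, hm, hm2, h3, κ, k, hle, e⟩
  · left
    have h := CfsgLib.Lie.DicksonCor.card_borel y
    rwa [hg, one_mul, ← e] at h
  · rw [hg, one_mul] at he; subst he
    exact Or.inr (Or.inl e)
  · rw [hg, one_mul] at he; subst he
    exact Or.inr (Or.inr (Or.inl e))
  · exact absurd hp2 hp'
  · exact absurd hp2 hp'
  · exact absurd hp2 hp'
  · right; right; right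
    refine ⟨K, iK, iF, m, CfsgLib.Lie.DicksonTypes.deg_prime M hM κ k hm hm2 hle, by omega, hm.symm, ?_⟩
    rcases e with e | ⟨⟨t⟩⟩
    · exact e
    · haveI : CharP K p := κ.charP κ.injective p
      have hK : ringChar K = 2 := (ringChar.eq K p).trans hp2
      exact ⟨t.trans (MulEquiv.ofBijective _ (CfsgLib.Lie.DicksonMaximal.toPGL_bijective_of_even hK)).symm⟩

end Cfsg.Agent.S5893
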