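import Cfsg.Statements.S5905


set_option autoImplicit false
open Cfsg

namespace Cfsg.Agent.S5905

/-- Let Ω be a finite set and f : Ω → Fin b a map onto b ≥ 2 labels whose fibres all have the same size a ≥ 2 (a partition of Ω into b blocks of size a, so |Ω| = ab). Then the stabilizer of this partition in the symmetric group on Ω — the permutations g such that x and y lie in the same block exactly when g x and g y do, a group isomorphic to the imprimitive wreath product S_a ≀ S_b — is a maximal subgroup of the symmetric group. -/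
theorem result {Ω : Type*} [Fintype Ω] [DecidableEq Ω] (a b : ℕ) (ha : 2 ≤ a) (hb : 2 ≤ b)
    (f : Ω → Fin b) (hf : ∀ i : Fin b, Nat.card {x : Ω // f x = i} = a) :
    IsCoatom (Subgroup.closure {g : Equiv.Perm Ω | ∀ x y : Ω, f x = f y ↔ f (g x) = f (g y)}) := by
  classical
  set S : Set (Equiv.Perm Ω) := {g | ∀ x y : Ω, f x = f y ↔ f (g x) = f (g y)} with hS
  let M : Subgroup (Equiv.Perm Ω) :=
    { carrier := S
      one_mem' := fun x y => Iff.rfl
      mul_mem' := fun {g h} hg hh x y => (hh x y).trans (hg _ _)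
      inv_mem' := fun {g} hg x y => by
        simpa using (hg (g⁻¹ x) (g⁻¹ y)).symm }
  have hM : Subgroup.closure S = M := le_antisymm ((Subgroup.closure_le M).2 le_rfl) (fun g hg => Subgroup.subset_closure hg)
  rw [hM]
  have hblock : ∀ i, Nonempty ({x : Ω // f x = i} ≃ Fin a) := fun i =>
    ⟨Finite.equivFinOfCardEq (hf i)⟩
  let E := fun i => (hblock i).some
  let e : Ω ≃ Fin b × Fin a := (Equiv.sigmaFiberEquiv f).symm.trans
    ((Equiv.sigmaCongrRight fun i => (E i)).trans (Equiv.sigmaEquivProd _ _))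
  have hef : ∀ x, (e x).1 = f x := fun x => rfl
  have hsame : ∀ x y, f x = f y → Equiv.swap x y ∈ M := by
    intro x y hxy u v
    have hsw : ∀ u, f (Equiv.swap x y u) = f u := fun u => by
      rw [Equiv.swap_apply_def]
      split_ifs with h1 h2 <;> simp_all
    rw [hsw, hsw]
  refine ⟨fun h => ?_, fun K hK => ?_⟩
  · let i : Fin b := ⟨0, by omega⟩
    let j : Fin b := ⟨1, by omega⟩
    let u := e.symm (i, ⟨0, by omega⟩)
    let v := e.symm (j, ⟨0, by omega⟩)
    let w := e.symm (i, ⟨1, by omega⟩)
    have hwu : w ≠ u := fun h => by simpa using congrArg Prod.snd (e.symm.injective h)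
    have hwv : w ≠ v := fun h => by simpa [i, j] using congrArg Prod.fst (e.symm.injective h)
    have hm : Equiv.swap u v ∈ M := h ▸ Subgroup.mem_top _
    have h1 : f u = f w := by rw [← hef, ← hef]; simp [u, w]
    have h2 := (hm u w).1 h1
    rw [Equiv.swap_apply_left, Equiv.swap_apply_of_ne_of_ne hwu hwv, ← hef, ← hef] at h2
    simp [v, w, i, j] at h2
  · have hKM : M ≤ K := hK.le
    have hR : ∀ x y z, Equiv.swap x y ∈ K → Equiv.swap y z ∈ K → Equiv.swap x z ∈ K := by
      intro x y z h1 h2
      by_cases hxy : x = y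
      · rw [hxy]; exact h2
      by_cases hxz : x = z
      · rw [hxz, Equiv.swap_self]; exact one_mem K
      have h3 := K.mul_mem (K.mul_mem h2 h1) h2
      rw [Equiv.swap_mul_swap_mul_swap (x := x) (y := y) (z := z) hxy hxz] at h3
      rwa [Equiv.swap_comm]
    have hconj : ∀ g ∈ K, ∀ x y, Equiv.swap x y ∈ K → Equiv.swap (g x) (g y) ∈ K := by
      intro g hg x y h
      rw [Equiv.swap_apply_apply]
      exact K.mul_mem (K.mul_mem hg h) (K.inv_mem hg)
    obtain ⟨g, hgK, hgM⟩ := SetLike.exists_of_lt hK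
    obtain ⟨u, v, huv, huvK⟩ : ∃ u v, f u ≠ f v ∧ Equiv.swap u v ∈ K := by
      by_contra hc
      push_neg at hc
      apply hgM
      intro x y
      refine ⟨fun h => ?_, fun h => ?_⟩
      · by_contra hne
        exact hc _ _ hne (hconj g hgK x y (hKM (hsame x y h)))
      · by_contra hne
        have h1 := hconj g⁻¹ (K.inv_mem hgK) (g x) (g y) (hKM (hsame _ _ h))
        simp only [Equiv.Perm.inv_def, Equiv.symm_apply_apply] at h1
        exact hc _ _ hne h1
    have hall : ∀ x y, Equiv.swap x y ∈ K := by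
      intro x y
      by_cases hxy : f x = f y
      · exact hKM (hsame x y hxy)
      obtain ⟨π, hπ1, hπ2⟩ : ∃ π : Equiv.Perm (Fin b), π (f u) = f x ∧ π (f v) = f y := by
        refine ⟨(Equiv.swap (f u) (f x)).trans (Equiv.swap (Equiv.swap (f u) (f x) (f v)) (f y)), ?_, by simp⟩
        have h1 : f x ≠ Equiv.swap (f u) (f x) (f v) := fun h => huv ((Equiv.swap (f u) (f x)).injective (by simpa using h))
        simp [Equiv.swap_apply_of_ne_of_ne h1 hxy]
      let σ : Equiv.Perm Ω := e.trans ((Equiv.prodCongr π (Equiv.refl _)).trans e.symm)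
      have hσf : ∀ z, f (σ z) = π (f z) := fun z => by rw [← hef, ← hef]; simp [σ]
      have hσ : σ ∈ K := hKM (fun p q => by rw [hσf, hσf, π.injective.eq_iff])
      have h1 : Equiv.swap x (σ u) ∈ K := hKM (hsame _ _ (by rw [hσf, hπ1]))
      have h2 : Equiv.swap (σ v) y ∈ K := hKM (hsame _ _ (by rw [hσf, hπ2]))
      exact hR _ _ _ (hR _ _ _ h1 (hconj σ hσ u v huvK)) h2
    rw [eq_top_iff, ← Equiv.Perm.closure_isSwap, Subgroup.closure_le]
    rintro _ ⟨x, y, -, rfl⟩
    exact hall x y

end Cfsg.Agent.S5905
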