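import Cfsg.Statements.S5894
import Cfsg.Agent.S5905

set_option autoImplicit false
open Cfsg
open scoped Pointwise

namespace Cfsg.Agent.S5894

/-- For every m ≥ 2 the symmetric group on 2m letters has a maximal subgroup M of index 2m together with a maximal subgroup H of M that is not second maximal: some maximal subgroup K of the symmetric group contains H without H being maximal in K. (One may take M the stabiliser of a letter, H ≅ S_m × S_{m−1} inside it, and K ≅ S_m ≀ S₂ the stabiliser of a partition into two m-sets, with H < S_m × S_m < K.) So the prime-index hypothesis in the second-maximality criterion cannot be relaxed to any even index ≥ 4. -/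
theorem result (m : ℕ) (hm : 2 ≤ m) :
    ∃ M H K : Subgroup (Equiv.Perm (Fin (2 * m))), IsCoatom M ∧ M.index = 2 * m ∧ H ≤ M ∧ IsCoatom (H.subgroupOf M) ∧
      IsCoatom K ∧ H ≤ K ∧ ¬ IsCoatom (H.subgroupOf K) := by
  classical
  set Ω := Fin (2 * m) with hΩ
  have hpos : 0 < 2 * m := by omega
  let z : Ω := ⟨0, hpos⟩
  let f : Ω → Fin 2 := fun x => if (x : ℕ) < m then 0 else 1
  let B : Set Ω := {x | f x = 0}
  let M : Subgroup (Equiv.Perm Ω) := MulAction.stabilizer (Equiv.Perm Ω) z
  let K0 : Set (Equiv.Perm Ω) := {g | ∀ x y : Ω, f x = f y ↔ f (g x) = f (g y)}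
  let K : Subgroup (Equiv.Perm Ω) :=
    { carrier := K0
      one_mem' := fun x y => Iff.rfl
      mul_mem' := fun {g h} hg hh x y => (hh x y).trans (hg _ _)
      inv_mem' := fun {g} hg x y => by simpa using (hg (g⁻¹ x) (g⁻¹ y)).symm }
  have hBcard : ∀ i : Fin 2, Nat.card {x : Ω // f x = i} = m := by
    intro i
    have h0 : Nat.card {x : Ω // f x = 0} = m := by
      rw [Nat.card_eq_fintype_card]
      refine (Fintype.card_congr (Equiv.mk (β := Fin m)
        (fun x => ⟨(x.1 : ℕ), by
          have := x.2
          by_contra hc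
          simp [f, hc] at this⟩)
        (fun y => ⟨⟨(y : ℕ), by omega⟩, by simp [f]⟩) (fun x => rfl) (fun y => rfl))).trans (Fintype.card_fin m)
    fin_cases i
    · exact h0
    · have h1 : Fintype.card {x : Ω // ¬ f x = 0} = Fintype.card Ω - Fintype.card {x : Ω // f x = 0} :=
        Fintype.card_subtype_compl _
      rw [← Nat.card_eq_fintype_card (α := {x : Ω // f x = 0}), h0, Fintype.card_fin] at h1
      rw [Nat.card_congr (Equiv.subtypeEquivRight (q := fun x => ¬ f x = 0) fun x => by
        generalize f x = k; fin_cases k <;> simp), Nat.card_eq_fintype_card, h1]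
      omega
  have hK : IsCoatom K := by
    have h := Cfsg.Agent.S5905.result (Ω := Ω) m 2 hm le_rfl f hBcard
    rwa [show Subgroup.closure {g : Equiv.Perm Ω | ∀ x y : Ω, f x = f y ↔ f (g x) = f (g y)} = K from
      le_antisymm ((Subgroup.closure_le K).2 le_rfl) (fun g hg => Subgroup.subset_closure hg)] at h
  have hz : f z = 0 := by simp [f, z]; omega
  have hMi : M.index = 2 * m := by
    rw [MulAction.index_stabilizer_of_transitive, Nat.card_eq_fintype_card, Fintype.card_fin]
  have hM : IsCoatom M := by
    have h := Equiv.Perm.isCoatom_stabilizer (α := Ω) (s := {z}) (Set.singleton_nonempty z)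
      ⟨⟨1, by omega⟩, fun h => Nat.one_ne_zero (congrArg Fin.val h)⟩ (by rw [Set.ncard_singleton, Nat.card_eq_fintype_card, Fintype.card_fin]; omega)
    rwa [show MulAction.stabilizer (Equiv.Perm Ω) ({z} : Set Ω) = M from MulAction.stabilizer_singleton z] at h
  let C : Type := {x : Ω // x ≠ z}
  let ρ : Equiv.Perm C →* Equiv.Perm Ω := Equiv.Perm.ofSubtype
  let A : Set C := {x | f x.1 = 0}
  have hinj : Function.Injective ρ := Equiv.Perm.ofSubtype_injective
  have hrange : ρ.range = M := by
    ext g
    constructor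
    · rintro ⟨s, rfl⟩
      exact Equiv.Perm.ofSubtype_apply_of_not_mem s (not_not.2 rfl)
    · intro hg
      have hg' : g z = z := hg
      refine ⟨g.subtypePerm (fun x => not_congr ⟨fun h => g.injective (h.trans hg'.symm),
        fun h => by rw [h, hg']⟩), Equiv.Perm.ofSubtype_subtypePerm _ fun x hx hxz => hx (hxz ▸ hg')⟩
  have hcomap : (M ⊓ K).comap ρ = MulAction.stabilizer (Equiv.Perm C) A := by
    ext s
    rw [Subgroup.mem_comap, Subgroup.mem_inf, MulAction.mem_stabilizer_set]
    have hs1 : ∀ x : C, ρ s x.1 = (s x).1 := fun x => Equiv.Perm.ofSubtype_apply_coe s x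
    have hs0 : ρ s z = z := Equiv.Perm.ofSubtype_apply_of_not_mem s (not_not.2 rfl)
    constructor
    · rintro ⟨-, h⟩ x
      have h2 := h x.1 z
      rw [hs1, hs0, hz] at h2
      exact h2.symm
    · intro h
      refine ⟨hs0, fun x y => ?_⟩
      have hiff : ∀ x : Ω, f (ρ s x) = f x := by
        intro x
        by_cases hx : x = z
        · rw [hx, hs0]
        · have h1 := h ⟨x, hx⟩
          simp only [A, Set.mem_ofPred_eq, Equiv.Perm.smul_def] at h1
          rw [hs1 ⟨x, hx⟩]
          revert h1
          generalize f (s ⟨x, hx⟩).1 = a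
          generalize f x = b
          fin_cases a <;> fin_cases b <;> simp
      rw [hiff, hiff]
  have hA : IsCoatom (MulAction.stabilizer (Equiv.Perm C) A) := by
    have hc : Nat.card C = 2 * m - 1 := by
      rw [Nat.card_eq_fintype_card, Fintype.card_subtype_compl, Fintype.card_fin, Fintype.card_subtype_eq]
    refine Equiv.Perm.isCoatom_stabilizer ?_ ?_ (by rw [hc]; omega)
    · exact ⟨⟨⟨1, by omega⟩, fun h => Nat.one_ne_zero (congrArg Fin.val h)⟩, by simp [A, f]; omega⟩
    · exact ⟨⟨⟨m, by omega⟩, fun h => (show m ≠ 0 by omega) (congrArg Fin.val h)⟩, by simp [A, f]⟩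
  refine ⟨M, M ⊓ K, K, hM, hMi, inf_le_left, ?_, hK, inf_le_right, ?_⟩
  · let e : Equiv.Perm C ≃* M := (MonoidHom.ofInjective hinj).trans (MulEquiv.subgroupCongr hrange)
    rw [← OrderIso.isCoatom_iff e.comapSubgroup]
    have : e.comapSubgroup ((M ⊓ K).subgroupOf M) = (M ⊓ K).comap ρ := rfl
    rw [this, hcomap]
    exact hA
  · intro hco
    let L : Subgroup (Equiv.Perm Ω) := K ⊓ MulAction.stabilizer (Equiv.Perm Ω) B
    have hLK : L ≤ K := inf_le_left
    have hHL : M ⊓ K ≤ L := by
      rintro g ⟨hgM, hgK⟩
      refine ⟨hgK, ?_⟩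
      change g ∈ MulAction.stabilizer _ B
      rw [MulAction.mem_stabilizer_set]
      intro x
      have h2 := hgK x z
      rw [show g z = z from hgM, hz] at h2
      exact h2.symm
    let w : Ω := ⟨1, by omega⟩
    have hw : f w = 0 := by simp [f, w]; omega
    have hwz : z ≠ w := fun h => zero_ne_one (congrArg Fin.val h)
    have hsw : Equiv.swap z w ∈ L := by
      have hf : ∀ x, f (Equiv.swap z w x) = f x := fun x => by
        rw [Equiv.swap_apply_def]
        split_ifs with h1 h2
        · subst h1; rw [hw, hz]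
        · subst h2; rw [hw, hz]
        · rfl
      refine ⟨fun x y => by rw [hf, hf], ?_⟩
      change Equiv.swap z w ∈ MulAction.stabilizer _ B
      rw [MulAction.mem_stabilizer_set]
      intro x
      change f (Equiv.swap z w x) = 0 ↔ f x = 0
      rw [hf]
    have hnH : Equiv.swap z w ∉ M ⊓ K := fun h => by
      have h1 : Equiv.swap z w z = z := h.1
      rw [Equiv.swap_apply_left] at h1
      exact hwz h1.symm
    have hlt : (M ⊓ K).subgroupOf K < L.subgroupOf K := by
      refine lt_of_le_of_ne (fun x hx => hHL hx) fun he => hnH ?_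
      have : (⟨Equiv.swap z w, hsw.1⟩ : K) ∈ L.subgroupOf K := hsw
      rw [← he] at this
      exact this
    have htop := hco.2 _ hlt
    let σ : Equiv.Perm Ω := finRotate (2 * m) ^ m
    have hσ : ∀ x : Ω, (σ x : ℕ) = ((x : ℕ) + m) % (2 * m) := by
      intro x
      obtain ⟨k, hk⟩ : ∃ k, 2 * m = k + 1 := ⟨2 * m - 1, by omega⟩
      have : ∀ j : ℕ, ((finRotate (2 * m) ^ j) x : ℕ) = ((x : ℕ) + j) % (2 * m) := by
        intro j
        induction j with
        | zero => simp [Nat.mod_eq_of_lt x.isLt]
        | succ j ih =>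
          rw [pow_succ', Equiv.Perm.mul_apply]
          have hr : ∀ y : Fin (2 * m), (finRotate (2 * m) y : ℕ) = ((y : ℕ) + 1) % (2 * m) := by
            rw [hk]
            intro y
            rw [finRotate_succ_apply, Fin.val_add, Fin.val_one', Nat.add_mod_mod]
          rw [hr, ih, Nat.mod_add_mod, Nat.add_assoc]
      exact this m
    have hflip : ∀ x : Ω, f (σ x) = 0 ↔ f x = 1 := by
      intro x
      have := x.isLt
      simp only [f, hσ]
      by_cases h : (x : ℕ) < m
      · rw [Nat.mod_eq_of_lt (by omega)]; simp [h]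
      · rw [Nat.mod_eq_sub_mod (by omega), Nat.mod_eq_of_lt (by omega)]
        simp [h]; omega
    have hσK : σ ∈ K := by
      intro x y
      have hx := hflip x
      have hy := hflip y
      revert hx hy
      generalize f (σ x) = a
      generalize f (σ y) = b
      generalize f x = c
      generalize f y = d
      fin_cases a <;> fin_cases b <;> fin_cases c <;> fin_cases d <;> simp
    have hmem : (⟨σ, hσK⟩ : K) ∈ L.subgroupOf K := htop ▸ Subgroup.mem_top _
    have h2 : σ ∈ MulAction.stabilizer (Equiv.Perm Ω) B := hmem.2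
    rw [MulAction.mem_stabilizer_set] at h2
    have h3 : f (σ z) = 0 := (h2 z).2 hz
    rw [hflip, hz] at h3
    exact zero_ne_one h3

end Cfsg.Agent.S5894
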