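import Cfsg.Statements.S5896
import Cfsg.Agent.Char.Burnside
import Cfsg.Agent.Base.Small.OrderSixty
-- import your own Cfsg.Agent.* helpers here

set_option autoImplicit false
open Cfsg
open scoped commutatorElement

namespace Cfsg.Agent.S5896

theorem base : ∃ (G : Type) (_ : Group G) (_ : Finite G) (H : Subgroup G), commutator G = ⊤ ∧ IsCoatom H ∧
    Group.IsSolvable H ∧ derivedSeries H 0 ≠ ⊥ := by
  have hcard : Nat.card (alternatingGroup (Fin 5)) = 60 := by
    rw [nat_card_alternatingGroup, Nat.card_eq_fintype_card, Fintype.card_fin]; rfl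
  haveI : IsSimpleGroup (alternatingGroup (Fin 5)) :=
    alternatingGroup.isSimpleGroup (by simp)
  have hperf : commutator (alternatingGroup (Fin 5)) = ⊤ := by
    rcases Subgroup.Normal.eq_bot_or_eq_top (inferInstance : (commutator (alternatingGroup (Fin 5))).Normal) with h | h
    · exfalso
      have h1 := (commutator_eq_bot_iff_center_eq_top (G := alternatingGroup (Fin 5))).1 h
      rw [alternatingGroup.center_eq_bot (by simp)] at h1
      exact bot_ne_top h1
    · exact h
  obtain ⟨x, hx⟩ : ∃ x : alternatingGroup (Fin 5), x ≠ 1 := exists_ne 1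
  have hne : Subgroup.zpowers x ≠ ⊤ := by
    intro h
    haveI : IsCyclic (alternatingGroup (Fin 5)) := isCyclic_iff_exists_zpowers_eq_top.2 ⟨x, h⟩
    exact absurd ((alternatingGroup.isCyclic_iff_card_le_three (α := Fin 5)).1 inferInstance) (by simp)
  obtain ⟨H, hH, hle⟩ := (eq_top_or_exists_le_coatom (Subgroup.zpowers x)).resolve_left hne
  refine ⟨_, inferInstance, inferInstance, H, hperf, hH, ?_, ?_⟩
  · have h5 := CfsgLib.OrderSixty.index_ge_five hcard H hH.1
    have hmul := H.card_mul_index
    rw [hcard] at hmul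
    have hd : Nat.card H ∣ 60 := Dvd.intro _ hmul
    have hle12 : Nat.card H ≤ 12 := by nlinarith
    by_cases h : Nat.card H = 5 ∨ Nat.card H = 10
    · rcases h with h | h
      · exact CfsgLib.Char.solvable_of_card_two_primes 2 5 0 1 Nat.prime_two (by norm_num) (by rw [h]; rfl)
      · exact CfsgLib.Char.solvable_of_card_two_primes 2 5 1 1 Nat.prime_two (by norm_num) (by rw [h]; rfl)
    · have key : ∀ c : ℕ, c ≤ 12 → c ∣ 60 → c ≠ 5 → c ≠ 10 → ∃ a b : ℕ, c = 2 ^ a * 3 ^ b := by
        intro c hc hdvd h1 h2
        interval_cases c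
        all_goals first
          | (norm_num at hdvd; done)
          | exact ⟨0, 0, rfl⟩ | exact ⟨1, 0, rfl⟩ | exact ⟨2, 0, rfl⟩ | exact ⟨0, 1, rfl⟩
          | exact ⟨1, 1, rfl⟩ | exact ⟨2, 1, rfl⟩ | (norm_num at h1 h2; done) | omega
      push Not at h
      obtain ⟨a, b, e⟩ := key _ hle12 hd h.1 h.2
      exact CfsgLib.Char.solvable_of_card_two_primes 2 3 a b Nat.prime_two Nat.prime_three e
  · intro h
    have hm : (⟨x, hle (Subgroup.mem_zpowers x)⟩ : H) ∈ derivedSeries H 0 := Subgroup.mem_top _
    rw [h, Subgroup.mem_bot] at hm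
    exact hx (congrArg Subtype.val hm)

theorem step (d : ℕ) (G : Type) [Group G] [Finite G] (H : Subgroup G) (hG : commutator G = ⊤) (hH : IsCoatom H)
    (hS : Group.IsSolvable H) (hD : derivedSeries H d ≠ ⊥) :
    ∃ (G' : Type) (_ : Group G') (_ : Finite G') (H' : Subgroup G'), commutator G' = ⊤ ∧ IsCoatom H' ∧
      Group.IsSolvable H' ∧ derivedSeries H' (d + 1) ≠ ⊥ := by
  classical
  obtain ⟨u, hu, hu1⟩ : ∃ u ∈ derivedSeries H d, u ≠ 1 := (Subgroup.bot_or_exists_ne_one _).resolve_left hD
  obtain ⟨p, hpgt, hp⟩ := Nat.exists_infinite_primes (Nat.card G + 1)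
  haveI : Fact p.Prime := ⟨hp⟩
  obtain ⟨of', hof⟩ : ∃ of' : G →* MonoidAlgebra (ZMod p) G, of' = MonoidAlgebra.of (ZMod p) G := ⟨_, rfl⟩
  let ε : MonoidAlgebra (ZMod p) G →ₐ[ZMod p] ZMod p := MonoidAlgebra.lift (ZMod p) (ZMod p) G (1 : G →* ZMod p)
  have hε : ∀ g, ε (of' g) = 1 := fun g => by rw [hof]; exact MonoidAlgebra.lift_of _ _
  let I : AddSubgroup (MonoidAlgebra (ZMod p) G) := ε.toLinearMap.toAddMonoidHom.ker
  have hI : ∀ x, x ∈ I ↔ ε x = 0 := fun x => AddMonoidHom.mem_ker
  have hgI : ∀ (g : G) (x : MonoidAlgebra (ZMod p) G), x ∈ I → of' g * x ∈ I := fun g x hx => by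
    rw [hI] at hx ⊢; rw [map_mul, hx, mul_zero]
  haveI : Finite (MonoidAlgebra (ZMod p) G) := Module.finite_of_finite (ZMod p)
  let A : G → MulAut (Multiplicative I) := fun g => AddEquiv.toMultiplicative
    { toFun := fun x => ⟨of' g * x, hgI g x x.2⟩
      invFun := fun x => ⟨of' g⁻¹ * x, hgI _ x x.2⟩
      left_inv := fun x => Subtype.ext (by simp [← mul_assoc, ← map_mul])
      right_inv := fun x => Subtype.ext (by simp [← mul_assoc, ← map_mul])
      map_add' := fun x y => Subtype.ext (by simp [mul_add]) }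
  let φ : G →* MulAut (Multiplicative I) :=
    { toFun := A
      map_one' := MulEquiv.ext fun x => Subtype.ext (show of' 1 * (x.toAdd : MonoidAlgebra (ZMod p) G) = _ by
        rw [map_one, one_mul]; rfl)
      map_mul' := fun g h => MulEquiv.ext fun x => Subtype.ext
        (show of' (g * h) * (x.toAdd : MonoidAlgebra (ZMod p) G) = of' g * (of' h * (x.toAdd : MonoidAlgebra (ZMod p) G)) by
          rw [map_mul, mul_assoc]) }
  let K := Multiplicative I ⋊[φ] G
  haveI : Finite K := Finite.of_injective (fun k : K => (k.left, k.right)) fun a b h =>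
    SemidirectProduct.ext (congrArg Prod.fst h) (congrArg Prod.snd h)
  have hcomm : ∀ (g : G) (x : I), ⁅(SemidirectProduct.inr g : K), SemidirectProduct.inl (Multiplicative.ofAdd x)⁆ =
      SemidirectProduct.inl (Multiplicative.ofAdd ((⟨of' g * x, hgI g x x.2⟩ : I) - x)) := fun g x => by
    rw [commutatorElement_def, ← map_inv, ← SemidirectProduct.inl_aut, ← map_inv, ← map_mul, sub_eq_add_neg]
    rfl
  let S : AddSubgroup I :=
    { carrier := {x | (SemidirectProduct.inl (Multiplicative.ofAdd x) : K) ∈ commutator K}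
      zero_mem' := by show (SemidirectProduct.inl 1 : K) ∈ commutator K; rw [map_one]; exact one_mem _
      add_mem' := fun {x y} hx hy => by
        show (SemidirectProduct.inl (Multiplicative.ofAdd x * Multiplicative.ofAdd y) : K) ∈ commutator K
        rw [map_mul]; exact mul_mem hx hy
      neg_mem' := fun {x} hx => by
        show (SemidirectProduct.inl (Multiplicative.ofAdd x)⁻¹ : K) ∈ commutator K
        rw [map_inv]; exact inv_mem hx }
  let J : AddSubgroup (MonoidAlgebra (ZMod p) G) := S.map I.subtype
  have hJsmul : ∀ (c : ZMod p) x, x ∈ J → c • x ∈ J := fun c x hx => by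
    rw [← ZMod.natCast_zmod_val c, Nat.cast_smul_eq_nsmul]; exact J.nsmul_mem hx _
  have hgen : ∀ (g : G) x, x ∈ I → of' g * x - x ∈ J := fun g x hx => by
    refine ⟨(⟨of' g * x, hgI g x hx⟩ : I) - ⟨x, hx⟩, ?_, rfl⟩
    show (SemidirectProduct.inl _ : K) ∈ commutator K
    rw [← hcomm g ⟨x, hx⟩, commutator_def]
    exact Subgroup.commutator_mem_commutator (Subgroup.mem_top _) (Subgroup.mem_top _)
  have hg1 : ∀ g, of' g - 1 ∈ I := fun g => by rw [hI, map_sub, hε, map_one, sub_self]
  have hgJ : ∀ g, of' g - 1 ∈ J := by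
    let ψ : G →* Multiplicative (MonoidAlgebra (ZMod p) G ⧸ J) :=
      { toFun := fun g => Multiplicative.ofAdd (QuotientAddGroup.mk (of' g - 1))
        map_one' := by rw [map_one, sub_self]; rfl
        map_mul' := fun g h => by
          rw [← ofAdd_add, ← QuotientAddGroup.mk_add]
          refine congrArg Multiplicative.ofAdd (QuotientAddGroup.eq.2 ?_)
          have := J.neg_mem (hgen g _ (hg1 h))
          convert this using 1
          rw [map_mul, mul_sub, mul_one]; abel }
    intro g
    have hk : g ∈ ψ.ker := by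
      refine (Abelianization.commutator_subset_ker ψ) ?_
      rw [hG]; trivial
    exact (QuotientAddGroup.eq_zero_iff _).1 (ofAdd_eq_one.1 (MonoidHom.mem_ker.1 hk))
  have hall : ∀ x, x - ε x • (1 : MonoidAlgebra (ZMod p) G) ∈ J := fun x => by
    induction x using MonoidAlgebra.induction_on with
    | of g =>
      have : ε (MonoidAlgebra.of (ZMod p) G g) = 1 := hof ▸ hε g
      rw [this, one_smul, ← hof]; exact hgJ g
    | add x y hx hy =>
      convert J.add_mem hx hy using 1
      rw [map_add, add_smul]; abel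
    | smul c x hx =>
      convert hJsmul c _ hx using 1
      rw [map_smul, smul_sub, smul_smul, smul_eq_mul]
  have hSall : ∀ x : I, x ∈ S := fun x => by
    have h := hall x
    rw [(hI _).1 x.2, zero_smul, sub_zero] at h
    obtain ⟨y, hy, e⟩ := h
    rwa [← Subtype.ext (a2 := x) e]
  have hK : commutator K = ⊤ := by
    refine eq_top_iff.2 fun k _ => ?_
    rw [← SemidirectProduct.inl_left_mul_inr_right k]
    refine mul_mem (hSall k.left.toAdd) ?_
    have h : (commutator G).map (SemidirectProduct.inr : G →* K) ≤ commutator K := by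
      rw [commutator_def, commutator_def, Subgroup.map_commutator]
      exact Subgroup.commutator_mono le_top le_top
    exact h ⟨k.right, hG ▸ Subgroup.mem_top _, rfl⟩
  let π : K →* G := SemidirectProduct.rightHom
  have hπ : Function.Surjective π := SemidirectProduct.rightHom_surjective
  refine ⟨K, inferInstance, inferInstance, H.comap π, hK, ⟨fun h => hH.1 ?_, fun M hM => ?_⟩, ?_, ?_⟩
  · rw [← Subgroup.map_comap_eq_self_of_surjective hπ H, h, Subgroup.map_top_of_surjective π hπ]
  · have hker : π.ker ≤ M := le_trans (fun k hk => by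
      rw [Subgroup.mem_comap, MonoidHom.mem_ker.1 hk]; exact one_mem _) hM.le
    rw [← Subgroup.comap_map_eq_self hker] at hM ⊢
    rw [Subgroup.comap_lt_comap_of_surjective hπ] at hM
    rw [hH.2 _ hM, Subgroup.comap_top]
  · let ι : Multiplicative I →* H.comap π :=
      (SemidirectProduct.inl : Multiplicative I →* K).codRestrict _ fun x => by
        show π _ ∈ H
        rw [show π (SemidirectProduct.inl x) = 1 from SemidirectProduct.rightHom_inl x]; exact one_mem _
    let r : H.comap π →* H := (π.comp (H.comap π).subtype).codRestrict H fun x => x.2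
    refine Group.isSolvable_of_ker_le_range ι r fun k hk => ?_
    have h1 : (k : K).right = 1 := congrArg Subtype.val (MonoidHom.mem_ker.1 hk)
    refine ⟨(k : K).left, Subtype.ext (SemidirectProduct.ext rfl h1.symm)⟩
  · let ι : H →* H.comap π := ((SemidirectProduct.inr : G →* K).comp H.subtype).codRestrict _ fun h => h.2
    have hker : ∀ x : I, (SemidirectProduct.inl (Multiplicative.ofAdd x) : K) ∈ H.comap π := fun x => by
      show π _ ∈ H
      rw [show π (SemidirectProduct.inl (Multiplicative.ofAdd x)) = 1 from SemidirectProduct.rightHom_inl _]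
      exact one_mem _
    have hU : ∀ j ≤ d, ι u ∈ derivedSeries (H.comap π) j := fun j hj =>
      derivedSeries_antitone _ hj (map_derivedSeries_le_derivedSeries ι d ⟨u, hu, rfl⟩)
    obtain ⟨v, hv⟩ : ∃ v, v = of' (u : G) := ⟨_, rfl⟩
    have hx : ∀ j, (v - 1) ^ (j + 1) ∈ I := fun j => by
      rw [hI, map_pow, map_sub, hv, hε, map_one, sub_self, zero_pow (by omega)]
    have main : ∀ j ≤ d + 1, (⟨_, hker ⟨_, hx j⟩⟩ : H.comap π) ∈ derivedSeries (H.comap π) j := by
      intro j
      induction j with
      | zero => intro _; exact Subgroup.mem_top _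
      | succ j ih =>
        intro hj
        rw [derivedSeries_succ]
        have h := Subgroup.commutator_mem_commutator (hU j (by omega)) (ih (by omega))
        convert h using 1
        refine Subtype.ext ?_
        refine Eq.trans ?_ (hcomm (u : G) ⟨_, hx j⟩).symm
        refine congrArg (fun z : I => (SemidirectProduct.inl (Multiplicative.ofAdd z) : K)) (Subtype.ext ?_)
        show (v - 1) ^ (j + 1 + 1) = of' (u : G) * (v - 1) ^ (j + 1) - (v - 1) ^ (j + 1)
        rw [← hv, pow_succ' _ (j + 1), sub_mul, one_mul]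
    intro hb
    have h := main (d + 1) le_rfl
    rw [hb, Subgroup.mem_bot] at h
    have h2 : (v - 1) ^ (d + 1 + 1) = 0 :=
      congrArg (fun z : K => ((z.left.toAdd : I) : MonoidAlgebra (ZMod p) G)) (congrArg Subtype.val h)
    haveI : CharP (MonoidAlgebra (ZMod p) G) p :=
      charP_of_injective_algebraMap (R := ZMod p) (FaithfulSMul.algebraMap_injective _ _) p
    obtain ⟨k, hk⟩ : ∃ k, d + 1 + 1 ≤ p ^ k := ⟨_, (Nat.lt_pow_self hp.one_lt).le⟩
    have h3 : of' ((u : G) ^ p ^ k) = of' 1 := by
      have h4 : (v - 1) ^ p ^ k = 0 := pow_eq_zero_of_le hk h2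
      rw [sub_pow_char_pow_of_commute _ _ (Commute.one_right v), one_pow, sub_eq_zero, hv, ← map_pow] at h4
      rw [h4, map_one]
    rw [hof] at h3
    have h5 : (u : G) ^ p ^ k = 1 := MonoidAlgebra.of_injective h3
    have hcop : (p ^ k).Coprime (orderOf (u : G)) := by
      refine Nat.Coprime.pow_left k ((Nat.Prime.coprime_iff_not_dvd hp).2 fun hdiv => ?_)
      have h6 := Nat.le_of_dvd (orderOf_pos _) hdiv
      have h7 : orderOf (u : G) ≤ Nat.card G := orderOf_le_card
      omega
    have h8 : orderOf (u : G) = 1 := Nat.Coprime.eq_one_of_dvd hcop.symm (orderOf_dvd_of_pow_eq_one h5)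
    exact hu1 (Subtype.ext (orderOf_eq_one_iff.1 h8))

/-- Finite perfect groups have solvable maximal subgroups of unbounded derived length: for every d there is a finite perfect group G (equal to its commutator subgroup) with a solvable maximal subgroup H whose derived length exceeds d, i.e. the d-th term of the derived series of H is non-trivial. (Take the derived subgroup of a wreath product S ≀ A₅ with S solvable of large derived length, and H the preimage of a maximal subgroup of A₅.) -/
theorem result (d : ℕ) :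
    ∃ (G : Type) (_ : Group G) (_ : Finite G) (H : Subgroup G), commutator G = ⊤ ∧ IsCoatom H ∧ Group.IsSolvable H ∧
      derivedSeries H d ≠ ⊥ := by
  induction d with
  | zero => exact base
  | succ d ih =>
    obtain ⟨G, _, _, H, h1, h2, h3, h4⟩ := ih
    exact step d G H h1 h2 h3 h4

end Cfsg.Agent.S5896
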