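import Cfsg.Statements.S5904


set_option autoImplicit false
open scoped Pointwise
open Cfsg

namespace Cfsg.Agent.S5904

/-- Let Ω be a finite set with more than two elements and O ⊆ Ω a subset with exactly as many elements as its complement. Then the setwise stabilizer of O in the symmetric group on Ω is not a maximal subgroup (it is properly contained in the stabilizer of the partition {O, Ω ∖ O}, which is proper). -/
theorem result {Ω : Type*} [Fintype Ω] [DecidableEq Ω] (hΩ : 2 < Fintype.card Ω)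
    (O : Set Ω) (hO : Nat.card O = Nat.card ↥Oᶜ) :
    ¬ IsCoatom (MulAction.stabilizer (Equiv.Perm Ω) O) := by
  classical
  intro hco
  let K : Subgroup (Equiv.Perm Ω) :=
    { carrier := {g | g • O = O ∨ g • O = Oᶜ}
      one_mem' := Or.inl (one_smul _ O)
      mul_mem' := fun {g h} hg hh => by
        simp only [Set.mem_ofPred_eq] at hg hh ⊢
        rw [mul_smul]
        have hc : g • Oᶜ = (g • O)ᶜ := Set.smul_set_compl
        rcases hh with hh | hh <;> rcases hg with hg | hg <;> simp [hh, hc, hg]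
      inv_mem' := fun {g} hg => by
        simp only [Set.mem_ofPred_eq] at hg ⊢
        rcases hg with hg | hg
        · left; rw [inv_smul_eq_iff, hg]
        · right; rw [inv_smul_eq_iff, Set.smul_set_compl, hg, compl_compl] }
  have hcard : Nat.card O + Nat.card ↥Oᶜ = Fintype.card Ω := by
    simp only [Nat.card_coe_set_eq]
    rw [Set.ncard_add_ncard_compl, Nat.card_eq_fintype_card]
  have h2 : 1 < Nat.card O := by omega
  obtain ⟨e⟩ : Nonempty (O ≃ ↥Oᶜ) := ⟨(Fintype.equivFinOfCardEq (by rw [← Nat.card_eq_fintype_card])).trans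
    (Fintype.equivFinOfCardEq (n := Nat.card O) (by rw [← Nat.card_eq_fintype_card]; exact hO.symm)).symm⟩
  let σ : Equiv.Perm Ω := e.extendSubtype
  have hσ : σ • O = Oᶜ := by
    ext x
    constructor
    · rintro ⟨y, hy, rfl⟩
      exact Equiv.extendSubtype_mem e y hy
    · intro hx
      refine ⟨σ⁻¹ x, ?_, σ.apply_symm_apply x⟩
      by_contra hy
      exact Equiv.extendSubtype_not_mem e (σ⁻¹ x) hy (by
        change σ (σ⁻¹ x) ∈ Oᶜ
        rw [Equiv.Perm.inv_def, Equiv.apply_symm_apply]; exact hx)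
  have hne : O.Nonempty := Set.nonempty_coe_sort.1 (Nat.card_pos_iff.1 (by omega)).1
  have hlt : MulAction.stabilizer (Equiv.Perm Ω) O < K := by
    refine lt_of_le_of_ne (fun g hg => Or.inl hg) (fun h => ?_)
    have : σ ∈ MulAction.stabilizer (Equiv.Perm Ω) O := h ▸ (Or.inr hσ : σ ∈ K)
    rw [MulAction.mem_stabilizer_iff, hσ] at this
    obtain ⟨x, hx⟩ := hne
    exact (this.symm ▸ hx : x ∈ Oᶜ) hx
  have htop := hco.2 K hlt
  obtain ⟨x, hx, z, hz, hxz⟩ := (Set.one_lt_ncard).1 (by rwa [← Nat.card_coe_set_eq] : 1 < O.ncard)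
  obtain ⟨y, hy⟩ : (Oᶜ).Nonempty := Set.nonempty_coe_sort.1 (Nat.card_pos_iff.1 (by omega)).1
  have hmem : Equiv.swap x y ∈ K := htop ▸ Subgroup.mem_top _
  have hzim : z ∈ Equiv.swap x y • O :=
    ⟨z, hz, Equiv.swap_apply_of_ne_of_ne hxz.symm (fun h => hy (h ▸ hz))⟩
  have hyim : y ∈ Equiv.swap x y • O := ⟨x, hx, Equiv.swap_apply_left x y⟩
  rcases hmem with h | h
  · exact hy (h ▸ hyim)
  · exact (h ▸ hzim : z ∈ Oᶜ) hz

end Cfsg.Agent.S5904
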