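import Cfsg.Statements.S5908
import Cfsg.Agent.Lie.SUThreeTwo

set_option autoImplicit false
open Cfsg

namespace Cfsg.Agent.S5908

/-- The subgroup lattice of PSU₃(2) (the solvable group of order 72, realised over the field with 4 elements) is not complemented: some subgroup H has no subgroup X with H ⊔ X = ⊤ and H ⊓ X = ⊥. -/
theorem result {F : Type*} [Field F] [Fintype F] (hF : Fintype.card F = 4) :
    ¬ ComplementedLattice (Subgroup (Cfsg.PSU 3 F 2)) := by
  classical
  intro hc
  obtain ⟨N, hN, -, -, ⟨e⟩⟩ := CfsgLib.Lie.SUThreeTwo.structure_thm hF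
  let p := e.toMonoidHom.comp (QuotientGroup.mk' N)
  have hp : Function.Surjective p := e.surjective.comp (QuotientGroup.mk'_surjective N)
  let H := (Subgroup.zpowers (QuaternionGroup.a 2 : QuaternionGroup 2)).comap p
  obtain ⟨X, hX⟩ := exists_isCompl H
  have hmem : ∀ g : QuaternionGroup 2, g * g = 1 → g ∈ Subgroup.zpowers (QuaternionGroup.a 2 : QuaternionGroup 2) := by
    have hd : ∀ g : QuaternionGroup 2, g * g = 1 → g = 1 ∨ g = QuaternionGroup.a 2 := by decide
    intro g hg
    rcases hd g hg with rfl | rfl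
    · exact one_mem _
    · exact Subgroup.mem_zpowers _
  have hXsq : ∀ x ∈ X, p x * p x = 1 := fun x hx => by
    have h1 : x * x ∈ H := by
      show p (x * x) ∈ Subgroup.zpowers _
      rw [map_mul]
      refine hmem _ ?_
      have hd : ∀ g : QuaternionGroup 2, g * g * (g * g) = 1 := by decide
      exact hd _
    have h2 : x * x ∈ (H ⊓ X) := ⟨h1, mul_mem hx hx⟩
    rw [hX.inf_eq_bot, Subgroup.mem_bot] at h2
    rw [← map_mul, h2, map_one]
  have htop : H ⊔ X ≤ H := sup_le le_rfl fun x hx => hmem _ (hXsq x hx)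
  rw [hX.sup_eq_top, top_le_iff] at htop
  obtain ⟨g, hg⟩ := hp (QuaternionGroup.a 1)
  have hg1 : p g ∈ Subgroup.zpowers (QuaternionGroup.a 2 : QuaternionGroup 2) :=
    (htop ▸ Subgroup.mem_top g : g ∈ H)
  rw [hg, Subgroup.mem_zpowers_iff] at hg1
  obtain ⟨k, hk⟩ := hg1
  have h2 : (QuaternionGroup.a 2 : QuaternionGroup 2) * QuaternionGroup.a 2 = 1 := by decide
  have hk' := congrArg (fun x => x * x) hk
  simp only [← (Commute.refl (QuaternionGroup.a 2 : QuaternionGroup 2)).mul_zpow, h2, one_zpow] at hk'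
  exact absurd hk' (by decide)

end Cfsg.Agent.S5908
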