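import Cfsg.Statements.S5909

set_option maxHeartbeats 1000000
-- import your own Cfsg.Agent.* helpers here

set_option autoImplicit false
open Cfsg

namespace Cfsg.Agent.S5909

section

open Equiv MulAction
open scoped Pointwise

variable {Ω : Type*} [Fintype Ω] [DecidableEq Ω] {b : ℕ} (f : Ω → Fin b)

/-- the permutations respecting the partition -/
def pres : Subgroup (Perm Ω) where
  carrier := {g | ∀ x y, f x = f y ↔ f (g x) = f (g y)}
  one_mem' := fun _ _ => Iff.rfl
  mul_mem' := fun {g h} hg hh x y => (hh x y).trans (hg (h x) (h y))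
  inv_mem' := fun {g} hg x y => by
    have := hg (g⁻¹ x) (g⁻¹ y)
    rw [← Perm.mul_apply, ← Perm.mul_apply, mul_inv_cancel] at this
    exact this.symm

variable {f}

theorem mem_of_perm {g : Perm Ω} (τ : Perm (Fin b)) (h : ∀ x, f (g x) = τ (f x)) : g ∈ pres f :=
  fun x y => by rw [h, h]; exact τ.injective.eq_iff.symm

theorem swap_f {y z : Ω} (h : f y = f z) (x : Ω) : f (swap y z x) = f x := by
  rw [swap_apply_def]
  split_ifs with h1 h2
  · rw [h1, h]
  · rw [h2, h]
  · rfl

theorem swap_pres {y z : Ω} (h : f y = f z) : swap y z ∈ pres f :=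
  mem_of_perm 1 fun x => by rw [swap_f h]; rfl

theorem dswap_mem {y z r s : Ω} (h1 : y ≠ z) (h2 : f y = f z) (h3 : r ≠ s) (h4 : f r = f s) :
    swap y z * swap r s ∈ pres f ⊓ alternatingGroup Ω :=
  ⟨mul_mem (swap_pres h2) (swap_pres h4), by
    show Perm.sign _ = 1
    rw [map_mul, Perm.sign_swap h1, Perm.sign_swap h3]
    rfl⟩

variable {a : ℕ} (hf : ∀ i : Fin b, Nat.card {x : Ω // f x = i} = a) (ha : 2 ≤ a)

include hf ha in
theorem exists_pt (i : Fin b) : ∃ x y : Ω, x ≠ y ∧ f x = i ∧ f y = i := by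
  have h := hf i
  obtain ⟨x, y, hxy⟩ := (Finite.one_lt_card_iff_nontrivial.1 (by omega : 1 < Nat.card {x : Ω // f x = i})).exists_pair_ne
  exact ⟨x.1, y.1, fun e => hxy (Subtype.ext e), x.2, y.2⟩

include hf ha in
theorem exists_partner (x : Ω) : ∃ y, y ≠ x ∧ f y = f x := by
  obtain ⟨u, v, huv, hu, hv⟩ := exists_pt hf ha (f x)
  by_cases h : u = x
  · exact ⟨v, fun e => huv (h.trans e.symm), hv⟩
  · exact ⟨u, h, hu⟩

include hf in
theorem fibre_two (h2 : a = 2) {x y z : Ω} (hxy : x ≠ y) (h : f x = f y) (hz : f z = f x) : z = x ∨ z = y := by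
  by_contra hc
  push Not at hc
  have hle : ({⟨x, rfl⟩, ⟨y, h.symm⟩, ⟨z, hz⟩} : Finset {w : Ω // f w = f x}).card ≤ 2 := by
    rw [← h2, ← hf (f x), Nat.card_eq_fintype_card]
    exact Finset.card_le_univ _
  rw [Finset.card_insert_of_notMem (by simp [Subtype.ext_iff, hxy, Ne.symm hc.1]),
    Finset.card_pair (fun e => hc.2 (congrArg Subtype.val e).symm)] at hle
  omega

include hf ha in
theorem exists_block_swap {i j : Fin b} (hij : i ≠ j) :
    ∃ h ∈ pres f ⊓ alternatingGroup Ω, (∀ z, f z = i → f (h z) = j) ∧ ∀ z, f z ≠ i → f z ≠ j → h z = z := by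
  obtain ⟨e⟩ : Nonempty ({x : Ω // f x = i} ≃ {x : Ω // f x = j}) := Finite.card_eq.1 (by rw [hf, hf])
  let F : Ω → Ω := fun z => if h : f z = i then (e ⟨z, h⟩).1 else if h' : f z = j then (e.symm ⟨z, h'⟩).1 else z
  have hFi : ∀ z (h : f z = i), F z = (e ⟨z, h⟩).1 := fun z h => dif_pos h
  have hFj : ∀ z (h : f z = j), F z = (e.symm ⟨z, h⟩).1 := fun z h => by
    show dite _ _ _ = _
    rw [dif_neg (fun h' => hij (h'.symm.trans h)), dif_pos h]
  have hFo : ∀ z, f z ≠ i → f z ≠ j → F z = z := fun z h h' => by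
    show dite _ _ _ = _
    rw [dif_neg h, dif_neg h']
  have hinv : Function.Involutive F := fun z => by
    by_cases h : f z = i
    · rw [hFi z h, hFj _ (e ⟨z, h⟩).2]; simp
    · by_cases h' : f z = j
      · rw [hFj z h', hFi _ (e.symm ⟨z, h'⟩).2]; simp
      · rw [hFo z h h', hFo z h h']
  obtain ⟨σ, hσdef⟩ : ∃ σ : Perm Ω, σ = hinv.toPerm F := ⟨_, rfl⟩
  have hσ : ∀ z, f (σ z) = Equiv.swap i j (f z) := fun z => by
    rw [hσdef]
    show f (F z) = _
    by_cases h : f z = i
    · rw [hFi z h, h, swap_apply_left]; exact (e ⟨z, h⟩).2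
    · by_cases h' : f z = j
      · rw [hFj z h', h', swap_apply_right]; exact (e.symm ⟨z, h'⟩).2
      · rw [hFo z h h', swap_apply_of_ne_of_ne h h']
  obtain ⟨u, v, huv, hu, hv⟩ := exists_pt hf ha i
  rcases Int.units_eq_one_or (Perm.sign σ) with hs | hs
  · refine ⟨σ, ⟨mem_of_perm _ hσ, hs⟩, fun z hz => by rw [hσ, hz, swap_apply_left], fun z h h' => ?_⟩
    rw [hσdef]; exact hFo z h h'
  · refine ⟨σ * swap u v, ⟨mul_mem (mem_of_perm _ hσ) (swap_pres (hu.trans hv.symm)), ?_⟩,
      fun z hz => ?_, fun z h h' => ?_⟩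
    · show Perm.sign _ = 1
      rw [map_mul, hs, Perm.sign_swap huv]; rfl
    · rw [Perm.mul_apply, hσ, swap_f (hu.trans hv.symm), hz, swap_apply_left]
    · have n1 : z ≠ u := fun e => h (by rw [e]; exact hu)
      have n2 : z ≠ v := fun e => h (by rw [e]; exact hv)
      rw [Perm.mul_apply, swap_apply_of_ne_of_ne n1 n2, hσdef]
      exact hFo z h h'

variable (hb : 2 ≤ b) (M : Subgroup (Perm Ω)) (hHM : pres f ⊓ alternatingGroup Ω ≤ M)

include hb in
theorem exists_other (i : Fin b) : ∃ j, j ≠ i := by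
  haveI : Nontrivial (Fin b) := Fin.nontrivial_iff_two_le.2 hb
  exact exists_ne i

include hf ha hb hHM in
theorem pretransitive : IsPretransitive M Ω := by
  have hsame : ∀ x y, f x = f y → ∃ g ∈ M, g x = y := fun x y h => by
    by_cases hxy : x = y
    · exact ⟨1, M.one_mem, hxy⟩
    obtain ⟨j, hj⟩ := exists_other hb (f x)
    obtain ⟨r, s, hrs, hr, hs⟩ := exists_pt hf ha j
    refine ⟨_, hHM (dswap_mem hxy h hrs (hr.trans hs.symm)), ?_⟩
    have n1 : x ≠ r := fun e => hj (by rw [← hr, ← e])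
    have n2 : x ≠ s := fun e => hj (by rw [← hs, ← e])
    rw [Perm.mul_apply, swap_apply_of_ne_of_ne n1 n2, swap_apply_left]
  refine ⟨fun x y => ?_⟩
  by_cases h : f x = f y
  · obtain ⟨g, hg, e⟩ := hsame x y h
    exact ⟨⟨g, hg⟩, e⟩
  · obtain ⟨k, hk, hk1, -⟩ := exists_block_swap hf ha h
    obtain ⟨g, hg, e⟩ := hsame (k x) y (hk1 x rfl)
    exact ⟨⟨g * k, mul_mem hg (hHM hk)⟩, e⟩

variable (hab : 3 ≤ a ∨ 3 ≤ b) (hnot : ¬ M ≤ pres f)

include hf ha hb hHM hab hnot in
theorem preprimitive : IsPreprimitive M Ω := by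
  haveI := pretransitive hf ha hb M hHM
  refine ⟨fun {B} hB => ?_⟩
  by_contra hnt
  rw [MulAction.IsTrivialBlock, not_or, Set.not_subsingleton_iff] at hnt
  obtain ⟨⟨x, hx, y, hy, hxy⟩, huniv⟩ := hnt
  have hstab : ∀ g ∈ pres f ⊓ alternatingGroup Ω, ∀ z ∈ B, g z ∈ B → ∀ w ∈ B, g w ∈ B := by
    intro g hg z hz hgz w hw
    have h : (⟨g, hHM hg⟩ : M) • B = B := hB.smul_eq_of_mem hz hgz
    rw [← h]
    exact ⟨w, hw, rfl⟩
  have move : ∀ u ∈ B, ∀ v ∈ B, f u ≠ f v → ∀ w, f w = f u → w ∈ B := by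
    intro u hu v hv huv w hw
    by_cases hwu : w = u
    · rwa [hwu]
    obtain ⟨r, s, hrs, hf1, hrv, hsv, hru, hsu⟩ : ∃ r s, r ≠ s ∧ f r = f s ∧ r ≠ v ∧ s ≠ v ∧ f r ≠ f u ∧ f s ≠ f u := by
      by_cases h3 : 3 ≤ b
      · obtain ⟨j, hj⟩ : ∃ j : Fin b, j ∉ ({f u, f v} : Finset (Fin b)) := by
          by_contra hc
          push Not at hc
          have := (Finset.card_le_card (fun j (_ : j ∈ Finset.univ) => hc j)).trans Finset.card_le_two
          rw [Finset.card_univ, Fintype.card_fin] at this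
          omega
        simp only [Finset.mem_insert, Finset.mem_singleton, not_or] at hj
        obtain ⟨r, s, hrs, hr, hs⟩ := exists_pt hf ha j
        exact ⟨r, s, hrs, hr.trans hs.symm, fun e => hj.2 (by rw [← hr, e]), fun e => hj.2 (by rw [← hs, e]),
          hr ▸ hj.1, hs ▸ hj.1⟩
      · have h3a : 3 ≤ a := hab.resolve_right h3
        have hcard : 2 ≤ ((Finset.univ.filter fun z => f z = f v).erase v).card := by
          rw [Finset.card_erase_of_mem (by simp), ← Fintype.card_subtype, ← Nat.card_eq_fintype_card, hf]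
          omega
        obtain ⟨r, hr, s, hs, hrs⟩ := Finset.one_lt_card.1 hcard
        simp only [Finset.mem_erase, Finset.mem_filter, Finset.mem_univ, true_and] at hr hs
        exact ⟨r, s, hrs, hr.2.trans hs.2.symm, hr.1, hs.1, fun e => huv (e.symm.trans hr.2),
          fun e => huv (e.symm.trans hs.2)⟩
    have hg := dswap_mem (Ne.symm hwu) hw.symm hrs hf1
    have hgv : (swap u w * swap r s) v = v := by
      have n1 : v ≠ u := fun e => huv (by rw [e])
      have n2 : v ≠ w := fun e => huv (by rw [← hw, e])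
      rw [Perm.mul_apply, swap_apply_of_ne_of_ne hrv.symm hsv.symm, swap_apply_of_ne_of_ne n1 n2]
    have h9 := hstab _ hg v hv (by rw [hgv]; exact hv) u hu
    have n3 : u ≠ r := fun e => hru (by rw [e])
    have n4 : u ≠ s := fun e => hsu (by rw [e])
    rwa [Perm.mul_apply, swap_apply_of_ne_of_ne n3 n4, swap_apply_left] at h9
  by_cases hmix : ∀ w ∈ B, f w = f x
  · refine hnot fun g hg => ?_
    have hBeq : ∀ z, z ∈ B ↔ f z = f x := by
      refine fun z => ⟨hmix z, fun hz => ?_⟩
      by_cases hzy : z = y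
      · rwa [hzy]
      by_cases hzx : z = x
      · rwa [hzx]
      obtain ⟨j, hj⟩ := exists_other hb (f x)
      obtain ⟨r, s, hrs, hr, hs⟩ := exists_pt hf ha j
      have hyx := hmix y hy
      have hg := dswap_mem (Ne.symm hzy) (hyx.trans hz.symm) hrs (hr.trans hs.symm)
      have hgx : (swap y z * swap r s) x = x := by
        have n1 : x ≠ r := fun e => hj (by rw [← hr, ← e])
        have n2 : x ≠ s := fun e => hj (by rw [← hs, ← e])
        rw [Perm.mul_apply, swap_apply_of_ne_of_ne n1 n2, swap_apply_of_ne_of_ne hxy (Ne.symm hzx)]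
      have h9 := hstab _ hg x hx (by rw [hgx]; exact hx) y hy
      have n3 : y ≠ r := fun e => hj (by rw [← hr, ← e, hyx])
      have n4 : y ≠ s := fun e => hj (by rw [← hs, ← e, hyx])
      rwa [Perm.mul_apply, swap_apply_of_ne_of_ne n3 n4, swap_apply_left] at h9
    have key : ∀ u v, f u = f v → f (g u) = f (g v) := by
      intro u v huv
      have hall : ∀ p : M, ∀ z z', z ∈ B → z' ∈ B → f ((p : Perm Ω) z) = f ((p : Perm Ω) z') := by
        intro p z z' hz hz'
        by_cases hp : f ((p : Perm Ω) z) = f x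
        · have h : p • B = B := hB.smul_eq_of_mem hz ((hBeq _).2 hp)
          have hm : (p : Perm Ω) z' ∈ B := by rw [← h]; exact ⟨z', hz', rfl⟩
          rw [hp, (hBeq _).1 hm]
        · obtain ⟨k, hk, hk1, -⟩ := exists_block_swap hf ha hp
          have hq : f (((⟨k, hHM hk⟩ : M) * p : M) • z) = f x := hk1 _ rfl
          have h : ((⟨k, hHM hk⟩ : M) * p) • B = B := hB.smul_eq_of_mem hz ((hBeq _).2 hq)
          have hm : k ((p : Perm Ω) z') ∈ B := by rw [← h]; exact ⟨z', hz', rfl⟩
          exact (hk.1 _ _).2 (((hk1 _ rfl)).trans ((hBeq _).1 hm).symm)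
      by_cases hu : f u = f x
      · exact hall ⟨g, hg⟩ u v ((hBeq u).2 hu) ((hBeq v).2 (huv ▸ hu))
      · obtain ⟨k, hk, hk1, -⟩ := exists_block_swap hf ha hu
        have h9 := hall ⟨g * k⁻¹, mul_mem hg (M.inv_mem (hHM hk))⟩ (k u) (k v)
          ((hBeq _).2 (hk1 u rfl)) ((hBeq _).2 (hk1 v huv.symm))
        simpa using h9
    intro u v
    refine ⟨key u v, fun h => ?_⟩
    by_contra hne
    let τ : Fin b → Fin b := fun i => f (g (exists_pt hf ha i).choose)
    have hτ : ∀ z, τ (f z) = f (g z) := fun z => by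
      obtain ⟨w, -, hw, -⟩ := (exists_pt hf ha (f z)).choose_spec
      exact key _ _ hw
    have hsur : Function.Surjective τ := fun i => by
      obtain ⟨p, -, -, hp, -⟩ := exists_pt hf ha i
      exact ⟨f (g⁻¹ p), by rw [hτ, ← Perm.mul_apply, mul_inv_cancel]; exact hp⟩
    exact hne (Finite.injective_iff_surjective.2 hsur (by rw [hτ, hτ, h]))
  · push Not at hmix
    obtain ⟨v, hv, hvx⟩ := hmix
    have hX : ∀ w, f w = f x → w ∈ B := move x hx v hv (Ne.symm hvx)
    refine huniv (Set.eq_univ_of_forall fun z => ?_)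
    by_cases hzx : f z = f x
    · exact hX z hzx
    by_cases hzv : f z = f v
    · exact move v hv x hx hvx z hzv
    obtain ⟨k, hk, hk1, hk2⟩ := exists_block_swap hf ha (show f v ≠ f z from Ne.symm hzv)
    have hkx : k x = x := hk2 x (Ne.symm hvx) (Ne.symm hzx)
    have hkv : k v ∈ B := hstab k hk x hx (by rw [hkx]; exact hx) v hv
    exact move (k v) hkv x hx (by rw [hk1 v rfl]; exact hzx) z (hk1 v rfl).symm

include hf ha hb hHM hab hnot in
theorem alt_le (h8 : ¬ (a = 2 ∧ b = 4)) : alternatingGroup Ω ≤ M := by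
  have hprim := preprimitive hf ha hb M hHM hab hnot
  obtain ⟨i⟩ : Nonempty (Fin b) := ⟨⟨0, by omega⟩⟩
  suffices h : ∃ c ∈ M, Perm.IsThreeCycle c by
    obtain ⟨c, hc, hc3⟩ := h
    exact Perm.alternatingGroup_le_of_isPreprimitive_of_isThreeCycle_mem hprim hc3 hc
  by_cases h3 : 3 ≤ a
  · have hcard : 2 < (Finset.univ.filter fun z => f z = i).card := by
      rw [← Fintype.card_subtype, ← Nat.card_eq_fintype_card, hf]
      omega
    obtain ⟨p, q, r, hp, hq, hr, hpq, hpr, hqr⟩ := Finset.two_lt_card_iff.1 hcard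
    simp only [Finset.mem_filter, Finset.mem_univ, true_and] at hp hq hr
    exact ⟨_, hHM (dswap_mem hpq (hp.trans hq.symm) hpr (hp.trans hr.symm)),
      Perm.isThreeCycle_swap_mul_swap_same hpq hpr hqr⟩
  · have h2 : a = 2 := by omega
    have h3b : 3 ≤ b := hab.resolve_left h3
    obtain ⟨x, x', hxx, hx, hx'⟩ := exists_pt hf ha i
    have hfx : f x = f x' := hx.trans hx'.symm
    obtain ⟨j, hj⟩ := exists_other hb i
    obtain ⟨r, s, hrs, hr, hs⟩ := exists_pt hf ha j
    obtain ⟨t, htdef⟩ : ∃ t, t = swap x x' * swap r s := ⟨_, rfl⟩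
    have ht : t ∈ M := htdef ▸ hHM (dswap_mem hxx hfx hrs (hr.trans hs.symm))
    have hne : ∀ {z z' : Ω}, f z ≠ f z' → z ≠ z' := fun h e => h (e ▸ rfl)
    have nxr : x ≠ r := hne (by rw [hx, hr]; exact hj.symm)
    have nxs : x ≠ s := hne (by rw [hx, hs]; exact hj.symm)
    have nxr' : x' ≠ r := hne (by rw [hx', hr]; exact hj.symm)
    have nxs' : x' ≠ s := hne (by rw [hx', hs]; exact hj.symm)
    have htx : t x = x' := by
      rw [htdef, Perm.mul_apply, swap_apply_of_ne_of_ne nxr nxs, swap_apply_left]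
    have htx' : t x' = x := by
      rw [htdef, Perm.mul_apply, swap_apply_of_ne_of_ne nxr' nxs', swap_apply_right]
    obtain ⟨m, hm, hmx, hmx'⟩ : ∃ m ∈ M, m x = x ∧ m x' ≠ x' := by
      by_contra hc
      push Not at hc
      have hblk : IsBlock M ({x, x'} : Set Ω) := by
        rw [MulAction.isBlock_iff_smul_eq_of_nonempty]
        intro p hne'
        obtain ⟨z, ⟨w, hw, hwz⟩, hz⟩ := hne'
        have e1 : ∀ p ∈ M, p x = x → p x' = x' := hc
        have pM := p.2
        have hboth : ((p : Perm Ω) x = x ∧ (p : Perm Ω) x' = x') ∨ ((p : Perm Ω) x = x' ∧ (p : Perm Ω) x' = x) := by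
          have hwz' : (p : Perm Ω) w = z := hwz
          rcases hw with rfl | rfl <;> rcases hz with rfl | rfl
          · exact Or.inl ⟨hwz', e1 _ pM hwz'⟩
          · refine Or.inr ⟨hwz', ?_⟩
            have := e1 _ (mul_mem ht pM) (by rw [Perm.mul_apply, hwz', htx'])
            rw [Perm.mul_apply] at this
            exact t.injective (this.trans htx.symm)
          · have := e1 _ (mul_mem pM ht) (by rw [Perm.mul_apply, htx, hwz'])
            rw [Perm.mul_apply, htx'] at this
            exact Or.inr ⟨this, hwz'⟩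
          · have := e1 _ (mul_mem (mul_mem ht pM) ht) (by rw [Perm.mul_apply, Perm.mul_apply, htx, hwz', htx'])
            rw [Perm.mul_apply, Perm.mul_apply, htx'] at this
            exact Or.inl ⟨t.injective (this.trans htx.symm), hwz'⟩
        show (fun z => p • z) '' ({x, x'} : Set Ω) = {x, x'}
        rw [Set.image_pair]
        rcases hboth with ⟨a1, a2⟩ | ⟨a1, a2⟩
        · show ({(p : Perm Ω) x, (p : Perm Ω) x'} : Set Ω) = _
          rw [a1, a2]
        · show ({(p : Perm Ω) x, (p : Perm Ω) x'} : Set Ω) = _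
          rw [a1, a2, Set.pair_comm]
      rcases hprim.isTrivialBlock_of_isBlock hblk with h | h
      · exact hxx (h (Or.inl rfl) (Or.inr rfl))
      · have : r ∈ ({x, x'} : Set Ω) := h ▸ Set.mem_univ r
        rcases this with rfl | rfl
        · exact hj (hr.symm.trans hx)
        · exact hj (hr.symm.trans hx')
    obtain ⟨w, hwdef⟩ : ∃ w, w = m x' := ⟨_, rfl⟩
    rw [← hwdef] at hmx'
    have hwx : w ≠ x := by
      rw [hwdef]; intro e; exact hxx (m.injective (hmx.trans e.symm))
    have hfw : f w ≠ f x := fun e => (fibre_two hf h2 hxx hfx e).elim hwx hmx'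
    obtain ⟨w', hw'w, hw'f⟩ := exists_partner hf ha w
    obtain ⟨v, v', hvv, hfv, hvx, hpair⟩ : ∃ v v', v ≠ v' ∧ f v = f v' ∧ f v ≠ f x ∧
        ¬ ((m v = x' ∧ m v' = w') ∨ (m v = w' ∧ m v' = x')) := by
      obtain ⟨k, hk⟩ : ∃ k : Fin b, k ∉ ({i, j} : Finset (Fin b)) := by
        by_contra hc
        push Not at hc
        have := (Finset.card_le_card (fun k (_ : k ∈ Finset.univ) => hc k)).trans Finset.card_le_two
        rw [Finset.card_univ, Fintype.card_fin] at this
        omega
      simp only [Finset.mem_insert, Finset.mem_singleton, not_or] at hk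
      obtain ⟨c, d, hcd, hc, hd⟩ := exists_pt hf ha k
      by_cases hbad : (m r = x' ∧ m s = w') ∨ (m r = w' ∧ m s = x')
      · refine ⟨c, d, hcd, hc.trans hd.symm, by rw [hc, hx]; exact hk.1, fun h => ?_⟩
        have hcr : c ≠ r := hne (by rw [hc, hr]; exact hk.2)
        have hcs : c ≠ s := hne (by rw [hc, hs]; exact hk.2)
        rcases hbad with ⟨b1, b2⟩ | ⟨b1, b2⟩ <;> rcases h with ⟨a1, -⟩ | ⟨a1, -⟩
        · exact hcr (m.injective (a1.trans b1.symm))
        · exact hcs (m.injective (a1.trans b2.symm))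
        · exact hcs (m.injective (a1.trans b2.symm))
        · exact hcr (m.injective (a1.trans b1.symm))
      · exact ⟨r, s, hrs, hr.trans hs.symm, by rw [hr, hx]; exact hj, hbad⟩
    obtain ⟨p, hp⟩ : ∃ p, p = m v := ⟨_, rfl⟩
    obtain ⟨q, hq⟩ : ∃ q, q = m v' := ⟨_, rfl⟩
    have hpq : p ≠ q := fun e => hvv (m.injective (by rw [← hp, ← hq, e]))
    have hv'x : f v' ≠ f x := hfv ▸ hvx
    have hpx : p ≠ x := fun e => hvx (congrArg f (m.injective ((hp.symm.trans e).trans hmx.symm)))
    have hqx : q ≠ x := fun e => hv'x (congrArg f (m.injective ((hq.symm.trans e).trans hmx.symm)))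
    have hpw : p ≠ w := fun e => hvx (by
      rw [hfx]; exact congrArg f (m.injective ((hp.symm.trans e).trans hwdef)))
    have hqw : q ≠ w := fun e => hv'x (by
      rw [hfx]; exact congrArg f (m.injective ((hq.symm.trans e).trans hwdef)))
    rw [← hp, ← hq] at hpair
    have ht1 : swap x w * swap p q ∈ M := by
      have h9 := mul_mem (mul_mem hm (hHM (dswap_mem hxx hfx hvv hfv))) (M.inv_mem hm)
      rw [show m * (swap x x' * swap v v') * m⁻¹ = (m * swap x x' * m⁻¹) * (m * swap v v' * m⁻¹) by group,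
        ← Equiv.swap_apply_apply, ← Equiv.swap_apply_apply, hmx, ← hwdef, ← hp, ← hq] at h9
      exact h9
    have hw'x : w' ≠ x := hne (hw'f ▸ hfw)
    have hw'x' : w' ≠ x' := hne (by rw [hw'f, ← hfx]; exact hfw)
    have hE2 : swap x w * swap x' w' ∈ pres f ⊓ alternatingGroup Ω := by
      refine ⟨mem_of_perm (Equiv.swap (f x) (f w)) fun z => ?_, ?_⟩
      · rw [Perm.mul_apply]
        rcases eq_or_ne z x' with rfl | h1
        · rw [swap_apply_left, swap_apply_of_ne_of_ne hw'x hw'w, hw'f, ← hfx, swap_apply_left]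
        rcases eq_or_ne z w' with rfl | h2'
        · rw [swap_apply_right, swap_apply_of_ne_of_ne hxx.symm (Ne.symm hmx'), hw'f, swap_apply_right, ← hfx]
        rw [swap_apply_of_ne_of_ne h1 h2']
        rcases eq_or_ne z x with rfl | h3'
        · rw [swap_apply_left, swap_apply_left]
        rcases eq_or_ne z w with rfl | h4
        · rw [swap_apply_right, swap_apply_right]
        rw [swap_apply_of_ne_of_ne h3' h4, swap_apply_of_ne_of_ne]
        · intro e; exact (fibre_two hf h2 hxx hfx e).elim h3' h1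
        · intro e; exact (fibre_two hf h2 hw'w.symm hw'f.symm e).elim h4 h2'
      · show Perm.sign _ = 1
        rw [map_mul, Perm.sign_swap hwx.symm, Perm.sign_swap hw'x'.symm]
        rfl
    have hcomm : Commute (swap x w) (swap x' w') := by
      refine Perm.Disjoint.commute fun z => ?_
      by_cases h1 : z = x
      · right; rw [h1, swap_apply_of_ne_of_ne hxx hw'x.symm]
      by_cases h4 : z = w
      · right; rw [h4, swap_apply_of_ne_of_ne hmx' hw'w.symm]
      left; rw [swap_apply_of_ne_of_ne h1 h4]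
    have hprod : swap x' w' * swap p q ∈ M := by
      have h9 := mul_mem (hHM hE2) ht1
      rw [hcomm.eq] at h9
      rwa [mul_assoc, ← mul_assoc (swap x w), swap_mul_self, one_mul] at h9
    by_cases hpx' : p = x'
    · subst hpx'
      exact ⟨_, hprod, Perm.isThreeCycle_swap_mul_swap_same hw'x'.symm hpq (fun e => hpair (Or.inl ⟨rfl, e.symm⟩))⟩
    by_cases hqx' : q = x'
    · subst hqx'
      rw [swap_comm p] at hprod
      exact ⟨_, hprod, Perm.isThreeCycle_swap_mul_swap_same hw'x'.symm hpq.symm (fun e => hpair (Or.inr ⟨e.symm, rfl⟩))⟩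
    by_cases hpw' : p = w'
    · subst hpw'
      rw [swap_comm x'] at hprod
      exact ⟨_, hprod, Perm.isThreeCycle_swap_mul_swap_same hw'x' hpq (Ne.symm hqx')⟩
    by_cases hqw' : q = w'
    · subst hqw'
      rw [swap_comm x', swap_comm p] at hprod
      exact ⟨_, hprod, Perm.isThreeCycle_swap_mul_swap_same hw'x' hpq.symm (Ne.symm hpx')⟩
    -- p, q lie outside the two blocks
    have hfp : f p ≠ f x := fun e => (fibre_two hf h2 hxx hfx e).elim hpx hpx'
    have hfq : f q ≠ f x := fun e => (fibre_two hf h2 hxx hfx e).elim hqx hqx'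
    have hfpw : f p ≠ f w := fun e => (fibre_two hf h2 hw'w.symm hw'f.symm e).elim hpw hpw'
    have hfqw : f q ≠ f w := fun e => (fibre_two hf h2 hw'w.symm hw'f.symm e).elim hqw hqw'
    obtain ⟨R, R', hRR, hfR, hRx, hRw, hRpq⟩ : ∃ R R', R ≠ R' ∧ f R = f R' ∧ f R ≠ f x ∧ f R ≠ f w ∧
        Commute (swap R R') (swap p q) := by
      by_cases hblock : f p = f q
      · exact ⟨p, q, hpq, hblock, hfp, hfpw, Commute.refl _⟩
      · obtain ⟨k, hk⟩ : ∃ k : Fin b, k ∉ ({f x, f w, f p, f q} : Finset (Fin b)) := by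
          by_contra hc
          push Not at hc
          have h4 := Finset.card_le_card (fun k (_ : k ∈ Finset.univ) => hc k)
          rw [Finset.card_univ, Fintype.card_fin] at h4
          have h5 : ({f x, f w, f p, f q} : Finset (Fin b)).card = 4 := by
            rw [Finset.card_insert_of_notMem (by simp [hfw.symm, hfp.symm, hfq.symm]),
              Finset.card_insert_of_notMem (by simp [hfpw.symm, hfqw.symm]), Finset.card_pair hblock]
          have h6 := Finset.card_le_univ ({f x, f w, f p, f q} : Finset (Fin b))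
          rw [Fintype.card_fin, h5] at h6
          rw [h5] at h4
          exact h8 ⟨h2, by omega⟩
        simp only [Finset.mem_insert, Finset.mem_singleton, not_or] at hk
        obtain ⟨c, d, hcd, hc, hd⟩ := exists_pt hf ha k
        refine ⟨c, d, hcd, hc.trans hd.symm, hc ▸ hk.1, hc ▸ hk.2.1, Perm.Disjoint.commute fun z => ?_⟩
        by_cases h1 : z = c
        · right; rw [h1, swap_apply_of_ne_of_ne (hne (hc ▸ hk.2.2.1)) (hne (hc ▸ hk.2.2.2))]
        by_cases h4 : z = d
        · right; rw [h4, swap_apply_of_ne_of_ne (hne (hd ▸ hk.2.2.1)) (hne (hd ▸ hk.2.2.2))]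
        left; rw [swap_apply_of_ne_of_ne h1 h4]
    have hA : swap x x' * swap R R' ∈ M := hHM (dswap_mem hxx hfx hRR hfR)
    have hB : swap p q * swap x w = swap x w * swap p q := by
      refine (Perm.Disjoint.commute fun z => ?_).eq
      by_cases h1 : z = p
      · right; rw [h1, swap_apply_of_ne_of_ne hpx hpw]
      by_cases h4 : z = q
      · right; rw [h4, swap_apply_of_ne_of_ne hqx hqw]
      left; rw [swap_apply_of_ne_of_ne h1 h4]
    obtain ⟨A, hAdef⟩ : ∃ A, A = swap x x' * swap x w := ⟨_, rfl⟩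
    obtain ⟨C, hCdef⟩ : ∃ C, C = swap R R' * swap p q := ⟨_, rfl⟩
    have hRxw : Commute (swap R R') (swap x w) := by
      refine Perm.Disjoint.commute fun z => ?_
      by_cases h1 : z = R
      · right; rw [h1, swap_apply_of_ne_of_ne (hne hRx) (hne hRw)]
      by_cases h4 : z = R'
      · right; rw [h4, swap_apply_of_ne_of_ne (hne (hfR ▸ hRx)) (hne (hfR ▸ hRw))]
      left; rw [swap_apply_of_ne_of_ne h1 h4]
    have hRxx : Commute (swap R R') (swap x x') := by
      refine Perm.Disjoint.commute fun z => ?_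
      by_cases h1 : z = R
      · right; rw [h1, swap_apply_of_ne_of_ne (hne hRx) (hne (hfx ▸ hRx))]
      by_cases h4 : z = R'
      · right; rw [h4, swap_apply_of_ne_of_ne (hne (hfR ▸ hRx)) (hne (hfR ▸ hfx ▸ hRx))]
      left; rw [swap_apply_of_ne_of_ne h1 h4]
    have hpqxx : Commute (swap p q) (swap x x') := by
      refine Perm.Disjoint.commute fun z => ?_
      by_cases h1 : z = p
      · right; rw [h1, swap_apply_of_ne_of_ne hpx hpx']
      by_cases h4 : z = q
      · right; rw [h4, swap_apply_of_ne_of_ne hqx hqx']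
      left; rw [swap_apply_of_ne_of_ne h1 h4]
    have hAC : Commute C A := by
      rw [hAdef, hCdef]
      exact (hRxx.mul_right hRxw).mul_left (Commute.mul_right hpqxx hB)
    have hC2 : C * C = 1 := by
      rw [hCdef, mul_assoc, ← mul_assoc (swap p q), ← hRpq.eq, mul_assoc (swap R R'), swap_mul_self, mul_one,
        swap_mul_self]
    have hACM : A * C ∈ M := by
      have h9 := mul_mem hA ht1
      rw [show swap x x' * swap R R' * (swap x w * swap p q) = A * C by
        rw [hAdef, hCdef, mul_assoc, ← mul_assoc (swap R R'), hRxw.eq, mul_assoc (swap x w), ← mul_assoc]] at h9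
      exact h9
    have hsqM : A * A ∈ M := by
      have h9 := mul_mem hACM hACM
      rwa [mul_assoc, ← mul_assoc C, hAC.eq, mul_assoc A C, hC2, mul_one] at h9
    exact ⟨_, hsqM, (hAdef ▸ Perm.isThreeCycle_swap_mul_swap_same hxx hwx.symm hmx'.symm : Perm.IsThreeCycle A).isThreeCycle_sq⟩

end

/-- Let Ω be a finite set whose size is not 8, and f : Ω → Fin b a labelling with b ≥ 2 whose fibres all have the same size a ≥ 2 (a partition into b blocks of size a). Then the even permutations preserving the partition — the intersection of the imprimitive wreath product S_a ≀ S_b with the alternating group — form a maximal subgroup of the alternating group on Ω. -/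
theorem result {Ω : Type*} [Fintype Ω] [DecidableEq Ω] (h8 : Fintype.card Ω ≠ 8) (a b : ℕ) (ha : 2 ≤ a) (hb : 2 ≤ b)
    (f : Ω → Fin b) (hf : ∀ i : Fin b, Nat.card {x : Ω // f x = i} = a) :
    IsCoatom ((Subgroup.closure {g : Equiv.Perm Ω | ∀ x y : Ω, f x = f y ↔ f (g x) = f (g y)} ⊓ alternatingGroup Ω).subgroupOf (alternatingGroup Ω)) := by
  rw [show Subgroup.closure {g : Equiv.Perm Ω | ∀ x y : Ω, f x = f y ↔ f (g x) = f (g y)} = pres f from
    Subgroup.closure_eq (pres f)]
  have hn : Fintype.card Ω = a * b := by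
    rw [← Nat.card_eq_fintype_card, ← Nat.card_congr (Equiv.sigmaFiberEquiv f), Nat.card_sigma,
      Finset.sum_congr rfl (fun i _ => hf i)]
    simp [mul_comm]
  obtain ⟨H, hH⟩ : ∃ H, H = (pres f ⊓ alternatingGroup Ω).subgroupOf (alternatingGroup Ω) := ⟨_, rfl⟩
  rw [← hH]
  have hmem : ∀ g : alternatingGroup Ω, g ∈ H ↔ (g : Equiv.Perm Ω) ∈ pres f := fun g => by
    rw [hH, Subgroup.mem_subgroupOf]; exact ⟨And.left, fun h => ⟨h, g.2⟩⟩
  obtain ⟨i, hij⟩ := exists_other hb (⟨0, by omega⟩ : Fin b)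
  obtain ⟨x, x', hxx, hx, hx'⟩ := exists_pt hf ha (⟨0, by omega⟩ : Fin b)
  obtain ⟨w, w', hww, hw, hw'⟩ := exists_pt hf ha i
  have hxw : x ≠ w := fun e => hij (by rw [← hw, ← e, hx])
  have hx'w : x' ≠ w := fun e => hij (by rw [← hw, ← e, hx'])
  refine ⟨fun htop => ?_, fun M hlt => ?_⟩
  · -- a 3-cycle moving a block apart
    have hc : Equiv.swap x x' * Equiv.swap x w ∈ alternatingGroup Ω := by
      rw [Equiv.Perm.mem_alternatingGroup, map_mul, Equiv.Perm.sign_swap hxx, Equiv.Perm.sign_swap hxw]; rfl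
    have h1 := ((hmem ⟨_, hc⟩).1 (by rw [htop]; trivial)) x x'
    simp only [Equiv.Perm.mul_apply, Equiv.swap_apply_left] at h1
    rw [Equiv.swap_apply_of_ne_of_ne hxw.symm hx'w.symm, Equiv.swap_apply_of_ne_of_ne hxx.symm hx'w,
      Equiv.swap_apply_right, hx, hw] at h1
    exact hij (h1.1 (hx'.symm ▸ rfl))
  · obtain ⟨M', hM'⟩ : ∃ M', M' = M.map (alternatingGroup Ω).subtype := ⟨_, rfl⟩
    have hHM : pres f ⊓ alternatingGroup Ω ≤ M' := fun g hg => by
      rw [hM']
      exact ⟨⟨g, hg.2⟩, hlt.le ((hmem _).2 hg.1), rfl⟩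
    have hnot : ¬ M' ≤ pres f := fun hle => hlt.not_ge fun g hg =>
      (hmem g).2 (hle (hM' ▸ ⟨g, hg, rfl⟩))
    by_cases hab : 3 ≤ a ∨ 3 ≤ b
    · have hA := alt_le hf ha hb M' hHM hab hnot (fun ⟨h1, h2⟩ => h8 (by rw [hn, h1, h2]))
      refine eq_top_iff.2 fun g _ => ?_
      obtain ⟨z, hz, hzg⟩ := hM' ▸ hA g.2
      rwa [← Subtype.ext hzg]
    · have h4 : Fintype.card Ω = 4 := by
        rw [hn, show a = 2 by omega, show b = 2 by omega]
      haveI : Nontrivial Ω := ⟨⟨x, x', hxx⟩⟩
      have h12 : Nat.card (alternatingGroup Ω) = 12 := by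
        rw [Nat.card_eq_fintype_card]
        have h9 := two_mul_card_alternatingGroup (α := Ω)
        rw [Fintype.card_perm, h4] at h9
        have e24 : Nat.factorial 4 = 24 := rfl
        omega
      have hfib : ∀ z, f z = f x ∨ f z = f w := fun z => by
        have h9 : ∀ u v y : Fin b, u ≠ v → y = u ∨ y = v := fun u v y huv => by
          have := u.2; have := v.2; have := y.2
          have h8' : u.val ≠ v.val := fun e => huv (Fin.ext e)
          rcases (show y.val = u.val ∨ y.val = v.val by omega) with e | e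
          · exact Or.inl (Fin.ext e)
          · exact Or.inr (Fin.ext e)
        exact h9 _ _ _ (fun e => hij (by rw [← hw, ← e, hx]))
      have hE : ∀ p q r s : Ω, p ≠ q → r ≠ s → Equiv.swap p q * Equiv.swap r s ∈ alternatingGroup Ω :=
        fun p q r s h1 h2 => by
          rw [Equiv.Perm.mem_alternatingGroup, map_mul, Equiv.Perm.sign_swap h1, Equiv.Perm.sign_swap h2]; rfl
      let e1 : alternatingGroup Ω := ⟨_, hE x x' w w' hxx hww⟩
      have he1 : e1 ∈ H := (hmem _).2 (mul_mem (swap_pres (hx.trans hx'.symm)) (swap_pres (hw.trans hw'.symm)))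
      obtain ⟨k, hk, hk1, -⟩ := exists_block_swap hf ha (show f x ≠ f w from fun e => hij (by rw [← hw, ← e, hx]))
      let e2 : alternatingGroup Ω := ⟨k, hk.2⟩
      have he2 : e2 ∈ H := (hmem _).2 hk.1
      have e1x : (e1 : Equiv.Perm Ω) x = x' := by
        show (Equiv.swap x x' * Equiv.swap w w') x = x'
        rw [Equiv.Perm.mul_apply, Equiv.swap_apply_of_ne_of_ne hxw (fun e => hij (by rw [← hw', ← e, hx])),
          Equiv.swap_apply_left]
      have e1f : ∀ z, f ((e1 : Equiv.Perm Ω) z) = f z := fun z => by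
        show f ((Equiv.swap x x' * Equiv.swap w w') z) = f z
        rw [Equiv.Perm.mul_apply, swap_f (hx.trans hx'.symm), swap_f (hw.trans hw'.symm)]
      have hHcard : 4 ≤ Nat.card H := by
        classical
        have hinj : Function.Injective (fun h : Fin 4 => (![(1 : H), ⟨e1, he1⟩, ⟨e2, he2⟩, ⟨e2 * e1, mul_mem he2 he1⟩] h)) := by
          have hkey : Function.Injective (fun h : Fin 4 => (((![(1 : H), ⟨e1, he1⟩, ⟨e2, he2⟩, ⟨e2 * e1, mul_mem he2 he1⟩] h : H) : alternatingGroup Ω) : Equiv.Perm Ω) x) := by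
            have hkx : f (k x) = f w := hk1 x rfl
            have hkx' : f (k x') = f w := hk1 x' (hx'.trans hx.symm)
            have hne : f x ≠ f w := fun e => hij (by rw [← hw, ← e, hx])
            have n1 : k x ≠ x := fun e => hne (by rw [← hkx, e])
            have n2 : k x ≠ x' := fun e => hne (by rw [← hkx, e, hx, hx'])
            have n3 : k x' ≠ x := fun e => hne (by rw [← hkx', e])
            have n4 : k x' ≠ x' := fun e => hne (by rw [← hkx', e, hx, hx'])
            have n5 : k x ≠ k x' := fun e => hxx (k.injective e)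
            intro p q
            fin_cases p <;> fin_cases q <;>
              simp [e2, e1x, hxx, hxx.symm, n1, n2, n3, n4, n5, n1.symm, n2.symm, n3.symm, n4.symm, n5.symm]
          exact fun p q h => hkey (congrArg (fun z : H => ((z : alternatingGroup Ω) : Equiv.Perm Ω) x) h)
        simpa using Nat.card_le_card_of_injective _ hinj
      have hd1 := Subgroup.card_dvd_of_le hlt.le
      have hd2 := Subgroup.card_subgroup_dvd_card M
      rw [h12] at hd2
      have hcH : Nat.card H < Nat.card M := Set.Finite.card_lt_card (Set.toFinite _) hlt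
      obtain ⟨c, hc⟩ := hd1
      have hc2 : 2 ≤ c := by
        by_contra hc2
        interval_cases c <;> omega
      refine Subgroup.eq_top_of_card_eq M ?_
      rw [h12]
      have hle := Nat.le_of_dvd (by norm_num) hd2
      have h8le : 8 ≤ Nat.card M := by rw [hc]; calc 8 = 4 * 2 := rfl
          _ ≤ _ := Nat.mul_le_mul hHcard hc2
      interval_cases hM : Nat.card M <;> first | rfl | (exact absurd hd2 (by decide))

end Cfsg.Agent.S5909
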