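import Cfsg.Statements.S5910
-- import your own Cfsg.Agent.* helpers here

set_option autoImplicit false
open Cfsg

namespace Cfsg.Agent.S5910

open Equiv

abbrev V : Type := ZMod 2 × ZMod 2

/-- translation of each class by `c` -/
def flipPerm (c : V → ZMod 2) : Perm (V × ZMod 2) where
  toFun x := (x.1, x.2 + c x.1)
  invFun x := (x.1, x.2 + c x.1)
  left_inv x := by
    show (x.1, x.2 + c x.1 + c x.1) = x
    rw [add_assoc, CharTwo.add_self_eq_zero, add_zero]
  right_inv x := by
    show (x.1, x.2 + c x.1 + c x.1) = x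
    rw [add_assoc, CharTwo.add_self_eq_zero, add_zero]

/-- a permutation of the classes, lifted -/
def liftPerm (τ : Perm V) : Perm (V × ZMod 2) := Equiv.prodCongr τ (Equiv.refl _)

/-- affine -/
def Aff (g : Perm (V × ZMod 2)) : Prop := ∀ x y z, g (x + y + z) = g x + g y + g z

theorem perm_affine : ∀ τ : Perm V, ∀ a b c : V, τ (a + b + c) = τ a + τ b + τ c := by decide +kernel

theorem sign_lift : ∀ τ : Perm V, Perm.sign (liftPerm τ) = 1 := by decide +kernel

theorem flip_affine : ∀ c : V → ZMod 2, Perm.sign (flipPerm c) = 1 →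
    ∀ a b d : V, c (a + b + d) = c a + c b + c d := by decide +kernel

theorem aff_of_even (g : Perm (V × ZMod 2)) (hg : Perm.sign g = 1)
    (h : ∀ x y : V × ZMod 2, x.1 = y.1 ↔ (g x).1 = (g y).1) : Aff g := by
  have hτi : Function.Injective (fun v => (g (v, 0)).1) := fun v w e => (h (v, 0) (w, 0)).2 e
  obtain ⟨τ, hτ⟩ : ∃ τ : Perm V, ∀ v, τ v = (g (v, 0)).1 :=
    ⟨Equiv.ofBijective _ (Finite.injective_iff_bijective.1 hτi), fun v => rfl⟩
  obtain ⟨c, hc⟩ : ∃ c : V → ZMod 2, ∀ v, c v = (g (v, 0)).2 := ⟨_, fun v => rfl⟩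
  have heq : g = liftPerm τ * flipPerm c := by
    refine Equiv.ext fun x => ?_
    obtain ⟨v, w⟩ := x
    have e1 : (g (v, w)).1 = τ v := by rw [hτ]; exact (h (v, w) (v, 0)).1 rfl
    show g (v, w) = (τ v, w + c v)
    refine Prod.ext e1 ?_
    by_cases hw : w = 0
    · subst hw; rw [zero_add, hc]
    · have hw1 : w = 1 := (show ∀ w : ZMod 2, w ≠ 0 → w = 1 by decide) w hw
      subst hw1
      have hne : (g (v, 1)).2 ≠ (g (v, 0)).2 := fun e => hw (congrArg Prod.snd
        (g.injective (Prod.ext ((h (v, 1) (v, 0)).1 rfl) e)))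
      show (g (v, 1)).2 = 1 + c v
      rw [hc]
      exact (show ∀ a b : ZMod 2, a ≠ b → a = 1 + b by decide) _ _ hne
  rw [heq, map_mul, sign_lift, one_mul] at hg
  intro x y z
  rw [heq]
  show (τ (x.1 + y.1 + z.1), x.2 + y.2 + z.2 + c (x.1 + y.1 + z.1)) =
    (τ x.1 + τ y.1 + τ z.1, x.2 + c x.1 + (y.2 + c y.1) + (z.2 + c z.1))
  rw [perm_affine, flip_affine c hg]
  refine Prod.ext rfl ?_
  show _ = _
  ring

/-- coordinate swap -/
def witness : Perm (V × ZMod 2) where
  toFun x := ((x.1.1, x.2), x.1.2)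
  invFun x := ((x.1.1, x.2), x.1.2)
  left_inv _ := rfl
  right_inv _ := rfl

theorem witness_props : Perm.sign witness = 1 ∧ Aff witness ∧
    (witness ((0, 0), 0)).1 ≠ (witness ((0, 0), 1)).1 := by
  unfold Aff
  decide +kernel

theorem not_aff : ∃ g : Perm (V × ZMod 2), Perm.sign g = 1 ∧ ¬ Aff g :=
  ⟨Equiv.swap ((0, 0), 0) ((0, 0), 1) * Equiv.swap ((0, 0), 0) ((0, 1), 0), by decide +kernel, fun h => by
    have := h ((0, 0), 0) ((1, 0), 0) ((1, 0), 1)
    revert this
    decide +kernel⟩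

/-- Let Ω be a set with 8 elements and f : Ω → Fin 4 a labelling whose four fibres all have size 2 (a partition of the 8 points into 4 pairs). Then the group of even permutations preserving this partition, (S₂ ≀ S₄) ∩ A₈, is not a maximal subgroup of the alternating group A₈ (it lies in a subgroup isomorphic to the affine group AGL₃(2)). -/
theorem result {Ω : Type*} [Fintype Ω] [DecidableEq Ω] (h8 : Fintype.card Ω = 8)
    (f : Ω → Fin 4) (hf : ∀ i : Fin 4, Nat.card {x : Ω // f x = i} = 2) :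
    ¬ IsCoatom ((Subgroup.closure {g : Equiv.Perm Ω | ∀ x y : Ω, f x = f y ↔ f (g x) = f (g y)} ⊓ alternatingGroup Ω).subgroupOf (alternatingGroup Ω)) := by
  classical
  obtain ⟨e0⟩ : Nonempty (Fin 4 ≃ V) := Finite.card_eq.1 (by simp [Nat.card_prod])
  have he : ∀ i : Fin 4, Nonempty ({x : Ω // f x = i} ≃ ZMod 2) := fun i => Finite.card_eq.1 (by rw [hf i]; simp)
  let E : Ω ≃ V × ZMod 2 := ((Equiv.sigmaFiberEquiv f).symm.trans
    ((Equiv.sigmaCongrRight fun i => (he i).some).trans (Equiv.sigmaEquivProd _ _))).trans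
    (Equiv.prodCongr e0 (Equiv.refl _))
  have hfst : ∀ x, (E x).1 = e0 (f x) := fun x => rfl
  let P : Perm Ω →* Perm (V × ZMod 2) := (Equiv.permCongrHom E).toMonoidHom
  have hP : ∀ (g : Perm Ω) x, P g (E x) = E (g x) := fun g x => by
    show E (g (E.symm (E x))) = _
    rw [Equiv.symm_apply_apply]
  have hPs : ∀ g, Perm.sign (P g) = Perm.sign g := fun g => Perm.sign_permCongr E g
  let A : Subgroup (Perm (V × ZMod 2)) :=
    { carrier := {g | Aff g}
      one_mem' := fun _ _ _ => rfl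
      mul_mem' := fun {g h} hg hh x y z => (congrArg g (hh x y z)).trans (hg _ _ _)
      inv_mem' := fun {g} hg x y z => g.injective (by
        rw [hg, ← Perm.mul_apply, ← Perm.mul_apply, ← Perm.mul_apply, ← Perm.mul_apply, mul_inv_cancel]
        rfl) }
  let N : Subgroup (Perm Ω) :=
    { carrier := {g | ∀ x y, f x = f y ↔ f (g x) = f (g y)}
      one_mem' := fun _ _ => Iff.rfl
      mul_mem' := fun {g h} hg hh x y => (hh x y).trans (hg (h x) (h y))
      inv_mem' := fun {g} hg x y => by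
        have := hg (g⁻¹ x) (g⁻¹ y)
        rw [← Perm.mul_apply, ← Perm.mul_apply, mul_inv_cancel] at this
        exact this.symm }
  rw [show Subgroup.closure {g : Equiv.Perm Ω | ∀ x y : Ω, f x = f y ↔ f (g x) = f (g y)} = N from
    Subgroup.closure_eq N]
  have hev : ∀ g : alternatingGroup Ω, Perm.sign (P g) = 1 := fun g => by rw [hPs]; exact g.2
  have hlift : ∀ k : Perm (V × ZMod 2), Perm.sign k = 1 → ∃ g : alternatingGroup Ω, P g = k := fun k hk => by
    obtain ⟨g, rfl⟩ := (Equiv.permCongrHom E).surjective k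
    exact ⟨⟨g, Perm.mem_alternatingGroup.2 ((hPs g).symm.trans hk)⟩, rfl⟩
  have hle : (N ⊓ alternatingGroup Ω).subgroupOf (alternatingGroup Ω) ≤
      A.comap (P.comp (alternatingGroup Ω).subtype) := fun g hg => by
    refine aff_of_even _ (hev g) fun x y => ?_
    obtain ⟨x, rfl⟩ := E.surjective x
    obtain ⟨y, rfl⟩ := E.surjective y
    rw [show (P.comp (alternatingGroup Ω).subtype) g = P g from rfl, hP, hP, hfst, hfst, hfst, hfst,
      e0.injective.eq_iff, e0.injective.eq_iff]
    exact hg.1 x y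
  intro hmax
  obtain ⟨w1, w2, w3⟩ := witness_props
  obtain ⟨w, hw⟩ := hlift witness w1
  have hwA : w ∈ A.comap (P.comp (alternatingGroup Ω).subtype) := by
    show Aff (P w)
    rw [hw]; exact w2
  have hwN : w ∉ (N ⊓ alternatingGroup Ω).subgroupOf (alternatingGroup Ω) := fun h => by
    obtain ⟨x, hx⟩ := E.surjective ((0, 0), 0)
    obtain ⟨y, hy⟩ := E.surjective ((0, 0), 1)
    have hxy : f x = f y := e0.injective (by rw [← hfst, ← hfst, hx, hy])
    apply w3
    have hwxy : f ((w : Perm Ω) x) = f ((w : Perm Ω) y) := (h.1 x y).1 hxy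
    rw [← hw, ← hx, ← hy, hP, hP, hfst, hfst, hwxy]
  have htop := hmax.2 _ (lt_of_le_of_ne hle fun e => hwN (e ▸ hwA))
  obtain ⟨k, hk1, hk2⟩ := not_aff
  obtain ⟨g, hg⟩ := hlift k hk1
  apply hk2
  rw [← hg]
  exact (htop ▸ Subgroup.mem_top g : g ∈ A.comap (P.comp (alternatingGroup Ω).subtype))

end Cfsg.Agent.S5910
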