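import Cfsg.Statements.S5913


set_option autoImplicit false
open Cfsg

namespace Cfsg.Agent.S5913

/-- Let S be a non-abelian simple group and n a natural number. Every normal subgroup N of the direct power S^n (functions Fin n → S) is a subproduct: there is a set T of coordinates such that N consists exactly of the elements whose coordinates outside T are trivial. In particular the minimal normal subgroups of S^n are its n factors. -/
theorem result {S : Type*} [Group S] [IsSimpleGroup S] (hS : ¬ IsMulCommutative S) (n : ℕ)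
    (N : Subgroup (Fin n → S)) [N.Normal] :
    ∃ T : Finset (Fin n), ∀ x : Fin n → S, x ∈ N ↔ ∀ i, i ∉ T → x i = 1 := by
  classical
  have hns : ∀ a : S, a ≠ 1 → ∃ s, s * a ≠ a * s := by
    intro a ha
    by_contra h
    push_neg at h
    have hmem : a ∈ Subgroup.center S := Subgroup.mem_center_iff.2 h
    rcases (inferInstance : (Subgroup.center S).Normal).eq_bot_or_eq_top with h1 | h1
    · exact ha (Subgroup.mem_bot.1 (h1 ▸ hmem))
    · exact hS ⟨⟨fun x y => (Subgroup.mem_center_iff.1 (h1 ▸ Subgroup.mem_top x : x ∈ Subgroup.center S) y).symm⟩⟩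
  refine ⟨Finset.univ.filter (fun i => ∃ x ∈ N, x i ≠ 1), fun x => ⟨fun hx i hi => ?_, fun hx => ?_⟩⟩
  · by_contra h
    exact hi (Finset.mem_filter.2 ⟨Finset.mem_univ i, x, hx, h⟩)
  refine Subgroup.pi_mem_of_mulSingle_mem x fun i => ?_
  by_cases hi : ∃ y ∈ N, y i ≠ 1
  · obtain ⟨y, hy, hyi⟩ := hi
    let K : Subgroup S := N.comap (MonoidHom.mulSingle (fun _ : Fin n => S) i)
    have : K.Normal := Subgroup.Normal.comap inferInstance _
    obtain ⟨s, hs⟩ := hns _ hyi
    have hmem : y * Pi.mulSingle i s * y⁻¹ * (Pi.mulSingle i s)⁻¹ ∈ N := by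
      have h2 := N.mul_mem hy (Subgroup.Normal.conj_mem inferInstance _ (N.inv_mem hy) (Pi.mulSingle i s))
      simpa [mul_assoc] using h2
    have heq : Pi.mulSingle i (y i * s * (y i)⁻¹ * s⁻¹) =
        y * Pi.mulSingle i s * y⁻¹ * (Pi.mulSingle i s)⁻¹ := by
      funext j
      by_cases hj : j = i
      · subst hj; simp
      · simp [Pi.mulSingle_eq_of_ne hj]
    have hK : y i * s * (y i)⁻¹ * s⁻¹ ∈ K := by
      change Pi.mulSingle i _ ∈ N
      rw [heq]; exact hmem
    rcases this.eq_bot_or_eq_top with h | h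
    · exfalso
      rw [h, Subgroup.mem_bot, mul_inv_eq_one, mul_inv_eq_iff_eq_mul] at hK
      exact hs hK.symm
    · exact (h ▸ Subgroup.mem_top (x i) : x i ∈ K)
  · rw [hx i (by simpa using hi), Pi.mulSingle_one]
    exact one_mem N

end Cfsg.Agent.S5913
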