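import Cfsg.Statements.S5914
import Cfsg.Agent.S5913

set_option autoImplicit false
open Cfsg

namespace Cfsg.Agent.S5914

/-- A non-trivial finite group G is characteristically simple (its only characteristic subgroups are 1 and G) if and only if G is isomorphic to a direct power S^n (n ≥ 1) of some simple group S (possibly cyclic of prime order). -/
theorem result {G : Type*} [Group G] [Finite G] [Nontrivial G] :
    (∀ H : Subgroup G, H.Characteristic → H = ⊥ ∨ H = ⊤) ↔
    ∃ (S : Type) (_ : Group S) (_ : IsSimpleGroup S) (n : ℕ), 1 ≤ n ∧ Nonempty (G ≃* (Fin n → S)) := by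
  classical
  constructor
  · intro hchar
    haveI : Fintype (Subgroup G) := Fintype.ofFinite _
    obtain ⟨N, hN, hNmin'⟩ : ∃ N : Subgroup G, (N.Normal ∧ N ≠ ⊥) ∧
        ∀ K : Subgroup G, K.Normal ∧ K ≠ ⊥ → K ≤ N → N ≤ K := by
      obtain ⟨N, hN⟩ := (Set.toFinite {N : Subgroup G | N.Normal ∧ N ≠ ⊥}).exists_minimal
        ⟨⊤, inferInstance, top_ne_bot⟩
      exact ⟨N, hN.1, fun K hK hle => hN.2 hK hle⟩
    obtain ⟨hNn, hN0⟩ := hN
    have hNmin := hNmin'
    obtain ⟨img, himg⟩ : ∃ img : Finset (Subgroup G), ∀ V, V ∈ img ↔ ∃ φ : G ≃* G, N.map φ.toMonoidHom = V :=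
      ⟨Finset.univ.filter fun V => ∃ φ : G ≃* G, N.map φ.toMonoidHom = V, fun V => by rw [Finset.mem_filter]; exact and_iff_right (Finset.mem_univ _)⟩
    have htop : img.sup id = ⊤ := by
      refine (hchar _ (Subgroup.characteristic_iff_map_le.2 fun φ => ?_)).resolve_left fun h => hN0 ?_
      · refine Subgroup.map_le_iff_le_comap.2 (Finset.sup_le fun V hV => Subgroup.map_le_iff_le_comap.1 ?_)
        obtain ⟨ψ, rfl⟩ := (himg V).1 hV
        refine Finset.le_sup (f := id) ((himg _).2 ⟨ψ.trans φ, ?_⟩)
        exact (Subgroup.map_map N φ.toMonoidHom ψ.toMonoidHom).symm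
      · exact le_bot_iff.1 (h ▸ Finset.le_sup (f := id) ((himg N).2 ⟨MulEquiv.refl G, Subgroup.map_id N⟩))
    have hex : ∃ k, ∃ t : Finset (Subgroup G), t.card = k ∧ t ⊆ img ∧ t.sup id = ⊤ :=
      ⟨_, img, rfl, subset_rfl, htop⟩
    obtain ⟨t, htc, htI, htsup⟩ := Nat.find_spec hex
    obtain ⟨V, hV⟩ : ∃ V : Fin t.card → Subgroup G, V = fun i => (t.equivFin.symm i : Subgroup G) := ⟨_, rfl⟩
    have hVeq : ∀ i, ∃ φ : G ≃* G, N.map φ.toMonoidHom = V i := fun i => by
      rw [hV]; exact (himg _).1 (htI (t.equivFin.symm i).2)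
    have hVn : ∀ i, (V i).Normal := fun i => by
      obtain ⟨φ, hφ⟩ := hVeq i
      rw [← hφ]; exact hNn.map _ φ.surjective
    have hVmin : ∀ i (K : Subgroup G), K.Normal → K ≤ V i → K = ⊥ ∨ K = V i := fun i K hK hle => by
      obtain ⟨φ, hφ⟩ := hVeq i
      rw [← hφ] at hle ⊢
      have hK' : K = (K.comap φ.toMonoidHom).map φ.toMonoidHom :=
        (Subgroup.map_comap_eq_self_of_surjective φ.surjective K).symm
      have hle' : K.comap φ.toMonoidHom ≤ N :=
        (Subgroup.comap_mono hle).trans (Subgroup.comap_map_eq_self_of_injective φ.injective N).le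
      rcases eq_or_ne (K.comap φ.toMonoidHom) ⊥ with h | h
      · left; rw [hK', h, Subgroup.map_bot]
      · right; rw [hK', le_antisymm hle' (hNmin _ ⟨hK.comap _, h⟩ hle')]
    have hsup : ⨆ i, V i = ⊤ := by
      refine top_le_iff.1 (htsup ▸ Finset.sup_le fun W hW => le_iSup_of_le (t.equivFin ⟨W, hW⟩) ?_)
      simp [hV]
    have hind : iSupIndep V := by
      intro i
      rw [disjoint_iff]
      by_contra hne
      haveI := hVn i
      haveI hMn : (⨆ (j) (_ : j ≠ i), V j).Normal := by haveI := hVn; infer_instance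
      have hle : V i ≤ ⨆ (j) (_ : j ≠ i), V j :=
        inf_eq_left.1 ((hVmin i _ inferInstance inf_le_left).resolve_left hne)
      have hmem : V i ∈ t := by rw [hV]; exact (t.equivFin.symm i).2
      refine Nat.find_min hex (htc ▸ Finset.card_erase_lt_of_mem hmem)
        ⟨t.erase (V i), rfl, (Finset.erase_subset _ _).trans htI, top_le_iff.1 ?_⟩
      have hM : ⨆ (j) (_ : j ≠ i), V j ≤ (t.erase (V i)).sup id := by
        refine iSup₂_le fun j hj => Finset.le_sup (f := id) (Finset.mem_erase.2 ⟨?_, ?_⟩)
        · rw [hV]; exact fun he => hj (t.equivFin.symm.injective (Subtype.ext he))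
        · rw [hV]; exact (t.equivFin.symm j).2
      rw [← htsup]
      refine Finset.sup_le fun W hW => ?_
      by_cases hWV : W = V i
      · subst hWV; exact hle.trans hM
      · exact Finset.le_sup (f := id) (Finset.mem_erase.2 ⟨hWV, hW⟩)
    have hcomm : Pairwise fun i j => ∀ x y : G, x ∈ V i → y ∈ V j → Commute x y := fun i j hij =>
      Subgroup.commute_of_normal_of_disjoint _ _ (hVn i) (hVn j) (hind.pairwiseDisjoint hij)
    haveI hsimp : IsSimpleGroup N := by
      haveI : Nontrivial N := (Subgroup.nontrivial_iff_ne_bot N).2 hN0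
      refine ⟨fun K hK => ?_⟩
      obtain ⟨j⟩ : Nonempty (Fin t.card) := by
        by_contra h
        rw [not_nonempty_iff] at h
        rw [iSup_of_empty] at hsup
        exact bot_ne_top hsup
      obtain ⟨φ, hφ⟩ := hVeq j
      obtain ⟨K', hK'⟩ : ∃ K', K' = (K.map N.subtype).map φ.toMonoidHom := ⟨_, rfl⟩
      have hK'V : K' ≤ V j := hK' ▸ hφ ▸ Subgroup.map_mono (Subgroup.map_subtype_le K)
      have hK'n : K'.Normal := by
        rw [← Subgroup.normalizer_eq_top_iff, ← top_le_iff, ← hsup]
        refine iSup_le fun l => ?_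
        by_cases hl : l = j
        · subst hl
          intro v hv
          rw [← hφ] at hv
          obtain ⟨w, hw, rfl⟩ := hv
          rw [Subgroup.mem_normalizer_iff]
          intro x
          constructor
          · intro hx
            rw [hK'] at hx ⊢
            obtain ⟨_, ⟨k, hk, rfl⟩, rfl⟩ := hx
            refine ⟨_, ⟨⟨w, hw⟩ * k * ⟨w, hw⟩⁻¹, hK.conj_mem k hk _, rfl⟩, ?_⟩
            simp
          · intro hx
            rw [hK'] at hx ⊢
            obtain ⟨_, ⟨k, hk, rfl⟩, hkx⟩ := hx
            refine ⟨_, ⟨⟨w, hw⟩⁻¹ * k * ⟨w, hw⟩, by simpa using hK.conj_mem k hk ⟨w, hw⟩⁻¹, rfl⟩, ?_⟩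
            have hx' : x = (φ.toMonoidHom w)⁻¹ * φ.toMonoidHom (N.subtype k) * φ.toMonoidHom w := by
              rw [hkx]; group
            rw [hx']
            simp
        · intro v hv
          rw [Subgroup.mem_normalizer_iff]
          intro x
          constructor
          · intro hx
            rwa [(hcomm hl v x hv (hK'V hx)).eq, mul_inv_cancel_right]
          · intro hx
            have := hcomm hl v _ hv (hK'V hx)
            rw [show x = v * x * v⁻¹ from ?_]
            · exact hx
            · have h2 := this.eq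
              simpa [mul_assoc] using h2.symm
      rcases hVmin j K' hK'n hK'V with h | h
      · left
        rw [hK', Subgroup.map_eq_bot_iff_of_injective _ φ.injective,
          Subgroup.map_eq_bot_iff_of_injective _ N.subtype_injective] at h
        exact h
      · right
        rw [hK', ← hφ] at h
        have h' := Subgroup.map_injective φ.injective h
        exact Subgroup.map_injective N.subtype_injective (by rw [h', ← MonoidHom.range_eq_map, Subgroup.range_subtype])
    let e : {_i : Fin (Nat.card N) // True} ≃ N := (Equiv.subtypeUnivEquiv fun _ => trivial).trans (Finite.equivFin N).symm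
    letI : Group ({_i : Fin (Nat.card N) // True}) := e.group
    haveI : Nontrivial ({_i : Fin (Nat.card N) // True}) := e.nontrivial
    have hS : IsSimpleGroup ({_i : Fin (Nat.card N) // True}) :=
      IsSimpleGroup.isSimpleGroup_of_surjective (G := N) (e.mulEquiv.symm.toMonoidHom) e.mulEquiv.symm.surjective
    refine ⟨{_i : Fin (Nat.card N) // True}, _, hS, t.card, ?_, ⟨?_⟩⟩
    · by_contra h
      haveI : IsEmpty (Fin t.card) := ⟨fun i => h i.pos⟩
      rw [iSup_of_empty] at hsup
      exact bot_ne_top hsup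
    · refine ((MulEquiv.piCongrRight fun i => ?_).trans (MulEquiv.ofBijective (Subgroup.noncommPiCoprod hcomm)
        ⟨Subgroup.injective_noncommPiCoprod_of_iSupIndep hind, MonoidHom.range_eq_top.1 ?_⟩)).symm
      · exact e.mulEquiv.trans ((Subgroup.equivMapOfInjective N (hVeq i).choose.toMonoidHom
          (hVeq i).choose.injective).trans (MulEquiv.subgroupCongr (hVeq i).choose_spec))
      · rw [Subgroup.noncommPiCoprod_range, hsup]
  · rintro ⟨S, _, _, n, hn, ⟨f⟩⟩ H hH
    rcases eq_or_ne H ⊥ with h0 | h0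
    · exact Or.inl h0
    right
    obtain ⟨K, hK⟩ : ∃ K, K = H.map f.toMonoidHom := ⟨_, rfl⟩
    have hKinv : ∀ (a : (Fin n → S) ≃* (Fin n → S)), ∀ k ∈ K, a k ∈ K := by
      intro a k hk
      rw [hK] at hk ⊢
      obtain ⟨h, hh, rfl⟩ := hk
      refine ⟨((f.trans a).trans f.symm) h, ?_, by simp⟩
      exact Subgroup.characteristic_iff_map_le.1 hH ((f.trans a).trans f.symm) ⟨h, hh, rfl⟩
    obtain ⟨i, a, ha, hia⟩ : ∃ i a, a ≠ 1 ∧ Pi.mulSingle i a ∈ K := by
      obtain ⟨k, hk, hk0⟩ : ∃ k ∈ K, k ≠ 1 := by
        rw [hK]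
        obtain ⟨⟨h, hh⟩, hx⟩ := Subgroup.ne_bot_iff_exists_ne_one.1 h0
        have hh0 : h ≠ 1 := fun e => hx (Subtype.ext e)
        exact ⟨f h, ⟨h, hh, rfl⟩, by simpa using hh0⟩
      obtain ⟨j, hj⟩ := Function.ne_iff.1 hk0
      by_cases hS : IsMulCommutative S
      · by_cases hone : ∃ i, i ≠ j
        · obtain ⟨i, hij⟩ := hone
          have hc : ∀ x y : S, x * y = y * x := hS.is_comm.comm
          let sh : (Fin n → S) ≃* (Fin n → S) :=
            { toFun := fun x => x * Pi.mulSingle i (x j)
              invFun := fun x => x * Pi.mulSingle i (x j)⁻¹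
              left_inv := fun x => by
                simp [Pi.mulSingle_eq_of_ne (Ne.symm hij), mul_assoc, ← Pi.mulSingle_mul]
              right_inv := fun x => by
                simp [Pi.mulSingle_eq_of_ne (Ne.symm hij), mul_assoc, ← Pi.mulSingle_mul]
              map_mul' := fun x y => funext fun l => by
                simp only [Pi.mul_apply, Pi.mulSingle_mul]
                rw [mul_assoc (x l), ← mul_assoc (y l), hc (y l), mul_assoc _ (y l), ← mul_assoc (x l)] }
          refine ⟨i, k j, hj, ?_⟩
          have h1 := K.mul_mem (K.inv_mem hk) (hKinv sh k hk)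
          simpa [sh] using h1
        · push Not at hone
          refine ⟨j, k j, hj, ?_⟩
          rwa [show Pi.mulSingle j (k j) = k from funext fun l => by rw [hone l]; simp]
      · haveI : K.Normal := ⟨fun x hx g => hKinv (MulAut.conj g) x hx⟩
        obtain ⟨T, hT⟩ := Cfsg.Agent.S5913.result hS n K
        refine ⟨j, k j, hj, (hT _).2 fun l hl => Pi.mulSingle_eq_of_ne ?_ _⟩
        rintro rfl
        exact hj ((hT k).1 hk l hl)
    have hall : ∀ j, Pi.mulSingle j a ∈ K := fun j => by
      let sw : (Fin n → S) ≃* (Fin n → S) :=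
        { (Equiv.swap i j).arrowCongr (Equiv.refl S) with map_mul' := fun x y => rfl }
      convert hKinv sw _ hia using 1
      funext l
      show _ = (Pi.mulSingle i a : Fin n → S) ((Equiv.swap i j).symm l)
      simp only [Pi.mulSingle_apply, Equiv.symm_swap]
      congr 1
      rw [Equiv.swap_apply_eq_iff]
      simp
    have hKtop : K = ⊤ := by
      refine eq_top_iff.2 fun x _ => Subgroup.pi_mem_of_mulSingle_mem x fun j => ?_
      have : (K.comap (MonoidHom.mulSingle (fun _ : Fin n => S) j)).Normal := by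
        haveI : K.Normal := ⟨fun x hx g => hKinv (MulAut.conj g) x hx⟩
        exact Subgroup.Normal.comap inferInstance _
      rcases this.eq_bot_or_eq_top with h | h
      · exact absurd ((Subgroup.mem_bot (G := S)).1 (h ▸ (hall j : a ∈ K.comap (MonoidHom.mulSingle (fun _ : Fin n => S) j)))) ha
      · exact (h ▸ Subgroup.mem_top (x j) : x j ∈ K.comap (MonoidHom.mulSingle (fun _ : Fin n => S) j))
    rw [hK] at hKtop
    exact Subgroup.map_injective f.injective (hKtop.trans (Subgroup.map_top_of_surjective _ f.surjective).symm)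

end Cfsg.Agent.S5914
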