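import Cfsg.Statements.S5946


set_option autoImplicit false
open Cfsg

namespace Cfsg.Agent.S5946

/-- Let F ⊆ K be finite fields with [K : F] = n ≥ 2 and regard K as an n-dimensional F-vector space. The Singer group M ≤ GL_F(K) of multiplications by the non-zero elements of K is self-centralizing: every F-linear automorphism of K commuting with all of M lies in M. -/
theorem result {F K : Type*} [Field F] [Fintype F] [Field K] [Fintype K] [Algebra F K] (n : ℕ) (hn : 2 ≤ n) (hdim : Module.finrank F K = n) :
    Subgroup.centralizer (((Units.map ((Algebra.lmul F K : K →ₐ[F] Module.End F K) : K →* Module.End F K)).range : Subgroup (Module.End F K)ˣ) : Set (Module.End F K)ˣ) = (Units.map ((Algebra.lmul F K : K →ₐ[F] Module.End F K) : K →* Module.End F K)).range := by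
  classical
  set φ : Kˣ →* (Module.End F K)ˣ :=
    Units.map ((Algebra.lmul F K : K →ₐ[F] Module.End F K) : K →* Module.End F K) with hφ
  have hval : ∀ (u : Kˣ) (x : K), ((φ u : (Module.End F K)ˣ) : Module.End F K) x = u * x :=
    fun _ _ => rfl
  refine le_antisymm (fun f hf => ?_) ?_
  · have hc : ∀ (u : Kˣ) (x : K), (f : Module.End F K) ((u : K) * x) = (u : K) * (f : Module.End F K) x := by
      intro u x
      have h := congrArg (fun g : (Module.End F K)ˣ => (g : Module.End F K) x)
        (Subgroup.mem_centralizer_iff.1 hf (φ u) ⟨u, rfl⟩)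
      simp only [Units.val_mul, Module.End.mul_apply, hval] at h
      exact h.symm
    have hl : ∀ x : K, (f : Module.End F K) x = x * (f : Module.End F K) 1 := fun x => by
      by_cases hx : x = 0
      · subst hx; simp
      · have := hc (Units.mk0 x hx) 1
        simpa using this
    have h1 : (f : Module.End F K) 1 ≠ 0 := by
      intro h
      have := congrArg (((f⁻¹ : (Module.End F K)ˣ) : Module.End F K)) h
      rw [map_zero, ← Module.End.mul_apply, ← Units.val_mul, inv_mul_cancel, Units.val_one,
        Module.End.one_apply] at this
      exact one_ne_zero this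
    exact ⟨Units.mk0 _ h1, Units.ext (LinearMap.ext fun x => by rw [hval, hl x, Units.val_mk0, mul_comm])⟩
  · rintro _ ⟨u, rfl⟩
    rw [Subgroup.mem_centralizer_iff]
    rintro _ ⟨v, rfl⟩
    rw [← map_mul, ← map_mul, mul_comm]

end Cfsg.Agent.S5946
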