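import Cfsg.Statements.S5947
import Cfsg.Agent.S2904
import Cfsg.Agent.S3784

set_option autoImplicit false
open Cfsg

namespace Cfsg.Agent.S5947

open Polynomial in
theorem root_of_minpoly {F K : Type*} [Field F] [Field K] [Algebra F K] [FiniteDimensional F K]
    {A : Type*} [Ring A] [Nontrivial A] [Algebra F A] (r : ℕ) (hr : r.Prime) (ζ : K) (hζ : IsPrimitiveRoot ζ r)
    (u : A) (hu : u ^ r = 1) (hu1 : u ≠ 1) :
    ∃ β : K, β ^ r = 1 ∧ β ≠ 1 ∧ minpoly F β ∣ minpoly F u := by
  classical
  have hint : IsIntegral F u := ⟨X ^ r - C 1, monic_X_pow_sub_C _ hr.ne_zero, by simp [hu]⟩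
  set μ := minpoly F u
  have hdvd : μ.map (algebraMap F K) ∣ X ^ r - 1 := by
    have h := Polynomial.map_dvd (algebraMap F K) (minpoly.dvd F u (p := X ^ r - 1) (by simp [hu]))
    rw [Polynomial.map_sub, Polynomial.map_pow, map_X, Polynomial.map_one] at h
    exact h
  rw [X_pow_sub_one_eq_prod hr.pos hζ, ← Finset.mul_prod_erase _ _ (one_mem_nthRootsFinset hr.pos)] at hdvd
  by_cases h : ∃ β ∈ (nthRootsFinset r (1 : K)).erase 1, (X - C β) ∣ μ.map (algebraMap F K)
  · obtain ⟨β, hβ, hβd⟩ := h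
    rw [Finset.mem_erase, mem_nthRootsFinset hr.pos] at hβ
    refine ⟨β, hβ.2, hβ.1, minpoly.dvd F β ?_⟩
    rw [dvd_iff_isRoot, IsRoot.def, eval_map_algebraMap] at hβd
    exact hβd
  · push Not at h
    exfalso
    have hcop : IsCoprime (μ.map (algebraMap F K)) (∏ β ∈ (nthRootsFinset r (1 : K)).erase 1, (X - C β)) :=
      IsCoprime.prod_right fun β hβ => (((irreducible_X_sub_C β).coprime_iff_not_dvd).2 (h β hβ)).symm
    have h1 := natDegree_le_of_dvd (hcop.dvd_of_dvd_mul_right hdvd) (X_sub_C_ne_zero 1)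
    rw [natDegree_X_sub_C, natDegree_map] at h1
    have h2 : μ.natDegree = 1 := le_antisymm h1 (minpoly.natDegree_pos hint)
    have h3 : aeval u μ = 0 := minpoly.aeval F u
    have hmon : μ.Monic := minpoly.monic hint
    rw [hmon.eq_X_add_C h2, map_add, aeval_X, aeval_C, add_eq_zero_iff_eq_neg, ← map_neg] at h3
    -- `u` is a scalar
    have h4 : (X - C (-μ.coeff 0)) = μ := by
      rw [map_neg, sub_neg_eq_add]; exact (hmon.eq_X_add_C h2).symm
    have h5 := hcop.dvd_of_dvd_mul_right hdvd
    rw [← h4, Polynomial.map_sub, map_X, map_C, dvd_iff_isRoot, IsRoot.def, eval_sub, eval_X, eval_C, sub_eq_zero] at h5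
    rw [← map_one (algebraMap F K)] at h5
    rw [(algebraMap F K).injective h5, map_one] at h3
    exact hu1 h3

open Polynomial in
theorem conj_into_field {F K : Type*} [Field F] [Fintype F] [Field K] [Fintype K] [Algebra F K] (n : ℕ)
    (hdim : Module.finrank F K = n) (r : ℕ) (hr : r.Prime) (hrn : r ∣ Fintype.card F ^ n - 1)
    (hrk : ∀ k : ℕ, 0 < k → k < n → ¬ r ∣ Fintype.card F ^ k - 1) (u : Module.End F K) (hu : u ^ r = 1) (hu1 : u ≠ 1) :
    ∃ g : (Module.End F K)ˣ, ∀ w : Module.End F K, w * u = u * w →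
      ∃ c : K, (g : Module.End F K) * w * (↑g⁻¹ : Module.End F K) = Algebra.lmul F K c := by
  classical
  haveI := Fact.mk hr
  haveI : FiniteDimensional F K := Module.Finite.of_finite
  have hcK : Nat.card Kˣ = Fintype.card F ^ n - 1 := by
    rw [Nat.card_units, Nat.card_eq_fintype_card, Module.card_eq_pow_finrank (K := F), hdim]
  obtain ⟨ζu, hζu⟩ := exists_prime_orderOf_dvd_card' (G := Kˣ) r (hcK ▸ hrn)
  have hζ : IsPrimitiveRoot (ζu : K) r := by rw [← hζu, ← orderOf_units]; exact IsPrimitiveRoot.orderOf _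
  obtain ⟨β, hβr, hβ1, hβμ⟩ := root_of_minpoly (F := F) r hr (ζu : K) hζ u hu hu1
  have hβi : IsIntegral F β := .of_finite F β
  haveI : Fact (Irreducible (minpoly F β)) := ⟨minpoly.irreducible hβi⟩
  haveI := (minpoly.monic hβi).finite_adjoinRoot
  haveI : Finite (AdjoinRoot (minpoly F β)) := Module.finite_of_finite F
  haveI := Fintype.ofFinite (AdjoinRoot (minpoly F β))
  let α : AdjoinRoot (minpoly F β) →ₐ[F] K := AdjoinRoot.liftAlgHom _ (Algebra.ofId F K) β (minpoly.aeval F β)
  have hαroot : α (AdjoinRoot.root _) = β := AdjoinRoot.liftAlgHom_root _ _ _ _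
  have hfr : Module.finrank F (AdjoinRoot (minpoly F β)) = (minpoly F β).natDegree := by
    rw [(AdjoinRoot.powerBasis (minpoly.ne_zero hβi)).finrank, AdjoinRoot.powerBasis_dim]
  have hle : (minpoly F β).natDegree ≤ n := hdim ▸ minpoly.natDegree_le β
  have hdeg : (minpoly F β).natDegree = n := by
    refine hle.antisymm (Nat.le_of_not_lt fun hlt => hrk _ (minpoly.natDegree_pos hβi) hlt ?_)
    have h2 : (AdjoinRoot.root (minpoly F β)) ^ r = 1 :=
      α.toRingHom.injective (by simp [hαroot, hβr])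
    have h3 : AdjoinRoot.root (minpoly F β) ≠ 1 := fun e => hβ1 (by rw [← hαroot, e, map_one])
    have h4 : AdjoinRoot.root (minpoly F β) ≠ 0 := fun e => by
      rw [e, zero_pow hr.ne_zero] at h2; exact zero_ne_one h2
    rw [← orderOf_eq_prime h2 h3, ← hfr, ← Module.card_eq_pow_finrank (K := F)]
    exact orderOf_dvd_of_pow_eq_one (FiniteField.pow_card_sub_one_eq_one _ h4)
  have hαbij : Function.Bijective α := ⟨α.toRingHom.injective,
    (LinearMap.injective_iff_surjective_of_finrank_eq_finrank (by rw [hfr, hdeg, hdim])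
      (f := α.toLinearMap)).1 α.toRingHom.injective⟩
  let e := AlgEquiv.ofBijective α hαbij
  have hμu : aeval u (minpoly F β) = 0 := by
    have hint : IsIntegral F u := .of_finite F u
    have h1 : (minpoly F u).natDegree ≤ n := by
      rw [← hdim, ← LinearMap.charpoly_natDegree u]
      exact natDegree_le_of_dvd (LinearMap.minpoly_dvd_charpoly u) (LinearMap.charpoly_monic u).ne_zero
    have h2 := eq_of_monic_of_dvd_of_natDegree_le (minpoly.monic hβi) (minpoly.monic hint) hβμ (by rw [hdeg]; exact h1)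
    rw [← h2]
    exact minpoly.aeval F u
  let ψ : AdjoinRoot (minpoly F β) →ₐ[F] Module.End F K :=
    Ideal.Quotient.liftₐ (Ideal.span {minpoly F β}) (aeval u) (fun a ha => by
      obtain ⟨b, rfl⟩ := Ideal.mem_span_singleton'.1 ha
      rw [map_mul, hμu, mul_zero])
  let χ : K →ₐ[F] Module.End F K := ψ.comp e.symm.toAlgHom
  let ev : K →ₗ[F] K := (LinearMap.applyₗ (1 : K)).comp χ.toLinearMap
  have hev : ∀ k, ev k = χ k 1 := fun k => rfl
  have hinj : Function.Injective ev := by
    rw [injective_iff_map_eq_zero]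
    intro k hk
    rw [hev] at hk
    by_contra hk0
    have h := LinearMap.congr_fun (map_mul χ k⁻¹ k) 1
    rw [inv_mul_cancel₀ hk0, map_one χ, Module.End.mul_apply, hk, map_zero, Module.End.one_apply] at h
    exact one_ne_zero h
  let E := LinearEquiv.ofBijective ev ⟨hinj, (LinearMap.injective_iff_surjective).1 hinj⟩
  refine ⟨(LinearMap.GeneralLinearGroup.ofLinearEquiv E)⁻¹, fun w hw => ?_⟩
  refine ⟨E.symm (w 1), ?_⟩
  have hχw : ∀ k, w * χ k = χ k * w := by
    intro k
    obtain ⟨a, rfl⟩ := e.surjective k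
    obtain ⟨P, rfl⟩ := AdjoinRoot.mk_surjective a
    have : χ (e (AdjoinRoot.mk _ P)) = aeval u P := by
      show ψ (e.symm (e _)) = _
      rw [e.symm_apply_apply]
      rfl
    rw [this]
    have hmem : aeval u P ∈ Subalgebra.centralizer F {w} :=
      (Algebra.adjoin_le (Set.singleton_subset_iff.2 ((Subalgebra.mem_centralizer_iff F).2 fun g hg => by rw [Set.mem_singleton_iff.1 hg]; exact hw))) (aeval_mem_adjoin_singleton F u)
    exact (Subalgebra.mem_centralizer_iff F).1 hmem w rfl
  refine LinearMap.ext fun k => ?_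
  show E.symm (w (E k)) = E.symm (w 1) * k
  apply E.injective
  rw [LinearEquiv.apply_symm_apply]
  have h1 : w (χ k 1) = χ k (w 1) := LinearMap.congr_fun (hχw k) 1
  show w (χ k 1) = χ (E.symm (w 1) * k) 1
  rw [h1, mul_comm, map_mul, Module.End.mul_apply]
  congr 1
  exact (E.apply_symm_apply (w 1)).symm

/-- Let F ⊆ K be finite fields with |F| = q and [K : F] = n ≥ 2, regard K as an n-dimensional F-vector space, and let M ≤ GL_F(K) be the Singer group of multiplications by non-zero elements of K (cyclic of order q^n − 1). Assume (n, q) ≠ (6, 2), and that it is not the case that n = 2 with q a prime such that q + 1 is a power of 2. Then every abelian subgroup of GL_F(K) of order q^n − 1 is conjugate to M. -/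
theorem result {F K : Type*} [Field F] [Fintype F] [Field K] [Fintype K] [Algebra F K] (n : ℕ) (hn : 2 ≤ n) (hdim : Module.finrank F K = n)
    (hex1 : ¬ (n = 6 ∧ Fintype.card F = 2))
    (hex2 : ¬ (n = 2 ∧ (Fintype.card F).Prime ∧ ∃ a : ℕ, Fintype.card F + 1 = 2 ^ a))
    (U : Subgroup (Module.End F K)ˣ) (hU : IsMulCommutative U) (hcard : Nat.card U = Fintype.card K - 1) :
    ∃ g : (Module.End F K)ˣ, U.map (MulAut.conj g).toMonoidHom = (Units.map ((Algebra.lmul F K : K →ₐ[F] Module.End F K) : K →* Module.End F K)).range := by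
  classical
  haveI : FiniteDimensional F K := Module.Finite.of_finite
  obtain ⟨p, hp⟩ := CharP.exists F
  obtain ⟨f, hpp, hcF⟩ := FiniteField.card F p
  have hq1 : 1 < Fintype.card F := Fintype.one_lt_card
  have h2 : ¬ (n = 2 ∧ ∃ m : ℕ, Fintype.card F + 1 = 2 ^ m) := by
    rintro ⟨hn2, m, hm⟩
    refine hex2 ⟨hn2, ?_, m, hm⟩
    have hm1 : 1 ≤ m := by
      rcases Nat.eq_zero_or_pos m with rfl | h
      · simp at hm
      · exact h
    rw [hcF] at hm hq1 ⊢
    rcases Cfsg.Agent.S3784.result 2 p m f Nat.prime_two hpp hm1 f.2 hm.symm with h | h | h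
    · rw [h.2.1, pow_one]; exact hpp
    · rw [h.2.1] at hm; omega
    · exfalso
      have : 2 ∣ 2 ^ m := dvd_pow_self 2 (by omega)
      omega
  obtain ⟨r, hr, hrn, hrk⟩ := Cfsg.Agent.S2904.result (Fintype.card F) n hq1 (by omega)
    (fun h => hex1 ⟨h.2, h.1⟩) h2
  haveI := Fact.mk hr
  haveI : Finite (Module.End F K) := Module.finite_of_finite F
  have hcK : Fintype.card K = Fintype.card F ^ n := by rw [Module.card_eq_pow_finrank (K := F), hdim]
  obtain ⟨u, hu⟩ := exists_prime_orderOf_dvd_card' (G := U) r (by rw [hcard, hcK]; exact hrn)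
  have hur : ((u : (Module.End F K)ˣ) : Module.End F K) ^ r = 1 := by
    rw [← Units.val_pow_eq_pow_val, ← Subgroup.coe_pow, ← hu, pow_orderOf_eq_one]; rfl
  have hu1 : ((u : (Module.End F K)ˣ) : Module.End F K) ≠ 1 := fun h => by
    rw [show u = 1 from Subtype.ext (Units.ext h), orderOf_one] at hu
    exact hr.ne_one hu.symm
  obtain ⟨g, hg⟩ := conj_into_field n hdim r hr hrn hrk _ hur hu1
  refine ⟨g, Subgroup.eq_of_le_of_card_ge ?_ ?_⟩
  · rintro _ ⟨w, hw, rfl⟩
    haveI := hU
    have hcomm : (w : Module.End F K) * ((u : (Module.End F K)ˣ) : Module.End F K) =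
        ((u : (Module.End F K)ˣ) : Module.End F K) * (w : Module.End F K) :=
      congrArg (fun z : U => ((z : (Module.End F K)ˣ) : Module.End F K)) (mul_comm' (⟨w, hw⟩ : U) u)
    obtain ⟨c, hc⟩ := hg _ hcomm
    have hc0 : c ≠ 0 := fun h0 => by
      rw [h0, map_zero] at hc
      exact (g * w * g⁻¹).ne_zero hc
    exact ⟨Units.mk0 c hc0, Units.ext hc.symm⟩
  · rw [Subgroup.card_map_of_injective (MulAut.conj g).injective, hcard, ← Nat.card_congr
      (MonoidHom.ofInjective (Units.map_injective (f := ((Algebra.lmul F K : K →ₐ[F] Module.End F K) :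
        K →* Module.End F K)) Algebra.lmul_injective)).toEquiv, Nat.card_units, Nat.card_eq_fintype_card]

end Cfsg.Agent.S5947
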