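import Cfsg.Statements.S5952


set_option autoImplicit false
open Cfsg

namespace Cfsg.Agent.S5952

/-- Which dimensions of invariant subspaces a semisimple linear map has. Let `V` be a finite-dimensional vector space over a field `F` and `f` an invertible semisimple linear map of `V`. Suppose `V` is the internal direct sum of the fixed space `C_V(f)` (the eigenspace for 1) and subspaces `U_1, …, U_s`, each `f`-invariant of dimension `a ≥ 1` on which `f` acts irreducibly (no `f`-invariant subspaces other than 0 and `U_j`). Let `0 < m < dim V` and `ℓ = m mod a`. Then `f` leaves some `m`-dimensional subspace invariant if and only if `dim C_V(f) ≥ m`, or `a ≤ m` and `dim C_V(f) ≥ ℓ`. -/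
theorem result {F V : Type*} [Field F] [AddCommGroup V] [Module F V]
    [FiniteDimensional F V] (f : V →ₗ[F] V) (hf : Function.Bijective f) (hss : Module.End.IsSemisimple f)
    {s a : ℕ} (ha : 1 ≤ a) (U : Fin s → Submodule F V)
    (hUinv : ∀ j, (U j).map f ≤ U j) (hUdim : ∀ j, Module.finrank F ↥(U j) = a)
    (hUirr : ∀ j, ∀ W : Submodule F V, W ≤ U j → W.map f ≤ W → W = ⊥ ∨ W = U j)
    (hdec : DirectSum.IsInternal (fun o : Option (Fin s) => o.elim (Module.End.eigenspace f 1) U))
    (m : ℕ) (hm : 0 < m) (hmV : m < Module.finrank F V) :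
    (∃ W : Submodule F V, Module.finrank F ↥W = m ∧ W.map f ≤ W) ↔
    (m ≤ Module.finrank F ↥(Module.End.eigenspace f 1) ∨
      (a ≤ m ∧ m % a ≤ Module.finrank F ↥(Module.End.eigenspace f 1))) := by
  classical
  set E := Module.End.eigenspace f 1 with hE
  set Fam := (fun o : Option (Fin s) => o.elim E U) with hFam
  have hind : iSupIndep Fam := hdec.submodule_iSupIndep
  let D : ℕ → Submodule F V := fun j => E ⊔ ⨆ i : {i : Fin s // (i : ℕ) < j}, U i.1
  let P : ℕ → Submodule F V := fun j => ⨆ i : {i : Fin s // (i : ℕ) < j}, U i.1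
  have hfix : ∀ x ∈ E, f x = x := fun x hx => by
    simpa using Module.End.mem_eigenspace_iff.1 hx
  have hPsucc : ∀ j (h : j < s), P (j + 1) = P j ⊔ U ⟨j, h⟩ := by
    intro j h
    refine le_antisymm (iSup_le fun i => ?_) (sup_le (iSup_le fun i =>
      le_iSup_of_le (⟨i.1, Nat.lt_succ_of_lt i.2⟩ : {i : Fin s // (i : ℕ) < j + 1}) le_rfl)
      (le_iSup_of_le (⟨⟨j, h⟩, Nat.lt_succ_self j⟩ : {i : Fin s // (i : ℕ) < j + 1}) le_rfl))
    rcases Nat.lt_succ_iff_lt_or_eq.1 i.2 with hi | hi
    · exact le_sup_of_le_left (le_iSup_of_le (⟨i.1, hi⟩ : {i : Fin s // (i : ℕ) < j}) le_rfl)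
    · exact le_sup_of_le_right (le_of_eq (congrArg U (Fin.ext hi)))
  have hDsucc : ∀ j (h : j < s), D (j + 1) = D j ⊔ U ⟨j, h⟩ := fun j h => by
    change E ⊔ P (j + 1) = (E ⊔ P j) ⊔ _
    rw [hPsucc j h, sup_assoc]
  have hdisj : ∀ j (h : j < s), Disjoint (D j) (U ⟨j, h⟩) := by
    intro j h
    have hi := (hind (some ⟨j, h⟩)).symm
    refine hi.mono_left (sup_le ?_ (iSup_le fun i => ?_))
    · exact le_iSup_of_le (none : Option (Fin s)) (le_iSup_of_le (by simp) le_rfl)
    · exact le_iSup_of_le (some i.1 : Option (Fin s)) (le_iSup_of_le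
        (fun hh => i.2.ne (congrArg Fin.val (Option.some_injective _ hh))) le_rfl)
  have hD0 : D 0 = E := by simp [D]
  have hP0 : P 0 = ⊥ := by simp [P]
  have hPD : ∀ j, P j ≤ D j := fun j => le_sup_right
  have hrankD : ∀ j, j ≤ s → Module.finrank F (D j) = Module.finrank F E + j * a ∧
      Module.finrank F (P j) = j * a := by
    intro j
    induction j with
    | zero => intro; rw [hD0, hP0]; simp
    | succ j ih =>
      intro hj
      obtain ⟨h1, h2⟩ := ih (by omega)
      have e1 := Submodule.finrank_sup_add_finrank_inf_eq (D j) (U ⟨j, hj⟩)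
      have e2 := Submodule.finrank_sup_add_finrank_inf_eq (P j) (U ⟨j, hj⟩)
      rw [(hdisj j hj).eq_bot, finrank_bot, add_zero, ← hDsucc j hj, h1, hUdim] at e1
      rw [((hdisj j hj).mono_left (hPD j)).eq_bot, finrank_bot, add_zero, ← hPsucc j hj, h2, hUdim] at e2
      exact ⟨by rw [e1, Nat.succ_mul, add_assoc], by rw [e2, Nat.succ_mul]⟩
  have htop : D s = ⊤ := by
    rw [eq_top_iff, ← hdec.submodule_iSup_eq_top]
    refine iSup_le fun o => ?_
    cases o with
    | none => exact le_sup_left
    | some i => exact le_sup_of_le_right (le_iSup_of_le (⟨i, i.isLt⟩ : {j : Fin s // (j : ℕ) < s}) le_rfl)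
  have hV : Module.finrank F V = Module.finrank F E + s * a := by
    rw [← (hrankD s le_rfl).1, htop, finrank_top]
  have hDinv : ∀ j, ∀ x ∈ D j, f x ∈ D j := by
    intro j x hx
    have : D j ≤ (D j).comap f := by
      refine sup_le (fun y hy => ?_) (iSup_le fun i => fun y hy => ?_)
      · change f y ∈ D j
        rw [hfix y hy]; exact Submodule.mem_sup_left hy
      · exact Submodule.mem_sup_right (Submodule.mem_iSup_of_mem i (hUinv i.1 ⟨y, hy, rfl⟩))
    exact this hx
  constructor
  · rintro ⟨W, hWm, hWf⟩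
    have key : ∀ j, j ≤ s → ∃ e k, k ≤ j ∧ e ≤ Module.finrank F E ∧
        Module.finrank F (W ⊓ D j : Submodule F V) = e + k * a := by
      intro j
      induction j with
      | zero =>
        intro
        exact ⟨_, 0, le_rfl, Submodule.finrank_mono (t := E) (show W ⊓ D 0 ≤ E from inf_le_right.trans hD0.le), by simp⟩
      | succ j ih =>
        intro hj
        obtain ⟨e, k, hk, he, hd⟩ := ih (by omega)
        set X := (W ⊓ D (j + 1)) ⊔ D j with hX
        have hmono : D j ≤ D (j + 1) := by rw [hDsucc j hj]; exact le_sup_left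
        rcases hUirr ⟨j, hj⟩ (X ⊓ U ⟨j, hj⟩) inf_le_right (by
          rintro _ ⟨x, ⟨hx, hxU⟩, rfl⟩
          refine ⟨?_, hUinv _ ⟨x, hxU, rfl⟩⟩
          obtain ⟨w, ⟨hw1, hw2⟩, d, hd', rfl⟩ := Submodule.mem_sup.1 hx
          rw [map_add]
          exact Submodule.add_mem_sup ⟨hWf ⟨w, hw1, rfl⟩, hDinv _ w hw2⟩ (hDinv _ d hd')) with hb | ht
        · refine ⟨e, k, by omega, he, ?_⟩
          have : W ⊓ D (j + 1) = W ⊓ D j := by
            refine le_antisymm (fun x hx => ⟨hx.1, ?_⟩) (inf_le_inf_left _ hmono)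
            obtain ⟨d, hd', u, hu, rfl⟩ := Submodule.mem_sup.1 (hDsucc j hj ▸ hx.2)
            have hu' : u ∈ X ⊓ U ⟨j, hj⟩ := ⟨by
              have := Submodule.sub_mem X (Submodule.mem_sup_left (T := D j) hx) (Submodule.mem_sup_right hd')
              simpa using this, hu⟩
            rw [hb, Submodule.mem_bot] at hu'
            rw [hu', add_zero]; exact hd'
          rw [this]; exact hd
        · refine ⟨e, k + 1, by omega, he, ?_⟩
          have hXeq : X = D (j + 1) := le_antisymm (sup_le inf_le_right hmono) (by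
            rw [hDsucc j hj]; exact sup_le le_sup_right (ht ▸ inf_le_left))
          have e1 := Submodule.finrank_sup_add_finrank_inf_eq (W ⊓ D (j + 1)) (D j)
          rw [inf_assoc, inf_eq_right.2 hmono, hd, ← hX, hXeq, (hrankD (j + 1) hj).1,
            (hrankD j (by omega)).1] at e1
          rw [Nat.succ_mul] at e1 ⊢
          omega
    obtain ⟨e, k, hk, he, hd⟩ := key s le_rfl
    rw [htop, inf_top_eq, hWm] at hd
    rcases Nat.eq_zero_or_pos k with hk0 | hk0
    · left; rw [hk0] at hd; simp at hd; omega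
    · right
      refine ⟨?_, ?_⟩
      · have : a ≤ k * a := Nat.le_mul_of_pos_left a hk0
        omega
      · rw [hd, Nat.add_mul_mod_self_right]
        exact le_trans (Nat.mod_le e a) he
  · intro h
    obtain ⟨j, r, hj, hr, hm'⟩ : ∃ j r, j ≤ s ∧ r ≤ Module.finrank F E ∧ m = r + j * a := by
      rcases h with h | ⟨-, h⟩
      · exact ⟨0, m, by omega, h, by simp⟩
      · by_cases hq : m / a ≤ s
        · exact ⟨m / a, m % a, hq, h, (Nat.mod_add_div' m a).symm⟩
        · have h1 : s * a ≤ (m / a) * a := Nat.mul_le_mul_right a (by omega)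
          have h2 := Nat.div_mul_le_self m a
          exact ⟨s, m - s * a, le_rfl, by omega, by omega⟩
    obtain ⟨W0, hW0⟩ : ∃ W0 : Submodule F E, Module.finrank F W0 = r :=
      ⟨Submodule.span F (Set.range ((Module.finBasis F E) ∘ Fin.castLE hr)), by
        rw [finrank_span_eq_card ((Module.finBasis F E).linearIndependent.comp _ (Fin.castLE_injective hr)),
          Fintype.card_fin]⟩
    let W1 := W0.map E.subtype
    have hW1 : Module.finrank F W1 = r := by
      rw [(Submodule.equivMapOfInjective E.subtype E.injective_subtype W0).symm.finrank_eq, hW0]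
    have hW1E : W1 ≤ E := Submodule.map_subtype_le E W0
    refine ⟨W1 ⊔ P j, ?_, ?_⟩
    · have hdj : Disjoint E (P j) := (hind none).mono_right (iSup_le fun i =>
        le_iSup_of_le (some i.1 : Option (Fin s)) (le_iSup_of_le (show (some i.1 : Option (Fin s)) ≠ none from Option.some_ne_none _) (le_refl (Fam (some i.1)))))
      have e1 := Submodule.finrank_sup_add_finrank_inf_eq W1 (P j)
      rw [(hdj.mono_left hW1E).eq_bot, finrank_bot, add_zero, hW1, (hrankD j hj).2] at e1
      rw [hm']; exact e1
    · rw [Submodule.map_sup]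
      refine sup_le_sup ?_ ?_
      · rintro _ ⟨x, hx, rfl⟩
        rw [hfix x (hW1E hx)]; exact hx
      · rw [Submodule.map_iSup]
        exact iSup_mono fun i => hUinv i.1

end Cfsg.Agent.S5952
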