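import Cfsg.Statements.S5959
import Cfsg.Agent.Lie.NilType
-- import your own Cfsg.Agent.* helpers here

set_option autoImplicit false
open scoped MatrixGroups
open Cfsg

namespace Cfsg.Agent.S5959

section

open Module Submodule
open CfsgLib.Lie.NilType

variable {F : Type*} [Field F]

theorem geom_char (p : ℕ) [Fact p.Prime] [CharP F p] :
    ((Polynomial.X : Polynomial F) - 1) ^ (p - 1) = ∑ i ∈ Finset.range p, Polynomial.X ^ i := by
  have hne : (Polynomial.X : Polynomial F) - 1 ≠ 0 := by
    simpa using Polynomial.X_sub_C_ne_zero (1 : F)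
  refine mul_right_cancel₀ hne ?_
  rw [geom_sum_mul, ← pow_succ, Nat.sub_add_cancel (Nat.Prime.one_le Fact.out), sub_pow_char, one_pow]

theorem iterate_ne {t p : ℕ} (hp : p.Prime) {σ : Equiv.Perm (Fin t)} {j : Fin t} (hσp : (σ ^ p) j = j)
    (hσ : σ j ≠ j) : ∀ i, 0 < i → i < p → (σ ^ i) j ≠ j := by
  intro i hi hip h
  have h1 : Function.IsPeriodicPt σ p j := by
    show σ^[p] j = j
    rwa [← Equiv.Perm.coe_pow]
  have h2 : Function.IsPeriodicPt σ i j := by
    show σ^[i] j = j
    rwa [← Equiv.Perm.coe_pow]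
  have h3 := h2.gcd h1
  rw [Nat.Coprime.gcd_eq_one (Nat.Coprime.symm ((hp.coprime_iff_not_dvd).2 (Nat.not_dvd_of_pos_of_lt hi hip)))] at h3
  exact hσ h3

theorem main {p : ℕ} [Fact p.Prime] [CharP F p] {n a t : ℕ} (ha : 1 ≤ a) {m : ℕ} (L : Fin m → ℕ)
    (hL : ∀ i, 0 < L i ∧ L i ≤ p) (hc : (Finset.univ.filter fun i => L i = p).card < a)
    (e : Fin n ≃ Σ i, Fin (L i)) (T : (Fin n → F) →ₗ[F] (Fin n → F))
    (hT : T = 1 + (LinearEquiv.funCongrLeft F F e).toLinearMap ∘ₗ shift F L ∘ₗ (LinearEquiv.funCongrLeft F F e.symm).toLinearMap)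
    (D : Fin t → Submodule F (Fin n → F)) (hD : Cfsg.Geo.IsMDecomposition a D)
    (σ : Equiv.Perm (Fin t)) (hσ : ∀ j, (D j).map T = D (σ j)) :
    ∃ c : ℕ → ℕ, (∀ k, c k ≤ (Finset.univ.filter fun i => L i = k + 1).card) ∧
      ∑ k ∈ Finset.range p, (k + 1) * c k = a := by
  classical
  have hp : p.Prime := Fact.out
  let φ : (Fin n → F) ≃ₗ[F] ((Σ i, Fin (L i)) → F) := LinearEquiv.funCongrLeft F F e.symm
  let N := shift F L
  have hφT : ∀ v, φ (T v) = φ v + N (φ v) := fun v => by
    rw [hT, LinearMap.add_apply, Module.End.one_apply, map_add]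
    congr 1
    funext x
    simp [φ, LinearEquiv.funCongrLeft, LinearMap.funLeft, N]
  let D' : Fin t → Submodule F ((Σ i, Fin (L i)) → F) := fun j => (D j).map φ.toLinearMap
  let U : ((Σ i, Fin (L i)) → F) →ₗ[F] ((Σ i, Fin (L i)) → F) := 1 + N
  have hU : ∀ j, (D' j).map U = D' (σ j) := fun j => by
    show ((D j).map φ.toLinearMap).map U = (D (σ j)).map φ.toLinearMap
    rw [← hσ j, ← Submodule.map_comp, ← Submodule.map_comp]
    congr 1
    exact LinearMap.ext fun v => (hφT v).symm
  have hind : iSupIndep D' := fun j => by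
    rw [disjoint_iff]
    show (D j).map φ.toLinearMap ⊓ (⨆ (j') (_ : j' ≠ j), (D j').map φ.toLinearMap) = ⊥
    simp only [← Submodule.map_iSup]
    rw [← Submodule.map_inf φ.toLinearMap φ.injective, (hD.indep j).eq_bot, Submodule.map_bot]
  have htop : iSup D' = ⊤ := by
    show (⨆ j, (D j).map φ.toLinearMap) = ⊤
    rw [← Submodule.map_iSup, hD.iSup_eq_top, Submodule.map_top, LinearMap.range_eq_top]
    exact φ.surjective
  have hrank : ∀ j, finrank F (D' j) = a := fun j => by
    show finrank F ((D j).map φ.toLinearMap) = a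
    rw [LinearEquiv.finrank_map_eq, hD.finrank_eq]
  have hNp : N ^ p = 0 := LinearMap.ext fun v => funext fun x => by
    rw [shift_pow, if_neg (by have := x.2.2; have := (hL x.1).2; omega)]; rfl
  haveI : Nonempty (Σ i, Fin (L i)) := by
    rcases isEmpty_or_nonempty (Σ i, Fin (L i)) with hE | hE
    · exfalso
      have := hrank ⟨0, by have := hD.two_le; omega⟩
      have h0 := Submodule.finrank_le (D' ⟨0, by have := hD.two_le; omega⟩)
      rw [Module.finrank_fintype_fun_eq_card, Fintype.card_eq_zero] at h0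
      omega
    · exact hE
  haveI : CharP (Module.End F ((Σ i, Fin (L i)) → F)) p :=
    charP_of_injective_algebraMap (R := F) (FaithfulSMul.algebraMap_injective _ _) p
  have hUp : U ^ p = 1 := by
    show ((1 : Module.End F ((Σ i, Fin (L i)) → F)) + N) ^ p = 1
    rw [add_pow_char_of_commute _ (Commute.one_left N), hNp, one_pow, add_zero]
  have hUi : ∀ (i : ℕ) j, (D' j).map (U ^ i) = D' ((σ ^ i) j) := by
    intro i
    induction i with
    | zero => intro j; simp [Module.End.one_eq_id]
    | succ i ih =>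
      intro j
      rw [pow_succ', pow_succ', Equiv.Perm.mul_apply, ← hU, ← ih]
      exact Submodule.map_comp _ _ _
  have hne : ∀ j, D' j ≠ ⊥ := fun j h => by
    have := hrank j; rw [h, finrank_bot] at this; omega
  have hσp : ∀ j, (σ ^ p) j = j := fun j => by
    have h := hUi p j
    rw [hUp, Module.End.one_eq_id, Submodule.map_id] at h
    exact (hind.injective hne h).symm
  have hfix : ∀ j, σ j = j := by
    intro j
    by_contra hj
    have hinj : ∀ v ∈ D' j, (N ^ (p - 1)) v = 0 → v = 0 := by
      intro v hv h0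
      have hgeom : N ^ (p - 1) = ∑ i ∈ Finset.range p, U ^ i := by
        have h := congrArg (Polynomial.aeval (R := F) U) (geom_char (F := F) p)
        simp only [map_pow, map_sub, Polynomial.aeval_X, map_one, map_sum] at h
        rwa [show U - 1 = N from add_sub_cancel_left 1 N] at h
      rw [hgeom, LinearMap.sum_apply, ← Finset.add_sum_erase _ _ (Finset.mem_range.2 hp.pos), pow_zero,
        Module.End.one_apply, add_eq_zero_iff_eq_neg] at h0
      refine Submodule.disjoint_def.1 (hind j) v hv (h0 ▸ neg_mem (sum_mem fun i hi => ?_))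
      obtain ⟨hi0, hi1⟩ := Finset.mem_erase.1 hi
      have hmem : (U ^ i) v ∈ D' ((σ ^ i) j) := hUi i j ▸ Submodule.mem_map_of_mem hv
      exact Submodule.mem_iSup_of_mem ((σ ^ i) j)
        (Submodule.mem_iSup_of_mem (iterate_ne hp (hσp j) hj i (Nat.pos_of_ne_zero hi0) (Finset.mem_range.1 hi1)) hmem)
    have h1 : a ≤ rk N ⊤ (p - 1) := by
      have hi2 : Function.Injective ((N ^ (p - 1)).domRestrict (D' j)) := by
        rw [injective_iff_map_eq_zero]
        intro v hv
        exact Subtype.ext (hinj v v.2 hv)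
      have h2 := LinearMap.finrank_range_of_inj hi2
      rw [LinearMap.range_domRestrict, hrank] at h2
      rw [← h2]
      exact Submodule.finrank_mono (Submodule.map_mono le_top)
    have h2 : rk N ⊤ (p - 1) = (Finset.univ.filter fun i => L i = p).card := by
      have h3 := rk_succ (N := N) (S := ⊤) (p - 1)
      have h4 : rk N ⊤ p = 0 := by rw [rk, hNp]; simp
      rw [Nat.sub_add_cancel hp.one_le, h4, zero_add] at h3
      rw [h3, dd_shift]
      congr 1
      ext i
      have := (hL i).2
      have := hp.pos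
      simp only [Finset.mem_filter, Finset.mem_univ, true_and]; omega
    omega
  have hinv : ∀ j, (D' j).map N ≤ D' j := fun j => by
    rintro - ⟨v, hv, rfl⟩
    have h : U v ∈ D' j := by
      have := hU j
      rw [hfix j] at this
      exact this.le ⟨v, hv, rfl⟩
    have h' := sub_mem h hv
    rwa [show U v - v = N v from add_sub_cancel_left v (N v)] at h'
  obtain ⟨j₀⟩ : Nonempty (Fin t) := ⟨⟨0, by have := hD.two_le; omega⟩⟩
  obtain ⟨R, hR⟩ : ∃ R, R = ⨆ (j) (_ : j ≠ j₀), D' j := ⟨_, rfl⟩
  have hcompl : IsCompl (D' j₀) R := by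
    refine ⟨hR ▸ hind j₀, codisjoint_iff.2 (eq_top_iff.2 ?_)⟩
    rw [← htop]
    refine iSup_le fun j => ?_
    by_cases h : j = j₀
    · rw [h]; exact le_sup_left
    · exact le_sup_of_le_right (hR ▸ le_iSup₂_of_le j h le_rfl)
  have hRinv : R.map N ≤ R := by
    rw [hR]
    simp only [Submodule.map_iSup]
    exact iSup₂_mono fun j _ => hinv j
  exact ⟨fun k => cc N (D' j₀) k, fun k => (cc_le hcompl (hinv j₀) hRinv k).trans (cc_shift L k).le,
    (sum_eq (hinv j₀) hNp).trans (hrank j₀)⟩

end

/-- Elements of order `p` of PSL_n(q) and imprimitive subgroups: a necessary condition. Here `T = PSL_n(F)` for a field `F` with `q = p^f` elements (`n ≥ 2`, `(n, q) ≠ (2, 2), (2, 3)`), `n = a·t` with `t ≥ 2`, and Ω is the set of direct-sum decompositions of `F^n` into `t` subspaces of dimension `a` (unordered; their number is the number of ordered ones divided by `t!`), whose stabilizers are the imprimitive subgroups of type GL_a(q) ≀ S_t (maximal except in some small cases; maximality is not assumed); an element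 of `T` of prime order `r` (a matrix `x` of determinant 1 with `x^r` scalar, `x` not scalar) fixes a point of Ω when it permutes the summands of some such decomposition. Suppose `p > 2` divides the number of such decompositions. If every element of `T` of order `p` stabilizes such a decomposition, then every partition of `n` into parts of size at most `p` in which the part `p` occurs fewer than `a` times contains (as a sub-multiset) a partition of `a`. -/
theorem result {F : Type*} [Field F] [Fintype F] {p : ℕ} [Fact p.Prime] [CharP F p] {q : ℕ} (hq : Fintype.card F = q)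
    (n a t : ℕ) (hn : 2 ≤ n) (hT : (n, q) ≠ (2, 2) ∧ (n, q) ≠ (2, 3)) (hat : n = a * t) (ha : 1 ≤ a) (ht : 2 ≤ t)
    (hp : 2 < p) (hΩ : p ∣ Nat.card {D : Fin t → Submodule F (Fin n → F) // Cfsg.Geo.IsMDecomposition a D} / Nat.factorial t)
    (h : ∀ x : Matrix.SpecialLinearGroup (Fin n) F,
      (∃ z : F, ((x ^ p : Matrix.SpecialLinearGroup (Fin n) F) : Matrix (Fin n) (Fin n) F) = z • (1 : Matrix (Fin n) (Fin n) F)) →
      (∀ z : F, (x : Matrix (Fin n) (Fin n) F) ≠ z • (1 : Matrix (Fin n) (Fin n) F)) →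
      ∃ D : Fin t → Submodule F (Fin n → F), Cfsg.Geo.IsMDecomposition a D ∧
        ∃ σ : Equiv.Perm (Fin t), ∀ j, (D j).map (Matrix.toLin' (x : Matrix (Fin n) (Fin n) F)) = D (σ j)) :
    (∀ μ : Multiset ℕ, (∀ b ∈ μ, 0 < b ∧ b ≤ p) → μ.sum = n → μ.count p < a → ∃ ν : Multiset ℕ, ν ≤ μ ∧ ν.sum = a) := by
  classical
  intro μ hμ hsum hcnt
  obtain ⟨m, L, rfl⟩ : ∃ (m : ℕ) (L : Fin m → ℕ), μ = Finset.univ.val.map L := by
    refine ⟨μ.toList.length, μ.toList.get, ?_⟩
    conv_lhs => rw [← Multiset.coe_toList μ]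
    rw [Fin.univ_val_map, List.ofFn_get]
  have hL : ∀ i, 0 < L i ∧ L i ≤ p := fun i => hμ _ (Multiset.mem_map_of_mem L (Finset.mem_univ_val i))
  have hcount : ∀ k, (Finset.univ.val.map L).count k = (Finset.univ.filter fun i => L i = k).card := fun k => by
    rw [Multiset.count_map, Finset.card_def, Finset.filter_val]
    exact congrArg Multiset.card (Multiset.filter_congr fun i _ => eq_comm)
  rw [hcount] at hcnt
  have hsum' : ∑ i, L i = n := hsum
  by_cases hone : ∀ i, L i = 1
  · refine ⟨Multiset.replicate a 1, ?_, by simp⟩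
    rw [Multiset.le_iff_count]
    intro k
    rw [Multiset.count_replicate]
    split_ifs with h
    · subst h
      rw [hcount, show (Finset.univ.filter fun i => L i = 1) = Finset.univ from Finset.filter_true_of_mem fun i _ => hone i,
        Finset.card_univ, Fintype.card_fin]
      have : ∑ i, L i = m := by simp [hone]
      rw [hsum', hat] at this
      nlinarith
    · exact Nat.zero_le _
  push Not at hone
  obtain ⟨i₀, hi₀⟩ := hone
  obtain ⟨e⟩ : Nonempty (Fin n ≃ Σ i, Fin (L i)) := Finite.card_eq.1 (by simp [Nat.card_sigma, hsum'])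
  let N₀ : Module.End F (Fin n → F) := (LinearEquiv.funCongrLeft F F e).toLinearMap ∘ₗ
    CfsgLib.Lie.NilType.shift F L ∘ₗ (LinearEquiv.funCongrLeft F F e.symm).toLinearMap
  have hpow : ∀ k : ℕ, N₀ ^ k = (LinearEquiv.funCongrLeft F F e).toLinearMap ∘ₗ
      (CfsgLib.Lie.NilType.shift F L ^ k) ∘ₗ (LinearEquiv.funCongrLeft F F e.symm).toLinearMap := by
    intro k
    induction k with
    | zero => exact LinearMap.ext fun v => funext fun i => by simp [LinearEquiv.funCongrLeft, LinearMap.funLeft]
    | succ k ih =>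
      rw [pow_succ, ih, pow_succ]
      exact LinearMap.ext fun v => funext fun i => by simp [N₀, LinearEquiv.funCongrLeft, LinearMap.funLeft, Function.comp_def]
  have hNp : N₀ ^ p = 0 := by
    rw [hpow]
    exact LinearMap.ext fun v => funext fun i => by
      simp only [LinearMap.comp_apply, LinearMap.zero_apply, Pi.zero_apply, LinearEquiv.coe_coe,
        LinearEquiv.funCongrLeft, LinearMap.funLeft]
      show (CfsgLib.Lie.NilType.shift F L ^ p) _ (e i) = 0
      rw [CfsgLib.Lie.NilType.shift_pow, if_neg (by have := (e i).2.2; have := (hL (e i).1).2; omega)]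
  obtain ⟨M, hM⟩ : ∃ M : Matrix (Fin n) (Fin n) F, Matrix.toLinAlgEquiv' M = N₀ :=
    Matrix.toLinAlgEquiv'.surjective N₀
  haveI : Nonempty (Fin n) := ⟨⟨0, by omega⟩⟩
  have hMp : (1 + M) ^ p = 1 := by
    have hz : M ^ p = 0 := Matrix.toLinAlgEquiv'.injective (by rw [map_pow, hM, hNp, map_zero])
    rw [add_pow_char_of_commute _ (Commute.one_left M), hz, one_pow, add_zero]
  have hdet : (1 + M).det = 1 := by
    have h1 := congrArg Matrix.det hMp
    rw [Matrix.det_pow, Matrix.det_one] at h1
    have h2 : ((1 + M).det - 1) ^ p = 0 := by rw [sub_pow_char, h1, one_pow, sub_self]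
    exact sub_eq_zero.1 (eq_zero_of_pow_eq_zero h2)
  obtain ⟨D, hD, σ, hσ⟩ := h ⟨1 + M, hdet⟩ ⟨1, (Matrix.SpecialLinearGroup.coe_pow (⟨1 + M, hdet⟩ : Matrix.SpecialLinearGroup (Fin n) F) p).trans (hMp.trans (one_smul F (1 : Matrix (Fin n) (Fin n) F)).symm)⟩ (by
    intro z hz
    have hz' : M = (z - 1) • (1 : Matrix (Fin n) (Fin n) F) := by
      rw [sub_smul, one_smul, ← hz]; exact (add_sub_cancel_left 1 M).symm
    have hN0 : N₀ = (z - 1) • 1 := by rw [← hM, hz', map_smul, map_one]
    have hlt : 1 < L i₀ := lt_of_le_of_ne (hL i₀).1 (Ne.symm hi₀)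
    have h1 := congrFun (LinearMap.congr_fun hN0 (Pi.single (e.symm ⟨i₀, ⟨0, by omega⟩⟩) 1)) (e.symm ⟨i₀, ⟨1, hlt⟩⟩)
    have hN : ∀ v y, N₀ v (e.symm y) = CfsgLib.Lie.NilType.shift F L (v ∘ e.symm) y := fun v y => by
      show CfsgLib.Lie.NilType.shift F L (v ∘ e.symm) (e (e.symm y)) = _
      rw [Equiv.apply_symm_apply]
    rw [hN] at h1
    simp [CfsgLib.Lie.NilType.shift, Pi.single_apply] at h1)
  obtain ⟨c, hc1, hc2⟩ := main (p := p) ha L hL hcnt e (Matrix.toLin' (1 + M))
    (by rw [map_add, Matrix.toLin'_one, ← Module.End.one_eq_id]; exact congrArg (1 + ·) hM) D hD σ hσ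
  refine ⟨∑ k ∈ Finset.range p, Multiset.replicate (c k) (k + 1), ?_, ?_⟩
  · rw [Multiset.le_iff_count]
    intro k
    rw [Multiset.count_sum', hcount]
    simp only [Multiset.count_replicate]
    rcases k with - | k
    · simp
    · rw [Finset.sum_eq_single k (fun b _ hb => if_neg (fun h => hb (by omega)))]
      · rw [if_pos rfl]; exact hc1 k
      · intro hk
        have := hc1 k
        have hz : (Finset.univ.filter fun i => L i = k + 1).card = 0 := by
          rw [Finset.card_eq_zero, Finset.filter_eq_empty_iff]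
          intro i _
          have := (hL i).2
          simp at hk
          omega
        simp; omega
  · rw [← hc2]
    rw [← Multiset.coe_sumAddMonoidHom, map_sum]
    refine Finset.sum_congr rfl fun k _ => ?_
    simp [mul_comm]

end Cfsg.Agent.S5959
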