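import Cfsg.Statements.S5962
import Cfsg.Agent.Lie.SympInvolution
import Cfsg.Agent.Lie.Sp
-- import your own Cfsg.Agent.* helpers here

set_option autoImplicit false
open scoped MatrixGroups
open Cfsg

namespace Cfsg.Agent.S5962

/-- Involutions of PSp_n(q), q odd, and the subgroups GL_{n/2}(q).2. Here `T = PSp_n(q)`, `n = 2d ≥ 4`, `q` odd, realised through the symplectic matrices over the field `F` with `q` elements; Ω is the set of unordered pairs `{U, W}` of complementary totally isotropic `d`-spaces (`F^n = U ⊕ W`), whose stabilizers are the subgroups of type GL_d(q).2 (maximal except in some small cases; maximality is not assumed); an element of `T` of prime order `r` (a symplectic matrix `x` with `x^r` scalar, `x` not scalar) fixes such a pair when it fixes or interchanges `U` and `W`. If the number of such pairs is even, every involution of `T` fixes one of them (the action is 2-elusive). -/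
theorem result {F : Type*} [Field F] [Fintype F] {p : ℕ} [Fact p.Prime] [CharP F p] {q : ℕ} (hq : Fintype.card F = q)
    (d : ℕ) (hd : 2 ≤ d) (hT : (d, q) ≠ (2, 2)) (hodd : Odd q)
    (hΩ : 2 ∣ Nat.card {P : Submodule F (Fin d ⊕ Fin d → F) × Submodule F (Fin d ⊕ Fin d → F) // IsCompl P.1 P.2 ∧ (∀ u ∈ P.1, ∀ v ∈ P.1, Cfsg.sympForm d F u v = 0) ∧ (∀ u ∈ P.2, ∀ v ∈ P.2, Cfsg.sympForm d F u v = 0)} / 2)
    (x : ↥(Matrix.symplecticGroup (Fin d) F))
    (hx1 : ∃ z : F, ((x ^ 2 : ↥(Matrix.symplecticGroup (Fin d) F)) : Matrix (Fin d ⊕ Fin d) (Fin d ⊕ Fin d) F) = z • (1 : Matrix (Fin d ⊕ Fin d) (Fin d ⊕ Fin d) F))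
    (hx2 : ∀ z : F, (x : Matrix (Fin d ⊕ Fin d) (Fin d ⊕ Fin d) F) ≠ z • (1 : Matrix (Fin d ⊕ Fin d) (Fin d ⊕ Fin d) F)) :
    ∃ U W : Submodule F (Fin d ⊕ Fin d → F), IsCompl U W ∧ (∀ u ∈ U, ∀ v ∈ U, Cfsg.sympForm d F u v = 0) ∧ (∀ u ∈ W, ∀ v ∈ W, Cfsg.sympForm d F u v = 0) ∧
        ((U.map (Matrix.toLin' (x : Matrix (Fin d ⊕ Fin d) (Fin d ⊕ Fin d) F)) = U ∧ W.map (Matrix.toLin' (x : Matrix (Fin d ⊕ Fin d) (Fin d ⊕ Fin d) F)) = W) ∨
         (U.map (Matrix.toLin' (x : Matrix (Fin d ⊕ Fin d) (Fin d ⊕ Fin d) F)) = W ∧ W.map (Matrix.toLin' (x : Matrix (Fin d ⊕ Fin d) (Fin d ⊕ Fin d) F)) = U)) := by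
  obtain ⟨z, hz⟩ := hx1
  have h2 : (2 : F) ≠ 0 := by
    intro h
    haveI := ringChar.charP F
    have h1 : ringChar F = 2 := by
      have h2' : ((2 : ℕ) : F) = 0 := by exact_mod_cast h
      exact ((Nat.prime_dvd_prime_iff_eq (CharP.char_is_prime F (ringChar F)) Nat.prime_two).1
        ((CharP.cast_eq_zero_iff F (ringChar F) 2).1 h2'))
    have := FiniteField.even_card_of_char_two h1
    rw [hq] at this
    exact absurd (Nat.odd_iff.1 hodd) (by omega)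
  obtain ⟨M, hM⟩ : ∃ M, M = (x : Matrix (Fin d ⊕ Fin d) (Fin d ⊕ Fin d) F) := ⟨_, rfl⟩
  rw [← hM]
  have hT : ∀ v, Matrix.toLin' M (Matrix.toLin' M v) = z • v := fun v => by
    rw [Matrix.toLin'_apply, Matrix.toLin'_apply, Matrix.mulVec_mulVec, hM]
    have : ((x : Matrix (Fin d ⊕ Fin d) (Fin d ⊕ Fin d) F)) * x = z • 1 := by
      rw [← hz, pow_two]; rfl
    rw [this, Matrix.smul_mulVec, Matrix.one_mulVec]
  have hBT : ∀ u v, CfsgLib.Lie.Sp.bf d F (Matrix.toLin' M u) (Matrix.toLin' M v) = CfsgLib.Lie.Sp.bf d F u v := by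
    intro u v
    rw [Matrix.toLin'_apply, Matrix.toLin'_apply, hM]
    exact (CfsgLib.Lie.Sp.mem_iff_bf.1 x.2) u v
  have hnd : ∀ v, v ≠ 0 → ∃ w, CfsgLib.Lie.Sp.bf d F v w ≠ 0 := fun v hv => by
    obtain ⟨w, hw⟩ := CfsgLib.Lie.Sp.exists_bf_eq_one hv
    exact ⟨w, by rw [hw]; exact one_ne_zero⟩
  have hzz : z = 1 ∨ z = -1 := by
    obtain ⟨i⟩ : Nonempty (Fin d) := ⟨⟨0, by omega⟩⟩
    obtain ⟨w, hw⟩ := hnd (Pi.single (Sum.inl i) 1) (by simp [Pi.single_eq_zero_iff])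
    have h := hBT (Matrix.toLin' M (Pi.single (Sum.inl i) 1)) (Matrix.toLin' M w)
    rw [hT, hT, map_smul, map_smul, LinearMap.smul_apply, hBT, smul_eq_mul, smul_eq_mul, ← mul_assoc] at h
    exact mul_self_eq_one_iff.1 ((mul_eq_right₀ hw).1 h)
  obtain ⟨U, W, h1, h3, h4, h5⟩ := CfsgLib.Lie.SympInvolution.exists_polar (B := CfsgLib.Lie.Sp.bf d F)
    (T := Matrix.toLin' M) h2 CfsgLib.Lie.Sp.bf_self hnd hBT hT hzz
  exact ⟨U, W, h1, fun u hu v hv => (CfsgLib.Lie.Sp.bf_eq u v).symm.trans (h3 u hu v hv),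
    fun u hu v hv => (CfsgLib.Lie.Sp.bf_eq u v).symm.trans (h4 u hu v hv), h5⟩

end Cfsg.Agent.S5962
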